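import Mathlib

/-!
Small general lemmas: product sets of subgroups, Frattini subgroup and elementary abelian images.
-/

set_option autoImplicit false

namespace Cfsg.Agent.CharP

open Subgroup
open scoped Pointwise

variable {G : Type*} [Group G]

theorem card_mul_le_card_sup_mul_card_inf [Finite G] (H K : Subgroup G) :
    Nat.card H * Nat.card K ≤ Nat.card ↥(H ⊔ K) * Nat.card ↥(H ⊓ K) := by
  have h1 : Nat.card ↥(H ⊓ K) * K.relIndex H = Nat.card H := by
    rw [← inf_relIndex_left H K, ← relIndex_bot_left, ← relIndex_bot_left,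
      relIndex_mul_relIndex ⊥ _ _ bot_le inf_le_left]
  have h2 : Nat.card K * K.relIndex (H ⊔ K) = Nat.card ↥(H ⊔ K) := by
    rw [← relIndex_bot_left, ← relIndex_bot_left,
      relIndex_mul_relIndex ⊥ _ _ bot_le le_sup_right]
  have h3 : K.relIndex H ≤ K.relIndex (H ⊔ K) :=
    relIndex_le_of_le_right le_sup_left index_ne_zero_of_finite
  calc Nat.card H * Nat.card K = Nat.card ↥(H ⊓ K) * Nat.card K * K.relIndex H := by
        rw [← h1]; ring
    _ ≤ Nat.card ↥(H ⊓ K) * Nat.card K * K.relIndex (H ⊔ K) := Nat.mul_le_mul_left _ h3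
    _ = Nat.card ↥(H ⊔ K) * Nat.card ↥(H ⊓ K) := by rw [← h2]; ring

/-- If equality holds in the product formula then `H ⊔ K` is the product set. -/
theorem exists_mul_of_card_eq [Finite G] {H K : Subgroup G}
    (he : Nat.card ↥(H ⊔ K) * Nat.card ↥(H ⊓ K) ≤ Nat.card H * Nat.card K)
    {g : G} (hg : g ∈ H ⊔ K) : ∃ a ∈ H, ∃ b ∈ K, g = a * b := by
  classical
  let f : H ⧸ K.subgroupOf H → ↥(H ⊔ K) ⧸ K.subgroupOf (H ⊔ K) :=
    Quotient.map' (inclusion le_sup_left) fun a b hab => by
      rw [QuotientGroup.leftRel_apply, mem_subgroupOf] at hab ⊢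
      exact hab
  have finj : Function.Injective f := by
    refine Quotient.ind₂' fun a b hab => ?_
    have := Quotient.exact' hab
    rw [QuotientGroup.leftRel_apply, mem_subgroupOf] at this
    exact Quotient.sound' (QuotientGroup.leftRel_apply.2 (mem_subgroupOf.2 this))
  have h1 : Nat.card ↥(H ⊓ K) * K.relIndex H = Nat.card H := by
    rw [← inf_relIndex_left H K, ← relIndex_bot_left, ← relIndex_bot_left,
      relIndex_mul_relIndex ⊥ _ _ bot_le inf_le_left]
  have h2 : Nat.card K * K.relIndex (H ⊔ K) = Nat.card ↥(H ⊔ K) := by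
    rw [← relIndex_bot_left, ← relIndex_bot_left,
      relIndex_mul_relIndex ⊥ _ _ bot_le le_sup_right]
  have h3 : K.relIndex (H ⊔ K) ≤ K.relIndex H := by
    have hpos : 0 < Nat.card K * Nat.card ↥(H ⊓ K) := Nat.mul_pos Nat.card_pos Nat.card_pos
    refine Nat.le_of_mul_le_mul_left ?_ hpos
    calc _ = Nat.card ↥(H ⊔ K) * Nat.card ↥(H ⊓ K) := by rw [← h2]; ring
      _ ≤ _ := he
      _ = _ := by rw [← h1]; ring
  have hbij : Function.Bijective f := finj.bijective_of_nat_card_le h3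
  obtain ⟨q, hq⟩ := hbij.2 (QuotientGroup.mk ⟨g, hg⟩)
  induction q using Quotient.inductionOn' with
  | h a =>
    have := Quotient.exact' hq
    rw [QuotientGroup.leftRel_apply, mem_subgroupOf] at this
    exact ⟨a, a.2, (a : G)⁻¹ * g, this, by group⟩

/-- The Frattini subgroup dies in every elementary abelian `p`-image. -/
theorem frattini_le_ker [Finite G] {A : Type*} [Group A] {p : ℕ} [hp : Fact p.Prime] (f : G →* A)
    (hc : ∀ a b : G, Commute (f a) (f b)) (hpow : ∀ a : G, f a ^ p = 1) :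
    frattini G ≤ f.ker := by
  intro x hx
  by_contra hx'
  let S : Set (Subgroup G) := {M | f.ker ≤ M ∧ x ∉ M}
  obtain ⟨M, -, hM⟩ := (Set.toFinite S).exists_le_maximal (show f.ker ∈ S from ⟨le_rfl, hx'⟩)
  have hkM : f.ker ≤ M := hM.1.1
  have hMn : M.Normal := ⟨fun m hm a => by
    have : a * m * a⁻¹ * m⁻¹ ∈ f.ker := by
      rw [MonoidHom.mem_ker, map_mul, map_mul, map_mul, map_inv, map_inv, (hc a m).eq]
      group
    simpa using mul_mem (hkM this) hm⟩
  have key : ∀ y, y ∉ M → y ∈ M ⊔ zpowers x := by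
    intro y hy
    have hmem : x ∈ M ⊔ zpowers y := by
      by_contra h
      exact hy (hM.2 ⟨hkM.trans le_sup_left, h⟩ le_sup_left (le_sup_right (a := M) (mem_zpowers y)))
    obtain ⟨m, hm, z, ⟨j, rfl⟩, hxm⟩ := mem_sup_of_normal_left.1 hmem
    change m * y ^ j = x at hxm
    have hyp : y ^ (p : ℤ) ∈ M := hkM (by
      rw [MonoidHom.mem_ker, map_zpow, zpow_natCast, hpow])
    have hj : ¬ (p : ℤ) ∣ j := by
      rintro ⟨c, rfl⟩
      apply hM.1.2
      rw [← hxm, zpow_mul]
      exact mul_mem hm (zpow_mem hyp c)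
    obtain ⟨u, v, huv⟩ :=
      (Nat.prime_iff_prime_int.1 hp.out).coprime_iff_not_dvd.2 hj
    have hyj : y ^ j ∈ M ⊔ zpowers x := by
      have : y ^ j = m⁻¹ * x := by rw [← hxm]; group
      rw [this]
      exact mul_mem (le_sup_left (b := zpowers x) (inv_mem hm))
        (le_sup_right (a := M) (mem_zpowers x))
    have : y = (y ^ (p : ℤ)) ^ u * (y ^ j) ^ v := by
      rw [← zpow_mul, ← zpow_mul, ← zpow_add, mul_comm (p : ℤ) u, mul_comm j v, huv, zpow_one]
    rw [this]
    exact mul_mem (le_sup_left (b := zpowers x) (zpow_mem hyp u)) (zpow_mem hyj v)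
  have hMx : M ⊔ zpowers x = ⊤ := by
    refine eq_top_iff.2 fun y _ => ?_
    by_cases hy : y ∈ M
    · exact le_sup_left (b := zpowers x) hy
    · exact key y hy
  refine hM.1.2 (frattini_le_coatom ⟨fun h => hM.1.2 (by rw [h]; exact mem_top x), fun N hN => ?_⟩ hx)
  by_contra hNT
  have hxN : x ∉ N := fun hxN =>
    hNT (eq_top_iff.2 (hMx ▸ sup_le hN.le (zpowers_le.2 hxN)))
  exact hN.not_ge (hM.2 ⟨hkM.trans hN.le, hxN⟩ hN.le)

end Cfsg.Agent.CharP
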