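import Mathlib

/-!
# The Jordan–Blichfeldt bound for finite linear groups over `ℂ`

For a finite group with a faithful unitary representation of degree `n`, the subgroup generated by
the elements close to scalars is abelian normal and meets every abelian subgroup in index at
most `12 ^ n`.
-/

set_option autoImplicit false
set_option linter.unusedSectionVars false

namespace Cfsg.Agent.CharP.JordanBound

open Matrix Finset
open scoped ComplexConjugate

variable {n : ℕ}

/-- Squared Frobenius norm. -/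
noncomputable def frob (X : Matrix (Fin n) (Fin n) ℂ) : ℝ := (Xᴴ * X).trace.re

theorem frob_eq (X : Matrix (Fin n) (Fin n) ℂ) :
    frob X = ∑ i, ∑ j, Complex.normSq (X j i) := by
  simp [frob, Matrix.trace, Matrix.mul_apply, Complex.re_sum, Complex.normSq_apply]

theorem frob_nonneg (X : Matrix (Fin n) (Fin n) ℂ) : 0 ≤ frob X := by
  rw [frob_eq]; exact sum_nonneg fun i _ => sum_nonneg fun j _ => Complex.normSq_nonneg _

theorem frob_eq_zero {X : Matrix (Fin n) (Fin n) ℂ} (h : frob X = 0) : X = 0 := by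
  ext i j
  rw [frob_eq] at h
  have h1 := (sum_eq_zero_iff_of_nonneg fun a _ => sum_nonneg fun b _ => Complex.normSq_nonneg _).1
    h j (mem_univ _)
  have h2 := (sum_eq_zero_iff_of_nonneg fun b _ => Complex.normSq_nonneg _).1 h1 i (mem_univ _)
  simpa using h2

theorem frob_pos {X : Matrix (Fin n) (Fin n) ℂ} (h : X ≠ 0) : 0 < frob X :=
  lt_of_le_of_ne (frob_nonneg X) fun h0 => h (frob_eq_zero h0.symm)

theorem frob_conjTranspose (X : Matrix (Fin n) (Fin n) ℂ) : frob Xᴴ = frob X := by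
  rw [frob, frob, conjTranspose_conjTranspose, Matrix.trace_mul_comm]

theorem frob_neg (X : Matrix (Fin n) (Fin n) ℂ) : frob (-X) = frob X := by
  simp [frob]

theorem frob_left (U X : Matrix (Fin n) (Fin n) ℂ) (hU : Uᴴ * U = 1) :
    frob (U * X) = frob X := by
  rw [frob, frob, conjTranspose_mul, Matrix.mul_assoc, ← Matrix.mul_assoc Uᴴ, hU, Matrix.one_mul]

theorem frob_right (U X : Matrix (Fin n) (Fin n) ℂ) (hU : U * Uᴴ = 1) :
    frob (X * U) = frob X := by
  rw [← frob_conjTranspose (X * U), conjTranspose_mul, frob_left _ _ (by simpa using hU),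
    frob_conjTranspose]

theorem frob_add_le (X Y : Matrix (Fin n) (Fin n) ℂ) :
    frob (X + Y) ≤ 2 * frob X + 2 * frob Y := by
  simp only [frob_eq, mul_sum, ← sum_add_distrib]
  refine sum_le_sum fun i _ => sum_le_sum fun j _ => ?_
  simp only [Matrix.add_apply, Complex.normSq_apply, Complex.add_re, Complex.add_im]
  nlinarith [sq_nonneg ((X j i).re - (Y j i).re), sq_nonneg ((X j i).im - (Y j i).im)]

theorem frob_sub_orth (V W : Matrix (Fin n) (Fin n) ℂ) (h : (Wᴴ * V).trace = 0) :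
    frob (V - W) = frob V + frob W := by
  have h' : (Vᴴ * W).trace = 0 := by
    have := congrArg star h
    rw [← trace_conjTranspose, conjTranspose_mul, conjTranspose_conjTranspose, star_zero] at this
    exact this
  simp [frob, conjTranspose_sub, Matrix.sub_mul, Matrix.mul_sub, trace_sub, h, h']

/-! ## Projections onto the eigenspaces of a finite abelian unitary group -/

section Proj

variable {K : Type*} [CommGroup K] [Fintype K] (M : K →* Matrix (Fin n) (Fin n) ℂ)

instance dual_finite : Finite (K →* ℂˣ) :=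
  Nat.finite_of_card_ne_zero (by
    rw [CommGroup.card_monoidHom_of_hasEnoughRootsOfUnity]; exact Nat.card_pos.ne')

noncomputable instance dual_fintype : Fintype (K →* ℂˣ) := Fintype.ofFinite _

theorem norm_theta (θ : K →* ℂˣ) (k : K) : ‖(θ k : ℂ)‖ = 1 :=
  Complex.norm_eq_one_of_pow_eq_one (n := orderOf k)
    (by rw [← Units.val_pow_eq_pow_val, ← map_pow, pow_orderOf_eq_one, map_one, Units.val_one])
    (orderOf_pos k).ne'

theorem conj_theta (θ : K →* ℂˣ) (k : K) : conj (θ k : ℂ) = (θ k⁻¹ : ℂ) := by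
  rw [map_inv, Units.val_inv_eq_inv_val, Complex.inv_eq_conj (norm_theta θ k)]

theorem conj_theta' (θ : K →* ℂˣ) (k : K) : conj (θ k⁻¹ : ℂ) = (θ k : ℂ) := by
  rw [conj_theta, inv_inv]

theorem sum_dual [DecidableEq K] (k : K) :
    ∑ θ : K →* ℂˣ, (θ k : ℂ) = if k = 1 then (Fintype.card K : ℂ) else 0 := by
  classical
  split
  · next h =>
    subst h
    simp only [map_one, Units.val_one, sum_const, card_univ, nsmul_eq_mul, mul_one]
    rw [← Nat.card_eq_fintype_card, CommGroup.card_monoidHom_of_hasEnoughRootsOfUnity,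
      Nat.card_eq_fintype_card]
  · next h =>
    obtain ⟨φ, hφ⟩ := CommGroup.exists_apply_ne_one_of_hasEnoughRootsOfUnity K ℂ h
    have h1 : ∑ θ : K →* ℂˣ, (θ k : ℂ) = (φ k : ℂ) * ∑ θ : K →* ℂˣ, (θ k : ℂ) := by
      rw [mul_sum]
      exact (Fintype.sum_equiv (Equiv.mulLeft φ) _ _ fun θ => by
        simp [MonoidHom.mul_apply]).symm
    have h2 : ((φ k : ℂ) - 1) * ∑ θ : K →* ℂˣ, (θ k : ℂ) = 0 := by
      rw [sub_mul, one_mul, ← h1, sub_self]
    refine (mul_eq_zero.1 h2).resolve_left fun h3 => hφ ?_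
    exact Units.ext (sub_eq_zero.1 h3)

theorem sum_orth {θ φ : K →* ℂˣ} (h : θ ≠ φ) :
    ∑ k : K, (θ k⁻¹ : ℂ) * (φ k : ℂ) = 0 := by
  obtain ⟨a, ha⟩ := DFunLike.ne_iff.1 h
  set S := ∑ k : K, (θ k⁻¹ : ℂ) * (φ k : ℂ)
  have h1 : S = (θ a⁻¹ : ℂ) * (φ a : ℂ) * S := by
    rw [mul_sum]
    exact (Fintype.sum_equiv (Equiv.mulLeft a) _ _ fun k => by
      simp only [Equiv.coe_mulLeft, _root_.mul_inv_rev, map_mul, Units.val_mul]; ring).symm
  have h2 : ((θ a⁻¹ : ℂ) * (φ a : ℂ) - 1) * S = 0 := by rw [sub_mul, one_mul, ← h1, sub_self]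
  refine (mul_eq_zero.1 h2).resolve_left fun h3 => ha ?_
  have h4 : θ a⁻¹ * φ a = 1 := Units.ext (by simpa using sub_eq_zero.1 h3)
  rw [map_inv, inv_mul_eq_one] at h4
  exact h4

/-- The projection onto the `θ`-eigenspace. -/
noncomputable def proj (θ : K →* ℂˣ) : Matrix (Fin n) (Fin n) ℂ :=
  (Fintype.card K : ℂ)⁻¹ • ∑ k : K, (θ k⁻¹ : ℂ) • M k

theorem mul_proj (θ : K →* ℂˣ) (k : K) : M k * proj M θ = (θ k : ℂ) • proj M θ := by
  rw [proj, Matrix.mul_smul, smul_comm]
  congr 1
  rw [mul_sum, smul_sum]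
  refine Fintype.sum_equiv (Equiv.mulLeft k) _ _ fun j => ?_
  rw [Matrix.mul_smul, smul_smul, ← map_mul M]
  simp only [Equiv.coe_mulLeft]
  congr 1
  rw [← Units.val_mul, ← map_mul, _root_.mul_inv_rev, mul_comm j⁻¹, mul_inv_cancel_left]

theorem proj_mul_self (θ : K →* ℂˣ) : proj M θ * proj M θ = proj M θ := by
  conv_lhs => arg 1; rw [proj]
  rw [Matrix.smul_mul, sum_mul]
  simp only [Matrix.smul_mul, mul_proj, smul_smul, ← Units.val_mul, ← map_mul, inv_mul_cancel,
    map_one, Units.val_one, one_smul, sum_const, card_univ, ← Nat.cast_smul_eq_nsmul ℂ, smul_smul]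
  rw [inv_mul_cancel₀ (by exact_mod_cast Fintype.card_ne_zero), one_smul]

theorem proj_mul_ne {θ φ : K →* ℂˣ} (h : θ ≠ φ) : proj M θ * proj M φ = 0 := by
  conv_lhs => arg 1; rw [proj]
  rw [Matrix.smul_mul, sum_mul]
  simp only [Matrix.smul_mul, mul_proj, smul_smul, ← sum_smul]
  rw [sum_orth h, mul_zero, zero_smul]

theorem sum_proj : ∑ θ : K →* ℂˣ, proj M θ = 1 := by
  classical
  simp only [proj, ← smul_sum]
  rw [sum_comm]
  simp only [← sum_smul, sum_dual, inv_eq_one, ite_smul, zero_smul, sum_ite_eq', mem_univ,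
    if_true, map_one, smul_smul]
  rw [inv_mul_cancel₀ (by exact_mod_cast Fintype.card_ne_zero), one_smul]

theorem decompose (k : K) : M k = ∑ θ : K →* ℂˣ, (θ k : ℂ) • proj M θ := by
  conv_lhs => rw [← Matrix.mul_one (M k), ← sum_proj M, mul_sum]
  simp only [mul_proj]

theorem proj_mul_hom (θ : K →* ℂˣ) (k : K) : proj M θ * M k = (θ k : ℂ) • proj M θ := by
  classical
  rw [decompose M k, mul_sum, sum_eq_single θ]
  · rw [Matrix.mul_smul, proj_mul_self]
  · intro φ _ hφ; rw [Matrix.mul_smul, proj_mul_ne M (Ne.symm hφ), smul_zero]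
  · simp

variable (hM : ∀ k, (M k)ᴴ * M k = 1)
include hM

theorem hom_inv (k : K) : (M k)ᴴ = M k⁻¹ := by
  have h : M k * M k⁻¹ = 1 := by rw [← map_mul, mul_inv_cancel, map_one]
  rw [← Matrix.mul_one (M k)ᴴ, ← h, ← Matrix.mul_assoc, hM, Matrix.one_mul]

theorem proj_herm (θ : K →* ℂˣ) : (proj M θ)ᴴ = proj M θ := by
  rw [proj, conjTranspose_smul, conjTranspose_sum]
  congr 1
  · simp
  · refine Fintype.sum_equiv (Equiv.inv K) _ _ fun k => ?_
    simp only [Equiv.inv_apply, conjTranspose_smul, inv_inv, hom_inv M hM, Complex.star_def,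
      conj_theta']

theorem frob_sum_left (c : (K →* ℂˣ) → ℂ) (X : Matrix (Fin n) (Fin n) ℂ) :
    frob (∑ θ, c θ • (proj M θ * X)) = ∑ θ, Complex.normSq (c θ) * frob (proj M θ * X) := by
  classical
  rw [frob, conjTranspose_sum, sum_mul, trace_sum, Complex.re_sum]
  refine sum_congr rfl fun θ _ => ?_
  rw [mul_sum, sum_eq_single θ]
  · rw [conjTranspose_smul, Matrix.smul_mul, Matrix.mul_smul, smul_smul, trace_smul, frob,
      Complex.star_def, ← Complex.normSq_eq_conj_mul_self, smul_eq_mul, Complex.re_ofReal_mul]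
  · intro φ _ hφ
    rw [conjTranspose_smul, conjTranspose_mul, proj_herm M hM, Matrix.smul_mul, Matrix.mul_smul,
      Matrix.mul_assoc, ← Matrix.mul_assoc (proj M θ), proj_mul_ne M (Ne.symm hφ)]
    simp
  · simp

theorem frob_eq_sum_left (X : Matrix (Fin n) (Fin n) ℂ) :
    frob X = ∑ θ, frob (proj M θ * X) := by
  have h := frob_sum_left M hM (fun _ => 1) X
  simp only [one_smul, map_one, one_mul, ← sum_mul, sum_proj] at h
  exact h

theorem frob_eq_sum_right (X : Matrix (Fin n) (Fin n) ℂ) :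
    frob X = ∑ θ, frob (X * proj M θ) := by
  rw [← frob_conjTranspose X, frob_eq_sum_left M hM]
  refine sum_congr rfl fun θ _ => ?_
  rw [← frob_conjTranspose (X * proj M θ), conjTranspose_mul, proj_herm M hM]

theorem frob_sub_one_le {k : K} {c : ℝ}
    (h : ∀ θ, proj M θ ≠ 0 → Complex.normSq ((θ k : ℂ) - 1) ≤ c)
    (X : Matrix (Fin n) (Fin n) ℂ) : frob (M k * X - X) ≤ c * frob X := by
  have h1 : M k * X - X = ∑ θ : K →* ℂˣ, ((θ k : ℂ) - 1) • (proj M θ * X) := by
    simp only [sub_smul, one_smul, sum_sub_distrib, ← Matrix.smul_mul, ← sum_mul, ← decompose,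
      sum_proj, Matrix.one_mul]
  rw [h1, frob_sum_left M hM, frob_eq_sum_left M hM X, mul_sum]
  refine sum_le_sum fun θ _ => ?_
  by_cases hθ : proj M θ = 0
  · simp [hθ, frob]
  · exact mul_le_mul_of_nonneg_right (h θ hθ) (frob_nonneg _)

theorem frob_comm_le {k : K} {s : ℝ}
    (h : ∀ θ φ, proj M θ ≠ 0 → proj M φ ≠ 0 → Complex.normSq ((θ k : ℂ) - (φ k : ℂ)) ≤ s)
    (X : Matrix (Fin n) (Fin n) ℂ) : frob (M k * X - X * M k) ≤ s * frob X := by
  rw [frob_eq_sum_right M hM (M k * X - X * M k), frob_eq_sum_right M hM X, mul_sum]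
  refine sum_le_sum fun φ _ => ?_
  by_cases hφ : proj M φ = 0
  · simp [hφ, frob]
  have h1 : (M k * X - X * M k) * proj M φ
      = ∑ θ : K →* ℂˣ, ((θ k : ℂ) - (φ k : ℂ)) • (proj M θ * (X * proj M φ)) := by
    rw [Matrix.sub_mul, Matrix.mul_assoc X, mul_proj, Matrix.mul_smul, Matrix.mul_assoc]
    simp only [sub_smul, sum_sub_distrib, ← smul_sum, ← Matrix.smul_mul, ← sum_mul, ← decompose]
    simp [sum_proj]
  rw [h1, frob_sum_left M hM, frob_eq_sum_left M hM (X * proj M φ), mul_sum]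
  refine sum_le_sum fun θ _ => ?_
  by_cases hθ : proj M θ = 0
  · simp [hθ, frob]
  · exact mul_le_mul_of_nonneg_right (h θ φ hθ hφ) (frob_nonneg _)

omit hM in
theorem card_active_le : Nat.card {θ : K →* ℂˣ // proj M θ ≠ 0} ≤ n := by
  classical
  have hv : ∀ θ : {θ : K →* ℂˣ // proj M θ ≠ 0}, ∃ v : Fin n → ℂ, v ≠ 0 ∧
      proj M θ.1 *ᵥ v = v := by
    intro θ
    obtain ⟨u, hu⟩ : ∃ u, proj M θ.1 *ᵥ u ≠ 0 := by
      by_contra! h
      exact θ.2 (Matrix.mulVec_injective (funext fun u => by simpa using h u))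
    exact ⟨_, hu, by rw [Matrix.mulVec_mulVec, proj_mul_self]⟩
  choose v hv0 hv using hv
  have hli : LinearIndependent ℂ v := by
    rw [Fintype.linearIndependent_iff]
    intro c hc θ
    have h1 := congrArg (proj M θ.1 *ᵥ ·) hc
    simp only [Matrix.mulVec_sum, Matrix.mulVec_smul, Matrix.mulVec_zero] at h1
    rw [sum_eq_single θ] at h1
    · rw [hv] at h1; exact (smul_eq_zero.1 h1).resolve_right (hv0 θ)
    · intro φ _ hφ
      rw [← hv φ, Matrix.mulVec_mulVec, proj_mul_ne M (fun h => hφ (Subtype.ext h).symm),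
        Matrix.zero_mulVec, smul_zero]
    · simp
  rw [Nat.card_eq_fintype_card]
  simpa using hli.fintype_card_le_finrank

end Proj

/-! ## Numerics -/

/-- The box of an argument. -/
noncomputable def box (z : ℂ) : Fin 12 :=
  ⟨(⌈(Complex.arg z + Real.pi) * 6 / Real.pi⌉ - 1).toNat, by
    have h1 : ⌈(Complex.arg z + Real.pi) * 6 / Real.pi⌉ ≤ 12 := by
      rw [Int.ceil_le, div_le_iff₀ Real.pi_pos]
      push_cast
      linarith [Complex.arg_le_pi z]
    omega⟩

theorem abs_arg_sub_lt {z w : ℂ} (h : box z = box w) :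
    |Complex.arg w - Complex.arg z| < Real.pi / 6 := by
  have key : ∀ u : ℂ, 1 ≤ ⌈(Complex.arg u + Real.pi) * 6 / Real.pi⌉ := fun u => by
    have : 0 < (Complex.arg u + Real.pi) * 6 / Real.pi :=
      div_pos (by linarith [Complex.neg_pi_lt_arg u]) Real.pi_pos
    exact Int.ceil_pos.2 this
  have h1 := congrArg Fin.val h
  simp only [box] at h1
  have h2 : ⌈(Complex.arg z + Real.pi) * 6 / Real.pi⌉
      = ⌈(Complex.arg w + Real.pi) * 6 / Real.pi⌉ := by
    have := key z; have := key w; omega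
  have e : |(Complex.arg w + Real.pi) * 6 / Real.pi
      - (Complex.arg z + Real.pi) * 6 / Real.pi| < 1 := by
    rw [abs_lt]
    have a1 := Int.le_ceil ((Complex.arg z + Real.pi) * 6 / Real.pi)
    have a2 := Int.ceil_lt_add_one ((Complex.arg z + Real.pi) * 6 / Real.pi)
    have b1 := Int.le_ceil ((Complex.arg w + Real.pi) * 6 / Real.pi)
    have b2 := Int.ceil_lt_add_one ((Complex.arg w + Real.pi) * 6 / Real.pi)
    rw [h2] at a1 a2
    constructor <;> linarith
  rw [← sub_div, abs_div, abs_of_pos Real.pi_pos, div_lt_one Real.pi_pos, ← sub_mul, abs_mul,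
    add_sub_add_right_eq_sub] at e
  norm_num at e
  linarith

theorem normSq_exp_sub (a b : ℝ) :
    Complex.normSq (Complex.exp (a * Complex.I) - Complex.exp (b * Complex.I))
      = 2 - 2 * Real.cos (a - b) := by
  rw [Complex.exp_mul_I, Complex.exp_mul_I, ← Complex.ofReal_cos, ← Complex.ofReal_cos,
    ← Complex.ofReal_sin, ← Complex.ofReal_sin, Real.cos_sub]
  simp [Complex.normSq_apply, Complex.cos_ofReal_re, Complex.sin_ofReal_re]
  nlinarith [Real.sin_sq_add_cos_sq a, Real.sin_sq_add_cos_sq b]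

theorem normSq_exp_sub_one_le {a : ℝ} (ha : |a| < Real.pi / 6) :
    Complex.normSq (Complex.exp (a * Complex.I) - 1) ≤ 9 / 25 := by
  have h := normSq_exp_sub a 0
  simp only [Complex.ofReal_zero, zero_mul, Complex.exp_zero, sub_zero] at h
  rw [h, ← Real.cos_abs]
  have h1 := Real.cos_lt_cos_of_nonneg_of_le_pi (abs_nonneg a)
    (by linarith [Real.pi_pos]) ha
  rw [Real.cos_pi_div_six] at h1
  have h2 : (1.64 : ℝ) ≤ Real.sqrt 3 := by
    rw [Real.le_sqrt] <;> norm_num
  linarith

theorem normSq_exp_sub_lt_one {a b : ℝ} (ha : |a| < Real.pi / 6) (hb : |b| < Real.pi / 6) :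
    Complex.normSq (Complex.exp (a * Complex.I) - Complex.exp (b * Complex.I)) < 1 := by
  rw [normSq_exp_sub, ← Real.cos_abs]
  have hab : |a - b| < Real.pi / 3 := by
    have := abs_sub a b; linarith
  have h1 := Real.cos_lt_cos_of_nonneg_of_le_pi (abs_nonneg (a - b))
    (by linarith [Real.pi_pos]) hab
  rw [Real.cos_pi_div_three] at h1
  linarith

theorem ratio_eq_exp {z w : ℂ} (hz : ‖z‖ = 1) (hw : ‖w‖ = 1) :
    z⁻¹ * w = Complex.exp ((↑(Complex.arg w - Complex.arg z) : ℂ) * Complex.I) := by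
  have ez := Complex.norm_mul_exp_arg_mul_I z
  have ew := Complex.norm_mul_exp_arg_mul_I w
  rw [hz, Complex.ofReal_one, one_mul] at ez
  rw [hw, Complex.ofReal_one, one_mul] at ew
  conv_lhs => rw [← ez, ← ew]
  rw [← Complex.exp_neg, ← Complex.exp_add, Complex.ofReal_sub]
  ring_nf

/-! ## The group -/

section Group

variable {G : Type*} [Group G] (M : G →* Matrix (Fin n) (Fin n) ℂ)

/-- `M g` moves every matrix by at most `c` in squared norm, relatively. -/
def Close (g : G) (c : ℝ) : Prop := ∀ X, frob (M g * X - X) ≤ c * frob X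

/-- `M g` has all eigenvalues near `1` and near each other. -/
def Near (g : G) : Prop :=
  Close M g (9 / 25) ∧ ∃ s : ℝ, s < 1 ∧ ∀ X, frob (M g * X - X * M g) ≤ s * frob X

variable (hM : ∀ g, (M g)ᴴ * M g = 1)
include hM

theorem hom_right (g : G) : M g * (M g)ᴴ = 1 := mul_eq_one_comm.1 (hM g)

theorem hom_inv' (g : G) : (M g)ᴴ = M g⁻¹ := by
  have h : M g * M g⁻¹ = 1 := by rw [← map_mul, mul_inv_cancel, map_one]
  rw [← Matrix.mul_one (M g)ᴴ, ← h, ← Matrix.mul_assoc, hM, Matrix.one_mul]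

theorem close_conj {g : G} {c : ℝ} (h : Close M g c) (k : G) : Close M (k * g * k⁻¹) c := by
  intro X
  have e : M (k * g * k⁻¹) * X - X = M k * (M g * (M k⁻¹ * X) - M k⁻¹ * X) := by
    simp only [map_mul, Matrix.mul_sub, Matrix.mul_assoc]
    rw [← Matrix.mul_assoc (M k) (M k⁻¹) X, ← map_mul M k k⁻¹, mul_inv_cancel, map_one,
      Matrix.one_mul]
  rw [e, frob_left _ _ (hM k)]
  refine (h _).trans_eq ?_
  rw [frob_left _ _ (hM k⁻¹)]

theorem close_inv {g : G} {c : ℝ} (h : Close M g c) : Close M g⁻¹ c := by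
  intro X
  have e : M g⁻¹ * X - X = -(M g⁻¹ * (M g * X - X)) := by
    rw [Matrix.mul_sub, ← Matrix.mul_assoc, ← map_mul, inv_mul_cancel, map_one, Matrix.one_mul,
      neg_sub]
  rw [e, frob_neg, frob_left _ _ (hM g⁻¹)]
  exact h X

theorem close_mul {a b : G} {c : ℝ} (ha : Close M a c) (hb : Close M b c) :
    Close M (a * b) (4 * c) := by
  intro X
  have e : M (a * b) * X - X = M a * (M b * X - X) + (M a * X - X) := by
    rw [map_mul, Matrix.mul_sub, Matrix.mul_assoc]; abel
  rw [e]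
  refine (frob_add_le _ _).trans ?_
  rw [frob_left _ _ (hM a)]
  linarith [ha X, hb X]

theorem near_conj {g : G} (h : Near M g) (k : G) : Near M (k * g * k⁻¹) := by
  obtain ⟨h1, s, hs, h2⟩ := h
  refine ⟨close_conj M hM h1 k, s, hs, fun X => ?_⟩
  have e1 : M k * M k⁻¹ = 1 := by rw [← map_mul, mul_inv_cancel, map_one]
  have e2 : M k⁻¹ * M k = 1 := by rw [← map_mul, inv_mul_cancel, map_one]
  have e : M (k * g * k⁻¹) * X - X * M (k * g * k⁻¹)
      = M k * (M g * (M k⁻¹ * X * M k) - (M k⁻¹ * X * M k) * M g) * M k⁻¹ := by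
    simp only [map_mul, Matrix.mul_sub, Matrix.sub_mul, Matrix.mul_assoc]
    rw [e1, Matrix.mul_one, ← Matrix.mul_assoc (M k) (M k⁻¹), e1, Matrix.one_mul]
  rw [e, frob_right _ _ (hom_right M hM k⁻¹), frob_left _ _ (hM k)]
  refine (h2 _).trans_eq ?_
  rw [frob_right _ _ (hom_right M hM k), frob_left _ _ (hM k⁻¹)]

variable [Finite G] (hinj : Function.Injective M)
include hinj

theorem descend {a d : G} (hd : ∀ X, X ≠ 0 → frob (M d * X - X) < 2 * frob X)
    (hc : Commute a (a * d * a⁻¹ * d⁻¹)) : a * d * a⁻¹ * d⁻¹ = 1 := by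
  classical
  set a' := d * a * d⁻¹ with ha'
  have hc' : a * a' = a' * a := by
    have h1 : Commute a (a⁻¹ * (a * d * a⁻¹ * d⁻¹)) := (Commute.refl a).inv_right.mul_right hc
    have h2 : a⁻¹ * (a * d * a⁻¹ * d⁻¹) = a'⁻¹ := by rw [ha']; group
    rw [h2] at h1
    simpa using h1.inv_right.eq
  suffices hae : a' = a by
    have : a * d * a⁻¹ * d⁻¹ = a * a'⁻¹ := by rw [ha']; group
    rw [this, hae, mul_inv_cancel]
  set K := Subgroup.closure ({a, a'} : Set G) with hK
  have hcomm : IsMulCommutative K := Subgroup.isMulCommutative_closure (by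
    rintro x (rfl | rfl) y (rfl | rfl) <;> first | rfl | exact hc' | exact hc'.symm)
  letI : CommGroup K := { (inferInstance : Group K) with mul_comm := fun x y => mul_comm' x y }
  haveI := Fintype.ofFinite K
  let MK : K →* Matrix (Fin n) (Fin n) ℂ := M.comp K.subtype
  have hMK : ∀ k, (MK k)ᴴ * MK k = 1 := fun k => hM k
  let ka : K := ⟨a, Subgroup.subset_closure (Set.mem_insert _ _)⟩
  let ka' : K := ⟨a', Subgroup.subset_closure (Set.mem_insert_of_mem _ rfl)⟩
  by_contra hne
  obtain ⟨θ, hθ, hθa⟩ : ∃ θ : K →* ℂˣ, proj MK θ ≠ 0 ∧ (θ ka : ℂ) ≠ (θ ka' : ℂ) := by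
    by_contra! h
    refine hne (hinj ?_)
    show MK ka' = MK ka
    rw [decompose MK, decompose MK ka]
    refine sum_congr rfl fun θ _ => ?_
    by_cases hθ : proj MK θ = 0
    · simp [hθ]
    · rw [h θ hθ]
  set X := proj MK θ with hX
  set W := M d⁻¹ * X with hW
  have hXa : M a * X = (θ ka : ℂ) • X := mul_proj MK θ ka
  have hXa' : M a' * X = (θ ka' : ℂ) • X := mul_proj MK θ ka'
  have hWa : M a * W = (θ ka' : ℂ) • W := by
    rw [hW, ← Matrix.mul_smul, ← hXa', ← Matrix.mul_assoc, ← Matrix.mul_assoc, ← map_mul,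
      ← map_mul, ha']
    congr 2; group
  have htr : (Wᴴ * X).trace = 0 := by
    have h1 : (M a * W)ᴴ * (M a * X) = Wᴴ * X := by
      rw [conjTranspose_mul, Matrix.mul_assoc, ← Matrix.mul_assoc (M a)ᴴ, hM, Matrix.one_mul]
    rw [hXa, hWa, conjTranspose_smul, Matrix.smul_mul, Matrix.mul_smul, smul_smul,
      Complex.star_def, conj_theta] at h1
    have h2 := congrArg Matrix.trace h1
    rw [trace_smul, smul_eq_mul] at h2
    by_contra h3
    have h4 : θ ka'⁻¹ * θ ka = 1 := Units.ext (by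
      simpa using mul_right_cancel₀ h3 (h2.trans (one_mul _).symm))
    rw [map_inv, inv_mul_eq_one] at h4
    exact hθa (by rw [h4])
  have hW0 : frob W = frob X := frob_left _ _ (hM d⁻¹)
  have hWne : W ≠ 0 := fun h => by
    have := frob_pos hθ
    rw [← hW0, h] at this
    simp [frob] at this
  have h5 := hd W hWne
  have h6 : M d * W = X := by
    rw [hW, ← Matrix.mul_assoc, ← map_mul, mul_inv_cancel, map_one, Matrix.one_mul]
  rw [h6, frob_sub_orth _ _ htr, hW0] at h5
  linarith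

theorem near_commute {a b : G} (ha : Near M a) (hb : Near M b) : a * b = b * a := by
  classical
  obtain ⟨ha1, s, hs, ha2⟩ := ha
  let f : G → G := fun c => a * c * a⁻¹ * c⁻¹
  let c : ℕ → G := fun k => f^[k] b
  have hc : ∀ k, c (k + 1) = a * c k * a⁻¹ * (c k)⁻¹ := fun k =>
    Function.iterate_succ_apply' f k b
  have hpos : ∀ k, ∀ X, X ≠ 0 → frob (M (c k) * X - X) < 2 * frob X := by
    intro k X hX
    have := frob_pos hX
    rcases k with _ | k
    · have h1 := hb.1 X
      show frob (M b * X - X) < _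
      linarith
    · have h1 := close_mul M hM ha1 (close_conj M hM (close_inv M hM ha1) (c k)) X
      rw [hc]
      have e : a * c k * a⁻¹ * (c k)⁻¹ = a * (c k * a⁻¹ * (c k)⁻¹) := by group
      rw [e]
      linarith
  have hstep : ∀ k, frob (M (c (k + 1)) - 1) ≤ max s 0 * frob (M (c k) - 1) := by
    intro k
    have e : M (c (k + 1)) - 1
        = (M a * (M (c k) - 1) - (M (c k) - 1) * M a) * M (a⁻¹ * (c k)⁻¹) := by
      have e1 : M a * (M (c k) - 1) - (M (c k) - 1) * M a = M (a * c k) - M (c k * a) := by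
        rw [Matrix.mul_sub, Matrix.sub_mul, map_mul, map_mul, Matrix.mul_one, Matrix.one_mul]
        abel
      rw [e1, Matrix.sub_mul, ← map_mul, ← map_mul, hc, ← map_one M]
      congr 2 <;> group
    rw [e, frob_right _ _ (hom_right M hM _)]
    exact (ha2 _).trans (mul_le_mul_of_nonneg_right (le_max_left _ _) (frob_nonneg _))
  have hgeom : ∀ k, frob (M (c k) - 1) ≤ max s 0 ^ k * frob (M b - 1) := by
    intro k
    induction k with
    | zero => simp [c]
    | succ k ih =>
      refine (hstep k).trans ?_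
      rw [pow_succ', mul_assoc]
      exact mul_le_mul_of_nonneg_left ih (le_max_right _ _)
  obtain ⟨k, hk⟩ : ∃ k, c k = 1 := by
    haveI := Fintype.ofFinite G
    by_contra! hne
    have hpos' : ∀ k, 0 < frob (M (c k) - 1) := fun k =>
      frob_pos fun h => hne k (hinj (by rw [map_one]; exact sub_eq_zero.1 h))
    have hne' : ((univ : Finset G).filter fun g => 0 < frob (M g - 1)).Nonempty :=
      ⟨c 0, by simpa using hpos' 0⟩
    obtain ⟨g, hg, hmin⟩ := exists_min_image _ (fun g => frob (M g - 1)) hne'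
    simp only [mem_filter, mem_univ, true_and] at hg hmin
    have hb0 : 0 < frob (M b - 1) := hpos' 0
    obtain ⟨k, hk⟩ := exists_pow_lt_of_lt_one (div_pos hg hb0) (max_lt hs one_pos)
    rw [lt_div_iff₀ hb0] at hk
    linarith [hmin (c k) (hpos' k), hgeom k]
  have hdown : ∀ k, c (k + 1) = 1 → c 1 = 1 := by
    intro k
    induction k with
    | zero => exact id
    | succ k ih =>
      intro h
      refine ih ?_
      rw [hc]
      refine descend M hM hinj (hpos k) ?_
      rw [hc, hc, mul_inv_eq_one, mul_inv_eq_iff_eq_mul] at h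
      exact h
  have h1 := hdown k (by rw [hc, hk]; group)
  rw [hc, mul_inv_eq_one, mul_inv_eq_iff_eq_mul] at h1
  exact h1

theorem jordan_bound :
    ∃ A : Subgroup G, A.Normal ∧ (∀ x ∈ A, ∀ y ∈ A, x * y = y * x) ∧
      ∀ H : Subgroup G, (∀ x ∈ H, ∀ y ∈ H, x * y = y * x) → (A.subgroupOf H).index ≤ 12 ^ n := by
  classical
  refine ⟨Subgroup.closure {g | Near M g}, ⟨fun x hx k => ?_⟩, fun x hx y hy => ?_, fun H hH => ?_⟩
  · induction hx using Subgroup.closure_induction with
    | mem y hy => exact Subgroup.subset_closure (near_conj M hM hy k)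
    | one => simpa using Subgroup.one_mem _
    | mul y z _ _ hy hz => simpa [conj_mul] using Subgroup.mul_mem _ hy hz
    | inv y _ hy => simpa [conj_inv, mul_assoc] using Subgroup.inv_mem _ hy
  · haveI := Subgroup.isMulCommutative_closure
      (k := {g | Near M g}) fun u hu v hv => near_commute M hM hinj hu hv
    exact congrArg Subtype.val (mul_comm' (⟨x, hx⟩ : Subgroup.closure {g | Near M g}) ⟨y, hy⟩)
  · letI : CommGroup H :=
      { (inferInstance : Group H) with
        mul_comm := fun u v => Subtype.ext (hH _ u.2 _ v.2) }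
    haveI := Fintype.ofFinite H
    let MH : H →* Matrix (Fin n) (Fin n) ℂ := M.comp H.subtype
    have hMH : ∀ k, (MH k)ᴴ * MH k = 1 := fun k => hM k
    let Act := {θ : H →* ℂˣ // proj MH θ ≠ 0}
    let S := (Subgroup.closure {g | Near M g}).subgroupOf H
    let f : H ⧸ S → (Act → Fin 12) := fun q θ => box (θ.1 q.out : ℂ)
    have hf : Function.Injective f := by
      intro p q hpq
      rw [← p.out_eq, ← q.out_eq]
      refine QuotientGroup.eq.2 (Subgroup.mem_subgroupOf.2 (Subgroup.subset_closure ?_))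
      set k : H := p.out⁻¹ * q.out
      let δ : (H →* ℂˣ) → ℝ := fun θ => Complex.arg (θ q.out : ℂ) - Complex.arg (θ p.out : ℂ)
      have hδ : ∀ θ : H →* ℂˣ, (θ k : ℂ) = Complex.exp ((δ θ : ℂ) * Complex.I) := fun θ => by
        rw [map_mul, map_inv, Units.val_mul, Units.val_inv_eq_inv_val]
        exact ratio_eq_exp (norm_theta θ _) (norm_theta θ _)
      have hsmall : ∀ θ, proj MH θ ≠ 0 → |δ θ| < Real.pi / 6 := fun θ hθ =>
        abs_arg_sub_lt (congrFun hpq ⟨θ, hθ⟩)
      show Near M (k : G)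
      refine ⟨fun X => frob_sub_one_le MH hMH (k := k) (fun θ hθ => ?_) X, ?_⟩
      · rw [hδ]; exact normSq_exp_sub_one_le (hsmall θ hθ)
      let T : Finset ℝ := insert 0 (((univ : Finset Act) ×ˢ (univ : Finset Act)).image
        fun p => Complex.normSq ((p.1.1 k : ℂ) - (p.2.1 k : ℂ)))
      refine ⟨T.max' (insert_nonempty _ _), ?_, fun X =>
        frob_comm_le MH hMH (k := k) (fun θ φ hθ hφ => ?_) X⟩
      · rw [max'_lt_iff]
        intro t ht
        rcases mem_insert.1 ht with rfl | ht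
        · exact one_pos
        obtain ⟨⟨θ, φ⟩, -, rfl⟩ := mem_image.1 ht
        dsimp only
        rw [hδ, hδ]
        exact normSq_exp_sub_lt_one (hsmall _ θ.2) (hsmall _ φ.2)
      · exact le_max' T _ (mem_insert_of_mem (mem_image.2 ⟨(⟨θ, hθ⟩, ⟨φ, hφ⟩),
          mem_product.2 ⟨mem_univ _, mem_univ _⟩, rfl⟩))
    calc S.index = Nat.card (H ⧸ S) := rfl
      _ ≤ Nat.card (Act → Fin 12) := Nat.card_le_card_of_injective f hf
      _ = 12 ^ Nat.card Act := by rw [Nat.card_fun, Nat.card_fin]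
      _ ≤ 12 ^ n := Nat.pow_le_pow_right (by norm_num) (card_active_le MH)

end Group

/-- Every finite complex matrix group is similar to a unitary one. -/
theorem exists_unitary {G : Type*} [Group G] [Finite G] (R : G →* Matrix (Fin n) (Fin n) ℂ) :
    ∃ M : G →* Matrix (Fin n) (Fin n) ℂ, (∀ g, (M g)ᴴ * M g = 1) ∧
      ∀ g, M g = 1 → R g = 1 := by
  classical
  haveI := Fintype.ofFinite G
  open scoped ComplexOrder MatrixOrder in
  obtain ⟨B, hB, hPB⟩ : ∃ B : Matrix (Fin n) (Fin n) ℂ, IsUnit B ∧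
      (∑ g : G, (R g)ᴴ * R g) = Bᴴ * B := by
    have hP : (∑ g : G, (R g)ᴴ * R g).PosDef := by
      rw [← add_sum_erase _ _ (mem_univ (1 : G)), map_one, conjTranspose_one, Matrix.mul_one]
      exact PosDef.one.add_posSemidef
        (posSemidef_sum _ fun g _ => posSemidef_conjTranspose_mul_self _)
    obtain ⟨B, hB⟩ := CStarAlgebra.nonneg_iff_eq_star_mul_self.mp hP.posSemidef.nonneg
    refine ⟨B, ?_, hB⟩
    rw [Matrix.isUnit_iff_isUnit_det, isUnit_iff_ne_zero]
    intro h0
    have := (Matrix.isUnit_iff_isUnit_det _).1 hP.isUnit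
    rw [hB, det_mul, h0, mul_zero] at this
    exact not_isUnit_zero this
  obtain ⟨u, rfl⟩ := hB
  set B : Matrix (Fin n) (Fin n) ℂ := (u : Matrix (Fin n) (Fin n) ℂ)
  set B' : Matrix (Fin n) (Fin n) ℂ := ((u⁻¹ : (Matrix (Fin n) (Fin n) ℂ)ˣ) : Matrix (Fin n) (Fin n) ℂ)
  have h1 : B * B' = 1 := u.mul_inv
  have h2 : B' * B = 1 := u.inv_mul
  refine ⟨
    { toFun := fun g => B * R g * B'
      map_one' := by rw [map_one, Matrix.mul_one, h1]
      map_mul' := fun g k => by
        rw [map_mul]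
        simp only [Matrix.mul_assoc]
        rw [← Matrix.mul_assoc B' B, h2, Matrix.one_mul] },
    fun g => ?_, fun g hg => ?_⟩
  · show (B * R g * B')ᴴ * (B * R g * B') = 1
    have hinv : (R g)ᴴ * (Bᴴ * B) * R g = Bᴴ * B := by
      rw [← hPB, mul_sum, sum_mul]
      refine Fintype.sum_equiv (Equiv.mulRight g) _ _ fun k => ?_
      simp only [Equiv.coe_mulRight, map_mul, conjTranspose_mul, Matrix.mul_assoc]
    calc (B * R g * B')ᴴ * (B * R g * B')
        = B'ᴴ * ((R g)ᴴ * (Bᴴ * B) * R g) * B' := by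
          simp only [conjTranspose_mul, Matrix.mul_assoc]
      _ = (B * B')ᴴ * (B * B') := by
          rw [hinv]; simp only [conjTranspose_mul, Matrix.mul_assoc]
      _ = 1 := by rw [h1, conjTranspose_one, Matrix.one_mul]
  · replace hg : B * R g * B' = 1 := hg
    have := congrArg (fun X => B' * X * B) hg
    simp only [Matrix.mul_one, Matrix.mul_assoc, h2] at this
    rwa [← Matrix.mul_assoc B' B, h2, Matrix.one_mul] at this

end Cfsg.Agent.CharP.JordanBound
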