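import Mathlib

/-!
Primitive prime divisors of `a ^ n - 1` (Zsigmondy).
-/

set_option autoImplicit false

namespace Cfsg.Agent.CharP.Zsigmondy

open Polynomial

theorem eval_cast_zmod (r n a : ℕ) :
    (((cyclotomic n ℤ).eval (a : ℤ) : ℤ) : ZMod r) = (cyclotomic n (ZMod r)).eval (a : ZMod r) := by
  rw [← map_cyclotomic_int n (ZMod r), eval_map, eval₂_at_natCast]
  simp

/-- A prime dividing `Φ_n(a)` which is not primitive is the largest prime divisor of `n`. -/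
theorem structure_of_dvd {r n a : ℕ} (hr : r.Prime) (hn : 0 < n)
    (h : (r : ℤ) ∣ (cyclotomic n ℤ).eval (a : ℤ)) :
    ∃ j m : ℕ, n = r ^ j * m ∧ ¬ r ∣ m ∧ m ∣ r - 1 ∧ IsPrimitiveRoot (a : ZMod r) m := by
  haveI : Fact r.Prime := ⟨hr⟩
  obtain ⟨j, m, hm, hnm⟩ := Nat.exists_eq_pow_mul_and_not_dvd hn.ne' r hr.ne_one
  haveI : NeZero (m : ZMod r) := ⟨fun h0 => hm ((ZMod.natCast_eq_zero_iff m r).1 h0)⟩
  have hroot : (cyclotomic (r ^ j * m) (ZMod r)).IsRoot (a : ZMod r) := by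
    rw [IsRoot.def, ← hnm, ← eval_cast_zmod, ZMod.intCast_zmod_eq_zero_iff_dvd]
    exact h
  have hprim := isRoot_cyclotomic_prime_pow_mul_iff_of_charP.1 hroot
  refine ⟨j, m, hnm, hm, ?_, hprim⟩
  refine hprim.dvd_of_pow_eq_one _ (ZMod.pow_card_sub_one_eq_one ?_)
  refine hprim.ne_zero fun h0 => hm ?_
  rw [h0]
  exact dvd_zero r

theorem primitive_of_not_dvd {r n a : ℕ} (hr : r.Prime) (ha : 1 ≤ a) (hn : 0 < n)
    (h : (r : ℤ) ∣ (cyclotomic n ℤ).eval (a : ℤ)) (hrn : ¬ r ∣ n) :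
    r ∣ a ^ n - 1 ∧ ∀ k : ℕ, 0 < k → k < n → ¬ r ∣ a ^ k - 1 := by
  obtain ⟨j, m, hnm, hm, -, hprim⟩ := structure_of_dvd hr hn h
  have hj : j = 0 := by
    by_contra hj
    exact hrn (hnm ▸ dvd_mul_of_dvd_left (dvd_pow_self r hj) m)
  subst hj
  rw [pow_zero, one_mul] at hnm
  subst hnm
  have hk : ∀ k : ℕ, r ∣ a ^ k - 1 ↔ n ∣ k := fun k => by
    rw [← hprim.pow_eq_one_iff_dvd, ← ZMod.natCast_eq_zero_iff, Nat.cast_sub (Nat.one_le_pow _ _ ha),
      sub_eq_zero, Nat.cast_pow, Nat.cast_one]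
  exact ⟨(hk n).2 dvd_rfl, fun k hk0 hkn hd => by
    have := Nat.le_of_dvd hk0 ((hk k).1 hd)
    omega⟩

/-- An odd non-primitive prime divides `Φ_n(a)` exactly once. -/
theorem not_sq_dvd {r n a : ℕ} (hr : r.Prime) (hr2 : r ≠ 2) (ha : 2 ≤ a) (hn : 0 < n)
    (hrn : r ∣ n) (h : (r : ℤ) ∣ (cyclotomic n ℤ).eval (a : ℤ)) :
    ¬ (r : ℤ) ^ 2 ∣ (cyclotomic n ℤ).eval (a : ℤ) := by
  haveI : Fact r.Prime := ⟨hr⟩
  obtain ⟨j, m, hnm, hm, hm1, hprim⟩ := structure_of_dvd hr hn h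
  obtain ⟨d, hd⟩ := hrn
  have hd0 : 0 < d := Nat.pos_of_mul_pos_left (hd ▸ hn)
  have hdn : d ∈ n.properDivisors := Nat.mem_properDivisors.2
    ⟨⟨r, by rw [hd, mul_comm]⟩, by rw [hd]; exact lt_mul_left hd0 hr.one_lt⟩
  have hmd : m ∣ d := by
    have h1 : m ∣ r * d := ⟨r ^ j, by rw [← hd, hnm, mul_comm]⟩
    exact (Nat.Coprime.dvd_of_dvd_mul_left ((hr.coprime_iff_not_dvd.2 hm).symm) h1)
  have hx : (r : ℤ) ∣ (a : ℤ) ^ d - 1 := by
    rw [← ZMod.intCast_zmod_eq_zero_iff_dvd]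
    push_cast
    rw [(hprim.pow_eq_one_iff_dvd d).2 hmd, sub_self]
  have hdiv : ((a : ℤ) ^ d - 1) * (cyclotomic n ℤ).eval (a : ℤ) ∣ (a : ℤ) ^ n - 1 := by
    have := eval_dvd (x := (a : ℤ)) (X_pow_sub_one_mul_cyclotomic_dvd_X_pow_sub_one_of_dvd ℤ hdn)
    simpa using this
  obtain ⟨b, hb⟩ := hx
  have hxb : (a : ℤ) ^ d = 1 + r * b := by rw [← hb]; ring
  set s := ∑ i ∈ Finset.range r, (1 + (r : ℤ) * b) ^ i * 1 ^ (r - 1 - i) with hs
  have hgeom : (a : ℤ) ^ n - 1 = ((a : ℤ) ^ d - 1) * s := by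
    rw [hd, mul_comm r d, pow_mul, hxb, hs, mul_comm (_ - _) (Finset.sum _ _), geom_sum₂_mul, one_pow]
  have hne : (a : ℤ) ^ d - 1 ≠ 0 := by
    have : (1 : ℤ) < (a : ℤ) ^ d := one_lt_pow₀ (by exact_mod_cast ha) hd0.ne'
    omega
  have hdvd : (cyclotomic n ℤ).eval (a : ℤ) ∣ s :=
    Int.dvd_of_mul_dvd_mul_left hne (hgeom ▸ hdiv)
  intro hsq
  have h3 : (r : ℤ) ^ 2 ∣ s - r * 1 ^ (r - 1) :=
    odd_sq_dvd_geom_sum₂_sub (hr.odd_of_ne_two hr2) (a := (1 : ℤ)) (b := b)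
  have h4 : (r : ℤ) ^ 2 ∣ (r : ℤ) := by
    have := dvd_sub (hsq.trans hdvd) h3
    simpa using this
  have h5 : r ^ 2 ∣ r := by exact_mod_cast h4
  have := Nat.le_of_dvd hr.pos h5
  have := hr.two_le
  nlinarith

theorem eval_two_bound {r m : ℕ} (hr : r.Prime) (hm : ¬ r ∣ m) (hm0 : 0 < m)
    (h : (cyclotomic (r * m) ℤ).eval (2 : ℤ) = r) : r ≤ 3 := by
  have h1 := congrArg (eval (2 : ℝ)) (cyclotomic_expand_eq_cyclotomic_mul hr hm ℝ)
  rw [expand_eval, eval_mul] at h1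
  have h2 : (cyclotomic (m * r) ℝ).eval (2 : ℝ) = (r : ℝ) := by
    have h' := cyclotomic.eval_apply (2 : ℤ) (m * r) (algebraMap ℤ ℝ)
    rw [mul_comm m r] at h' ⊢
    rw [h] at h'
    simpa using h'
  rw [h2] at h1
  have hlow := sub_one_pow_totient_le_cyclotomic_eval (q := (2 : ℝ) ^ r)
    (one_lt_pow₀ (by norm_num) hr.ne_zero) m
  have hup := cyclotomic_eval_le_add_one_pow_totient (q := (2 : ℝ)) (by norm_num) m
  have hφ : 0 < m.totient := Nat.totient_pos.2 hm0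
  by_contra hr3
  have hr4 : 4 ≤ r := by omega
  set φ := m.totient
  have hle : ((2 : ℝ) ^ r - 1) ^ φ ≤ r * 3 ^ φ := by
    calc ((2 : ℝ) ^ r - 1) ^ φ ≤ _ := hlow
      _ = (r : ℝ) * (cyclotomic m ℝ).eval 2 := h1
      _ ≤ _ := by
        gcongr
        calc _ ≤ _ := hup
          _ = (3 : ℝ) ^ φ := by norm_num [φ]
  have hnat : (2 ^ r - 1) ^ φ ≤ r * 3 ^ φ := by
    have : (((2 ^ r - 1) ^ φ : ℕ) : ℝ) ≤ ((r * 3 ^ φ : ℕ) : ℝ) := by
      push_cast [Nat.one_le_two_pow]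
      exact hle
    exact_mod_cast this
  have hbig : 3 * r < 2 ^ r - 1 := by
    clear * - hr4
    induction r, hr4 using Nat.le_induction with
    | base => norm_num
    | succ k hk ih =>
      have : 2 ^ (k + 1) = 2 * 2 ^ k := pow_succ' 2 k
      omega
  obtain ⟨t, ht⟩ : ∃ t, φ = t + 1 := ⟨φ - 1, by omega⟩
  rw [ht, pow_succ, pow_succ] at hnat
  have h6 : 3 ^ t ≤ (2 ^ r - 1) ^ t := Nat.pow_le_pow_left (by omega) t
  have h7 : 3 ^ t * (2 ^ r - 1) ≤ r * (3 ^ t * 3) := (Nat.mul_le_mul_right _ h6).trans hnat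
  have h8 : 2 ^ r - 1 ≤ r * 3 := Nat.le_of_mul_le_mul_left
    (by calc 3 ^ t * (2 ^ r - 1) ≤ _ := h7
          _ = 3 ^ t * (r * 3) := by ring) (by positivity)
  omega

theorem zsigmondy {a n : ℕ} (ha : 1 < a) (hn : 1 < n) (h6 : ¬ (a = 2 ∧ n = 6))
    (h2 : ¬ (n = 2 ∧ ∃ m : ℕ, a + 1 = 2 ^ m)) :
    ∃ r : ℕ, r.Prime ∧ r ∣ a ^ n - 1 ∧ ∀ k : ℕ, 0 < k → k < n → ¬ r ∣ a ^ k - 1 := by
  by_contra hcon
  set Φ := (cyclotomic n ℤ).eval (a : ℤ) with hΦ
  have hsmall : ∀ r : ℕ, r.Prime → r ∣ Φ.natAbs → r ∣ n := fun r hr hd => by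
    by_contra hrn
    exact hcon ⟨r, hr, primitive_of_not_dvd hr ha.le (by omega)
      (Int.natCast_dvd.2 hd) hrn⟩
  have hgt : (a - 1) ^ n.totient < Φ.natAbs :=
    sub_one_pow_totient_lt_natAbs_cyclotomic_eval hn (by omega)
  have hone : 1 < Φ.natAbs := lt_of_le_of_lt (Nat.one_le_pow _ _ (by omega)) hgt
  obtain ⟨r, hr, hrΦ⟩ := Nat.exists_prime_and_dvd hone.ne'
  have hrn : r ∣ n := hsmall r hr hrΦ
  have hrΦ' : (r : ℤ) ∣ Φ := Int.natCast_dvd.2 hrΦ
  obtain ⟨j, m, hnm, hm, hm1, hprim⟩ := structure_of_dvd hr (by omega) hrΦ'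
  have hr1 := hr.two_le
  have huniq : ∀ s : ℕ, s.Prime → s ∣ Φ.natAbs → s = r := by
    intro s hs hsΦ
    by_contra hne
    obtain ⟨j', m', hnm', hm', hm1', -⟩ :=
      structure_of_dvd hs (by omega) (Int.natCast_dvd.2 hsΦ)
    have h1 : s ∣ m := by
      have h := hsmall s hs hsΦ
      rw [hnm] at h
      exact (hs.dvd_mul.1 h).resolve_left fun h => hne
        ((Nat.prime_dvd_prime_iff_eq hs hr).1 (hs.dvd_of_dvd_pow h))
    have h2 : r ∣ m' := by
      have h := hrn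
      rw [hnm'] at h
      exact (hr.dvd_mul.1 h).resolve_left fun h => hne
        ((Nat.prime_dvd_prime_iff_eq hr hs).1 (hr.dvd_of_dvd_pow h)).symm
    have := Nat.le_of_dvd (by omega) (h1.trans hm1)
    have := hs.two_le
    have := Nat.le_of_dvd (by omega) (h2.trans hm1')
    omega
  have hpow := Nat.eq_prime_pow_of_unique_prime_dvd (by omega) fun {d} => huniq d
  set e := Φ.natAbs.primeFactorsList.length
  have hΦpos : 0 < Φ := by
    exact cyclotomic_pos' n (x := (a : ℤ)) (by exact_mod_cast ha)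
  have hj : 1 ≤ j := by
    by_contra h
    have hj0 : j = 0 := by omega
    subst hj0
    rw [pow_zero, one_mul] at hnm
    exact hm (hnm ▸ hrn)
  have hφ : r - 1 ≤ n.totient := by
    rw [← Nat.totient_prime hr]
    exact Nat.le_of_dvd (Nat.totient_pos.2 (by omega)) (Nat.totient_dvd_of_dvd hrn)
  by_cases hr2 : r = 2
  · subst hr2
    have hm' : m = 1 := Nat.dvd_one.1 hm1
    subst hm'
    rw [mul_one] at hnm
    obtain ⟨i, rfl⟩ : ∃ i, j = i + 1 := ⟨j - 1, by omega⟩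
    haveI : Fact (Nat.Prime 2) := ⟨Nat.prime_two⟩
    have hval : Φ = (a : ℤ) ^ 2 ^ i + 1 := by
      rw [hΦ, hnm, cyclotomic_prime_pow_eq_geom_sum Nat.prime_two]
      simp [Finset.sum_range_succ]
      ring
    rcases Nat.eq_zero_or_pos i with hi | hi
    · subst hi
      refine h2 ⟨by simpa using hnm, e, ?_⟩
      have : Φ.natAbs = a + 1 := by
        rw [hval]
        simp
        omega
      rw [← this]
      exact hpow
    · obtain ⟨i', rfl⟩ : ∃ i', i = i' + 1 := ⟨i - 1, by omega⟩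
      have hnat : Φ.natAbs = (a ^ 2 ^ i') ^ 2 + 1 := by
        rw [hval, pow_succ, pow_mul]
        norm_cast
      have hbig : 2 ≤ a ^ 2 ^ i' := le_trans ha (Nat.le_self_pow (by positivity) a)
      have hmod : ∀ b : ℕ, (b ^ 2 + 1) % 4 ≠ 0 := fun b => by
        rw [Nat.add_mod, Nat.pow_mod]
        have : b % 4 < 4 := Nat.mod_lt _ (by norm_num)
        interval_cases (b % 4) <;> norm_num
      have he : 2 ≤ e := by
        by_contra he
        have hle : Φ.natAbs ≤ 2 := by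
          rw [hpow]
          calc 2 ^ e ≤ 2 ^ 1 := Nat.pow_le_pow_right (by norm_num) (by omega)
            _ = 2 := rfl
        rw [hnat] at hle
        nlinarith
      refine hmod (a ^ 2 ^ i') ?_
      rw [← hnat, hpow]
      exact Nat.mod_eq_zero_of_dvd (pow_dvd_pow 2 he)
  · have hnsq := not_sq_dvd hr hr2 ha (by omega) hrn hrΦ'
    have he : e = 1 := by
      rcases e with _ | _ | e'
      all_goals first
        | rfl
        | (exfalso; simp at hpow; omega)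
        | (exfalso
           refine hnsq ?_
           rw [← hΦ]
           exact_mod_cast Int.natCast_dvd.2 (hpow ▸ pow_dvd_pow r (by omega : 2 ≤ e' + 1 + 1)))
    rw [he, pow_one] at hpow
    have hΦr : Φ = (r : ℤ) := by rw [← hpow]; omega
    have hlow : (a - 1) ^ (r - 1) < r :=
      lt_of_le_of_lt (Nat.pow_le_pow_right (by omega) hφ) (hpow ▸ hgt)
    have ha2 : a = 2 := by
      by_contra hne
      have h9 : 2 ^ (r - 1) ≤ (a - 1) ^ (r - 1) := Nat.pow_le_pow_left (by omega) _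
      have h10 : r - 1 < 2 ^ (r - 1) := Nat.lt_two_pow_self
      omega
    subst ha2
    rcases Nat.lt_or_ge j 2 with hj2 | hj2
    · have hj1 : j = 1 := by omega
      subst hj1
      rw [pow_one] at hnm
      have hm0 : 0 < m := Nat.pos_of_mul_pos_left (hnm ▸ (by omega : 0 < n))
      have hr3 : r = 3 := by
        have := eval_two_bound hr hm hm0 (by rw [← hnm]; exact_mod_cast hΦr)
        omega
      subst hr3
      have hm2 : m ∣ 2 := hm1
      rcases (Nat.dvd_prime Nat.prime_two).1 hm2 with rfl | rfl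
      · rw [hΦ, hnm] at hΦr
        simp [cyclotomic_prime, Finset.sum_range_succ] at hΦr
      · exact h6 ⟨rfl, hnm⟩
    · obtain ⟨j', rfl⟩ : ∃ j', j = j' + 2 := ⟨j - 2, by omega⟩
      set d := r ^ (j' + 1) * m with hd
      have hrd : r ∣ d := dvd_mul_of_dvd_left (dvd_pow_self r (by omega)) m
      have hd0 : 0 < d := Nat.pos_of_ne_zero fun h0 => by
        rw [hnm, pow_succ] at hn
        rw [hd] at h0
        rcases Nat.mul_eq_zero.1 h0 with h0 | h0 <;> simp_all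
      have hexp : n = d * r := by rw [hnm, hd]; ring
      have hev : Φ = (cyclotomic d ℤ).eval ((2 ^ r : ℕ) : ℤ) := by
        rw [hΦ, hexp, ← cyclotomic_expand_eq_cyclotomic hr hrd, expand_eval]
        norm_num
      have hd1 : 1 < d := lt_of_lt_of_le hr.one_lt (Nat.le_of_dvd hd0 hrd)
      have h11 := sub_one_lt_natAbs_cyclotomic_eval (q := 2 ^ r) hd1
        (by have := Nat.one_lt_two_pow hr.ne_zero; omega)
      rw [← hev, hpow] at h11
      have h12 : r < 2 ^ r := Nat.lt_two_pow_self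
      omega

end Cfsg.Agent.CharP.Zsigmondy
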