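import Mathlib
import Cfsg.Prelude.Def_Amalgam

/-!
Ambient-subgroup API for Sylow subgroups of a subgroup, for `pCoreOf`, `pElementClosure` and
`sylowCenterClosure`, with equivariance under injective homomorphisms.
-/

set_option autoImplicit false

namespace Cfsg.Agent.CharP

open Subgroup

variable {G G' : Type*} [Group G] [Group G'] {p : ℕ}

/-- `T` is a Sylow `p`-subgroup of `H`, both seen in the ambient group. -/
def IsSylIn (p : ℕ) (T H : Subgroup G) : Prop :=
  ∃ S : Sylow p ↥H, (S : Subgroup ↥H).map H.subtype = T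

theorem IsSylIn.le {T H : Subgroup G} (h : IsSylIn p T H) : T ≤ H := by
  obtain ⟨S, rfl⟩ := h
  exact map_subtype_le _

theorem IsSylIn.isPGroup {T H : Subgroup G} (h : IsSylIn p T H) : IsPGroup p ↥T := by
  obtain ⟨S, rfl⟩ := h
  exact S.isPGroup'.map _

theorem IsSylIn.eq_of_le {T U H : Subgroup G} (h : IsSylIn p T H) (hU : IsPGroup p ↥U)
    (hUH : U ≤ H) (hTU : T ≤ U) : U = T := by
  obtain ⟨S, rfl⟩ := h
  have hS : U.subgroupOf H = (S : Subgroup ↥H) := by
    refine S.is_maximal' hU.comap_subtype ?_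
    intro x hx
    exact mem_subgroupOf.2 (hTU (mem_map_of_mem _ hx))
  rw [← hS, map_subgroupOf_eq_of_le hUH]

/-- A `p`-subgroup of `H` lies in some Sylow `p`-subgroup of `H`. -/
theorem exists_isSylIn_ge {P H : Subgroup G} (hP : IsPGroup p ↥P) (hPH : P ≤ H) :
    ∃ T, IsSylIn p T H ∧ P ≤ T := by
  obtain ⟨S, hS⟩ := (hP.comap_subtype (K := H)).exists_le_sylow
  refine ⟨_, ⟨S, rfl⟩, fun x hx => ?_⟩
  exact ⟨⟨x, hPH hx⟩, hS (mem_subgroupOf.2 hx), rfl⟩

theorem exists_isSylIn (p : ℕ) (H : Subgroup G) : ∃ T, IsSylIn p T H :=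
  ⟨_, ⟨Classical.arbitrary (Sylow p ↥H), rfl⟩⟩

theorem conj_map_map (g h : G) (H : Subgroup G) :
    (H.map (MulAut.conj h).toMonoidHom).map (MulAut.conj g).toMonoidHom =
      H.map (MulAut.conj (g * h)).toMonoidHom := by
  rw [map_map]; congr 1; ext x; simp [mul_assoc]

theorem conj_map_one (H : Subgroup G) : H.map (MulAut.conj (1 : G)).toMonoidHom = H := by
  ext x; simp

theorem conj_map_of_mem {H : Subgroup G} {g : G} (hg : g ∈ normalizer (H : Set G)) :
    H.map (MulAut.conj g).toMonoidHom = H :=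
  mem_normalizer_iff_map_conj_eq.1 hg

theorem mem_normalizer_of_conj_map {H : Subgroup G} {g : G}
    (h : H.map (MulAut.conj g).toMonoidHom = H) : g ∈ normalizer (H : Set G) :=
  mem_normalizer_iff_map_conj_eq.2 h

/-- Sylow subgroups of a subgroup are conjugate under it. -/
theorem IsSylIn.exists_conj [Fact p.Prime] {H : Subgroup G} [Finite H] {T T' : Subgroup G}
    (h : IsSylIn p T H) (h' : IsSylIn p T' H) :
    ∃ g ∈ H, T.map (MulAut.conj g).toMonoidHom = T' := by
  obtain ⟨S, rfl⟩ := h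
  obtain ⟨S', rfl⟩ := h'
  obtain ⟨g, hg⟩ := MulAction.exists_smul_eq ↥H S S'
  refine ⟨g, g.2, ?_⟩
  rw [← hg, Sylow.coe_subgroup_smul]
  ext x
  constructor
  · rintro ⟨_, ⟨y, hy, rfl⟩, rfl⟩
    exact ⟨_, ⟨y, hy, rfl⟩, rfl⟩
  · rintro ⟨_, ⟨y, hy, rfl⟩, rfl⟩
    exact ⟨_, ⟨y, hy, rfl⟩, rfl⟩

/-- A `p`-subgroup of index prime to `p` is a Sylow subgroup. -/
theorem isSylIn_of_not_dvd [Fact p.Prime] {H T : Subgroup G} (hT : IsPGroup p ↥T) (hTH : T ≤ H)
    (hndvd : ¬ p ∣ T.relIndex H) : IsSylIn p T H := by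
  refine ⟨(hT.comap_subtype (K := H)).toSylow hndvd, ?_⟩
  exact map_subgroupOf_eq_of_le hTH

theorem IsSylIn.not_dvd [Fact p.Prime] {H T : Subgroup G} [Finite H] (h : IsSylIn p T H) :
    ¬ p ∣ T.relIndex H := by
  obtain ⟨S, rfl⟩ := h
  rw [relIndex, subgroupOf, comap_map_eq_self_of_injective (subtype_injective H)]
  exact S.not_dvd_index

theorem isSylIn_iff [Fact p.Prime] {H T : Subgroup G} [Finite H] :
    IsSylIn p T H ↔ T ≤ H ∧ IsPGroup p ↥T ∧ ¬ p ∣ T.relIndex H :=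
  ⟨fun h => ⟨h.le, h.isPGroup, h.not_dvd⟩, fun h => isSylIn_of_not_dvd h.2.1 h.1 h.2.2⟩

theorem IsSylIn.map [Fact p.Prime] {H T : Subgroup G} [Finite H] (h : IsSylIn p T H)
    {f : G →* G'} (hf : Function.Injective f) : IsSylIn p (T.map f) (H.map f) :=
  isSylIn_of_not_dvd (h.isPGroup.map f) (map_mono h.le)
    (by rw [relIndex_map_map_of_injective T H hf]; exact h.not_dvd)

theorem IsSylIn.conj [Fact p.Prime] {H T : Subgroup G} [Finite H] (h : IsSylIn p T H) (g : G) :
    IsSylIn p (T.map (MulAut.conj g).toMonoidHom) (H.map (MulAut.conj g).toMonoidHom) :=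
  h.map (MulAut.conj g).injective

/-- A Sylow subgroup of `E ≤ H` with index prime to `p` is a Sylow subgroup of `H`. -/
theorem IsSylIn.of_not_dvd [Fact p.Prime] {H E T : Subgroup G} [Finite H] (hEH : E ≤ H)
    (hE : ¬ p ∣ E.relIndex H) (h : IsSylIn p T E) : IsSylIn p T H := by
  have : Finite E := Finite.of_injective _ (inclusion_injective hEH)
  refine isSylIn_of_not_dvd h.isPGroup (h.le.trans hEH) ?_
  rw [← relIndex_mul_relIndex T E H h.le hEH]
  intro hd
  rcases (Nat.Prime.dvd_mul Fact.out).1 hd with h1 | h1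
  · exact h.not_dvd h1
  · exact hE h1

theorem IsSylIn.mono [Fact p.Prime] {H E T : Subgroup G} [Finite H] (h : IsSylIn p T H)
    (hTE : T ≤ E) (hEH : E ≤ H) : IsSylIn p T E :=
  isSylIn_of_not_dvd h.isPGroup hTE fun hd =>
    h.not_dvd (hd.trans (Dvd.intro _ (relIndex_mul_relIndex T E H hTE hEH)))

theorem isSylIn_top_iff {T : Subgroup G} : IsSylIn p T ⊤ ↔ ∃ S : Sylow p G, (S : Subgroup G) = T := by
  constructor
  · intro h
    exact ⟨⟨T, h.isPGroup, fun {Q} hQ hTQ => h.eq_of_le hQ le_top hTQ⟩, rfl⟩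
  · rintro ⟨S, rfl⟩
    refine ⟨S.subtype le_top, ?_⟩
    exact map_subgroupOf_eq_of_le le_top

/-! ### `pCore` and `pCoreOf` -/

theorem isPGroup_pCore (p : ℕ) (G : Type*) [Group G] : IsPGroup p ↥(Cfsg.pCore p G) :=
  Sylow.sSup_of_normal _ (fun _ h => h.2) (fun _ h => h.1)

theorem le_pCore {N : Subgroup G} (hn : N.Normal) (hp : IsPGroup p ↥N) : N ≤ Cfsg.pCore p G :=
  le_sSup ⟨hn, hp⟩

theorem pCoreOf_le (p : ℕ) (H : Subgroup G) : Cfsg.pCoreOf p H ≤ H :=
  map_subtype_le _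

theorem isPGroup_pCoreOf (p : ℕ) (H : Subgroup G) : IsPGroup p ↥(Cfsg.pCoreOf p H) :=
  (isPGroup_pCore p ↥H).map _

theorem pCoreOf_normal (p : ℕ) (H : Subgroup G) : ((Cfsg.pCoreOf p H).subgroupOf H).Normal := by
  rw [Cfsg.pCoreOf, subgroupOf, comap_map_eq_self_of_injective (subtype_injective H)]
  infer_instance

theorem le_normalizer_pCoreOf (p : ℕ) (H : Subgroup G) :
    H ≤ normalizer (Cfsg.pCoreOf p H : Set G) :=
  (normal_subgroupOf_iff_le_normalizer (pCoreOf_le p H)).1 (pCoreOf_normal p H)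

theorem le_pCoreOf {N H : Subgroup G} (hNH : N ≤ H) (hn : H ≤ normalizer (N : Set G))
    (hp : IsPGroup p ↥N) : N ≤ Cfsg.pCoreOf p H := by
  rw [← map_subgroupOf_eq_of_le hNH]
  exact map_mono (le_pCore ((normal_subgroupOf_iff_le_normalizer hNH).2 hn) hp.comap_subtype)

theorem pCoreOf_le_of_isSylIn {T H : Subgroup G} (h : IsSylIn p T H) : Cfsg.pCoreOf p H ≤ T := by
  obtain ⟨S, rfl⟩ := h
  exact map_mono ((isPGroup_pCore p ↥H).le_sylow_of_normal S)

theorem pCoreOf_map {f : G →* G'} (hf : Function.Injective f) (H : Subgroup G) :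
    Cfsg.pCoreOf p (H.map f) = (Cfsg.pCoreOf p H).map f := by
  refine le_antisymm ?_ ?_
  · have h1 : Cfsg.pCoreOf p (H.map f) ≤ H.map f := pCoreOf_le p _
    have h2 : ((Cfsg.pCoreOf p (H.map f)).comap f) ≤ Cfsg.pCoreOf p H := by
      refine le_pCoreOf ?_ ?_ ((isPGroup_pCoreOf p _).comap_of_injective f hf)
      · intro x hx
        obtain ⟨y, hy, hyx⟩ := h1 hx
        exact hf hyx ▸ hy
      · intro x hx
        exact le_normalizer_comap f (le_normalizer_pCoreOf p (H.map f) (mem_map_of_mem f hx))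
    refine le_trans ?_ (map_mono h2)
    rw [map_comap_eq_self]
    exact h1.trans (map_le_range f H)
  · refine le_pCoreOf (map_mono (pCoreOf_le p H)) ?_ ((isPGroup_pCoreOf p H).map f)
    exact le_trans (map_mono (le_normalizer_pCoreOf p H)) (le_normalizer_map f)

theorem pCoreOf_conj (g : G) (H : Subgroup G) :
    Cfsg.pCoreOf p (H.map (MulAut.conj g).toMonoidHom) =
      (Cfsg.pCoreOf p H).map (MulAut.conj g).toMonoidHom :=
  pCoreOf_map (MulAut.conj g).injective H

/-- Ambient reformulation of "`H` has characteristic `p`". -/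
theorem charP_iff (p : ℕ) (H : Subgroup G) :
    centralizer (Cfsg.pCore p ↥H : Set ↥H) ≤ Cfsg.pCore p ↥H ↔
      H ⊓ centralizer (Cfsg.pCoreOf p H : Set G) ≤ Cfsg.pCoreOf p H := by
  constructor
  · rintro h x ⟨hxH, hxC⟩
    refine ⟨⟨x, hxH⟩, h ?_, rfl⟩
    intro y hy
    exact Subtype.ext (hxC _ (mem_map_of_mem H.subtype hy))
  · intro h x hx
    have : (x : G) ∈ Cfsg.pCoreOf p H := by
      refine h ⟨x.2, ?_⟩
      rintro _ ⟨y, hy, rfl⟩
      exact congrArg Subtype.val (hx y hy)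
    obtain ⟨y, hy, hyx⟩ := this
    exact Subtype.ext hyx ▸ hy

/-! ### Centres, `omegaOne`, `sylowCenterClosure`, `pElementClosure` -/

theorem map_centre_inf {f : G →* G'} (hf : Function.Injective f) (H : Subgroup G) :
    (H ⊓ centralizer (H : Set G)).map f = H.map f ⊓ centralizer (H.map f : Set G') := by
  ext y
  constructor
  · rintro ⟨x, ⟨hx, hxc⟩, rfl⟩
    refine ⟨mem_map_of_mem f hx, ?_⟩
    rintro _ ⟨z, hz, rfl⟩
    rw [← map_mul, ← map_mul, hxc z hz]
  · rintro ⟨⟨x, hx, rfl⟩, hxc⟩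
    refine ⟨x, ⟨hx, fun z hz => hf ?_⟩, rfl⟩
    rw [map_mul, map_mul]
    exact hxc _ (mem_map_of_mem f hz)

theorem omegaOne_le (p : ℕ) (H : Subgroup G) : Cfsg.omegaOne p H ≤ H :=
  (closure_le H).2 fun _ hx => hx.1

theorem omegaOne_mono {H K : Subgroup G} (h : H ≤ K) : Cfsg.omegaOne p H ≤ Cfsg.omegaOne p K :=
  closure_mono fun _ hx => ⟨h hx.1, hx.2⟩

theorem omegaOne_map {f : G →* G'} (hf : Function.Injective f) (p : ℕ) (H : Subgroup G) :
    (Cfsg.omegaOne p H).map f = Cfsg.omegaOne p (H.map f) := by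
  rw [Cfsg.omegaOne, Cfsg.omegaOne, MonoidHom.map_closure]
  congr 1
  ext y
  constructor
  · rintro ⟨x, ⟨hx, hxp⟩, rfl⟩
    exact ⟨mem_map_of_mem f hx, by rw [← map_pow, hxp, map_one]⟩
  · rintro ⟨⟨x, hx, rfl⟩, hxp⟩
    exact ⟨x, ⟨hx, hf (by rw [map_pow, hxp, map_one])⟩, rfl⟩

/-- `Ω₁(Z(T))`. -/
def omegaCentre (p : ℕ) (T : Subgroup G) : Subgroup G :=
  Cfsg.omegaOne p (T ⊓ centralizer (T : Set G))

theorem omegaCentre_le (p : ℕ) (T : Subgroup G) : omegaCentre p T ≤ T :=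
  (omegaOne_le p _).trans inf_le_left

theorem omegaCentre_le_centralizer (p : ℕ) (T : Subgroup G) :
    omegaCentre p T ≤ centralizer (T : Set G) :=
  (omegaOne_le p _).trans inf_le_right

theorem omegaCentre_map {f : G →* G'} (hf : Function.Injective f) (p : ℕ) (T : Subgroup G) :
    (omegaCentre p T).map f = omegaCentre p (T.map f) := by
  rw [omegaCentre, omegaCentre, omegaOne_map hf, map_centre_inf hf]

theorem sylowCenterClosure_eq (p : ℕ) (H : Subgroup G) :
    Cfsg.sylowCenterClosure p H = ⨆ T : {T : Subgroup G // IsSylIn p T H}, omegaCentre p T.1 := by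
  refine le_antisymm (iSup_le fun S => ?_) (iSup_le ?_)
  · exact le_iSup_of_le ⟨_, ⟨S, rfl⟩⟩ le_rfl
  · rintro ⟨T, S, rfl⟩
    exact le_iSup (fun S : Sylow p ↥H =>
      Cfsg.omegaOne p (((S : Subgroup H).map H.subtype) ⊓
        centralizer (((S : Subgroup H).map H.subtype : Subgroup G) : Set G))) S

theorem omegaCentre_le_sylowCenterClosure {T H : Subgroup G} (h : IsSylIn p T H) :
    omegaCentre p T ≤ Cfsg.sylowCenterClosure p H := by
  rw [sylowCenterClosure_eq]
  exact le_iSup (fun T : {T : Subgroup G // IsSylIn p T H} => omegaCentre p T.1) ⟨T, h⟩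

theorem sylowCenterClosure_le_self (p : ℕ) (H : Subgroup G) :
    Cfsg.sylowCenterClosure p H ≤ H := by
  rw [sylowCenterClosure_eq]
  exact iSup_le fun T => (omegaCentre_le p T.1).trans T.2.le

theorem le_normalizer_sylowCenterClosure [Fact p.Prime] (H : Subgroup G) [Finite H] :
    H ≤ normalizer (Cfsg.sylowCenterClosure p H : Set G) := by
  have key : ∀ g ∈ H, ∀ x ∈ Cfsg.sylowCenterClosure p H,
      g * x * g⁻¹ ∈ Cfsg.sylowCenterClosure p H := by
    intro g hg
    suffices h : (Cfsg.sylowCenterClosure p H).map (MulAut.conj g).toMonoidHom ≤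
        Cfsg.sylowCenterClosure p H from fun x hx => h ⟨x, hx, rfl⟩
    rw [sylowCenterClosure_eq, Subgroup.map_iSup]
    refine iSup_le fun T => ?_
    rw [omegaCentre_map (MulAut.conj g).injective]
    have h1 := T.2.conj g
    rw [conj_map_of_mem (le_normalizer hg)] at h1
    exact le_iSup (fun T : {T : Subgroup G // IsSylIn p T H} => omegaCentre p T.1) ⟨_, h1⟩
  exact le_normalizer_iff.2 key

/-- In a group of characteristic `p` the subgroup `Z_H` lies in `O_p(H)`. -/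
theorem sylowCenterClosure_le_pCoreOf {H : Subgroup G}
    (hchar : H ⊓ centralizer (Cfsg.pCoreOf p H : Set G) ≤ Cfsg.pCoreOf p H) :
    Cfsg.sylowCenterClosure p H ≤ Cfsg.pCoreOf p H := by
  rw [sylowCenterClosure_eq]
  refine iSup_le fun T => le_trans (le_inf ((omegaCentre_le p T.1).trans T.2.le) ?_) hchar
  exact (omegaCentre_le_centralizer p T.1).trans (centralizer_le (pCoreOf_le_of_isSylIn T.2))

theorem pElementClosure_le (p : ℕ) (H : Subgroup G) : Cfsg.pElementClosure p H ≤ H :=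
  (closure_le H).2 fun _ hx => hx.1

theorem le_normalizer_pElementClosure (p : ℕ) (H : Subgroup G) :
    H ≤ normalizer (Cfsg.pElementClosure p H : Set G) := by
  refine le_normalizer_closure_iff.2 fun g hg x hx => subset_closure ⟨?_, ?_⟩
  · exact mul_mem (mul_mem hg hx.1) (inv_mem hg)
  · obtain ⟨k, hk⟩ := hx.2
    refine ⟨k, ?_⟩
    rw [← hk]
    exact orderOf_injective (MulAut.conj g).toMonoidHom (MulAut.conj g).injective x

theorem le_pElementClosure [Fact p.Prime] {T H : Subgroup G} (hT : IsPGroup p ↥T) (hTH : T ≤ H) :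
    T ≤ Cfsg.pElementClosure p H := by
  intro x hx
  obtain ⟨k, hk⟩ := IsPGroup.iff_orderOf.1 hT ⟨x, hx⟩
  exact subset_closure ⟨hTH hx, k, by rw [← hk, orderOf_mk]⟩

/-- Frattini argument inside `H`, for a Sylow subgroup of a normalised subgroup. -/
theorem exists_mul_normalizer_of_le [Fact p.Prime] {T N H : Subgroup G} [Finite H]
    (hT : IsSylIn p T H) (hTN : T ≤ N) (hNH : N ≤ H) (hn : H ≤ normalizer (N : Set G)) {g : G}
    (hg : g ∈ H) : ∃ a ∈ N, ∃ n ∈ H ⊓ normalizer (T : Set G), g = a * n := by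
  have : Finite N := Finite.of_injective _ (inclusion_injective hNH)
  have h1 := (hT.mono hTN hNH).conj g
  rw [conj_map_of_mem (hn hg)] at h1
  obtain ⟨a, ha, hag⟩ := h1.exists_conj (hT.mono hTN hNH)
  refine ⟨a⁻¹, inv_mem ha, a * g, ⟨mul_mem (hNH ha) hg, ?_⟩, by group⟩
  exact mem_normalizer_of_conj_map (by rw [← conj_map_map]; exact hag)

end Cfsg.Agent.CharP
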