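import Cfsg.Agent.Base.RecEqns
import Mathlib
import Cfsg.Prelude.Def_PLocal
import Cfsg.Prelude.Def_Amalgam
import Cfsg.Agent.Lib.CharP.Sylow
import Cfsg.Agent.Lib.Coprime.Commutator
import Cfsg.Agent.Lib.Transfer.NormalPComplement

/-!
Elements of order prime to `p` acting on `p`-groups; subnormal subgroups, `O_p` and `O^p`.
-/

set_option autoImplicit false

namespace Cfsg.Agent.CharP

open Subgroup

variable {G : Type*} [Group G] {p : ℕ} [Fact p.Prime]

theorem isPGroup_of_forall_coprime [Finite G] {L : Subgroup G}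
    (h : ∀ x ∈ L, (orderOf x).Coprime p → x = 1) : IsPGroup p ↥L := by
  intro g
  obtain ⟨k, hk⟩ := Cfsg.Agent.Transfer.NormalPComplement.exists_pow_coprime (p := p)
    (orderOf_pos (g : G)).ne'
  exact ⟨k, Subtype.ext (h _ (pow_mem g.2 _) hk)⟩

theorem coprime_zpowers_of_isPGroup [Finite G] {R : Subgroup G} (hR : IsPGroup p ↥R) {x : G}
    (hx : (orderOf x).Coprime p) : (Nat.card (zpowers x)).Coprime (Nat.card R) := by
  obtain ⟨k, hk⟩ := IsPGroup.iff_card.1 hR
  rw [Nat.card_zpowers, hk]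
  exact hx.pow_right k

theorem iterCommutator_le_succ_of_le {R L : Subgroup G} (hL : L ≤ normalizer (R : Set G)) :
    ∀ n, Cfsg.iterCommutator R L n ≤ R
  | 0 => le_rfl
  | n + 1 => le_trans (commutator_mono (iterCommutator_le_succ_of_le hL n) le_rfl)
      (Cfsg.Agent.Coprime.commutator_le_of_le_normalizer hL)

/-- A `p'`-element acting nilpotently on a `p`-group centralises it. -/
theorem mem_centralizer_of_iterCommutator [Finite G] {R L : Subgroup G} (hR : IsPGroup p ↥R)
    (hL : L ≤ normalizer (R : Set G)) {n : ℕ} (h : Cfsg.iterCommutator R L n = ⊥) {x : G}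
    (hxL : x ∈ L) (hx : (orderOf x).Coprime p) : x ∈ centralizer (R : Set G) := by
  have hxn : zpowers x ≤ normalizer (R : Set G) := (zpowers_le.2 hxL).trans hL
  have hsolv : Group.IsSolvable ↥(zpowers x) ∨ Group.IsSolvable ↥R := Or.inl inferInstance
  have hcop := coprime_zpowers_of_isPGroup hR hx
  have heq := Cfsg.Agent.Coprime.commutator_commutator_eq hxn hcop hsolv
  have key : ∀ k, ⁅R, zpowers x⁆ ≤ Cfsg.iterCommutator R L k := by
    intro k
    induction k with
    | zero => exact Cfsg.Agent.Coprime.commutator_le_of_le_normalizer hxn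
    | succ k ih =>
      rw [← heq]
      exact commutator_mono ih (zpowers_le.2 hxL)
  have hbot : ⁅R, zpowers x⁆ = ⊥ := eq_bot_iff.2 ((key n).trans h.le)
  exact Cfsg.Agent.Coprime.le_centralizer_of_commutator_commutator_eq_bot hxn hcop hsolv
    (by rw [heq, hbot]) (mem_zpowers x)

/-- A group acting nilpotently on a self-centralising `p`-subgroup is a `p`-group. -/
theorem isPGroup_of_iterCommutator [Finite G] {R L : Subgroup G} (hR : IsPGroup p ↥R)
    (hC : centralizer (R : Set G) ≤ R) (hL : L ≤ normalizer (R : Set G)) {n : ℕ}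
    (h : Cfsg.iterCommutator R L n = ⊥) : IsPGroup p ↥L := by
  refine isPGroup_of_forall_coprime fun x hx hcop => orderOf_eq_one_iff.1 ?_
  obtain ⟨k, hk⟩ := IsPGroup.iff_orderOf.1 hR ⟨x, hC (mem_centralizer_of_iterCommutator hR hL h hx hcop)⟩
  rw [orderOf_mk] at hk
  rw [hk] at hcop ⊢
  rcases k with _ | k
  · rfl
  · exact absurd ((Nat.Prime.coprime_iff_not_dvd Fact.out).1
      ((Nat.Coprime.coprime_dvd_left (dvd_pow_self p k.succ_ne_zero) hcop))) (fun hh => hh dvd_rfl)

theorem pCoreOf_top (p : ℕ) : Cfsg.pCoreOf p (⊤ : Subgroup G) = Cfsg.pCore p G := by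
  refine le_antisymm (le_pCore ?_ (isPGroup_pCoreOf p _)) ?_
  · exact normalizer_eq_top_iff.1 (eq_top_iff.2 (le_normalizer_pCoreOf p _))
  · exact le_pCoreOf le_top (normalizer_eq_top_iff.2 inferInstance).ge (isPGroup_pCore p G)

omit [Fact p.Prime] in
theorem pCoreOf_mono_of_normal {H K : Subgroup G} (hHK : H ≤ K)
    (hn : K ≤ normalizer (H : Set G)) : Cfsg.pCoreOf p H ≤ Cfsg.pCoreOf p K := by
  refine le_pCoreOf ((pCoreOf_le p H).trans hHK) (fun k hk => ?_) (isPGroup_pCoreOf p H)
  refine mem_normalizer_of_conj_map ?_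
  rw [← pCoreOf_conj, conj_map_of_mem (hn hk)]

omit [Fact p.Prime] in
theorem pCoreOf_le_pCore_of_isSubnormal {H : Subgroup G} (h : H.IsSubnormal) :
    Cfsg.pCoreOf p H ≤ Cfsg.pCore p G := by
  induction h with
  | top => rw [pCoreOf_top]
  | step H K hle hK hn ih =>
    exact (pCoreOf_mono_of_normal hle ((normal_subgroupOf_iff_le_normalizer hle).1 hn)).trans ih

omit [Fact p.Prime] in
/-- A subnormal `p`-subgroup lies in `O_p`. -/
theorem le_pCore_of_isSubnormal {H : Subgroup G} (h : H.IsSubnormal) (hp : IsPGroup p ↥H) :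
    H ≤ Cfsg.pCore p G :=
  (le_pCoreOf le_rfl le_normalizer hp).trans (pCoreOf_le_pCore_of_isSubnormal h)

/-- A subnormal subgroup of `p`-power index contains all elements of order prime to `p`. -/
theorem mem_of_isSubnormal_index [Finite G] {H : Subgroup G} (h : H.IsSubnormal) :
    ∀ {k : ℕ}, H.index = p ^ k → ∀ x : G, (orderOf x).Coprime p → x ∈ H := by
  induction h with
  | top => exact fun _ x _ => mem_top x
  | step H K hle hK hn ih =>
    intro k hk x hx
    have hd : K.index ∣ p ^ k := hk ▸ index_dvd_of_le hle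
    obtain ⟨j, -, hj⟩ := (Nat.dvd_prime_pow Fact.out).1 hd
    have hxK : x ∈ K := ih hj x hx
    have hcard : Nat.card (↥K ⧸ H.subgroupOf K) ∣ p ^ k := hk ▸ relIndex_dvd_index_of_le hle
    have h1 : orderOf (QuotientGroup.mk ⟨x, hxK⟩ : ↥K ⧸ H.subgroupOf K) ∣ orderOf x := by
      rw [← orderOf_mk x hxK]
      exact orderOf_map_dvd (QuotientGroup.mk' (H.subgroupOf K)) ⟨x, hxK⟩
    have h2 : orderOf (QuotientGroup.mk ⟨x, hxK⟩ : ↥K ⧸ H.subgroupOf K) = 1 :=
      Nat.eq_one_of_dvd_coprimes (hx.pow_right k) h1 ((_root_.orderOf_dvd_natCard _).trans hcard)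
    have h3 := (QuotientGroup.eq_one_iff (N := H.subgroupOf K) ⟨x, hxK⟩).1
      (orderOf_eq_one_iff.1 h2)
    exact mem_subgroupOf.1 h3

end Cfsg.Agent.CharP
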