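import Mathlib
import Cfsg.Agent.Lib.CharP.Coprime
import Cfsg.Agent.Lib.Cores.Subnormal
import Cfsg.Prelude.Def_LocalStructure
import Cfsg.Agent.Lib.Coprime.PGroup
import Cfsg.Agent.Lib.Cores.Basic
import Cfsg.Agent.Lib.Cores.Nilpotent
import Cfsg.Agent.Lib.Components.Local

/-!
Groups of characteristic `p`: the ambient form, normal subgroups, local subgroups.
-/

set_option autoImplicit false

namespace Cfsg.Agent.CharP

open Subgroup

variable {G : Type*} [Group G] {p : ℕ}

/-- `H` has characteristic `p`, in ambient terms. -/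
def IsCharP (p : ℕ) (H : Subgroup G) : Prop :=
  H ⊓ centralizer (Cfsg.pCoreOf p H : Set G) ≤ Cfsg.pCoreOf p H

variable [Finite G] [hp : Fact p.Prime]

omit [Finite G] hp in
theorem isCharP_iff (H : Subgroup G) :
    IsCharP p H ↔ centralizer (Cfsg.pCore p ↥H : Set ↥H) ≤ Cfsg.pCore p ↥H :=
  (charP_iff p H).symm

omit [Finite G] hp in
theorem eq_one_of_mem_pgroup {R : Subgroup G} (hR : IsPGroup p ↥R) {x : G} (hx : x ∈ R)
    (hcop : (orderOf x).Coprime p) : x = 1 := by
  obtain ⟨k, hk⟩ := hR ⟨x, hx⟩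
  rw [← orderOf_eq_one_iff]
  exact Nat.eq_one_of_dvd_coprimes (hcop.pow_right k) dvd_rfl
    (orderOf_dvd_of_pow_eq_one (congrArg Subtype.val hk))

/-- `F*(X) = O_p(X)` iff `X` has characteristic `p`. -/
theorem genFitting_eq_pCore_iff :
    Cfsg.generalizedFittingSubgroup G = Cfsg.pCore p G ↔
      centralizer (Cfsg.pCore p G : Set G) ≤ Cfsg.pCore p G := by
  refine ⟨fun h => h ▸ Cfsg.Agent.Components.Fitting.centralizer_genFitting_le (G := G), fun h => ?_⟩
  have hcore : Cfsg.pPrimeCore p G = ⊥ := by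
    rw [← le_bot_iff, ← Cfsg.Agent.Cores.pCore_inf_pPrimeCore (G := G) p]
    refine le_inf (le_trans ?_ h) le_rfl
    rw [← Subgroup.commutator_eq_bot_iff_le_centralizer, Subgroup.commutator_comm]
    exact Subgroup.commutator_eq_bot_of_disjoint
      (disjoint_iff.2 (Cfsg.Agent.Cores.pCore_inf_pPrimeCore p))
  have hlayer : Cfsg.layer G = ⊥ := by
    rw [← le_bot_iff]
    refine Cfsg.Agent.Components.Local.le_of_pPrime_mem_of_perfect (p := p)
      Cfsg.Agent.Components.Basic.commutator_layer_self fun x hx hcop => Subgroup.mem_bot.2 ?_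
    exact eq_one_of_mem_pgroup (isPGroup_pCore p G)
      (h (Cfsg.Agent.Components.Local.layer_le_centralizer_pCore hx)) hcop
  rw [Cfsg.generalizedFittingSubgroup, hlayer, bot_sup_eq,
    Cfsg.Agent.Components.PComponents.fitting_eq_pCore hcore]

/-- A normal subgroup of a group of characteristic `p` has characteristic `p`. -/
theorem isCharP_of_normal {K A : Subgroup G} (hK : IsCharP p K) (hAK : A ≤ K)
    (hn : K ≤ normalizer (A : Set G)) : IsCharP p A := by
  set O := Cfsg.pCoreOf p K with hO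
  have hnO : K ≤ normalizer (O : Set G) := le_normalizer_pCoreOf p K
  have hOA : O ⊓ A ≤ Cfsg.pCoreOf p A := by
    refine le_pCoreOf inf_le_right ?_ ((isPGroup_pCoreOf p K).to_le inf_le_left)
    exact le_trans (le_inf (hAK.trans hnO) le_normalizer) inf_normalizer_le_normalizer_inf
  set C := A ⊓ centralizer (Cfsg.pCoreOf p A : Set G) with hC
  have hCn : A ≤ normalizer (C : Set G) := by
    refine le_trans (le_inf le_normalizer ?_) inf_normalizer_le_normalizer_inf
    refine Subgroup.le_normalizer_iff.2 fun g hg c hc y hy => ?_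
    have h1 := Subgroup.le_normalizer_iff.1 (le_normalizer_pCoreOf p A) g⁻¹ (inv_mem hg) y hy
    rw [inv_inv] at h1
    calc y * (g * c * g⁻¹) = g * ((g⁻¹ * y * g) * c) * g⁻¹ := by group
      _ = g * (c * (g⁻¹ * y * g)) * g⁻¹ := by rw [hc _ h1]
      _ = g * c * g⁻¹ * y := by group
  refine le_pCoreOf inf_le_left hCn (isPGroup_of_forall_coprime fun y hy hcop => ?_)
  have hyK : y ∈ K := hAK hy.1
  have hz : zpowers y ≤ normalizer (O : Set G) := zpowers_le.2 (hnO hyK)
  have hyC : y ∈ centralizer (O : Set G) := by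
    refine Cfsg.Agent.Coprime.le_centralizer_of_commutator_commutator_eq_bot hz
      (coprime_zpowers_of_isPGroup (isPGroup_pCoreOf p K) hcop) (Or.inl inferInstance) ?_
      (mem_zpowers y)
    rw [eq_bot_iff]
    refine le_trans (Subgroup.commutator_mono (le_trans (le_inf
      (Cfsg.Agent.Coprime.commutator_le_of_le_normalizer hz) ?_) hOA) le_rfl) (le_of_eq ?_)
    · rw [Subgroup.commutator_comm]
      exact le_trans (Subgroup.commutator_mono (zpowers_le.2 hy.1) le_rfl)
        (Cfsg.Agent.Coprime.commutator_le_of_le_normalizer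
          ((pCoreOf_le p K).trans hn))
    · rw [Subgroup.commutator_eq_bot_iff_le_centralizer, le_centralizer_iff, zpowers_le]
      exact hy.2
  exact eq_one_of_mem_pgroup (isPGroup_pCoreOf p K) (hK ⟨hyK, hyC⟩) hcop

/-- A subnormal subgroup of a group of characteristic `p` has characteristic `p`. -/
theorem isCharP_of_isSubnormal (h : centralizer (Cfsg.pCore p G : Set G) ≤ Cfsg.pCore p G)
    {A : Subgroup G} (hA : A.IsSubnormal) : IsCharP p A := by
  induction hA with
  | top => rw [IsCharP, top_inf_eq, pCoreOf_top]; exact h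
  | step A K hle hK hn ih =>
    exact isCharP_of_normal ih hle ((normal_subgroupOf_iff_le_normalizer hle).1 hn)

/-- If `H` of characteristic `p` contains `X C(X)` then `N(X)` has characteristic `p`. -/
theorem isCharP_normalizer {H X : Subgroup G} (hH : IsCharP p H) (hXp : IsPGroup p ↥X)
    (hXH : X ≤ H) (hCH : centralizer (X : Set G) ≤ H) :
    IsCharP p (normalizer (X : Set G)) := by
  set M := normalizer (X : Set G) with hM
  set R := Cfsg.pCoreOf p M with hR
  set O := Cfsg.pCoreOf p H with hO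
  set K := centralizer (X : Set G) with hK
  have hXR : X ≤ R := le_pCoreOf le_normalizer le_rfl hXp
  have hKM : K ≤ M := centralizer_le_normalizer _
  have hMK : M ≤ normalizer (K : Set G) := by
    refine Subgroup.le_normalizer_iff.2 fun g hg c hc y hy => ?_
    have h1 := Subgroup.le_normalizer_iff.1 (le_refl M) g⁻¹ (inv_mem hg) y hy
    rw [inv_inv] at h1
    calc y * (g * c * g⁻¹) = g * ((g⁻¹ * y * g) * c) * g⁻¹ := by group
      _ = g * (c * (g⁻¹ * y * g)) * g⁻¹ := by rw [hc _ h1]
      _ = g * c * g⁻¹ * y := by group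
  have hW : O ⊓ K ≤ R := by
    refine le_trans ?_ (pCoreOf_mono_of_normal hKM hMK)
    refine le_pCoreOf inf_le_right ?_ ((isPGroup_pCoreOf p H).to_le inf_le_left)
    exact le_trans (le_inf (hCH.trans (le_normalizer_pCoreOf p H)) le_normalizer)
      inf_normalizer_le_normalizer_inf
  set D := M ⊓ centralizer (R : Set G) with hD
  have hDn : M ≤ normalizer (D : Set G) := by
    refine le_trans (le_inf le_normalizer ?_) inf_normalizer_le_normalizer_inf
    refine Subgroup.le_normalizer_iff.2 fun g hg c hc y hy => ?_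
    have h1 := Subgroup.le_normalizer_iff.1 (le_normalizer_pCoreOf p M) g⁻¹ (inv_mem hg) y hy
    rw [inv_inv] at h1
    calc y * (g * c * g⁻¹) = g * ((g⁻¹ * y * g) * c) * g⁻¹ := by group
      _ = g * (c * (g⁻¹ * y * g)) * g⁻¹ := by rw [hc _ h1]
      _ = g * c * g⁻¹ * y := by group
  refine le_pCoreOf inf_le_left hDn (isPGroup_of_forall_coprime fun y hy hcop => ?_)
  have hyK : y ∈ K := centralizer_le (SetLike.coe_subset_coe.2 hXR) hy.2
  have hyH : y ∈ H := hCH hyK
  have hyC : y ∈ centralizer (O : Set G) := by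
    refine Cfsg.Agent.Coprime.le_centralizer_of_pxq hXp (Q := zpowers y)
      (by rwa [Nat.card_zpowers]) (isPGroup_pCoreOf p H)
      (le_centralizer_iff.1 (zpowers_le.2 hyK))
      (hXH.trans (le_normalizer_pCoreOf p H))
      (zpowers_le.2 (le_normalizer_pCoreOf p H hyH)) ?_ (mem_zpowers y)
    exact le_centralizer_iff.1 (zpowers_le.2 (centralizer_le (SetLike.coe_subset_coe.2 hW) hy.2))
  exact eq_one_of_mem_pgroup (isPGroup_pCoreOf p H) (hH ⟨hyH, hyC⟩) hcop

omit hp in
theorem centralizer_singleton_isCharP_of_normalizer [Fact p.Prime] {z : G}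
    (h : IsCharP p (normalizer ((zpowers z : Subgroup G) : Set G))) :
    IsCharP p (centralizer ({z} : Set G)) := by
  have e : centralizer ({z} : Set G) = centralizer ((zpowers z : Subgroup G) : Set G) :=
    le_antisymm (fun c hc => by
      rintro _ ⟨i, rfl⟩
      exact ((Commute.zpow_right (show Commute c z from
        mem_centralizer_singleton_iff.1 hc) i).eq).symm)
      (centralizer_le (Set.singleton_subset_iff.2 (mem_zpowers z)))
  rw [e]
  refine isCharP_of_normal h (centralizer_le_normalizer _) ?_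
  refine Subgroup.le_normalizer_iff.2 fun g hg c hc y hy => ?_
  have h1 := Subgroup.le_normalizer_iff.1 (le_refl _) g⁻¹ (inv_mem hg) y hy
  rw [inv_inv] at h1
  calc y * (g * c * g⁻¹) = g * ((g⁻¹ * y * g) * c) * g⁻¹ := by group
    _ = g * (c * (g⁻¹ * y * g)) * g⁻¹ := by rw [hc _ h1]
    _ = g * c * g⁻¹ * y := by group

/-- A nontrivial subgroup normalised by a `p`-group containing it meets the centre in an element
of order `p`. -/
theorem exists_order_prime_central {S R : Subgroup G} (hS : IsPGroup p ↥S) (hRS : R ≤ S)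
    (hn : S ≤ normalizer (R : Set G)) (hR : R ≠ ⊥) :
    ∃ z ∈ R, orderOf z = p ∧ z ∈ centralizer (S : Set G) := by
  have := hS.isNilpotent
  have := (normal_subgroupOf_iff_le_normalizer hRS).2 hn
  have hne : R.subgroupOf S ≠ ⊥ := fun h => hR (by
    rw [← map_subgroupOf_eq_of_le hRS, h, Subgroup.map_bot])
  have h1 := Cfsg.Agent.Cores.inf_center_ne_bot hne
  obtain ⟨k, hk⟩ := IsPGroup.iff_card.1
    ((hS.to_le (Subgroup.map_subtype_le (R.subgroupOf S ⊓ center ↥S))))
  have hk0 : k ≠ 0 := fun h0 => h1 (by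
    rw [h0, pow_zero, Subgroup.card_eq_one, map_eq_bot_iff_of_injective _ S.subtype_injective] at hk
    exact hk)
  obtain ⟨z, hz⟩ := exists_prime_orderOf_dvd_card'
    (G := ↥((R.subgroupOf S ⊓ center ↥S).map S.subtype)) p (hk ▸ dvd_pow_self p hk0)
  obtain ⟨w, ⟨hwR, hwC⟩, hwz⟩ := z.2
  have hwz' : (w : G) = (z : G) := hwz
  refine ⟨(z : G), hwz' ▸ hwR, (orderOf_coe z).trans hz, fun s hs => ?_⟩
  rw [← hwz']
  exact congrArg Subtype.val (Subgroup.mem_center_iff.1 hwC ⟨s, hs⟩)

omit [Finite G] hp in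
theorem isCharP_of_conj (g : G) {H : Subgroup G}
    (h : IsCharP p (H.map (MulAut.conj g).toMonoidHom)) : IsCharP p H := by
  rw [IsCharP, pCoreOf_conj] at h
  intro x hx
  have h3 := h (x := MulAut.conj g x) ⟨mem_map_of_mem _ hx.1, by
    rintro _ ⟨y, hy, rfl⟩
    show MulAut.conj g y * MulAut.conj g x = MulAut.conj g x * MulAut.conj g y
    rw [← map_mul, ← map_mul, hx.2 y hy]⟩
  obtain ⟨y, hy, hyx⟩ := h3
  exact (MulAut.conj g).injective hyx ▸ hy

omit [Finite G] hp in
theorem isCharP_normalizer_of_conj (g : G) {R : Subgroup G}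
    (h : IsCharP p (normalizer ((R.map (MulAut.conj g).toMonoidHom : Subgroup G) : Set G))) :
    IsCharP p (normalizer (R : Set G)) := by
  refine isCharP_of_conj g ?_
  rwa [show normalizer ((R.map (MulAut.conj g).toMonoidHom : Subgroup G) : Set G) =
    (normalizer (R : Set G)).map (MulAut.conj g).toMonoidHom from
      (map_equiv_normalizer_eq R (MulAut.conj g)).symm] at h

/-- A `p`-subgroup lies in any Sylow subgroup inside its normalizer. -/
theorem le_sylow_of_le_normalizer (T : Sylow p G) {R : Subgroup G} (hR : IsPGroup p ↥R)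
    (hT : (T : Subgroup G) ≤ normalizer (R : Set G)) : R ≤ (T : Subgroup G) :=
  (le_pCoreOf le_normalizer le_rfl hR).trans
    (pCoreOf_le_of_isSylIn ((isSylIn_top_iff.2 ⟨T, rfl⟩).mono hT le_top))

omit [Finite G] hp in
theorem isCharP_of_map {G' : Type*} [Group G'] {f : G →* G'} (hf : Function.Injective f)
    {H : Subgroup G} (h : IsCharP p (H.map f)) : IsCharP p H := by
  rw [IsCharP, pCoreOf_map hf] at h
  intro x hx
  have h3 := h (x := f x) ⟨mem_map_of_mem _ hx.1, by
    rintro _ ⟨y, hy, rfl⟩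
    rw [← map_mul, ← map_mul, hx.2 y hy]⟩
  obtain ⟨y, hy, hyx⟩ := h3
  exact hf hyx ▸ hy

/-- Parabolic characteristic passes to subnormal subgroups whose Sylow centre is small. -/
theorem parabolic_of_isSubnormal (hG : Cfsg.IsOfParabolicCharacteristic p G) (S : Sylow p G)
    {G₁ : Subgroup G} (hsn : G₁.IsSubnormal)
    (hle : omegaCentre p ((S : Subgroup G) ⊓ G₁) ≤ omegaCentre p (S : Subgroup G)) :
    Cfsg.IsOfParabolicCharacteristic p ↥G₁ := by
  intro R hR hR1 hpar
  obtain ⟨T, hT⟩ := hpar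
  obtain ⟨S₁, hS₁⟩ : ∃ S₁ : Sylow p ↥G₁, (S₁ : Subgroup ↥G₁) = (S : Subgroup G).subgroupOf G₁ :=
    ⟨IsPGroup.toSylow (S.isPGroup'.comap_subtype)
      (Cfsg.Agent.Cores.sylow_subgroupOf_isSubnormal S hsn), rfl⟩
  obtain ⟨g, hg⟩ := MulAction.exists_smul_eq ↥G₁ T S₁
  rw [← isCharP_iff]
  refine isCharP_normalizer_of_conj g ?_
  set R' := R.map (MulAut.conj g).toMonoidHom with hR'
  have hS₁R : (S₁ : Subgroup ↥G₁) ≤ normalizer (R' : Set ↥G₁) := by
    rw [← hg, Sylow.coe_subgroup_smul]
    exact le_trans (map_mono hT) (le_normalizer_map _)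
  have hR'S : R' ≤ (S₁ : Subgroup ↥G₁) := le_sylow_of_le_normalizer S₁ (hR.map _) hS₁R
  have hR'1 : R' ≠ ⊥ := fun h =>
    hR1 ((map_eq_bot_iff_of_injective _ (MulAut.conj g).injective).1 h)
  obtain ⟨z, hzR, hzo, hzc⟩ := exists_order_prime_central S₁.isPGroup' hR'S hS₁R hR'1
  have hzo' : orderOf (z : G) = p := (orderOf_coe z).trans hzo
  have hz1 : (z : G) ≠ 1 := fun h => by
    rw [h, orderOf_one] at hzo'
    exact hp.out.ne_one hzo'.symm
  have hzS : (z : G) ∈ omegaCentre p (S : Subgroup G) := by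
    refine hle (subset_closure ⟨⟨⟨?_, z.2⟩, ?_⟩, by rw [← hzo', pow_orderOf_eq_one]⟩)
    · have := hR'S hzR
      rw [hS₁] at this
      exact this
    · intro t ht
      exact congrArg Subtype.val (hzc ⟨t, ht.2⟩ (hS₁.symm ▸ (mem_subgroupOf.2 ht.1 :
        (⟨t, ht.2⟩ : ↥G₁) ∈ (S : Subgroup G).subgroupOf G₁)))
  have hSN : (S : Subgroup G) ≤ normalizer ((zpowers (z : G) : Subgroup G) : Set G) := by
    intro s hs
    refine centralizer_le_normalizer _ ?_
    rintro _ ⟨i, rfl⟩
    exact ((Commute.zpow_right (show Commute s (z : G) from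
      omegaCentre_le_centralizer p _ hzS s hs) i).eq).symm
  have hC : IsCharP p (centralizer ({(z : G)} : Set G)) := by
    refine centralizer_singleton_isCharP_of_normalizer ((isCharP_iff _).2 (hG _
      (S.isPGroup'.to_le (zpowers_le.2 (omegaCentre_le p _ hzS))) (fun h => hz1 ?_) ⟨S, hSN⟩))
    exact mem_bot.1 (h ▸ mem_zpowers (z : G))
  have hC1 : IsCharP p (centralizer ({z} : Set ↥G₁)) := by
    refine isCharP_of_map G₁.subtype_injective ?_
    have h1 := isCharP_of_isSubnormal ((isCharP_iff _).1 hC)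
      (hsn.subgroupOf (K := centralizer ({(z : G)} : Set G)))
    have h2 : ((G₁.subgroupOf (centralizer ({(z : G)} : Set G))).map
        (centralizer ({(z : G)} : Set G)).subtype) = (centralizer ({z} : Set ↥G₁)).map G₁.subtype := by
      rw [subgroupOf_map_subtype]
      ext x
      constructor
      · rintro ⟨hx1, hx2⟩
        exact ⟨⟨x, hx1⟩, mem_centralizer_singleton_iff.2
          (Subtype.ext (mem_centralizer_singleton_iff.1 hx2)), rfl⟩
      · rintro ⟨w, hw, rfl⟩
        exact ⟨w.2, mem_centralizer_singleton_iff.2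
          (congrArg Subtype.val (mem_centralizer_singleton_iff.1 hw))⟩
    have h3 : IsCharP p ((G₁.subgroupOf (centralizer ({(z : G)} : Set G))).map
        (centralizer ({(z : G)} : Set G)).subtype) := by
      rw [IsCharP, pCoreOf_map (subtype_injective _)]
      rintro _ ⟨⟨y, hy, rfl⟩, hyc⟩
      exact mem_map_of_mem _ (h1 ⟨hy, fun w hw => Subtype.ext (hyc _ (mem_map_of_mem _ hw))⟩)
    rwa [h2] at h3
  exact isCharP_normalizer hC1 (hR.map _)
    (fun x hx => mem_centralizer_singleton_iff.2 (hzc x (hR'S hx)))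
    (centralizer_le (Set.singleton_subset_iff.2 hzR))

end Cfsg.Agent.CharP
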