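import Mathlib
import Cfsg.Prelude.Def_LocalStructure
import Cfsg.Agent.Lib.CharP.Sylow
import Cfsg.Agent.Lib.Cores.Subnormal

/-!
`p`-reduced normal subgroups, their join `Y_L`, and the closure `Z_L`.
-/

set_option autoImplicit false

namespace Cfsg.Agent.CharP

open Subgroup

variable {L : Type*} [Group L] {p : ℕ}

/-- Every normal subgroup that is a `p`-group modulo `C(V)` lies in `C(V)`. -/
def IsReducedOn (p : ℕ) (V : Subgroup L) : Prop :=
  ∀ N : Subgroup L, N.Normal → (∀ x ∈ N, ∃ k : ℕ, x ^ p ^ k ∈ centralizer (V : Set L)) →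
    N ≤ centralizer (V : Set L)

theorem isPReducedNormal_iff {V : Subgroup L} :
    Cfsg.IsPReducedNormal p V ↔
      V.Normal ∧ Cfsg.IsElementaryAbelian p V ∧ IsReducedOn p V := by
  refine ⟨fun ⟨hn, he, hC, h⟩ => ⟨hn, he, fun N hN hx => ?_⟩, fun ⟨hn, he, h⟩ => ⟨hn, he, ?_⟩⟩
  · have hle : N.map (QuotientGroup.mk' (centralizer (V : Set L))) ≤
        Cfsg.pCore p (L ⧸ centralizer (V : Set L)) := by
      refine le_pCore (hN.map _ (QuotientGroup.mk'_surjective _)) ?_
      rintro ⟨_, x, hxN, rfl⟩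
      obtain ⟨k, hk⟩ := hx x hxN
      refine ⟨k, Subtype.ext ?_⟩
      simp only [SubgroupClass.coe_pow, OneMemClass.coe_one, ← map_pow]
      exact (QuotientGroup.eq_one_iff _).2 hk
    rw [h] at hle
    intro x hxN
    exact (QuotientGroup.eq_one_iff x).1 (mem_bot.1 (hle (mem_map_of_mem _ hxN)))
  · refine ⟨inferInstance, eq_bot_iff.2 fun q hq => ?_⟩
    obtain ⟨x, rfl⟩ := QuotientGroup.mk'_surjective _ q
    refine (QuotientGroup.eq_one_iff x).2 (h ((Cfsg.pCore p (L ⧸ centralizer (V : Set L))).comap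
      (QuotientGroup.mk' _)) inferInstance ?_ hq)
    intro y hy
    obtain ⟨k, hk⟩ := isPGroup_pCore p (L ⧸ centralizer (V : Set L)) ⟨_, hy⟩
    refine ⟨k, (QuotientGroup.eq_one_iff _).1 ?_⟩
    exact congrArg Subtype.val hk

theorem isPGroup_of_isElementaryAbelian {V : Subgroup L} (h : Cfsg.IsElementaryAbelian p V) :
    IsPGroup p ↥V :=
  fun x => ⟨1, Subtype.ext (by rw [pow_one]; exact h.2 x x.2)⟩

theorem isElementaryAbelian_closure {S : Set L} (hc : ∀ a ∈ S, ∀ b ∈ S, a * b = b * a)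
    (hp : ∀ a ∈ S, a ^ p = 1) : Cfsg.IsElementaryAbelian p (closure S) := by
  have hcomm := isMulCommutative_closure hc
  refine ⟨hcomm, fun a ha => ?_⟩
  induction ha using closure_induction with
  | mem a ha => exact hp a ha
  | one => exact one_pow p
  | mul a b ha hb iha ihb =>
    rw [(show Commute a b from congrArg Subtype.val
      (hcomm.is_comm.comm ⟨a, ha⟩ ⟨b, hb⟩)).mul_pow, iha, ihb, one_mul]
  | inv a ha iha => rw [inv_pow, iha, inv_one]

theorem mul_comm_of_mem {V : Subgroup L} (h : IsMulCommutative ↥V) {a b : L} (ha : a ∈ V)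
    (hb : b ∈ V) : a * b = b * a :=
  congrArg Subtype.val (h.is_comm.comm ⟨a, ha⟩ ⟨b, hb⟩)

theorem isElementaryAbelian_of_le {V W : Subgroup L} (h : Cfsg.IsElementaryAbelian p V)
    (hWV : W ≤ V) : Cfsg.IsElementaryAbelian p W := by
  refine ⟨⟨⟨fun a b => Subtype.ext ?_⟩⟩, fun a ha => h.2 a (hWV ha)⟩
  exact mul_comm_of_mem h.1 (hWV a.2) (hWV b.2)

theorem isElementaryAbelian_map {M : Type*} [Group M] {V : Subgroup L} (f : L →* M)
    (h : Cfsg.IsElementaryAbelian p V) : Cfsg.IsElementaryAbelian p (V.map f) := by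
  refine ⟨⟨⟨?_⟩⟩, ?_⟩
  · rintro ⟨_, a, ha, rfl⟩ ⟨_, b, hb, rfl⟩
    exact Subtype.ext (by
      simp only [MulMemClass.coe_mul, ← map_mul]
      exact congrArg f (congrArg Subtype.val (h.1.is_comm.comm ⟨a, ha⟩ ⟨b, hb⟩)))
  · rintro _ ⟨a, ha, rfl⟩
    rw [← map_pow, h.2 a ha, map_one]

theorem pCore_le_centralizer {V : Subgroup L} (hV : IsReducedOn p V) :
    Cfsg.pCore p L ≤ centralizer (V : Set L) := by
  refine hV _ inferInstance fun x hx => ?_
  obtain ⟨k, hk⟩ := isPGroup_pCore p L ⟨x, hx⟩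
  refine ⟨k, ?_⟩
  rw [show x ^ p ^ k = 1 from congrArg Subtype.val hk]
  exact one_mem _

theorem le_omegaCentre_pCore {V : Subgroup L} (h : Cfsg.IsPReducedNormal p V) :
    V ≤ omegaCentre p (Cfsg.pCore p L) := by
  obtain ⟨hn, he, hr⟩ := isPReducedNormal_iff.1 h
  intro x hx
  exact subset_closure ⟨⟨le_pCore hn (isPGroup_of_isElementaryAbelian he) hx,
    le_centralizer_iff.1 (pCore_le_centralizer hr) hx⟩, he.2 x hx⟩

theorem isPReducedNormal_sSup {S : Set (Subgroup L)} (hS : ∀ V ∈ S, Cfsg.IsPReducedNormal p V) :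
    Cfsg.IsPReducedNormal p (sSup S) := by
  have hsub : (sSup S) = closure (⋃ V ∈ S, (V : Set L)) := by
    refine le_antisymm (sSup_le fun V hV x hx => subset_closure (Set.mem_biUnion hV hx))
      ((closure_le _).2 ?_)
    intro x hx
    obtain ⟨V, hV, hxV⟩ := Set.mem_iUnion₂.1 hx
    exact le_sSup hV hxV
  rw [isPReducedNormal_iff]
  refine ⟨Subgroup.sSup_normal _ fun V hV => (hS V hV).1, ?_, fun N hN hx => ?_⟩
  · rw [hsub]
    refine isElementaryAbelian_closure ?_ ?_
    · intro a ha b hb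
      obtain ⟨V, hV, haV⟩ := Set.mem_iUnion₂.1 ha
      obtain ⟨W, hW, hbW⟩ := Set.mem_iUnion₂.1 hb
      have h1 := (omegaCentre_le_centralizer p _) (le_omegaCentre_pCore (hS V hV) haV)
      exact (h1 b ((omegaCentre_le p _) (le_omegaCentre_pCore (hS W hW) hbW))).symm
    · intro a ha
      obtain ⟨V, hV, haV⟩ := Set.mem_iUnion₂.1 ha
      exact (hS V hV).2.1.2 a haV
  · rw [hsub, centralizer_closure]
    intro n hn a ha
    obtain ⟨V, hV, haV⟩ := Set.mem_iUnion₂.1 ha
    refine ((isPReducedNormal_iff.1 (hS V hV)).2.2 N hN fun x hxN => ?_) hn a haV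
    obtain ⟨k, hk⟩ := hx x hxN
    exact ⟨k, centralizer_le (SetLike.coe_subset_coe.2 (le_sSup hV)) hk⟩

theorem isPReducedNormal_largest (p : ℕ) (L : Type*) [Group L] :
    Cfsg.IsPReducedNormal p (Cfsg.largestPReduced p L) :=
  isPReducedNormal_sSup fun _ h => h

theorem le_largestPReduced {V : Subgroup L} (h : Cfsg.IsPReducedNormal p V) :
    V ≤ Cfsg.largestPReduced p L :=
  le_sSup h

/-- A normal `p`-group-mod-`C` is generated mod `C` by any Sylow intersection. -/
theorem le_of_sylow_inf_le [Finite L] [Fact p.Prime] (T : Sylow p L) {N C K : Subgroup L}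
    [hN : N.Normal] [C.Normal] (hx : ∀ x ∈ N, ∃ k : ℕ, x ^ p ^ k ∈ C) (hCK : C ≤ K)
    (hTK : (T : Subgroup L) ⊓ N ≤ K) : N ≤ K := by
  have hp : IsPGroup p ↥(N.map (QuotientGroup.mk' C)) := by
    rintro ⟨_, x, hxN, rfl⟩
    obtain ⟨k, hk⟩ := hx x hxN
    refine ⟨k, Subtype.ext ?_⟩
    simp only [SubgroupClass.coe_pow, OneMemClass.coe_one, ← map_pow]
    exact (QuotientGroup.eq_one_iff _).2 hk
  obtain ⟨a, ha⟩ := IsPGroup.iff_card.1 hp
  have h1 := relIndex_ker N (QuotientGroup.mk' C)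
  rw [QuotientGroup.ker_mk', ha] at h1
  have h2 := Cfsg.Agent.Cores.sylow_subgroupOf_isSubnormal T (A := N) hN.isSubnormal
  set M := C ⊔ (T : Subgroup L) ⊓ N with hM
  have h3 : M.relIndex N ∣ p ^ a := h1 ▸ relIndex_dvd_of_le_left N (le_sup_left : C ≤ M)
  have h4 : M.relIndex N ∣ ((T : Subgroup L) ⊓ N).relIndex N :=
    relIndex_dvd_of_le_left N (le_sup_right : _ ≤ M)
  rw [inf_relIndex_right] at h4
  have h5 : M.relIndex N = 1 := by
    refine Nat.eq_one_of_dvd_coprimes ?_ h3 h4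
    exact Nat.Coprime.pow_left a ((Nat.Prime.coprime_iff_not_dvd Fact.out).2 h2)
  exact (relIndex_eq_one.1 h5).trans (sup_le hCK hTK)

/-- The closure of a `p`-reduced normal subgroup of a parabolic subgroup is `p`-reduced. -/
theorem isPReducedNormal_normalClosure [Finite L] [Fact p.Prime]
    (hchar : centralizer (Cfsg.pCore p L : Set L) ≤ Cfsg.pCore p L) (T : Sylow p L)
    (R : Subgroup L) (hTR : (T : Subgroup L) ≤ R) {X : Subgroup ↥R}
    (hX : Cfsg.IsPReducedNormal p X) :
    Cfsg.IsPReducedNormal p (normalClosure ((X.map R.subtype : Subgroup L) : Set L)) := by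
  obtain ⟨hXn, hXe, hXr⟩ := isPReducedNormal_iff.1 hX
  set X' := X.map R.subtype with hX'
  have hOR : (Cfsg.pCore p L).subgroupOf R ≤ Cfsg.pCore p ↥R :=
    le_pCore inferInstance (isPGroup_pCore p L).comap_subtype
  have hOL : Cfsg.pCore p L ≤ R := ((isPGroup_pCore p L).le_sylow_of_normal T).trans hTR
  have hXC : X' ≤ centralizer (Cfsg.pCore p L : Set L) := by
    rintro _ ⟨x, hx, rfl⟩ o ho
    exact congrArg Subtype.val
      ((le_centralizer_iff.1 (pCore_le_centralizer hXr) hx) ⟨o, hOL ho⟩ (hOR ho))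
  set Y := normalClosure (X' : Set L) with hY
  have hYO : Y ≤ Cfsg.pCore p L ⊓ centralizer (Cfsg.pCore p L : Set L) :=
    normalClosure_le_normal (le_inf (hXC.trans hchar) hXC)
  have hYe : Cfsg.IsElementaryAbelian p Y := by
    refine isElementaryAbelian_closure ?_ ?_
    · intro a ha b hb
      have ha' := hYO (subset_closure ha)
      have hb' := hYO (subset_closure hb)
      exact (ha'.2 b hb'.1).symm
    · intro a ha
      rw [Group.mem_conjugatesOfSet_iff] at ha
      obtain ⟨x, hx, hxa⟩ := ha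
      obtain ⟨g, rfl⟩ := isConj_iff.1 hxa
      obtain ⟨x', hx', rfl⟩ := hx
      rw [conj_pow, ← map_pow, hXe.2 x' hx', map_one, mul_one, mul_inv_cancel]
  rw [isPReducedNormal_iff]
  refine ⟨inferInstance, hYe, fun N hN hx => ?_⟩
  have hCX : centralizer (Y : Set L) ≤ centralizer (X' : Set L) :=
    centralizer_le (SetLike.coe_subset_coe.2 subset_normalClosure)
  have hNX : N ≤ centralizer (X' : Set L) := by
    refine le_of_sylow_inf_le T hx hCX ?_
    intro y hy
    have h1 : N.subgroupOf R ≤ centralizer (X : Set ↥R) := by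
      refine hXr _ inferInstance fun z hz => ?_
      obtain ⟨k, hk⟩ := hx z hz
      refine ⟨k, fun w hw => Subtype.ext ?_⟩
      exact hCX hk w (mem_map_of_mem _ hw)
    rintro _ ⟨w, hw, rfl⟩
    exact congrArg Subtype.val (h1 (x := ⟨y, hTR hy.1⟩) hy.2 w hw)
  rw [le_centralizer_iff]
  exact normalClosure_le_normal (le_centralizer_iff.1 hNX)

theorem omegaCentre_le_largestPReduced [Finite L] [Fact p.Prime]
    (hchar : centralizer (Cfsg.pCore p L : Set L) ≤ Cfsg.pCore p L) (T : Sylow p L) :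
    omegaCentre p (T : Subgroup L) ≤ Cfsg.largestPReduced p L := by
  set X := (omegaCentre p (T : Subgroup L)).subgroupOf (T : Subgroup L) with hXdef
  have hmap : X.map (T : Subgroup L).subtype = omegaCentre p (T : Subgroup L) :=
    map_subgroupOf_eq_of_le (omegaCentre_le p _)
  have hcen : ∀ x ∈ X, ∀ t : ↥(T : Subgroup L), t * x = x * t := fun x hx t =>
    Subtype.ext (omegaCentre_le_centralizer p _ (mem_subgroupOf.1 hx) t t.2)
  have hX : Cfsg.IsPReducedNormal p X := by
    rw [isPReducedNormal_iff]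
    refine ⟨⟨fun x hx t => by rw [hcen x hx t, mul_inv_cancel_right]; exact hx⟩, ?_, ?_⟩
    · refine ⟨⟨⟨fun a b => Subtype.ext ((hcen b b.2 a))⟩⟩, fun a ha => Subtype.ext ?_⟩
      have he : Cfsg.IsElementaryAbelian p (omegaCentre p (T : Subgroup L)) :=
        isElementaryAbelian_closure (fun u hu v hv => (hu.1.2 v hv.1.1).symm) (fun u hu => hu.2)
      exact he.2 a (mem_subgroupOf.1 ha)
    · intro N _ _ y _ x hx
      exact (hcen x hx y).symm
  have h := le_largestPReduced (isPReducedNormal_normalClosure hchar T _ le_rfl hX)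
  rw [hmap] at h
  exact subset_normalClosure.trans h

/-! ### Ambient versions -/

variable {G : Type*} [Group G]

theorem normalizer_le_normalizer_centralizer (Y : Subgroup G) :
    normalizer (Y : Set G) ≤ normalizer (centralizer (Y : Set G) : Set G) := by
  refine le_normalizer_iff.2 fun g hg c hc y hy => ?_
  have h1 := le_normalizer_iff.1 (le_refl (normalizer (Y : Set G))) g⁻¹ (inv_mem hg) y hy
  rw [inv_inv] at h1
  calc y * (g * c * g⁻¹) = g * ((g⁻¹ * y * g) * c) * g⁻¹ := by group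
    _ = g * (c * (g⁻¹ * y * g)) * g⁻¹ := by rw [hc _ h1]
    _ = g * c * g⁻¹ * y := by group

theorem largestPReducedOf_le (p : ℕ) (L : Subgroup G) : Cfsg.largestPReducedOf p L ≤ L :=
  map_subtype_le _

theorem subgroupOf_largestPReducedOf (p : ℕ) (L : Subgroup G) :
    (Cfsg.largestPReducedOf p L).subgroupOf L = Cfsg.largestPReduced p ↥L :=
  comap_map_eq_self_of_injective (subtype_injective L) _

theorem le_normalizer_largestPReducedOf (p : ℕ) (L : Subgroup G) :
    L ≤ normalizer (Cfsg.largestPReducedOf p L : Set G) := by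
  refine (normal_subgroupOf_iff_le_normalizer (largestPReducedOf_le p L)).1 ?_
  rw [subgroupOf_largestPReducedOf]
  exact (isPReducedNormal_largest p ↥L).1

theorem isElementaryAbelian_largestPReducedOf (p : ℕ) (L : Subgroup G) :
    Cfsg.IsElementaryAbelian p (Cfsg.largestPReducedOf p L) :=
  isElementaryAbelian_map _ (isPReducedNormal_largest p ↥L).2.1

theorem mem_centralizer_subgroupOf {L V : Subgroup G} (hVL : V ≤ L) {x : ↥L} :
    x ∈ centralizer (V.subgroupOf L : Set ↥L) ↔ (x : G) ∈ centralizer (V : Set G) :=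
  ⟨fun h v hv => congrArg Subtype.val (h ⟨v, hVL hv⟩ hv),
    fun h v hv => Subtype.ext (h _ hv)⟩

theorem largestPReducedOf_reduced {L N : Subgroup G} (hNL : N ≤ L)
    (hn : L ≤ normalizer (N : Set G))
    (hx : ∀ x ∈ N, ∃ k : ℕ, x ^ p ^ k ∈ centralizer (Cfsg.largestPReducedOf p L : Set G)) :
    N ≤ centralizer (Cfsg.largestPReducedOf p L : Set G) := by
  intro y hy
  have h := (isPReducedNormal_iff.1 (isPReducedNormal_largest p ↥L)).2.2 (N.subgroupOf L)
    ((normal_subgroupOf_iff_le_normalizer hNL).2 hn)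
  rw [← subgroupOf_largestPReducedOf] at h
  refine (mem_centralizer_subgroupOf (largestPReducedOf_le p L)).1
    (h ?_ (x := ⟨y, hNL hy⟩) hy)
  intro z hz
  obtain ⟨k, hk⟩ := hx z hz
  exact ⟨k, (mem_centralizer_subgroupOf (largestPReducedOf_le p L)).2 hk⟩

theorem le_largestPReducedOf {V L : Subgroup G} (hVL : V ≤ L) (hn : L ≤ normalizer (V : Set G))
    (he : Cfsg.IsElementaryAbelian p V)
    (hr : ∀ N : Subgroup G, N ≤ L → L ≤ normalizer (N : Set G) →
      (∀ x ∈ N, ∃ k : ℕ, x ^ p ^ k ∈ centralizer (V : Set G)) → N ≤ centralizer (V : Set G)) :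
    V ≤ Cfsg.largestPReducedOf p L := by
  rw [← map_subgroupOf_eq_of_le hVL]
  refine map_mono (le_largestPReduced (isPReducedNormal_iff.2 ⟨?_, ?_, fun N hN hx => ?_⟩))
  · exact (normal_subgroupOf_iff_le_normalizer hVL).2 hn
  · exact ⟨⟨⟨fun a b => Subtype.ext (Subtype.ext (mul_comm_of_mem he.1 a.2 b.2))⟩⟩,
      fun a ha => Subtype.ext (he.2 a ha)⟩
  · intro y hy
    refine (mem_centralizer_subgroupOf hVL).2 (hr (N.map L.subtype) (map_subtype_le _) ?_ ?_
      (mem_map_of_mem _ hy))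
    · refine (normal_subgroupOf_iff_le_normalizer (map_subtype_le _)).1 ?_
      rw [subgroupOf, comap_map_eq_self_of_injective (subtype_injective L)]
      exact hN
    · rintro _ ⟨z, hz, rfl⟩
      obtain ⟨k, hk⟩ := hx z hz
      exact ⟨k, (mem_centralizer_subgroupOf hVL).1 hk⟩

theorem pCoreOf_le_centralizer_largestPReducedOf (p : ℕ) (L : Subgroup G) :
    Cfsg.pCoreOf p L ≤ centralizer (Cfsg.largestPReducedOf p L : Set G) := by
  refine largestPReducedOf_reduced (pCoreOf_le p L) (le_normalizer_pCoreOf p L) fun x hx => ?_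
  obtain ⟨k, hk⟩ := isPGroup_pCoreOf p L ⟨x, hx⟩
  refine ⟨k, ?_⟩
  rw [show x ^ p ^ k = 1 from congrArg Subtype.val hk]
  exact one_mem _

theorem largestPReducedOf_le_pCoreOf (p : ℕ) (L : Subgroup G) :
    Cfsg.largestPReducedOf p L ≤ Cfsg.pCoreOf p L :=
  le_pCoreOf (largestPReducedOf_le p L) (le_normalizer_largestPReducedOf p L)
    (isPGroup_of_isElementaryAbelian (isElementaryAbelian_largestPReducedOf p L))

theorem omegaCentre_le_largestPReducedOf [Fact p.Prime] {L T : Subgroup G} [Finite L]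
    (hchar : centralizer (Cfsg.pCore p ↥L : Set ↥L) ≤ Cfsg.pCore p ↥L) (hT : IsSylIn p T L) :
    omegaCentre p T ≤ Cfsg.largestPReducedOf p L := by
  obtain ⟨S, rfl⟩ := hT
  rw [← omegaCentre_map (subtype_injective L)]
  exact map_mono (omegaCentre_le_largestPReduced hchar S)

theorem sylowCenterClosure_le_largestPReducedOf [Fact p.Prime] {L : Subgroup G} [Finite L]
    (hchar : centralizer (Cfsg.pCore p ↥L : Set ↥L) ≤ Cfsg.pCore p ↥L) :
    Cfsg.sylowCenterClosure p L ≤ Cfsg.largestPReducedOf p L := by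
  rw [sylowCenterClosure_eq]
  exact iSup_le fun T => omegaCentre_le_largestPReducedOf hchar T.2

end Cfsg.Agent.CharP
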