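import Cfsg.Prelude.Def_BaumannBlocks
import Cfsg.Prelude.Def_PLocal
import Cfsg.Agent.Lib.CharP.Basic

/-!
The Chermak–Delgado lattice and centrally large subgroups.
-/

set_option autoImplicit false

namespace Cfsg.Agent.CharP

open Subgroup
open scoped Pointwise

variable {S : Type*} [Group S]

theorem card_center_eq (R : Subgroup S) :
    Nat.card ↥(center ↥R) = Nat.card ↥(R ⊓ centralizer (R : Set S)) := by
  have e : (center ↥R).map R.subtype = R ⊓ centralizer (R : Set S) := by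
    ext x
    constructor
    · rintro ⟨y, hy, rfl⟩
      exact ⟨y.2, fun h hh => congrArg Subtype.val (Subgroup.mem_center_iff.1 hy ⟨h, hh⟩)⟩
    · rintro ⟨hx, hc⟩
      exact ⟨⟨x, hx⟩, Subgroup.mem_center_iff.2 fun g => Subtype.ext (hc g g.2), rfl⟩
  rw [← e]
  exact Nat.card_congr (equivMapOfInjective _ _ R.subtype_injective).toEquiv

theorem centralizer_sup_eq (A B : Subgroup S) :
    centralizer ((A ⊔ B : Subgroup S) : Set S) =
      centralizer (A : Set S) ⊓ centralizer (B : Set S) :=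
  le_antisymm (le_inf (centralizer_le (SetLike.coe_subset_coe.2 le_sup_left))
    (centralizer_le (SetLike.coe_subset_coe.2 le_sup_right)))
    (le_centralizer_iff.1 (sup_le (le_centralizer_iff.1 inf_le_left)
      (le_centralizer_iff.1 inf_le_right)))

theorem le_centralizer_centralizer (R : Subgroup S) :
    R ≤ centralizer ((centralizer (R : Set S) : Subgroup S) : Set S) :=
  le_centralizer_iff.1 le_rfl

variable [Finite S]

theorem coe_sup_eq_mul_of_card {H K : Subgroup S}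
    (h : Nat.card ↥(H ⊔ K) * Nat.card ↥(H ⊓ K) ≤ Nat.card ↥H * Nat.card ↥K) :
    ((H ⊔ K : Subgroup S) : Set S) = (H : Set S) * (K : Set S) := by
  ext x
  refine ⟨fun hx => ?_, ?_⟩
  · obtain ⟨a, ha, b, hb, rfl⟩ := exists_mul_of_card_eq h hx
    exact ⟨a, ha, b, hb, rfl⟩
  · rintro ⟨a, ha, b, hb, rfl⟩
    exact mul_mem_sup ha hb

theorem card_mul_centralizer_le (R : Subgroup S) :
    Nat.card ↥R * Nat.card ↥(centralizer (R : Set S)) ≤ Cfsg.maxCentralizerProduct S :=
  le_csSup ⟨Nat.card S * Nat.card S, fun _ ⟨T, hT⟩ => hT ▸ Nat.mul_le_mul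
    (card_le_card_group T) (card_le_card_group _)⟩ ⟨R, rfl⟩

theorem card_mul_center_le (R : Subgroup S) :
    Nat.card ↥R * Nat.card ↥(center ↥R) ≤ Cfsg.maxCentralProduct S :=
  le_csSup ⟨Nat.card S * Nat.card S, fun _ ⟨T, hT⟩ => hT ▸ Nat.mul_le_mul
    (card_le_card_group T) ((card_le_card_group _).trans (card_le_card_group T))⟩ ⟨R, rfl⟩

theorem exists_isCentralizerLarge : ∃ R : Subgroup S, Cfsg.IsCentralizerLarge R := by
  obtain ⟨R, hR⟩ := Nat.sSup_mem (s := {k : ℕ | ∃ R : Subgroup S,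
    Nat.card ↥R * Nat.card ↥(centralizer (R : Set S)) = k}) ⟨_, ⊥, rfl⟩
    ⟨Nat.card S * Nat.card S, fun _ ⟨T, hT⟩ => hT ▸ Nat.mul_le_mul
      (card_le_card_group T) (card_le_card_group _)⟩
  exact ⟨R, hR⟩

theorem isCentralizerLarge_of_le {R : Subgroup S}
    (h : Cfsg.maxCentralizerProduct S ≤ Nat.card ↥R * Nat.card ↥(centralizer (R : Set S))) :
    Cfsg.IsCentralizerLarge R :=
  le_antisymm (card_mul_centralizer_le R) h

theorem IsCentralizerLarge.centralizer {Q : Subgroup S} (hQ : Cfsg.IsCentralizerLarge Q) :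
    Cfsg.IsCentralizerLarge (centralizer (Q : Set S)) := by
  refine isCentralizerLarge_of_le ?_
  rw [← hQ, mul_comm]
  exact Nat.mul_le_mul_left _ (card_le_of_le (le_centralizer_centralizer Q))

theorem IsCentralizerLarge.centralizer_centralizer {Q : Subgroup S}
    (hQ : Cfsg.IsCentralizerLarge Q) :
    Subgroup.centralizer ((Subgroup.centralizer (Q : Set S) : Subgroup S) : Set S) = Q := by
  refine (eq_of_le_of_card_ge (le_centralizer_centralizer Q) ?_).symm
  refine Nat.le_of_mul_le_mul_left ?_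
    (Nat.card_pos (α := ↥(Subgroup.centralizer (Q : Set S))))
  rw [mul_comm _ (Nat.card ↥Q), hQ]
  exact card_mul_centralizer_le _

/-- The Chermak–Delgado lattice. -/
theorem isCentralizerLarge_sup_inf {Q R : Subgroup S} (hQ : Cfsg.IsCentralizerLarge Q)
    (hR : Cfsg.IsCentralizerLarge R) :
    Cfsg.IsCentralizerLarge (Q ⊔ R) ∧ Cfsg.IsCentralizerLarge (Q ⊓ R) ∧
      Nat.card ↥(Q ⊔ R) * Nat.card ↥(Q ⊓ R) ≤ Nat.card ↥Q * Nat.card ↥R ∧
      Subgroup.centralizer ((Q ⊓ R : Subgroup S) : Set S) =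
        Subgroup.centralizer (Q : Set S) ⊔ Subgroup.centralizer (R : Set S) ∧
      Nat.card ↥(Subgroup.centralizer (Q : Set S) ⊔ Subgroup.centralizer (R : Set S)) *
          Nat.card ↥(Subgroup.centralizer (Q : Set S) ⊓ Subgroup.centralizer (R : Set S)) ≤
        Nat.card ↥(Subgroup.centralizer (Q : Set S)) *
          Nat.card ↥(Subgroup.centralizer (R : Set S)) := by
  set M := Cfsg.maxCentralizerProduct S
  set a := Nat.card ↥(Q ⊔ R)
  set b := Nat.card ↥(Q ⊓ R)
  set CQ := Subgroup.centralizer (Q : Set S)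
  set CR := Subgroup.centralizer (R : Set S)
  set c := Nat.card ↥(Subgroup.centralizer ((Q ⊔ R : Subgroup S) : Set S))
  set d := Nat.card ↥(Subgroup.centralizer ((Q ⊓ R : Subgroup S) : Set S))
  have hc : c = Nat.card ↥(CQ ⊓ CR) := by
    simp only [c, centralizer_sup_eq, CQ, CR]
  have hsup : CQ ⊔ CR ≤ Subgroup.centralizer ((Q ⊓ R : Subgroup S) : Set S) :=
    sup_le (centralizer_le (SetLike.coe_subset_coe.2 inf_le_left))
      (centralizer_le (SetLike.coe_subset_coe.2 inf_le_right))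
  have hd : Nat.card ↥(CQ ⊔ CR) ≤ d := card_le_of_le hsup
  have h1 : Nat.card ↥Q * Nat.card ↥R ≤ a * b := card_mul_le_card_sup_mul_card_inf Q R
  have h2 : Nat.card ↥CQ * Nat.card ↥CR ≤ Nat.card ↥(CQ ⊔ CR) * Nat.card ↥(CQ ⊓ CR) :=
    card_mul_le_card_sup_mul_card_inf CQ CR
  have hac : a * c ≤ M := card_mul_centralizer_le _
  have hbd : b * d ≤ M := card_mul_centralizer_le _
  have hQM : Nat.card ↥Q * Nat.card ↥CQ = M := hQ
  have hRM : Nat.card ↥R * Nat.card ↥CR = M := hR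
  have hMpos : 0 < M := hQM ▸ Nat.mul_pos Nat.card_pos Nat.card_pos
  have hchain : M * M ≤ (a * b) * (Nat.card ↥(CQ ⊔ CR) * c) := by
    calc M * M = (Nat.card ↥Q * Nat.card ↥CQ) * (Nat.card ↥R * Nat.card ↥CR) := by rw [hQM, hRM]
      _ = (Nat.card ↥Q * Nat.card ↥R) * (Nat.card ↥CQ * Nat.card ↥CR) := by ring
      _ ≤ _ := Nat.mul_le_mul h1 (hc ▸ h2)
  have hchain' : (a * b) * (Nat.card ↥(CQ ⊔ CR) * c) ≤ (a * b) * (d * c) := by gcongr
  have hle : (a * b) * (d * c) ≤ M * M := by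
    calc (a * b) * (d * c) = (a * c) * (b * d) := by ring
      _ ≤ M * M := Nat.mul_le_mul hac hbd
  have hMac : M ≤ a * c := by
    by_contra h
    have := Nat.mul_lt_mul_of_lt_of_le (Nat.lt_of_not_le h) hbd hMpos
    have e : (a * b) * (d * c) = (a * c) * (b * d) := by ring
    omega
  have hMbd : M ≤ b * d := by
    by_contra h
    have := Nat.mul_lt_mul_of_le_of_lt hac (Nat.lt_of_not_le h) hMpos
    have e : (a * b) * (d * c) = (a * c) * (b * d) := by ring
    omega
  have hpos : 0 < a * b * c := Nat.mul_pos (Nat.mul_pos Nat.card_pos Nat.card_pos) Nat.card_pos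
  have hdeq : d ≤ Nat.card ↥(CQ ⊔ CR) := by
    refine Nat.le_of_mul_le_mul_left ?_ hpos
    calc a * b * c * d = (a * b) * (d * c) := by ring
      _ ≤ _ := hle.trans hchain
      _ = a * b * c * Nat.card ↥(CQ ⊔ CR) := by ring
  have hup : a * b * (Nat.card ↥(CQ ⊔ CR) * c) ≤
      (Nat.card ↥Q * Nat.card ↥R) * (Nat.card ↥CQ * Nat.card ↥CR) := by
    calc _ ≤ M * M := hchain'.trans hle
      _ = _ := by rw [← hQM]; nth_rewrite 2 [hQM]; rw [← hRM]; ring
  refine ⟨isCentralizerLarge_of_le hMac, isCentralizerLarge_of_le hMbd, ?_,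
    (eq_of_le_of_card_ge hsup hdeq).symm, ?_⟩
  · refine Nat.le_of_mul_le_mul_right (hup.trans (Nat.mul_le_mul_left _ (hc ▸ h2))) ?_
    exact Nat.mul_pos Nat.card_pos Nat.card_pos
  · rw [← hc]
    refine Nat.le_of_mul_le_mul_left (hup.trans (Nat.mul_le_mul_right _ h1)) ?_
    exact Nat.mul_pos Nat.card_pos Nat.card_pos

theorem maxCentralProduct_eq : Cfsg.maxCentralProduct S = Cfsg.maxCentralizerProduct S := by
  refine le_antisymm (csSup_le ⟨_, ⊥, rfl⟩ ?_) ?_
  · rintro k ⟨R, rfl⟩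
    refine le_trans (Nat.mul_le_mul_left _ ?_) (card_mul_centralizer_le R)
    rw [card_center_eq]
    exact card_le_of_le inf_le_right
  · obtain ⟨Q, hQ⟩ := exists_isCentralizerLarge (S := S)
    have hR := (isCentralizerLarge_sup_inf hQ (IsCentralizerLarge.centralizer hQ)).1
    rw [← hR]
    refine le_trans (Nat.mul_le_mul_left _ ?_) (card_mul_center_le _)
    rw [card_center_eq]
    refine card_le_of_le (le_inf ?_ le_rfl)
    rw [centralizer_sup_eq]
    exact inf_le_left.trans le_sup_right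

theorem isCentrallyLarge_iff {Q : Subgroup S} :
    Cfsg.IsCentrallyLarge Q ↔
      Cfsg.IsCentralizerLarge Q ∧ Subgroup.centralizer (Q : Set S) ≤ Q := by
  unfold Cfsg.IsCentrallyLarge Cfsg.IsCentralizerLarge
  rw [maxCentralProduct_eq, card_center_eq]
  constructor
  · intro h
    have h1 : Cfsg.maxCentralizerProduct S ≤
        Nat.card ↥Q * Nat.card ↥(Subgroup.centralizer (Q : Set S)) := by
      rw [← h]
      exact Nat.mul_le_mul_left _ (card_le_of_le inf_le_right)
    have h2 := le_antisymm (card_mul_centralizer_le Q) h1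
    refine ⟨h2, ?_⟩
    rw [← h] at h2
    exact inf_eq_right.1 (eq_of_le_of_card_ge inf_le_right
      (Nat.eq_of_mul_eq_mul_left Nat.card_pos h2).le)
  · rintro ⟨h, hle⟩
    rwa [inf_eq_right.2 hle]

theorem isCentrallyLarge_sup {Q R : Subgroup S} (hQ : Cfsg.IsCentrallyLarge Q)
    (hR : Cfsg.IsCentrallyLarge R) :
    Cfsg.IsCentrallyLarge (Q ⊔ R) ∧
      ((Q ⊔ R : Subgroup S) : Set S) = (Q : Set S) * (R : Set S) := by
  rw [isCentrallyLarge_iff] at hQ hR
  have h := isCentralizerLarge_sup_inf hQ.1 hR.1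
  refine ⟨isCentrallyLarge_iff.2 ⟨h.1, ?_⟩, coe_sup_eq_mul_of_card h.2.2.1⟩
  rw [centralizer_sup_eq]
  exact (inf_le_left.trans hQ.2).trans le_sup_left

theorem exists_isCentrallyLarge : ∃ R : Subgroup S, Cfsg.IsCentrallyLarge R := by
  obtain ⟨Q, hQ⟩ := exists_isCentralizerLarge (S := S)
  refine ⟨Q ⊔ Subgroup.centralizer (Q : Set S), isCentrallyLarge_iff.2
    ⟨(isCentralizerLarge_sup_inf hQ (IsCentralizerLarge.centralizer hQ)).1, ?_⟩⟩
  rw [centralizer_sup_eq]
  exact inf_le_left.trans le_sup_right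

theorem isCentrallyLarge_sSup {s : Set (Subgroup S)} (hne : s.Nonempty)
    (h : ∀ R ∈ s, Cfsg.IsCentrallyLarge R) : Cfsg.IsCentrallyLarge (sSup s) := by
  classical
  have key : ∀ t : Finset (Subgroup S), t.Nonempty → (∀ R ∈ t, Cfsg.IsCentrallyLarge R) →
      Cfsg.IsCentrallyLarge (t.sup id) := by
    intro t ht
    induction ht using Finset.Nonempty.cons_induction with
    | singleton a => intro h; simpa using h a (Finset.mem_singleton_self a)
    | cons a t hat ht ih =>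
      intro h
      rw [Finset.sup_cons]
      exact (isCentrallyLarge_sup (h a (Finset.mem_cons_self a t))
        (ih fun R hR => h R (Finset.mem_cons_of_mem hR))).1
  have hfin : s.Finite := Set.toFinite s
  have e : sSup s = hfin.toFinset.sup id := by
    rw [Finset.sup_id_eq_sSup, hfin.coe_toFinset]
  rw [e]
  exact key _ ((hfin.toFinset_nonempty).2 hne) fun R hR => h R (hfin.mem_toFinset.1 hR)

theorem centrallyLargeJoin_large : Cfsg.IsCentrallyLarge (Cfsg.centrallyLargeJoin S) :=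
  isCentrallyLarge_sSup exists_isCentrallyLarge fun _ h => h

theorem exists_isMinimalCentrallyLarge {Q : Subgroup S} (hQ : Cfsg.IsCentrallyLarge Q) :
    ∃ R ≤ Q, Cfsg.IsMinimalCentrallyLarge R := by
  obtain ⟨R, hRQ, hR⟩ := (Set.toFinite {R : Subgroup S | Cfsg.IsCentrallyLarge R}).exists_le_minimal
    (a := Q) hQ
  exact ⟨R, hRQ, hR.1, fun R' h h' => le_antisymm h (hR.2 h' h)⟩

theorem minimalCentrallyLargeJoin_large :
    Cfsg.IsCentrallyLarge (Cfsg.minimalCentrallyLargeJoin S) := by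
  obtain ⟨Q, hQ⟩ := exists_isCentrallyLarge (S := S)
  obtain ⟨R, -, hR⟩ := exists_isMinimalCentrallyLarge hQ
  exact isCentrallyLarge_sSup ⟨R, hR⟩ fun _ h => h.1

theorem centralizer_eq_of_maxAbelian {A : Subgroup S} (hA : A ∈ Cfsg.maxAbelianSubgroups S) :
    Subgroup.centralizer (A : Set S) = A := by
  haveI : IsMulCommutative ↥A := hA.1
  refine le_antisymm (fun c hc => ?_) (le_centralizer A)
  have hab : IsMulCommutative ↥(A ⊔ zpowers c) := by
    rw [← le_centralizer_iff_isMulCommutative]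
    exact sup_le (le_centralizer_iff.2 (sup_le (le_centralizer A) (zpowers_le.2 hc)))
      (le_centralizer_iff.2 (sup_le (le_centralizer_iff.1 (zpowers_le.2 hc)) (le_centralizer _)))
  exact (eq_of_le_of_card_ge le_sup_left (hA.2 _ hab)).ge (mem_sup_right (mem_zpowers c))

/-- A centrally large `Q` and an abelian subgroup `A` of maximal order. -/
theorem isCentrallyLarge_sup_maxAbelian {Q A : Subgroup S} (hQ : Cfsg.IsCentrallyLarge Q)
    (hA : A ∈ Cfsg.maxAbelianSubgroups S) :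
    ((Q ⊔ A : Subgroup S) : Set S) = (Q : Set S) * (A : Set S) ∧
      Cfsg.IsCentrallyLarge (Q ⊔ A) ∧
      (Q ⊔ A) ⊓ Subgroup.centralizer ((Q ⊓ A : Subgroup S) : Set S) =
        (Q ⊓ Subgroup.centralizer (Q : Set S)) ⊔ A ∧
      (((Q ⊓ Subgroup.centralizer (Q : Set S)) ⊔ A : Subgroup S) : Set S) =
        ((Q ⊓ Subgroup.centralizer (Q : Set S) : Subgroup S) : Set S) * (A : Set S) := by
  haveI : IsMulCommutative ↥A := hA.1
  obtain ⟨hQl, hCQ⟩ := isCentrallyLarge_iff.1 hQ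
  have hCA := centralizer_eq_of_maxAbelian hA
  set CQ := Subgroup.centralizer (Q : Set S)
  have hCQc : IsMulCommutative ↥CQ :=
    le_centralizer_iff_isMulCommutative.1 (hCQ.trans (le_centralizer_centralizer Q))
  set X := Q ⊓ A
  set D := CQ ⊔ X
  have hD : IsMulCommutative ↥D := by
    rw [← le_centralizer_iff_isMulCommutative]
    have hXC : CQ ≤ Subgroup.centralizer (X : Set S) :=
      centralizer_le (SetLike.coe_subset_coe.2 inf_le_left)
    exact sup_le (le_centralizer_iff.2 (sup_le (le_centralizer CQ) (le_centralizer_iff.1 hXC)))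
      (le_centralizer_iff.2 (sup_le hXC ((inf_le_right.trans (le_centralizer A)).trans
        (centralizer_le (SetLike.coe_subset_coe.2 inf_le_right)))))
  have hCX : CQ ⊓ X = CQ ⊓ A :=
    le_antisymm (inf_le_inf_left _ inf_le_right)
      (le_inf inf_le_left (le_inf (inf_le_left.trans hCQ) inf_le_right))
  have h1 : Nat.card ↥Q * Nat.card ↥A ≤ Nat.card ↥(Q ⊔ A) * Nat.card ↥X :=
    card_mul_le_card_sup_mul_card_inf Q A
  have h2 : Nat.card ↥CQ * Nat.card ↥X ≤ Nat.card ↥D * Nat.card ↥(CQ ⊓ A) :=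
    hCX ▸ card_mul_le_card_sup_mul_card_inf CQ X
  have h3 : Nat.card ↥D ≤ Nat.card ↥A := hA.2 D hD
  have h4 : Nat.card ↥(Q ⊔ A) * Nat.card ↥(CQ ⊓ A) ≤ Cfsg.maxCentralizerProduct S := by
    have := card_mul_centralizer_le (Q ⊔ A)
    rwa [centralizer_sup_eq, hCA] at this
  have hM : Cfsg.maxCentralizerProduct S = Nat.card ↥Q * Nat.card ↥CQ := hQl.symm
  have h5 : Cfsg.maxCentralizerProduct S * Nat.card ↥X ≤
      Nat.card ↥Q * Nat.card ↥A * Nat.card ↥(CQ ⊓ A) := by
    calc _ = Nat.card ↥Q * (Nat.card ↥CQ * Nat.card ↥X) := by rw [hM]; ring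
      _ ≤ Nat.card ↥Q * (Nat.card ↥A * Nat.card ↥(CQ ⊓ A)) :=
        Nat.mul_le_mul_left _ (h2.trans (Nat.mul_le_mul_right _ h3))
      _ = _ := by ring
  have h6 : Nat.card ↥Q * Nat.card ↥A * Nat.card ↥(CQ ⊓ A) ≤
      Nat.card ↥(Q ⊔ A) * Nat.card ↥(CQ ⊓ A) * Nat.card ↥X := by
    calc _ ≤ Nat.card ↥(Q ⊔ A) * Nat.card ↥X * Nat.card ↥(CQ ⊓ A) :=
          Nat.mul_le_mul_right _ h1
      _ = _ := by ring
  have hXpos : 0 < Nat.card ↥X := Nat.card_pos
  have hlarge : Cfsg.IsCentralizerLarge (Q ⊔ A) := by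
    refine isCentralizerLarge_of_le ?_
    rw [centralizer_sup_eq, hCA]
    exact Nat.le_of_mul_le_mul_right (h5.trans h6) hXpos
  have hset : ((Q ⊔ A : Subgroup S) : Set S) = (Q : Set S) * (A : Set S) := by
    refine coe_sup_eq_mul_of_card (Nat.le_of_mul_le_mul_right ?_
      (Nat.card_pos (α := ↥(CQ ⊓ A))))
    calc Nat.card ↥(Q ⊔ A) * Nat.card ↥X * Nat.card ↥(CQ ⊓ A)
        = Nat.card ↥(Q ⊔ A) * Nat.card ↥(CQ ⊓ A) * Nat.card ↥X := by ring
      _ ≤ Cfsg.maxCentralizerProduct S * Nat.card ↥X := Nat.mul_le_mul_right _ h4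
      _ ≤ _ := h5
  have hDA : D ∈ Cfsg.maxAbelianSubgroups S := by
    refine ⟨hD, fun B hB => (hA.2 B hB).trans ?_⟩
    refine Nat.le_of_mul_le_mul_right ?_
      (Nat.mul_pos (Nat.card_pos (α := ↥Q)) (Nat.card_pos (α := ↥(CQ ⊓ A))))
    calc Nat.card ↥A * (Nat.card ↥Q * Nat.card ↥(CQ ⊓ A))
        = Nat.card ↥Q * Nat.card ↥A * Nat.card ↥(CQ ⊓ A) := by ring
      _ ≤ Nat.card ↥(Q ⊔ A) * Nat.card ↥(CQ ⊓ A) * Nat.card ↥X := h6
      _ ≤ Cfsg.maxCentralizerProduct S * Nat.card ↥X := Nat.mul_le_mul_right _ h4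
      _ = Nat.card ↥Q * (Nat.card ↥CQ * Nat.card ↥X) := by rw [hM]; ring
      _ ≤ Nat.card ↥Q * (Nat.card ↥D * Nat.card ↥(CQ ⊓ A)) := Nat.mul_le_mul_left _ h2
      _ = _ := by ring
  have hXA : A ≤ Subgroup.centralizer (X : Set S) :=
    (le_centralizer A).trans (centralizer_le (SetLike.coe_subset_coe.2 inf_le_right))
  have key : ∀ x ∈ (Q ⊔ A) ⊓ Subgroup.centralizer (X : Set S),
      x ∈ ((CQ : Subgroup S) : Set S) * (A : Set S) := by
    rintro x ⟨hx, hxc⟩
    replace hx : x ∈ ((Q ⊔ A : Subgroup S) : Set S) := hx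
    rw [hset] at hx
    obtain ⟨q, hq, a, ha, rfl⟩ := hx
    have hqX : q ∈ Subgroup.centralizer (X : Set S) := by
      have := (Subgroup.centralizer (X : Set S)).mul_mem hxc
        ((Subgroup.centralizer (X : Set S)).inv_mem (hXA ha))
      simpa using this
    have hqD : q ∈ D := by
      rw [← centralizer_eq_of_maxAbelian hDA, centralizer_sup_eq]
      exact ⟨le_centralizer_centralizer Q hq, hqX⟩
    have hXn : CQ ≤ Subgroup.normalizer (X : Set S) :=
      (centralizer_le (SetLike.coe_subset_coe.2 inf_le_left)).trans (centralizer_le_normalizer _)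
    rw [← SetLike.mem_coe, coe_mul_of_left_le_normalizer_right CQ X hXn] at hqD
    obtain ⟨z, hz, w, hw, rfl⟩ := hqD
    exact ⟨z, hz, w * a, mul_mem hw.2 ha, by simp [mul_assoc]⟩
  rw [inf_eq_right.2 hCQ]
  have hle : CQ ⊔ A ≤ (Q ⊔ A) ⊓ Subgroup.centralizer (X : Set S) :=
    sup_le (le_inf (hCQ.trans le_sup_left) (centralizer_le (SetLike.coe_subset_coe.2 inf_le_left)))
      (le_inf le_sup_right hXA)
  refine ⟨hset, isCentrallyLarge_iff.2 ⟨hlarge, ?_⟩, le_antisymm (fun x hx => ?_) hle, ?_⟩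
  · rw [centralizer_sup_eq, hCA]
    exact inf_le_right.trans le_sup_right
  · obtain ⟨z, hz, a, ha, rfl⟩ := key x hx
    exact mul_mem_sup hz ha
  · ext x
    refine ⟨fun hx => key x (hle hx), ?_⟩
    rintro ⟨z, hz, a, ha, rfl⟩
    exact mul_mem_sup hz ha

theorem centralizer_center_thompson_le :
    Subgroup.centralizer ((Cfsg.thompsonSubgroupA S ⊓
      Subgroup.centralizer (Cfsg.thompsonSubgroupA S : Set S) : Subgroup S) : Set S) ≤
        Cfsg.centrallyLargeJoin S := by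
  obtain ⟨A₀, hA₀, hmax⟩ := (Set.toFinite {A : Subgroup S | IsMulCommutative ↥A}).exists_maximalFor
    (fun A : Subgroup S => Nat.card ↥A) _ ⟨⊥, (inferInstance : IsMulCommutative ↥(⊥ : Subgroup S))⟩
  have hA₀' : A₀ ∈ Cfsg.maxAbelianSubgroups S := ⟨hA₀, fun B hB => by
    by_contra h
    exact h (hmax hB (le_of_not_ge h))⟩
  set W := Cfsg.centrallyLargeJoin S
  set J := Cfsg.thompsonSubgroupA S
  have hW := isCentrallyLarge_iff.1 (centrallyLargeJoin_large (S := S))
  have hJW : J ≤ W := sSup_le fun A hA =>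
    le_sup_right.trans (le_sSup (isCentrallyLarge_sup_maxAbelian
      (centrallyLargeJoin_large (S := S)) hA).2.1)
  have hCJ : Subgroup.centralizer (J : Set S) ≤ J := by
    refine le_trans ?_ (le_sSup hA₀' : A₀ ≤ J)
    conv_rhs => rw [← centralizer_eq_of_maxAbelian hA₀']
    exact centralizer_le (SetLike.coe_subset_coe.2 (le_sSup hA₀'))
  have h : Subgroup.centralizer (W : Set S) ≤ J ⊓ Subgroup.centralizer (J : Set S) :=
    le_inf ((centralizer_le (SetLike.coe_subset_coe.2 hJW)).trans hCJ)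
      (centralizer_le (SetLike.coe_subset_coe.2 hJW))
  calc _ ≤ Subgroup.centralizer ((Subgroup.centralizer (W : Set S) : Subgroup S) : Set S) :=
        centralizer_le (SetLike.coe_subset_coe.2 h)
    _ = W := IsCentralizerLarge.centralizer_centralizer hW.1

end Cfsg.Agent.CharP
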