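import Cfsg.Agent.Lib.CharP.PushingUpCL
import Cfsg.Agent.Lib.CharP.Basic
import Cfsg.Agent.Solvable.Basics
import Cfsg.Agent.S3007

/-!
Minimal centrally large subgroups in the pushing-up situation: exchange into `O_p(G)` preserving the derived
subgroup, the largest `Ω₁Z` and growing the Frattini subgroup; transport along conjugation in `G`.
-/

set_option autoImplicit false
set_option linter.unusedSectionVars false

namespace Cfsg.Agent.CharP.PushingUpMCL

open Subgroup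
open scoped Pointwise commutatorElement

section frattini

variable {G H : Type*} [Group G] [Group H] [Finite G] {p : ℕ} [hp : Fact p.Prime]

theorem frattini_map_eq {f : G →* H} (hf : Function.Injective f) (X : Subgroup G) :
    ((frattini ↥X).map X.subtype).map f = (frattini ↥(X.map f)).map (X.map f).subtype := by
  let e := X.equivMapOfInjective f hf
  have he : (frattini ↥X).map e.toMonoidHom = frattini ↥(X.map f) := by
    refine le_antisymm (map_le_iff_le_comap.2 (frattini_le_comap_frattini_of_surjective e.surjective)) ?_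
    intro y hy
    refine ⟨e.symm y, ?_, e.apply_symm_apply y⟩
    exact frattini_le_comap_frattini_of_surjective (φ := e.symm.toMonoidHom) e.symm.surjective hy
  rw [← he, map_map, map_map]
  rfl

theorem frattini_mono {R X : Subgroup G} (hX : IsPGroup p X) (h : R ≤ X) :
    (frattini ↥R).map R.subtype ≤ (frattini ↥X).map X.subtype := by
  haveI := hX.isNilpotent
  rintro _ ⟨x, hx, rfl⟩
  refine ⟨inclusion h x, ?_, rfl⟩
  have hk := CharP.frattini_le_ker (p := p) ((QuotientGroup.mk' (frattini ↥X)).comp (inclusion h))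
    (fun a b => ?_) (fun a => ?_) hx
  · exact (QuotientGroup.eq_one_iff _).1 hk
  · rw [← commutatorElement_eq_one_iff_commute, ← map_commutatorElement]
    refine (QuotientGroup.eq_one_iff _).2 (Coprime.commutator_le_frattini ↥X ?_)
    rw [map_commutatorElement]
    exact commutator_mem_commutator (mem_top _) (mem_top _)
  · rw [← map_pow]
    refine (QuotientGroup.eq_one_iff _).2 ?_
    rw [map_pow]
    exact Cfsg.Agent.Solvable.Basics.pow_mem_frattini hX _

/-- A central subgroup of exponent `p` does not enlarge the Frattini subgroup. -/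
theorem frattini_sup_central {R W Q : Subgroup G} (hR : IsPGroup p R) (hQ : Q = R ⊔ W)
    (hW : W ≤ centralizer (Q : Set G)) (hWp : ∀ w ∈ W, w ^ p = 1) :
    (frattini ↥Q).map Q.subtype ≤ (frattini ↥R).map R.subtype := by
  haveI := hR.isNilpotent
  set D := (frattini ↥R).map R.subtype with hD
  have hRQ : R ≤ Q := hQ ▸ le_sup_left
  have hDR : D ≤ R := map_subtype_le _
  have hWR : W ≤ normalizer (R : Set G) :=
    hW.trans ((centralizer_le (SetLike.coe_subset_coe.2 hRQ)).trans (centralizer_le_normalizer _))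
  have hdec : ∀ q ∈ Q, ∃ r ∈ R, ∃ w ∈ W, q = r * w := by
    intro q hq
    rw [hQ] at hq
    rw [← SetLike.mem_coe, coe_mul_of_right_le_normalizer_left _ _ hWR] at hq
    obtain ⟨r, hr, w, hw, rfl⟩ := hq
    exact ⟨r, hr, w, hw, rfl⟩
  have hcw : ∀ w ∈ W, ∀ q ∈ Q, q * w = w * q := fun w hw q hq => mem_centralizer_iff.1 (hW hw) q hq
  haveI hn : (D.subgroupOf Q).Normal := by
    refine ⟨fun x hx q => ?_⟩
    obtain ⟨r, hr, w, hw, hq⟩ := hdec q q.2
    rw [mem_subgroupOf] at hx ⊢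
    obtain ⟨x', hx', hxe⟩ := id hx
    refine ⟨⟨r, hr⟩ * x' * ⟨r, hr⟩⁻¹, (inferInstance : (frattini ↥R).Normal).conj_mem _ hx' _, ?_⟩
    have hxR : (x : G) ∈ Q := x.2
    have hxe' : (x' : G) = x := hxe
    show r * (x' : G) * r⁻¹ = (q : G) * x * (q : G)⁻¹
    rw [hq, hxe', mul_inv_rev, mul_assoc r w, ← hcw w hw x hxR]
    group
  rintro _ ⟨x, hx, rfl⟩
  have hk := CharP.frattini_le_ker (p := p) (QuotientGroup.mk' (D.subgroupOf Q)) (fun a b => ?_) (fun a => ?_) hx
  · exact mem_subgroupOf.1 ((QuotientGroup.eq_one_iff _).1 hk)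
  · rw [← commutatorElement_eq_one_iff_commute, ← map_commutatorElement]
    refine (QuotientGroup.eq_one_iff _).2 (mem_subgroupOf.2 ?_)
    obtain ⟨r, hr, w, hw, ha⟩ := hdec a a.2
    obtain ⟨r', hr', w', hw', hb⟩ := hdec b b.2
    refine ⟨⁅(⟨r, hr⟩ : R), ⟨r', hr'⟩⁆,
      Coprime.commutator_le_frattini ↥R (commutator_mem_commutator (mem_top _) (mem_top _)), ?_⟩
    rw [map_commutatorElement, ← Q.coe_subtype, map_commutatorElement, Q.coe_subtype, ha, hb]
    show ⁅r, r'⁆ = ⁅r * w, r' * w'⁆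
    have a1 : ⁅w, r'⁆ = 1 := commutatorElement_eq_one_iff_mul_comm.2 (hcw w hw r' (hRQ hr')).symm
    have a2 : ⁅r, w'⁆ = 1 := commutatorElement_eq_one_iff_mul_comm.2 (hcw w' hw' r (hRQ hr))
    have a3 : ⁅w, w'⁆ = 1 :=
      commutatorElement_eq_one_iff_mul_comm.2 (hcw w' hw' w (hQ ▸ mem_sup_right hw))
    rw [commutatorElement_mul_left_eq_conj_mul, commutatorElement_mul_right_eq_mul_conj,
      commutatorElement_mul_right_eq_mul_conj]
    simp [a1, a2, a3]
  · rw [← map_pow]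
    refine (QuotientGroup.eq_one_iff _).2 (mem_subgroupOf.2 ?_)
    obtain ⟨r, hr, w, hw, ha⟩ := hdec a a.2
    refine ⟨(⟨r, hr⟩ : R) ^ p, Cfsg.Agent.Solvable.Basics.pow_mem_frattini hR _, ?_⟩
    show r ^ p = ((a ^ p : Q) : G)
    rw [SubmonoidClass.coe_pow, ha, (Commute.mul_pow (show Commute r w from hcw w hw r (hRQ hr)) p),
      hWp w hw, mul_one]

theorem mem_omegaOneCenter {X : Subgroup G} {x : G} :
    x ∈ Cfsg.omegaOneCenter p X ↔ x ∈ X ∧ x ∈ centralizer (X : Set G) ∧ x ^ p = 1 := by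
  refine ⟨fun h => ?_, fun h => subset_closure ⟨⟨h.1, h.2.1⟩, h.2.2⟩⟩
  induction h using closure_induction with
  | mem y hy => exact ⟨hy.1.1, hy.1.2, hy.2⟩
  | one => exact ⟨one_mem _, one_mem _, one_pow p⟩
  | mul a b _ _ ha hb =>
    refine ⟨mul_mem ha.1 hb.1, mul_mem ha.2.1 hb.2.1, ?_⟩
    rw [(show Commute a b from mem_centralizer_iff.mp hb.2.1 a ha.1).mul_pow, ha.2.2, hb.2.2, one_mul]
  | inv a _ ha => exact ⟨inv_mem ha.1, inv_mem ha.2.1, by rw [inv_pow, ha.2.2, inv_one]⟩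

theorem map_omegaOneCenter [Finite H] {f : G →* H} (hf : Function.Injective f) (X : Subgroup G) :
    (Cfsg.omegaOneCenter p X).map f = Cfsg.omegaOneCenter p (X.map f) := by
  ext y
  rw [mem_omegaOneCenter]
  constructor
  · rintro ⟨x, hx, rfl⟩
    obtain ⟨hxX, hxC, hxp⟩ := mem_omegaOneCenter.1 hx
    refine ⟨mem_map_of_mem f hxX, ?_, by rw [← map_pow, hxp, map_one]⟩
    rintro _ ⟨a, ha, rfl⟩
    rw [← map_mul, ← map_mul, mem_centralizer_iff.1 hxC a ha]
  · rintro ⟨⟨x, hx, rfl⟩, hC, hxp⟩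
    refine ⟨x, mem_omegaOneCenter.2 ⟨hx, fun a ha => hf ?_, hf (by rw [map_pow, hxp, map_one])⟩, rfl⟩
    rw [map_mul, map_mul]
    exact hC (f a) (mem_map_of_mem f ha)

variable (p G) in
theorem exists_maxOmega : ∃ Q : Subgroup G, Cfsg.IsMinimalCentrallyLarge Q ∧
    Nat.card ↥(Cfsg.omegaOneCenter p Q) = Cfsg.maxOmegaCenterOfMinimalCL p G := by
  refine Nat.sSup_mem (s := {k : ℕ | ∃ Q : Subgroup G, Cfsg.IsMinimalCentrallyLarge Q ∧
    Nat.card ↥(Cfsg.omegaOneCenter p Q) = k}) ?_ ⟨Nat.card G, ?_⟩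
  · obtain ⟨Q, hQ⟩ := exists_isCentrallyLarge (S := G)
    obtain ⟨R, -, hR⟩ := exists_isMinimalCentrallyLarge hQ
    exact ⟨_, R, hR, rfl⟩
  · rintro k ⟨Q, -, rfl⟩
    exact card_le_card_group _

theorem omega_le_max {Q : Subgroup G} (hQ : Cfsg.IsMinimalCentrallyLarge Q) :
    Nat.card ↥(Cfsg.omegaOneCenter p Q) ≤ Cfsg.maxOmegaCenterOfMinimalCL p G := by
  refine le_csSup ⟨Nat.card G, ?_⟩ ⟨Q, hQ, rfl⟩
  rintro k ⟨R, -, rfl⟩
  exact card_le_card_group _

end frattini

section exchange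

variable {S : Type*} [Group S] [Finite S] {p : ℕ} [hp : Fact p.Prime] {P V : Subgroup S}

/-- The exchange keeps the largest `Ω₁Z` and does not shrink the Frattini subgroup. -/
theorem exchange_member (hS : IsPGroup p S) (hVP : V ≤ P) (hPV : P ≤ centralizer (V : Set S))
    (hVp : ∀ v ∈ V, v ^ p = 1)
    (hoff : ∀ B : Subgroup S, Nat.card B * Nat.card ↥(V ⊓ centralizer (B : Set S)) ≤
      Nat.card ↥(B ⊓ P) * Nat.card V)
    {Q : Subgroup S} (hQ : Cfsg.IsMinimalCentrallyLarge Q)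
    (hQm : Nat.card ↥(Cfsg.omegaOneCenter p Q) = Cfsg.maxOmegaCenterOfMinimalCL p S) :
    ∃ X ≤ P, Cfsg.IsMinimalCentrallyLarge X ∧
      Nat.card ↥(Cfsg.omegaOneCenter p X) = Cfsg.maxOmegaCenterOfMinimalCL p S ∧
      (frattini ↥Q).map Q.subtype ≤ (frattini ↥X).map X.subtype := by
  obtain ⟨hXl, hXP, hCX, hce, -, -⟩ := PushingUpCL.exchange hVP hPV hoff hQ.1
  obtain ⟨hXm, hQeq, hVeq⟩ := PushingUpCL.exchange_minimal hS hVP hPV hoff
    (fun Q R hQ hR => ⟨(S3007.result S hS Q R hQ hR).1, (S3007.result S hS Q R hQ hR).2.2.1⟩) hQ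
  obtain ⟨-, hZQ⟩ := isCentrallyLarge_iff.1 hQ.1
  obtain ⟨-, hZX⟩ := isCentrallyLarge_iff.1 hXl
  rw [hCX] at hZX
  set Z := centralizer (Q : Set S) with hZ
  set X := (Q ⊓ P) ⊔ V with hXdef
  set W := Cfsg.omegaOneCenter p Q with hW
  have hWmem : ∀ x, x ∈ W ↔ x ∈ Z ∧ x ^ p = 1 := fun x => by
    rw [hW, mem_omegaOneCenter]
    exact ⟨fun h => h.2, fun h => ⟨hZQ h.1, h⟩⟩
  have hWZ : W ≤ Z := fun x hx => ((hWmem x).1 hx).1
  have hA : (W ⊓ P) ⊔ V ≤ Cfsg.omegaOneCenter p X := by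
    refine sup_le ?_ ?_
    · intro x hx
      have h1 : x ∈ (Z ⊓ P) ⊔ V := mem_sup_left ⟨hWZ hx.1, hx.2⟩
      exact mem_omegaOneCenter.2 ⟨hZX h1, hCX ▸ h1, ((hWmem x).1 hx.1).2⟩
    · intro x hx
      have h1 : x ∈ (Z ⊓ P) ⊔ V := mem_sup_right hx
      exact mem_omegaOneCenter.2 ⟨hZX h1, hCX ▸ h1, hVp x hx⟩
  have i1 : W ⊓ P ⊓ V = V ⊓ Z := le_antisymm (fun x hx => ⟨hx.2, hWZ hx.1.1⟩)
    fun x hx => ⟨⟨(hWmem x).2 ⟨hx.2, hVp x hx.1⟩, hVP hx.1⟩, hx.1⟩
  have i2 : W ⊓ (Z ⊓ P) = W ⊓ P := le_antisymm (inf_le_inf_left _ inf_le_right)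
    fun x hx => ⟨hx.1, hWZ hx.1, hx.2⟩
  have e1 := card_mul_le_card_sup_mul_card_inf (W ⊓ P) V
  have e2 := card_mul_le_card_sup_mul_card_inf W (Z ⊓ P)
  rw [i1] at e1
  rw [i2] at e2
  have hu : W ⊔ (Z ⊓ P) ≤ Z := sup_le hWZ inf_le_left
  have h3 := card_le_of_le hA
  have h4 := card_le_of_le hu
  have h5 : Nat.card ↥(Cfsg.omegaOneCenter p X) ≤ Nat.card W := hQm ▸ omega_le_max hXm
  rw [← hVeq] at hce
  set w := Nat.card W
  set zp := Nat.card ↥(Z ⊓ P)
  set z := Nat.card Z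
  set j := Nat.card ↥(V ⊓ Z)
  set v := Nat.card V
  set a := Nat.card ↥(W ⊓ P)
  set u := Nat.card ↥(W ⊔ (Z ⊓ P) : Subgroup S)
  set t := Nat.card ↥((W ⊓ P) ⊔ V : Subgroup S)
  set o := Nat.card ↥(Cfsg.omegaOneCenter p X)
  have pzj : 0 < zp * j := Nat.mul_pos Nat.card_pos Nat.card_pos
  have paj : 0 < a * j := Nat.mul_pos Nat.card_pos Nat.card_pos
  have c1 : w * (zp * j) ≤ u * (a * j) := by
    calc w * (zp * j) = (w * zp) * j := by ring
      _ ≤ u * a * j := Nat.mul_le_mul_right _ e2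
      _ = _ := by ring
  have c2 : z * (a * j) ≤ o * (zp * j) := by
    calc z * (a * j) = (z * j) * a := by ring
      _ = zp * (a * v) := by rw [hce]; ring
      _ ≤ zp * (o * j) := Nat.mul_le_mul_left _ (e1.trans (Nat.mul_le_mul_right _ h3))
      _ = _ := by ring
  have c3 : u * (a * j) ≤ z * (a * j) := Nat.mul_le_mul_right _ h4
  have c4 : o * (zp * j) ≤ w * (zp * j) := Nat.mul_le_mul_right _ h5
  have ho : o = w := Nat.eq_of_mul_eq_mul_right pzj (le_antisymm c4 (c1.trans (c3.trans c2)))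
  have huz : W ⊔ (Z ⊓ P) = Z :=
    eq_of_le_of_card_ge hu (Nat.le_of_mul_le_mul_right (c2.trans (c4.trans c1)) paj)
  have hQd : Q = (Q ⊓ P) ⊔ W := by
    conv_lhs => rw [← hQeq, ← huz]
    refine le_antisymm (sup_le le_sup_left (sup_le le_sup_right ?_)) (sup_le_sup_left le_sup_left _)
    exact (inf_le_inf_right _ hZQ).trans le_sup_left
  refine ⟨X, hXP, hXm, ho.trans hQm, ?_⟩
  exact (frattini_sup_central (hS.to_subgroup _) hQd hWZ fun x hx => ((hWmem x).1 hx).2).trans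
    (frattini_mono (hS.to_subgroup X) le_sup_left)

end exchange

section setting

variable {G : Type*} [Group G] [Finite G] {p : ℕ} [hp : Fact p.Prime] {S : Subgroup G}

theorem isPGroup (hE : Cfsg.IsPushingUpSituation p S) : IsPGroup p S := by
  obtain ⟨-, ⟨P, rfl⟩, -⟩ := hE
  exact P.isPGroup'

theorem subgroupOf_le_centralizer :
    (PushingUpCL.omegaCore p G).subgroupOf S ≤ (Cfsg.pCore p G).subgroupOf S ∧
      (Cfsg.pCore p G).subgroupOf S ≤
        centralizer (((PushingUpCL.omegaCore p G).subgroupOf S : Subgroup S) : Set S) ∧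
      ∀ v ∈ (PushingUpCL.omegaCore p G).subgroupOf S, v ^ p = 1 :=
  ⟨fun _ hx => hx.1, fun x hx v hv => Subtype.ext (mem_centralizer_iff.1 hv.2.1 x hx).symm,
    fun v hv => Subtype.ext hv.2.2⟩

/-- The over-offender inequality read inside `S`. -/
theorem hoff_subgroupOf (hE : Cfsg.IsPushingUpSituation p S)
    (h : ∀ B : Subgroup G, B ≤ S → Nat.card B * Nat.card ↥(PushingUpCL.omegaCore p G ⊓ centralizer (B : Set G)) ≤
      Nat.card ↥(B ⊓ Cfsg.pCore p G) * Nat.card ↥(PushingUpCL.omegaCore p G))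
    (B : Subgroup S) :
    Nat.card B * Nat.card ↥((PushingUpCL.omegaCore p G).subgroupOf S ⊓ centralizer (B : Set S)) ≤
      Nat.card ↥(B ⊓ (Cfsg.pCore p G).subgroupOf S) * Nat.card ↥((PushingUpCL.omegaCore p G).subgroupOf S) := by
  obtain ⟨-, hPS⟩ := PushingUpCL.center_le_pCore hE
  have h := h (B.map S.subtype) (map_subtype_le B)
  have hc : ∀ H : Subgroup S, Nat.card ↥(H.map S.subtype) = Nat.card H := fun H =>
    (Nat.card_congr (H.equivMapOfInjective _ S.subtype_injective).toEquiv).symm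
  have e1 : PushingUpCL.omegaCore p G ⊓ centralizer ((B.map S.subtype : Subgroup G) : Set G) =
      ((PushingUpCL.omegaCore p G).subgroupOf S ⊓ centralizer (B : Set S)).map S.subtype := by
    refine le_antisymm ?_ ?_
    · rintro x ⟨hx, hxc⟩
      exact ⟨⟨x, hPS hx.1⟩, ⟨hx, fun b hb => Subtype.ext (hxc b ⟨b, hb, rfl⟩)⟩, rfl⟩
    · rintro _ ⟨x, hx, rfl⟩
      refine ⟨hx.1, ?_⟩
      rintro _ ⟨b, hb, rfl⟩
      exact congrArg Subtype.val (mem_centralizer_iff.1 hx.2 b hb)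
  have e2 : B.map S.subtype ⊓ Cfsg.pCore p G = (B ⊓ (Cfsg.pCore p G).subgroupOf S).map S.subtype := by
    rw [map_inf _ _ _ S.subtype_injective, map_subgroupOf_eq_of_le hPS]
  have e3 : Nat.card ↥((PushingUpCL.omegaCore p G).subgroupOf S) = Nat.card ↥(PushingUpCL.omegaCore p G) := by
    rw [← hc, map_subgroupOf_eq_of_le (show PushingUpCL.omegaCore p G ≤ S from fun x hx => hPS hx.1)]
  rw [e1, e2, hc, hc, hc, ← e3] at h
  exact h

/-- A conjugate of a minimal centrally large subgroup inside `O_p(G)` is again one, with equal invariants. -/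
theorem exists_conj (hE : Cfsg.IsPushingUpSituation p S) {X : Subgroup S}
    (hX : Cfsg.IsMinimalCentrallyLarge X) (hXP : X ≤ (Cfsg.pCore p G).subgroupOf S) (g : G) :
    ∃ X' : Subgroup S, Cfsg.IsMinimalCentrallyLarge X' ∧
      X'.map S.subtype = X.map ((MulAut.conj g).toMonoidHom.comp S.subtype) ∧
      Nat.card ↥(Cfsg.omegaOneCenter p X') = Nat.card ↥(Cfsg.omegaOneCenter p X) := by
  obtain ⟨-, hPS⟩ := PushingUpCL.center_le_pCore hE
  set f := (MulAut.conj g).toMonoidHom.comp S.subtype with hf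
  have hfi : Function.Injective f := (MulAut.conj g).injective.comp S.subtype_injective
  have hle : X.map f ≤ S := by
    rintro _ ⟨x, hx, rfl⟩
    exact hPS (Subgroup.Normal.conj_mem inferInstance (x : G) (hXP hx) g)
  refine ⟨(X.map f).subgroupOf S, ?_, map_subgroupOf_eq_of_le hle, ?_⟩
  · exact PushingUpCL.minimal_of_equiv
      (fun Q R hQ hR => (S3007.result ↥S (isPGroup hE) Q R hQ hR).2.2.1) hX
      ((X.equivMapOfInjective f hfi).trans (subgroupOfEquivOfLe hle).symm)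
  · have h1 : (Cfsg.omegaOneCenter p ((X.map f).subgroupOf S)).map S.subtype =
        (Cfsg.omegaOneCenter p X).map f := by
      rw [map_omegaOneCenter S.subtype_injective, map_subgroupOf_eq_of_le hle, map_omegaOneCenter hfi]
    rw [Nat.card_congr (equivMapOfInjective (Cfsg.omegaOneCenter p ((X.map f).subgroupOf S)) _
      S.subtype_injective).toEquiv, h1, ← Nat.card_congr
      ((Cfsg.omegaOneCenter p X).equivMapOfInjective f hfi).toEquiv]

theorem normal_of_central {D : Subgroup G}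
    (h : ∀ z ∈ D, ∀ g : G, g * z = z * g) : D.Normal :=
  ⟨fun z hz g => by rw [h z hz g, mul_inv_cancel_right]; exact hz⟩

/-- A join in `S` normalised as soon as every conjugate of every member lands in it. -/
theorem normal_of_forall_conj {D : Subgroup G} {ι : Sort*} {A : ι → Subgroup G} (hD : D = ⨆ i, A i)
    (h : ∀ i, ∀ g : G, (A i).map (MulAut.conj g).toMonoidHom ≤ D) : D.Normal := by
  refine ⟨fun x hx g => ?_⟩
  have hle : D.map (MulAut.conj g).toMonoidHom ≤ D := by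
    conv_lhs => rw [hD, Subgroup.map_iSup]
    exact iSup_le fun i => h i g
  exact hle ⟨x, hx, rfl⟩

end setting

end Cfsg.Agent.CharP.PushingUpMCL
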