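import Cfsg.Agent.Lib.CharP.ChermakDelgado
import Mathlib.GroupTheory.Nilpotent

/-!
A replacement theorem for centrally large subgroups, and the existence of a minimal centrally large
subgroup which is normalized by every abelian subgroup of maximal order and by every minimal centrally
large subgroup.
-/

set_option autoImplicit false

namespace Cfsg.Agent.CharP.CentrallyLargeReplacement

open Subgroup
open scoped Pointwise commutatorElement

variable {S : Type*} [Group S]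

theorem mem_mul_comm {A B : Subgroup S} (h : ((A ⊔ B : Subgroup S) : Set S) = (A : Set S) * (B : Set S))
    {z : S} (hz : z ∈ A ⊔ B) : ∃ b ∈ B, ∃ a ∈ A, z = b * a := by
  have hz' : z⁻¹ ∈ ((A ⊔ B : Subgroup S) : Set S) := inv_mem hz
  rw [h] at hz'
  obtain ⟨a, ha, b, hb, he⟩ := hz'
  exact ⟨b⁻¹, inv_mem hb, a⁻¹, inv_mem ha, by rw [← _root_.mul_inv_rev]; simp only at he; rw [he, inv_inv]⟩

/-- Itô: if `AB` is a group with `A`, `B` abelian then `⁅A, B⁆` is abelian. -/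
theorem commutator_abelian {A B : Subgroup S} (hA : IsMulCommutative ↥A) (hB : IsMulCommutative ↥B)
    (h : ((A ⊔ B : Subgroup S) : Set S) = (A : Set S) * (B : Set S)) :
    ⁅A, B⁆ ≤ centralizer ((⁅A, B⁆ : Subgroup S) : Set S) := by
  have hA' : ∀ x ∈ A, ∀ y ∈ A, x * y = y * x := fun x hx y hy =>
    congrArg Subtype.val (mul_comm' (⟨x, hx⟩ : ↥A) ⟨y, hy⟩)
  have hB' : ∀ x ∈ B, ∀ y ∈ B, x * y = y * x := fun x hx y hy =>
    congrArg Subtype.val (mul_comm' (⟨x, hx⟩ : ↥B) ⟨y, hy⟩)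
  have key : ∀ a ∈ A, ∀ b ∈ B, ∀ x ∈ A, ∀ y ∈ B, ⁅x⁻¹, y⁻¹⁆ * ⁅a, b⁆ = ⁅a, b⁆ * ⁅x⁻¹, y⁻¹⁆ := by
    intro a ha b hb x hx y hy
    obtain ⟨b₁, hb₁, α, hα, e₁⟩ := mem_mul_comm h
      (mul_mem (mul_mem (mem_sup_left hx : x ∈ A ⊔ B) (mem_sup_right hb)) (inv_mem (mem_sup_left hx)))
    have hy2 : y * a * y⁻¹ ∈ ((A ⊔ B : Subgroup S) : Set S) :=
      mul_mem (mul_mem (mem_sup_right hy) (mem_sup_left ha)) (inv_mem (mem_sup_right hy))
    rw [h] at hy2
    obtain ⟨a₂, ha₂, β, hβ, e₂⟩ := hy2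
    simp only at e₂
    have cx : ∀ a' ∈ A, x * ⁅a', b⁆ * x⁻¹ = ⁅a', b₁⁆ := by
      intro a' ha'
      calc x * ⁅a', b⁆ * x⁻¹ = ⁅x * a' * x⁻¹, x * b * x⁻¹⁆ := by simp only [commutatorElement_def]; group
        _ = ⁅a', b₁ * α⁆ := by rw [e₁, hA' x hx a' ha', mul_inv_cancel_right]
        _ = a' * b₁ * (α * a'⁻¹) * α⁻¹ * b₁⁻¹ := by rw [commutatorElement_def]; group
        _ = _ := by rw [hA' α hα a'⁻¹ (inv_mem ha'), commutatorElement_def]; group
    have cy : ∀ b' ∈ B, y * ⁅a, b'⁆ * y⁻¹ = ⁅a₂, b'⁆ := by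
      intro b' hb'
      calc y * ⁅a, b'⁆ * y⁻¹ = ⁅y * a * y⁻¹, y * b' * y⁻¹⁆ := by simp only [commutatorElement_def]; group
        _ = ⁅a₂ * β, b'⁆ := by rw [← e₂, hB' y hy b' hb', mul_inv_cancel_right]
        _ = a₂ * (β * b') * β⁻¹ * a₂⁻¹ * b'⁻¹ := by rw [commutatorElement_def]; group
        _ = _ := by rw [hB' β hβ b' hb', commutatorElement_def]; group
    have hxy : x * (y * ⁅a, b⁆ * y⁻¹) * x⁻¹ = y * (x * ⁅a, b⁆ * x⁻¹) * y⁻¹ := by
      rw [cy b hb, cx a₂ ha₂, cx a ha, cy b₁ hb₁]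
    have hc : ⁅x⁻¹, y⁻¹⁆ * ⁅a, b⁆ * ⁅x⁻¹, y⁻¹⁆⁻¹ = ⁅a, b⁆ := by
      calc ⁅x⁻¹, y⁻¹⁆ * ⁅a, b⁆ * ⁅x⁻¹, y⁻¹⁆⁻¹
          = (y * x)⁻¹⁻¹⁻¹ * (x * (y * ⁅a, b⁆ * y⁻¹) * x⁻¹) * (y * x) := by
            simp only [commutatorElement_def]; group
        _ = _ := by rw [hxy]; group
    exact mul_inv_eq_iff_eq_mul.mp hc
  have key' : ∀ a ∈ A, ∀ b ∈ B, ∀ x ∈ A, ∀ y ∈ B, ⁅x, y⁆ * ⁅a, b⁆ = ⁅a, b⁆ * ⁅x, y⁆ :=
    fun a ha b hb x hx y hy => by
      have := key a ha b hb x⁻¹ (inv_mem hx) y⁻¹ (inv_mem hy)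
      simpa only [inv_inv] using this
  refine commutator_le.mpr fun a ha b hb => ?_
  have h1 : ⁅A, B⁆ ≤ centralizer ({⁅a, b⁆} : Set S) :=
    commutator_le.mpr fun x hx y hy => mem_centralizer_singleton_iff.mpr (key' a ha b hb x hx y hy)
  exact mem_centralizer_iff.mpr fun z hz => mem_centralizer_singleton_iff.mp (h1 hz)

/-- counting in a product set -/
theorem card_mul_card_inf_le [Finite S] {T H K : Subgroup S}
    (h : (T : Set S) ⊆ (H : Set S) * (K : Set S)) :
    Nat.card ↥T * Nat.card ↥(H ⊓ K) ≤ Nat.card ↥H * Nat.card ↥K := by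
  choose f hf hk hk' e using fun t : T =>
    (Set.mem_mul.mp (h t.2) : ∃ a ∈ (H : Set S), ∃ b ∈ (K : Set S), a * b = (t : S))
  rw [← Nat.card_prod, ← Nat.card_prod]
  refine Nat.card_le_card_of_injective (fun x : T × ↥(H ⊓ K) =>
    ((⟨f x.1 * x.2, mul_mem (hf x.1) x.2.2.1⟩ : ↥H),
      (⟨(x.2 : S)⁻¹ * hk x.1, mul_mem (inv_mem x.2.2.2) (hk' x.1)⟩ : ↥K))) ?_
  rintro ⟨t, i⟩ ⟨t', i'⟩ he
  simp only [Prod.mk.injEq, Subtype.mk.injEq] at he
  have ht : t = t' := by
    refine Subtype.ext ?_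
    rw [← e t, ← e t']
    calc f t * hk t = f t * i * ((i : S)⁻¹ * hk t) := by group
      _ = f t' * i' * ((i' : S)⁻¹ * hk t') := by rw [he.1, he.2]
      _ = f t' * hk t' := by group
  subst ht
  exact Prod.ext rfl (Subtype.ext (mul_left_cancel he.1))

variable [Finite S]

theorem isCentralizerLarge_conj {Q : Subgroup S} (hQ : Cfsg.IsCentralizerLarge Q) (g : S) :
    Cfsg.IsCentralizerLarge (Q.map (MulAut.conj g).toMonoidHom) := by
  refine isCentralizerLarge_of_le ?_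
  have hc : ∀ T : Subgroup S, Nat.card ↥(T.map (MulAut.conj g).toMonoidHom) = Nat.card ↥T := fun T =>
    (Nat.card_congr (equivMapOfInjective T _ (MulAut.conj g).injective).toEquiv).symm
  rw [← hQ, hc]
  refine Nat.mul_le_mul_left _ ?_
  rw [← hc (centralizer (Q : Set S))]
  refine card_le_of_le ?_
  rintro _ ⟨c, hc, rfl⟩
  refine mem_centralizer_iff.mpr ?_
  rintro _ ⟨q, hq, rfl⟩
  show MulAut.conj g q * MulAut.conj g c = MulAut.conj g c * MulAut.conj g q
  rw [← map_mul, ← map_mul, mem_centralizer_iff.mp hc q hq]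

/-- Replacement: `Q` centrally large, `A₀ = C(Q)` and `C` abelian with `A₀C` a subgroup. Then some centrally
large `Q'` has `C(Q')` containing `⁅A₀, C⁆` and every `C`-invariant subgroup of `A₀`. -/
theorem replacement {Q C : Subgroup S} (hQ : Cfsg.IsCentrallyLarge Q) (hC : IsMulCommutative ↥C)
    (hprod : ((centralizer (Q : Set S) ⊔ C : Subgroup S) : Set S) =
      ((centralizer (Q : Set S) : Subgroup S) : Set S) * (C : Set S)) :
    ∃ Q' : Subgroup S, Cfsg.IsCentrallyLarge Q' ∧ ⁅centralizer (Q : Set S), C⁆ ≤ centralizer (Q' : Set S) ∧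
      ∀ R : Subgroup S, R ≤ centralizer (Q : Set S) → (∀ c ∈ C, ∀ r ∈ R, c * r * c⁻¹ ∈ R) →
        R ≤ centralizer (Q' : Set S) := by
  classical
  obtain ⟨hQl, hCQ⟩ := isCentrallyLarge_iff.1 hQ
  set A₀ := centralizer (Q : Set S) with hA₀def
  have hA₀l : Cfsg.IsCentralizerLarge A₀ := IsCentralizerLarge.centralizer hQl
  have hQQ : centralizer (A₀ : Set S) = Q := IsCentralizerLarge.centralizer_centralizer hQl
  have hA₀ab : A₀ ≤ centralizer (A₀ : Set S) := hQQ.symm ▸ hCQ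
  have hA₀c : IsMulCommutative ↥A₀ := le_centralizer_iff_isMulCommutative.1 hA₀ab
  set M := ⁅A₀, C⁆ with hMdef
  have hMab : M ≤ centralizer (M : Set S) := commutator_abelian hA₀c hC hprod
  set U := A₀ ⊔ M with hUdef
  -- `U` is the join of the conjugates of `A₀` under `C`
  have hUl : Cfsg.IsCentralizerLarge U := by
    have key : ∀ t : Finset C, Cfsg.IsCentralizerLarge
        (A₀ ⊔ t.sup fun c : C => A₀.map (MulAut.conj (c : S)).toMonoidHom) := by
      intro t
      induction t using Finset.induction_on with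
      | empty => simpa using hA₀l
      | insert c t hct ih =>
        rw [Finset.sup_insert, sup_left_comm]
        exact (isCentralizerLarge_sup_inf (isCentralizerLarge_conj hA₀l (c : S)) ih).1
    haveI := Fintype.ofFinite C
    convert key Finset.univ using 1
    refine le_antisymm (sup_le le_sup_left ?_) (sup_le le_sup_left (Finset.sup_le fun c _ => ?_))
    · refine commutator_le.mpr fun a ha c hc => ?_
      rw [show ⁅a, c⁆ = a * (c * a⁻¹ * c⁻¹) by rw [commutatorElement_def]; group]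
      refine mul_mem (mem_sup_left ha) (mem_sup_right ?_)
      exact Finset.le_sup (f := fun c : C => A₀.map (MulAut.conj (c : S)).toMonoidHom)
        (Finset.mem_univ ⟨c, hc⟩) ⟨a⁻¹, inv_mem ha, rfl⟩
    · rintro _ ⟨a, ha, rfl⟩
      show (c : S) * a * (c : S)⁻¹ ∈ U
      rw [show (c : S) * a * (c : S)⁻¹ = ⁅a, (c : S)⁆⁻¹ * a by rw [commutatorElement_def]; group]
      exact mul_mem (mem_sup_right (inv_mem (commutator_mem_commutator ha c.2))) (mem_sup_left ha)
  have hA₀M : A₀ ≤ normalizer (M : Set S) := by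
    intro a ha
    refine mem_normalizer_fintype fun m hm => ?_
    refine (closure_le (K := M.comap (MulAut.conj a).toMonoidHom)).mpr ?_ hm
    rintro _ ⟨x, hx, c, hc, rfl⟩
    show a * ⁅x, c⁆ * a⁻¹ ∈ M
    rw [show a * ⁅x, c⁆ * a⁻¹ = ⁅a * x, c⁆ * ⁅a, c⁆⁻¹ by simp only [commutatorElement_def]; group]
    exact mul_mem (commutator_mem_commutator (mul_mem ha hx) hc) (inv_mem (commutator_mem_commutator ha hc))
  have hUset : (U : Set S) = (A₀ : Set S) * (M : Set S) := coe_mul_of_left_le_normalizer_right A₀ M hA₀M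
  set CU := centralizer (U : Set S) with hCUdef
  have hCUl : Cfsg.IsCentralizerLarge CU := IsCentralizerLarge.centralizer hUl
  set D₀ := A₀ ⊓ CU with hD₀def
  obtain ⟨hsl, hD₀l, hsc, hcinf, -⟩ := isCentralizerLarge_sup_inf hA₀l hCUl
  rw [hQQ, show centralizer (CU : Set S) = U from IsCentralizerLarge.centralizer_centralizer hUl] at hcinf
  have hMU : M ≤ U := le_sup_right
  have hD₀M : ∀ d ∈ D₀, ∀ m ∈ M, m * d = d * m := fun d hd m hm => mem_centralizer_iff.mp hd.2 m (hMU hm)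
  set A' := M ⊔ D₀ with hA'def
  have hA'ab : A' ≤ centralizer (A' : Set S) := by
    rw [hA'def, centralizer_sup_eq]
    refine sup_le (le_inf hMab ?_) (le_inf ?_ ?_)
    · exact fun m hm => mem_centralizer_iff.mpr fun d hd => (hD₀M d hd m hm).symm
    · exact fun d hd => mem_centralizer_iff.mpr fun m hm => hD₀M d hd m hm
    · exact (inf_le_left.trans hA₀ab).trans (centralizer_le (SetLike.coe_subset_coe.2 inf_le_left))
  have hX : M ⊔ CU ≤ centralizer (A' : Set S) := by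
    rw [hA'def, centralizer_sup_eq]
    refine sup_le (le_inf hMab ?_) (le_inf ?_ ?_)
    · exact fun m hm => mem_centralizer_iff.mpr fun d hd => (hD₀M d hd m hm).symm
    · exact centralizer_le (SetLike.coe_subset_coe.2 hMU)
    · exact centralizer_le (SetLike.coe_subset_coe.2 (inf_le_left.trans le_sup_left))
  -- the intersections
  have hi1 : A₀ ⊓ M = M ⊓ D₀ := by
    refine le_antisymm (fun x hx => ⟨hx.2, hx.1, ?_⟩) (fun x hx => ⟨hx.2.1, hx.1⟩)
    show x ∈ centralizer (U : Set S)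
    rw [hUdef, centralizer_sup_eq]
    exact ⟨hA₀ab hx.1, hMab hx.2⟩
  have hi2 : Q ⊓ M = M ⊓ CU := by
    refine le_antisymm (fun x hx => ⟨hx.2, (?_ : x ∈ CU)⟩) (fun x hx => ⟨(?_ : x ∈ Q), hx.1⟩)
    case refine_1 =>
      rw [← hQQ]
      exact centralizer_le (SetLike.coe_subset_coe.2 (le_sup_left : A₀ ≤ U)) hx.2
    case refine_2 =>
      show x ∈ centralizer (U : Set S)
      rw [hUdef, centralizer_sup_eq]
      exact ⟨hQQ.symm ▸ hx.1, hMab hx.2⟩
  -- `Q ⊔ U = Q M`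
  have hQU : ((Q ⊔ U : Subgroup S) : Set S) ⊆ (Q : Set S) * (M : Set S) := by
    rw [coe_sup_eq_mul_of_card (isCentralizerLarge_sup_inf hQl hUl).2.2.1, hUset]
    rintro _ ⟨q, hq, _, ⟨a, ha, m, hm, rfl⟩, rfl⟩
    exact ⟨q * a, mul_mem hq (hCQ ha), m, hm, by simp [mul_assoc]⟩
  have e1 := card_mul_card_inf_le hUset.le
  have e2 := card_mul_card_inf_le hQU
  have e3 := card_mul_le_card_sup_mul_card_inf M D₀
  have e4 := card_mul_le_card_sup_mul_card_inf M CU
  rw [hi1] at e1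
  rw [hi2] at e2
  have e5 : Nat.card ↥(M ⊔ CU) ≤ Nat.card ↥(centralizer (A' : Set S)) := card_le_of_le hX
  have hD₀eq : Nat.card ↥D₀ * Nat.card ↥(Q ⊔ U) = Cfsg.maxCentralizerProduct S := by
    rw [← hcinf]; exact hD₀l
  have hUeq : Nat.card ↥U * Nat.card ↥CU = Cfsg.maxCentralizerProduct S := hUl
  have hQeq : Nat.card ↥Q * Nat.card ↥A₀ = Cfsg.maxCentralizerProduct S := hQl
  set Mx := Cfsg.maxCentralizerProduct S
  set u := Nat.card ↥U
  set cu := Nat.card ↥CU
  set d := Nat.card ↥D₀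
  set w := Nat.card ↥(Q ⊔ U)
  set q := Nat.card ↥Q
  set a := Nat.card ↥A₀
  set m := Nat.card ↥M
  set i := Nat.card ↥(M ⊓ D₀)
  set j := Nat.card ↥(M ⊓ CU)
  have e6 : a * j ≤ d * m := by
    refine Nat.le_of_mul_le_mul_left (?_ : q * (a * j) ≤ q * (d * m)) Nat.card_pos
    calc q * (a * j) = d * w * j := by rw [hD₀eq, ← hQeq]; ring
      _ = d * (w * j) := by ring
      _ ≤ d * (q * m) := Nat.mul_le_mul_left _ e2
      _ = _ := by ring
  have hlarge : Cfsg.IsCentralizerLarge A' := by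
    refine isCentralizerLarge_of_le ?_
    refine Nat.le_of_mul_le_mul_right (?_ : Mx * (i * j) ≤
      Nat.card ↥A' * Nat.card ↥(centralizer (A' : Set S)) * (i * j)) (Nat.mul_pos Nat.card_pos Nat.card_pos)
    calc Mx * (i * j) = (u * i) * (cu * j) := by rw [← hUeq]; ring
      _ ≤ (a * m) * (cu * j) := Nat.mul_le_mul_right _ e1
      _ = (m * cu) * (a * j) := by ring
      _ ≤ (m * cu) * (d * m) := Nat.mul_le_mul_left _ e6
      _ = (m * d) * (m * cu) := by ring
      _ ≤ (Nat.card ↥A' * i) * (Nat.card ↥(M ⊔ CU) * j) := Nat.mul_le_mul e3 e4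
      _ ≤ (Nat.card ↥A' * i) * (Nat.card ↥(centralizer (A' : Set S)) * j) :=
        Nat.mul_le_mul_left _ (Nat.mul_le_mul_right _ e5)
      _ = _ := by ring
  have hA'' := IsCentralizerLarge.centralizer_centralizer hlarge
  refine ⟨centralizer (A' : Set S), isCentrallyLarge_iff.2 ⟨IsCentralizerLarge.centralizer hlarge, ?_⟩,
    ?_, fun R hR hRC => ?_⟩
  · rw [hA'']; exact hA'ab
  · rw [hA'']; exact le_sup_left
  · rw [hA'']
    refine le_trans (le_inf hR ?_) (le_sup_right : D₀ ≤ A')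
    rw [hCUdef, hUdef, centralizer_sup_eq]
    refine le_inf (hR.trans hA₀ab) ?_
    refine le_centralizer_iff.1 (commutator_le.mpr fun x hx c hc => mem_centralizer_iff.mpr fun r hr => ?_)
    have h1 : c⁻¹ * r * c ∈ A₀ := by
      have h := hR (hRC c⁻¹ (inv_mem hc) r hr)
      rwa [inv_inv] at h
    have h2 : r * x⁻¹ = x⁻¹ * r := mem_centralizer_iff.mp (hA₀ab (inv_mem hx)) r (hR hr)
    have h3 : r * (c * x⁻¹ * c⁻¹) = (c * x⁻¹ * c⁻¹) * r := by
      calc r * (c * x⁻¹ * c⁻¹) = c * ((c⁻¹ * r * c) * x⁻¹) * c⁻¹ := by group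
        _ = c * (x⁻¹ * (c⁻¹ * r * c)) * c⁻¹ := by
          rw [mem_centralizer_iff.mp (hA₀ab (inv_mem hx)) _ h1]
        _ = _ := by group
    have h4 : r * x = x * r := mem_centralizer_iff.mp (hA₀ab hx) r (hR hr)
    rw [show ⁅x, c⁆ = x * (c * x⁻¹ * c⁻¹) by rw [commutatorElement_def]; group, ← mul_assoc r, h4,
      mul_assoc x r, h3]
    group

/-- Candidates refined along a series: lexicographically maximal intersections. -/
def bestFamily (N : ℕ → Subgroup S) : ℕ → Set (Subgroup S)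
  | 0 => {Q | Cfsg.IsMinimalCentrallyLarge Q}
  | k + 1 => {Q | Q ∈ bestFamily N k ∧ ∀ R ∈ bestFamily N k,
      Nat.card ↥(centralizer (R : Set S) ⊓ N k) ≤ Nat.card ↥(centralizer (Q : Set S) ⊓ N k)}

theorem bestFamily_nonempty (N : ℕ → Subgroup S) : ∀ k, (bestFamily N k).Nonempty := by
  intro k
  induction k with
  | zero =>
    obtain ⟨Q, hQ⟩ := exists_isCentrallyLarge (S := S)
    obtain ⟨R, -, hR⟩ := exists_isMinimalCentrallyLarge hQ
    exact ⟨R, hR⟩
  | succ k ih =>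
    obtain ⟨Q, hQ, hmax⟩ := (bestFamily N k).toFinite.exists_maximalFor
      (fun R : Subgroup S => Nat.card ↥(centralizer (R : Set S) ⊓ N k)) _ ih
    refine ⟨Q, hQ, fun R hR => ?_⟩
    by_contra h
    exact h (hmax hR (le_of_not_ge h))

theorem bestFamily_anti (N : ℕ → Subgroup S) : ∀ {j k : ℕ}, j ≤ k → bestFamily N k ⊆ bestFamily N j := by
  intro j k h
  induction h with
  | refl => exact Set.Subset.refl _
  | step _ ih => exact fun Q hQ => ih hQ.1

/-- Some minimal centrally large `Q` has `C(Q)` normalized by every suitable abelian subgroup. -/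
theorem exists_minimal_normalized [Group.IsNilpotent S] : ∃ Q : Subgroup S, Cfsg.IsMinimalCentrallyLarge Q ∧
    ∀ C : Subgroup S, IsMulCommutative ↥C →
      (((centralizer (Q : Set S) ⊔ C : Subgroup S) : Set S) =
        ((centralizer (Q : Set S) : Subgroup S) : Set S) * (C : Set S)) →
      C ≤ normalizer ((centralizer (Q : Set S) : Subgroup S) : Set S) := by
  obtain ⟨n, hn⟩ := Group.IsNilpotent.nilpotent (G := S)
  set N : ℕ → Subgroup S := Subgroup.upperCentralSeries S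
  obtain ⟨Q, hQ⟩ := bestFamily_nonempty N (n + 1)
  have hQmin : Cfsg.IsMinimalCentrallyLarge Q := bestFamily_anti N (Nat.zero_le _) hQ
  refine ⟨Q, hQmin, fun C hC hprod => ?_⟩
  set A₀ := centralizer (Q : Set S)
  suffices hinv : ∀ k ≤ n, ∀ c ∈ C, ∀ r ∈ A₀ ⊓ N k, c * r * c⁻¹ ∈ A₀ ⊓ N k by
    intro c hc
    refine mem_normalizer_fintype fun r hr => ?_
    have h := hinv n le_rfl c hc r ⟨hr, (by show r ∈ N n; rw [hn]; trivial)⟩
    exact h.1
  intro k
  induction k with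
  | zero =>
    intro _ c _ r hr
    obtain ⟨-, hr0⟩ := hr
    have h1 : r = 1 := by simpa [N] using hr0
    subst h1
    simp
  | succ k ih =>
    intro hk c hc r hr
    have ihk := ih (Nat.le_of_succ_le hk)
    by_contra hbad
    obtain ⟨Q', hQ', hM, hR⟩ := replacement hQmin.1 hC hprod
    obtain ⟨R, hRQ', hRmin⟩ := exists_isMinimalCentrallyLarge hQ'
    have hle : centralizer (Q' : Set S) ≤ centralizer (R : Set S) :=
      centralizer_le (SetLike.coe_subset_coe.2 hRQ')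
    -- the new profile is at least as good below `k`
    have hge : ∀ j ≤ k, A₀ ⊓ N j ≤ centralizer (R : Set S) ⊓ N j := fun j hj x hx =>
      ⟨hle (hR (A₀ ⊓ N k) inf_le_left ihk ⟨hx.1, (Subgroup.upperCentralSeries_mono S hj) hx.2⟩), hx.2⟩
    -- strictly better at `k`
    have hmem : ⁅r, c⁆ ∈ centralizer (R : Set S) ⊓ N k := by
      refine ⟨hle (hM (commutator_mem_commutator hr.1 hc)), ?_⟩
      exact (Subgroup.mem_upperCentralSeries_succ_iff.mp hr.2) c
    have hnot : ⁅r, c⁆ ∉ A₀ ⊓ N k := by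
      intro h
      refine hbad ⟨?_, ?_⟩
      · rw [show c * r * c⁻¹ = ⁅r, c⁆⁻¹ * r by rw [commutatorElement_def]; group]
        exact A₀.mul_mem (A₀.inv_mem h.1) hr.1
      · exact Subgroup.Normal.conj_mem inferInstance r hr.2 c
    have hlt : Nat.card ↥(A₀ ⊓ N k) < Nat.card ↥(centralizer (R : Set S) ⊓ N k) := by
      refine lt_of_le_of_ne (card_le_of_le (hge k le_rfl)) fun h => hnot ?_
      rw [eq_of_le_of_card_ge (hge k le_rfl) h.ge]
      exact hmem
    have hRk : ∀ j ≤ k, R ∈ bestFamily N j := by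
      intro j
      induction j with
      | zero => exact fun _ => hRmin
      | succ j ihj =>
        intro hj
        refine ⟨ihj (Nat.le_of_succ_le hj), fun X hX => ?_⟩
        exact ((bestFamily_anti N (show j + 1 ≤ n + 1 by omega) hQ).2 X hX).trans
          (card_le_of_le (hge j (Nat.le_of_succ_le hj)))
    exact hlt.not_ge ((bestFamily_anti N (show k + 1 ≤ n + 1 by omega) hQ).2 R (hRk k le_rfl))

/-- A centrally large subgroup joined with the Thompson subgroup is centrally large. -/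
theorem isCentrallyLarge_sup_thompson {Q : Subgroup S} (hQ : Cfsg.IsCentrallyLarge Q) :
    Cfsg.IsCentrallyLarge (Q ⊔ Cfsg.thompsonSubgroupA S) := by
  obtain ⟨A₀, hA₀, hmax⟩ := (Set.toFinite {A : Subgroup S | IsMulCommutative ↥A}).exists_maximalFor
    (fun A : Subgroup S => Nat.card ↥A) _ ⟨⊥, (inferInstance : IsMulCommutative ↥(⊥ : Subgroup S))⟩
  have hA₀' : A₀ ∈ Cfsg.maxAbelianSubgroups S := ⟨hA₀, fun B hB => by
    by_contra h
    exact h (hmax hB (le_of_not_ge h))⟩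
  have e : Q ⊔ Cfsg.thompsonSubgroupA S = sSup ((fun A => Q ⊔ A) '' Cfsg.maxAbelianSubgroups S) := by
    refine le_antisymm (sup_le ?_ (sSup_le fun A hA => ?_)) (sSup_le ?_)
    · exact le_sup_left.trans (le_sSup ⟨A₀, hA₀', rfl⟩)
    · exact le_sup_right.trans (le_sSup ⟨A, hA, rfl⟩)
    · rintro _ ⟨A, hA, rfl⟩
      exact sup_le_sup_left (le_sSup hA) _
  rw [e]
  refine isCentrallyLarge_sSup ⟨_, A₀, hA₀', rfl⟩ ?_
  rintro _ ⟨A, hA, rfl⟩
  exact (isCentrallyLarge_sup_maxAbelian hQ hA).2.1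

theorem centralizer_thompson_le :
    centralizer (Cfsg.thompsonSubgroupA S : Set S) ≤ Cfsg.thompsonSubgroupA S := by
  obtain ⟨A₀, hA₀, hmax⟩ := (Set.toFinite {A : Subgroup S | IsMulCommutative ↥A}).exists_maximalFor
    (fun A : Subgroup S => Nat.card ↥A) _ ⟨⊥, (inferInstance : IsMulCommutative ↥(⊥ : Subgroup S))⟩
  have hA₀' : A₀ ∈ Cfsg.maxAbelianSubgroups S := ⟨hA₀, fun B hB => by
    by_contra h
    exact h (hmax hB (le_of_not_ge h))⟩
  refine le_trans ?_ (le_sSup hA₀' : A₀ ≤ Cfsg.thompsonSubgroupA S)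
  conv_rhs => rw [← centralizer_eq_of_maxAbelian hA₀']
  exact centralizer_le (SetLike.coe_subset_coe.2 (le_sSup hA₀'))

theorem centralizer_centerThompson_le {Q : Subgroup S} (hQ : Cfsg.IsCentrallyLarge Q) :
    centralizer ((Cfsg.thompsonSubgroupA S ⊓ centralizer (Cfsg.thompsonSubgroupA S : Set S) : Subgroup S) : Set S)
      ≤ Q ⊔ Cfsg.thompsonSubgroupA S := by
  have hW := isCentrallyLarge_iff.1 (isCentrallyLarge_sup_thompson hQ)
  conv_rhs => rw [← IsCentralizerLarge.centralizer_centralizer hW.1]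
  refine centralizer_le (SetLike.coe_subset_coe.2 ?_)
  have h : centralizer ((Q ⊔ Cfsg.thompsonSubgroupA S : Subgroup S) : Set S) ≤
      centralizer (Cfsg.thompsonSubgroupA S : Set S) :=
    centralizer_le (SetLike.coe_subset_coe.2 le_sup_right)
  exact le_inf (h.trans centralizer_thompson_le) h

end Cfsg.Agent.CharP.CentrallyLargeReplacement
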