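import Cfsg.Agent.Lib.CharP.PushingUpCL
import Cfsg.Agent.Lib.PLocal.MaxAbelian
import Cfsg.Agent.Lib.PLocal.Omega

/-!
Abelian subgroups of largest order in the pushing-up situation: the decomposition of `Z(J(S))` into a part
central in `S` and a part centralised by the normal closure of such a subgroup outside `O_p(G)`.
-/

set_option autoImplicit false
set_option linter.unusedSectionVars false

namespace Cfsg.Agent.CharP.PushingUpZJ

open Subgroup
open Cfsg.Agent.PLocal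
open scoped Pointwise commutatorElement

variable {G : Type*} [Group G] [Finite G] {p : ℕ} [hp : Fact p.Prime] {S : Subgroup G}

theorem conj_family {U A : Subgroup G} (hA : A ∈ MaxAbelian.family 0 U) (g : G)
    (h : A.map (MulAut.conj g).toMonoidHom ≤ U) :
    A.map (MulAut.conj g).toMonoidHom ∈ MaxAbelian.family 0 U := by
  refine ⟨h, hA.2.1.map _, fun B hB hg => ?_⟩
  rw [← Nat.card_congr (A.equivMapOfInjective _ (MulAut.conj g).injective).toEquiv]
  exact hA.2.2 B hB hg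

theorem le_thompson {U A : Subgroup G} (hA : A ∈ MaxAbelian.family 0 U) :
    A ≤ Cfsg.thompsonSubgroupAOf U := by
  have h : A.subgroupOf U ∈ Cfsg.maxAbelianSubgroups U := by
    refine ⟨MaxAbelian.good_zero_iff.1 (hA.2.1.comap U.subtype_injective), fun B hB => ?_⟩
    rw [Nat.card_congr (subgroupOfEquivOfLe hA.1).toEquiv,
      Nat.card_congr (B.equivMapOfInjective _ U.subtype_injective).toEquiv]
    exact hA.2.2 _ (map_subtype_le B) ((MaxAbelian.good_zero_iff.2 hB).map _)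
  rw [← map_subgroupOf_eq_of_le hA.1]
  exact map_mono (le_sSup h)

theorem thompson_eq (U : Subgroup G) :
    Cfsg.thompsonSubgroupAOf U = sSup (MaxAbelian.family 0 U) := by
  refine le_antisymm ?_ (sSup_le fun A hA => le_thompson hA)
  rw [Cfsg.thompsonSubgroupAOf, Cfsg.thompsonSubgroupA, sSup_eq_iSup', Subgroup.map_iSup]
  refine iSup_le fun A => le_sSup ?_
  refine ⟨map_subtype_le _, (MaxAbelian.good_zero_iff.2 A.2.1).map _, fun B hB hg => ?_⟩
  rw [← Nat.card_congr ((A : Subgroup U).equivMapOfInjective _ U.subtype_injective).toEquiv,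
    ← Nat.card_congr (subgroupOfEquivOfLe hB).toEquiv]
  exact A.2.2 _ (MaxAbelian.good_zero_iff.1 (hg.comap U.subtype_injective))

/-- An element of `U` centralising a member lies in it. -/
theorem mem_of_centralizes {U A : Subgroup G} (hA : A ∈ MaxAbelian.family 0 U) {x : G} (hx : x ∈ U)
    (hc : x ∈ centralizer (A : Set G)) : x ∈ A := by
  have hg : MaxAbelian.Good 0 (A ⊔ zpowers x) := by
    refine ⟨fun a ha b hb => ?_, fun a _ => pow_zero a⟩
    have hAC : A ⊔ zpowers x ≤ centralizer (((A ⊔ zpowers x : Subgroup G)) : Set G) := by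
      rw [sup_eq_closure, centralizer_closure, ← sup_eq_closure, sup_le_iff]
      refine ⟨fun c hc' d hd => ?_, zpowers_le.2 fun d hd => ?_⟩
      · rcases hd with hd | ⟨k, rfl⟩
        · exact hA.2.1.1 d hd c hc'
        · exact ((Commute.zpow_right (show Commute c x from mem_centralizer_iff.1 hc c hc') k).eq).symm
      · rcases hd with hd | ⟨k, rfl⟩
        · exact mem_centralizer_iff.1 hc d hd
        · exact (Commute.zpow_left (Commute.refl x) k).eq
    exact mem_centralizer_iff.1 (hAC hb) a ha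
  have h := hA.2.2 _ (sup_le hA.1 (zpowers_le.2 hx)) hg
  rw [eq_of_le_of_card_ge le_sup_left h]
  exact mem_sup_right (mem_zpowers x)

theorem center_le {U A : Subgroup G} (hA : A ∈ MaxAbelian.family 0 U) :
    U ⊓ centralizer (U : Set G) ≤ A :=
  fun _ hx => mem_of_centralizes hA hx.1 (centralizer_le (SetLike.coe_subset_coe.2 hA.1) hx.2)

theorem centerThompson_le {U A : Subgroup G} (hA : A ∈ MaxAbelian.family 0 U) :
    Cfsg.centerThompsonAOf U ≤ A :=
  fun _ hx => mem_of_centralizes hA ((map_subtype_le _ : Cfsg.thompsonSubgroupAOf U ≤ U) hx.1)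
    (centralizer_le (SetLike.coe_subset_coe.2 (le_thompson hA)) hx.2)

theorem normalizer_le_thompson (U : Subgroup G) :
    normalizer (U : Set G) ≤ normalizer (Cfsg.thompsonSubgroupAOf U : Set G) := by
  intro g hg
  refine mem_normalizer_fintype fun x hx => ?_
  have hle : (Cfsg.thompsonSubgroupAOf U).map (MulAut.conj g).toMonoidHom ≤ Cfsg.thompsonSubgroupAOf U := by
    conv_lhs => rw [thompson_eq, sSup_eq_iSup', Subgroup.map_iSup]
    refine iSup_le fun A => le_thompson (conj_family A.2 g ?_)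
    rintro _ ⟨a, ha, rfl⟩
    exact (mem_normalizer_iff.mp hg a).mp (A.2.1 ha)
  exact hle ⟨x, hx, rfl⟩

theorem conj_mem_jt {g x : G} (hg : g ∈ normalizer (S : Set G))
    (hx : x ∈ S ⊓ centralizer (Cfsg.centerThompsonAOf S : Set G)) :
    g * x * g⁻¹ ∈ S ⊓ centralizer (Cfsg.centerThompsonAOf S : Set G) := by
  refine ⟨(mem_normalizer_iff.mp hg x).mp hx.1, fun w hw => ?_⟩
  have hJ := normalizer_le_thompson S hg
  have hw' : g⁻¹ * w * g ∈ Cfsg.centerThompsonAOf S := by
    refine ⟨(mem_normalizer_iff.mp hJ _).mpr (by simpa [mul_assoc] using hw.1), fun j hj => ?_⟩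
    have h := mem_centralizer_iff.1 hw.2 (g * j * g⁻¹) ((mem_normalizer_iff.mp hJ j).mp hj)
    calc j * (g⁻¹ * w * g) = g⁻¹ * (g * j * g⁻¹ * w) * g := by group
      _ = g⁻¹ * (w * (g * j * g⁻¹)) * g := by rw [h]
      _ = g⁻¹ * w * g * j := by group
  have h := mem_centralizer_iff.1 hx.2 _ hw'
  calc w * (g * x * g⁻¹) = g * (g⁻¹ * w * g * x) * g⁻¹ := by group
    _ = g * (x * (g⁻¹ * w * g)) * g⁻¹ := by rw [h]
    _ = g * x * g⁻¹ * w := by group

theorem normal_of_central {D : Subgroup G} (h : ∀ z ∈ D, ∀ g : G, g * z = z * g) : D.Normal :=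
  ⟨fun z hz g => by rw [h z hz g, mul_inv_cancel_right]; exact hz⟩

/-- What centralises a normal subgroup meeting `S` outside `O_p(G)`, and `S`, is central. -/
theorem central_of_centralizes (hE : Cfsg.IsPushingUpSituation p S) {N : Subgroup G} [N.Normal]
    {a : G} (haS : a ∈ S) (haN : a ∈ N) (haP : a ∉ Cfsg.pCore p G) {x : G} (hxS : x ∈ centralizer (S : Set G))
    (hxN : x ∈ centralizer (N : Set G)) : ∀ g : G, g * x = x * g := by
  have htop : N ⊔ S = ⊤ := by
    by_contra h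
    exact haP (PushingUpCL.inf_le_pCore hE N h ⟨haN, haS⟩)
  obtain ⟨-, ⟨P, rfl⟩, -⟩ := id hE
  have h : centralizer ({x} : Set G) = ⊤ := PushingUpCL.eq_top_of_forall P
    (fun y hy => mem_centralizer_singleton_iff.mpr (mem_centralizer_iff.mp hxS y hy)) fun y hy =>
    mem_centralizer_singleton_iff.mpr
      (mem_centralizer_iff.mp hxN y (PushingUpCL.mem_of_sup_eq_top P.isPGroup' htop hy))
  exact fun g => mem_centralizer_singleton_iff.mp (h.symm ▸ mem_top g)

/-- If every member lies in `O_p(G)`, then `C_S(Z(J(S)))` is normal. -/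
theorem jt_normal (hE : Cfsg.IsPushingUpSituation p S)
    (hCS : centralizer (PushingUpCL.omegaCore p G : Set G) ⊔ S ≠ ⊤)
    (hall : ∀ A ∈ MaxAbelian.family 0 S, A ≤ Cfsg.pCore p G) :
    (S ⊓ centralizer (Cfsg.centerThompsonAOf S : Set G)).Normal := by
  obtain ⟨-, hPS⟩ := PushingUpCL.center_le_pCore hE
  haveI hJn : (Cfsg.thompsonSubgroupAOf S).Normal := by
    refine ⟨fun x hx g => ?_⟩
    have hle : (Cfsg.thompsonSubgroupAOf S).map (MulAut.conj g).toMonoidHom ≤ Cfsg.thompsonSubgroupAOf S := by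
      conv_lhs => rw [thompson_eq, sSup_eq_iSup', Subgroup.map_iSup]
      refine iSup_le fun A => le_thompson (conj_family A.2 g ?_)
      rintro _ ⟨a, ha, rfl⟩
      exact hPS (Subgroup.Normal.conj_mem inferInstance a (hall A A.2 ha) g)
    exact hle ⟨x, hx, rfl⟩
  haveI hWn : (Cfsg.centerThompsonAOf S).Normal := by
    rw [Cfsg.centerThompsonAOf]; infer_instance
  have hVW : PushingUpCL.omegaCore p G ≤ Cfsg.centerThompsonAOf S := by
    intro v hv
    obtain ⟨A, hA⟩ := MaxAbelian.family_nonempty 0 S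
    refine ⟨le_thompson hA (mem_of_centralizes hA (hPS hv.1)
      (centralizer_le (SetLike.coe_subset_coe.2 (hall A hA)) hv.2.1)), ?_⟩
    refine centralizer_le (SetLike.coe_subset_coe.2 ?_) hv.2.1
    rw [thompson_eq]
    exact sSup_le hall
  have e : S ⊓ centralizer (Cfsg.centerThompsonAOf S : Set G) =
      Cfsg.pCore p G ⊓ centralizer (Cfsg.centerThompsonAOf S : Set G) :=
    le_antisymm (fun x hx => ⟨PushingUpCL.inf_le_pCore hE _ hCS
        ⟨centralizer_le (SetLike.coe_subset_coe.2 hVW) hx.2, hx.1⟩, hx.2⟩)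
      (inf_le_inf_right _ hPS)
  rw [e]
  infer_instance

/-- Transport of the exchange equalities. -/
theorem offender (hE : Cfsg.IsPushingUpSituation p S)
    (hCS : centralizer (PushingUpCL.omegaCore p G : Set G) ⊔ S ≠ ⊤)
    {A : Subgroup G} (hA : A ∈ MaxAbelian.family 0 S) (hAP : ¬ A ≤ Cfsg.pCore p G) :
    (A ⊓ Cfsg.pCore p G) ⊔ PushingUpCL.omegaCore p G ∈ MaxAbelian.family 0 S ∧
      Nat.card A * Nat.card ↥(PushingUpCL.omegaCore p G ⊓ A) =
        Nat.card ↥(A ⊓ Cfsg.pCore p G) * Nat.card ↥(PushingUpCL.omegaCore p G) ∧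
      A ⊔ Cfsg.pCore p G = S ∧
      (PushingUpCL.omegaCore p G ⊓ A).relIndex (PushingUpCL.omegaCore p G) *
          (PushingUpCL.omegaCore p G ⊓ A).relIndex (PushingUpCL.omegaCore p G) ≤
        (PushingUpCL.omegaCore p G ⊓ centralizer ((⊤ : Subgroup G) : Set G)).relIndex
          (PushingUpCL.omegaCore p G) := by
  obtain ⟨-, hPS⟩ := PushingUpCL.center_le_pCore hE
  obtain ⟨q, hq, hb⟩ := PushingUpCL.sharp hE hCS
  obtain ⟨b, hbA, hbP⟩ := Set.not_subset.mp hAP
  obtain ⟨h1, h2⟩ := hb b (hA.1 hbA) hbP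
  set P := Cfsg.pCore p G
  set V := PushingUpCL.omegaCore p G with hV
  have hVS : V ≤ S := fun x hx => hPS hx.1
  set X := (A ⊓ P) ⊔ V with hX
  have hXS : X ≤ S := sup_le (inf_le_left.trans hA.1) hVS
  have hVC : V ≤ centralizer ((A ⊓ P : Subgroup G) : Set G) := fun v hv =>
    centralizer_le (SetLike.coe_subset_coe.2 inf_le_right) hv.2.1
  have hgood : MaxAbelian.Good 0 X := by
    refine MaxAbelian.good_zero_iff.2 ?_
    haveI : IsMulCommutative ↥(A ⊓ P) :=
      MaxAbelian.good_zero_iff.1 ⟨fun a ha c hc => hA.2.1.1 a ha.1 c hc.1, fun a _ => pow_zero a⟩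
    haveI : IsMulCommutative ↥V := PushingUpCL.omegaCore_elementary.1
    rw [← commutator_self_eq_bot_iff, commutator_eq_bot_iff_le_centralizer, hX,
      CharP.centralizer_sup_eq, le_inf_iff, sup_le_iff, sup_le_iff]
    exact ⟨⟨le_centralizer _, hVC⟩, le_centralizer_iff.1 hVC, le_centralizer _⟩
  have hXc : Nat.card X ≤ Nat.card A := hA.2.2 X hXS hgood
  have e := CharP.card_mul_le_card_sup_mul_card_inf (A ⊓ P) V
  have hi : A ⊓ P ⊓ V = V ⊓ A :=
    le_antisymm (fun x hx => ⟨hx.2, hx.1.1⟩) fun x hx => ⟨⟨hx.2, hx.1.1⟩, hx.1⟩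
  rw [hi, ← hX] at e
  have e1 := PushingUpCL.card_mul_relIndex (inf_le_left : A ⊓ P ≤ A)
  rw [inf_relIndex_left] at e1
  have e2 := PushingUpCL.card_mul_relIndex (inf_le_left : V ⊓ A ≤ V)
  set r := P.relIndex A
  set I := (V ⊓ A).relIndex V
  have hrS : r ≤ P.relIndex S := relIndex_le_of_le_right hA.1 (PushingUpCL.relIndex_pos' _ _).ne'
  have hqI : q ≤ I := h1.trans (Nat.le_of_dvd (PushingUpCL.relIndex_pos' _ _) (relIndex_dvd_of_le_left V
    (le_inf inf_le_left fun x hx => mem_centralizer_singleton_iff.mpr (hA.2.1.1 b hbA x hx.2).symm)))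
  have hIr : I ≤ r := by
    refine Nat.le_of_mul_le_mul_left (?_ : Nat.card ↥(A ⊓ P) * Nat.card ↥(V ⊓ A) * I ≤
      Nat.card ↥(A ⊓ P) * Nat.card ↥(V ⊓ A) * r) (Nat.mul_pos Nat.card_pos Nat.card_pos)
    rw [mul_assoc, e2, mul_right_comm, e1]
    exact e.trans (Nat.mul_le_mul_right _ hXc)
  have hrq : r = q := le_antisymm (hrS.trans hq) (hqI.trans hIr)
  have hIq : I = q := le_antisymm (hrq ▸ hIr) hqI
  have heq : Nat.card A * Nat.card ↥(V ⊓ A) = Nat.card ↥(A ⊓ P) * Nat.card V := by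
    rw [← e1, ← e2, hrq, hIq]; ring
  refine ⟨⟨hXS, hgood, fun B hB hg => (hA.2.2 B hB hg).trans ?_⟩, heq, ?_, ?_⟩
  · exact Nat.le_of_mul_le_mul_right (heq ▸ e) Nat.card_pos
  · refine eq_of_le_of_card_ge (sup_le hA.1 hPS) ?_
    have a1 := PushingUpCL.card_mul_relIndex hPS
    have a2 := PushingUpCL.card_mul_relIndex (le_sup_right : P ≤ A ⊔ P)
    rw [relIndex_sup_right] at a2
    rw [← a1, ← a2]
    exact Nat.mul_le_mul_left _ (hq.trans hrq.ge)
  · rw [hIq]
    exact h2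

/-- A normal abelian subgroup of `O_p(G)` centralising `A ∩ O_p(G)` is covered by `Ω₁Z(O_p(G))` and `A`. -/
theorem cover (hE : Cfsg.IsPushingUpSituation p S)
    (hCS : centralizer (PushingUpCL.omegaCore p G : Set G) ⊔ S ≠ ⊤)
    {A : Subgroup G} (hA : A ∈ MaxAbelian.family 0 S) (hAP : ¬ A ≤ Cfsg.pCore p G)
    {Y : Subgroup G} (hYP : Y ≤ Cfsg.pCore p G) (hY : Y ≤ centralizer (Y : Set G))
    (hYA : Y ≤ centralizer ((A ⊓ Cfsg.pCore p G : Subgroup G) : Set G))
    (hVY : PushingUpCL.omegaCore p G ≤ Y) : PushingUpCL.omegaCore p G ⊔ (Y ⊓ A) = Y := by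
  obtain ⟨-, hPS⟩ := PushingUpCL.center_le_pCore hE
  obtain ⟨-, heq, -, -⟩ := offender hE hCS hA hAP
  set P := Cfsg.pCore p G
  set V := PushingUpCL.omegaCore p G
  have hgood : MaxAbelian.Good 0 ((A ⊓ P) ⊔ Y) := by
    refine MaxAbelian.good_zero_iff.2 ?_
    haveI : IsMulCommutative ↥(A ⊓ P) :=
      MaxAbelian.good_zero_iff.1 ⟨fun a ha c hc => hA.2.1.1 a ha.1 c hc.1, fun a _ => pow_zero a⟩
    rw [← commutator_self_eq_bot_iff, commutator_eq_bot_iff_le_centralizer,
      CharP.centralizer_sup_eq, le_inf_iff, sup_le_iff, sup_le_iff]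
    exact ⟨⟨le_centralizer _, hYA⟩, le_centralizer_iff.1 hYA, hY⟩
  have hc := hA.2.2 _ (sup_le (inf_le_left.trans hA.1) (hYP.trans hPS)) hgood
  have e := CharP.card_mul_le_card_sup_mul_card_inf (A ⊓ P) Y
  rw [show A ⊓ P ⊓ Y = Y ⊓ A from le_antisymm (fun x hx => ⟨hx.2, hx.1.1⟩)
    fun x hx => ⟨⟨hx.2, hYP hx.1⟩, hx.1⟩] at e
  have e' := CharP.card_mul_le_card_sup_mul_card_inf V (Y ⊓ A)
  rw [show V ⊓ (Y ⊓ A) = V ⊓ A from le_antisymm (inf_le_inf_left _ inf_le_right)
    fun x hx => ⟨hx.1, hVY hx.1, hx.2⟩] at e'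
  refine eq_of_le_of_card_ge (sup_le hVY inf_le_left) ?_
  refine Nat.le_of_mul_le_mul_left (?_ : Nat.card ↥(A ⊓ P) * Nat.card ↥(V ⊓ A) * Nat.card Y ≤
    Nat.card ↥(A ⊓ P) * Nat.card ↥(V ⊓ A) * _) (Nat.mul_pos Nat.card_pos Nat.card_pos)
  calc Nat.card ↥(A ⊓ P) * Nat.card ↥(V ⊓ A) * Nat.card Y
      = Nat.card ↥(A ⊓ P) * Nat.card Y * Nat.card ↥(V ⊓ A) := by ring
    _ ≤ Nat.card A * Nat.card ↥(Y ⊓ A) * Nat.card ↥(V ⊓ A) :=
        Nat.mul_le_mul_right _ (e.trans (Nat.mul_le_mul_right _ hc))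
    _ = Nat.card ↥(A ⊓ P) * (Nat.card V * Nat.card ↥(Y ⊓ A)) := by rw [mul_right_comm, heq]; ring
    _ ≤ Nat.card ↥(A ⊓ P) * (Nat.card ↥(V ⊔ (Y ⊓ A) : Subgroup G) * Nat.card ↥(V ⊓ A)) :=
        Nat.mul_le_mul_left _ e'
    _ = _ := by ring

/-- `Z(J(S))` is central in `S` up to elements centralised by the normal closure of a member outside `O_p(G)`. -/
theorem decomposition (hE : Cfsg.IsPushingUpSituation p S)
    (hCS : centralizer (PushingUpCL.omegaCore p G : Set G) ⊔ S ≠ ⊤)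
    {A : Subgroup G} (hA : A ∈ MaxAbelian.family 0 S) (hAP : ¬ A ≤ Cfsg.pCore p G)
    {w : G} (hw : w ∈ Cfsg.centerThompsonAOf S) :
    ∃ v c : G, w = v * c ∧ v ∈ centralizer (S : Set G) ∧
      c ∈ centralizer (normalClosure (A : Set G) : Set G) := by
  obtain ⟨-, hPS⟩ := PushingUpCL.center_le_pCore hE
  obtain ⟨hXf, -, hAPS, hqq⟩ := offender hE hCS hA hAP
  set P := Cfsg.pCore p G with hP
  set V := PushingUpCL.omegaCore p G with hV
  set Y := MaxAbelian.core 0 P with hY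
  have hfam : ∀ B, B ∈ MaxAbelian.family 0 P → B ∈ MaxAbelian.family 0 S := fun B hB =>
    ⟨hB.1.trans hPS, hB.2.1, fun D hD hg => (hXf.2.2 D hD hg).trans
      (hB.2.2 _ (sup_le inf_le_right fun x hx => hx.1) hXf.2.1)⟩
  have hXP : (A ⊓ P) ⊔ V ∈ MaxAbelian.family 0 P :=
    ⟨sup_le inf_le_right fun x hx => hx.1, hXf.2.1, fun B hB hg => hXf.2.2 B (hB.trans hPS) hg⟩
  haveI hYn : Y.Normal := by
    refine normalizer_eq_top_iff.mp (eq_top_iff.mpr ?_)
    rw [← (normalizer_eq_top P : normalizer (P : Set G) = ⊤)]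
    exact MaxAbelian.normalizer_le_normalizer_core 0 P
  have hVY : V ≤ Y := le_sInf fun B hB x hx =>
    mem_of_centralizes hB hx.1 (centralizer_le (SetLike.coe_subset_coe.2 hB.1) hx.2.1)
  have hWY : Cfsg.centerThompsonAOf S ≤ Y := le_sInf fun B hB => centerThompson_le (hfam B hB)
  have hYA : Y ≤ centralizer ((A ⊓ P : Subgroup G) : Set G) := fun y hy a ha =>
    hXf.2.1.1 a (mem_sup_left ha) y (sInf_le hXP hy)
  have hcov := cover hE hCS hA hAP (MaxAbelian.core_le 0 P)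
    (fun y hy z hz => MaxAbelian.core_comm 0 P z hz y hy) hYA hVY
  -- `S` and a conjugate generate `G`
  obtain ⟨g, hg⟩ : ∃ g : G, S ⊔ S.map (MulAut.conj g).toMonoidHom = ⊤ := by
    obtain ⟨-, -, -, ⟨M, ⟨hMc, hSM⟩, huniq⟩, -⟩ := id hE
    by_contra hne
    push Not at hne
    have hN : normalClosure (S : Set G) ≤ M := by
      refine (closure_le M).mpr fun x hx => ?_
      obtain ⟨s, hs, g, rfl⟩ := by simpa [Group.mem_conjugatesOfSet_iff, isConj_iff] using hx
      obtain ⟨M', hM', hle⟩ := (eq_top_or_exists_le_coatom _).resolve_left (hne g)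
      exact (huniq M' ⟨hM', le_sup_left.trans hle⟩) ▸ hle (mem_sup_right ⟨s, hs, rfl⟩)
    have hNS : normalClosure (S : Set G) ⊔ S ≠ ⊤ := fun h => hMc.1 (eq_top_iff.mpr (h ▸ sup_le hN hSM))
    exact hAP (hA.1.trans (fun x hx => PushingUpCL.inf_le_pCore hE _ hNS
      ⟨subset_normalClosure hx, hx⟩))
  set f := (MulAut.conj g).toMonoidHom with hf
  have hfi : Function.Injective f := (MulAut.conj g).injective
  have hconjn : ∀ N : Subgroup G, N.Normal → N.map f = N := fun N hN => by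
    ext y
    refine ⟨?_, fun hy => ⟨g⁻¹ * y * g, by simpa using hN.conj_mem y hy g⁻¹, ?_⟩⟩
    · rintro ⟨x, hx, rfl⟩; exact hN.conj_mem x hx g
    · show g * (g⁻¹ * y * g) * g⁻¹ = y
      group
  have hVA : ∀ v ∈ V, v ∈ A → v ∈ centralizer (S : Set G) := by
    intro v hv hvA
    rw [← hAPS, CharP.centralizer_sup_eq]
    exact ⟨fun a ha => hA.2.1.1 a ha v hvA, hv.2.1⟩
  set C0 := V ⊓ centralizer ((⊤ : Subgroup G) : Set G) with hC0
  have hVeq : (V ⊓ A) ⊔ (V ⊓ A.map f) = V := by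
    have hmap : (V ⊓ A).map f = V ⊓ A.map f := by
      rw [map_inf _ _ _ hfi, hconjn V inferInstance]
    have hcard : Nat.card ↥(V ⊓ A.map f) = Nat.card ↥(V ⊓ A) := by
      rw [← hmap]; exact (Nat.card_congr ((V ⊓ A).equivMapOfInjective f hfi).toEquiv).symm
    have hinf : (V ⊓ A) ⊓ (V ⊓ A.map f) ≤ C0 := by
      rintro x ⟨⟨hxV, hxA⟩, -, a, ha, rfl⟩
      refine ⟨hxV, ?_⟩
      rw [← hg, CharP.centralizer_sup_eq]
      refine ⟨hVA _ hxV hxA, ?_⟩
      rintro _ ⟨s, hs, rfl⟩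
      have haV : a ∈ V := by
        rw [← hconjn V inferInstance] at hxV
        exact (mem_map_iff_mem hfi).mp hxV
      rw [← map_mul, ← map_mul, mem_centralizer_iff.1 (hVA a haV ha) s hs]
    have e := CharP.card_mul_le_card_sup_mul_card_inf (V ⊓ A) (V ⊓ A.map f)
    rw [hcard] at e
    have e2 := PushingUpCL.card_mul_relIndex (inf_le_left : V ⊓ A ≤ V)
    have e3 := PushingUpCL.card_mul_relIndex (inf_le_left : C0 ≤ V)
    set I := (V ⊓ A).relIndex V
    set c := Nat.card ↥(V ⊓ A)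
    refine eq_of_le_of_card_ge (sup_le inf_le_left inf_le_left) ?_
    refine Nat.le_of_mul_le_mul_right (?_ : Nat.card V * Nat.card ↥C0 ≤ _ * Nat.card ↥C0) Nat.card_pos
    refine le_trans ?_ ((e.trans (Nat.mul_le_mul_left _ (card_le_of_le hinf))))
    refine Nat.le_of_mul_le_mul_right (?_ : _ * (I * I) ≤ _ * (I * I))
      (Nat.mul_pos (PushingUpCL.relIndex_pos' _ _) (PushingUpCL.relIndex_pos' _ _))
    calc Nat.card V * Nat.card ↥C0 * (I * I) ≤ Nat.card V * Nat.card ↥C0 * C0.relIndex V :=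
          Nat.mul_le_mul_left _ hqq
      _ = c * c * (I * I) := by rw [mul_assoc, e3, ← e2]; ring
  obtain ⟨v, hv, c, hc, hwe⟩ : ∃ v ∈ V, ∃ c ∈ Y ⊓ A.map f, v * c = w := by
    have h : w ∈ V ⊔ (Y ⊓ A.map f) := by
      have h1 := congrArg (fun H : Subgroup G => H.map f) hcov
      simp only [Subgroup.map_sup, map_inf _ _ _ hfi] at h1
      rw [hconjn _ PushingUpCL.omegaCore_normal, show (MaxAbelian.core 0 P).map f = MaxAbelian.core 0 P from
        hconjn Y hYn] at h1
      rw [h1]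
      exact hWY hw
    rwa [mem_sup_of_normal_left] at h
  haveI : IsMulCommutative ↥V := PushingUpCL.omegaCore_elementary.1
  obtain ⟨v1, hv1, v2, hv2, hve⟩ : ∃ v1 ∈ V ⊓ A, ∃ v2 ∈ V ⊓ A.map f, v1 * v2 = v := by
    rw [← hVeq, ← SetLike.mem_coe, coe_mul_of_left_le_normalizer_right] at hv
    · exact hv
    · exact fun x hx => centralizer_le_normalizer _ (centralizer_le (fun y hy => hy.1)
        (le_centralizer V hx.1))
  refine ⟨v1, v2 * c, by rw [← mul_assoc, hve, hwe], hVA v1 hv1.1 hv1.2, ?_⟩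
  set d := v2 * c with hd
  have hdw : d = v1⁻¹ * w := by rw [hd, eq_inv_mul_iff_mul_eq, ← mul_assoc, hve, hwe]
  have hJ : Cfsg.thompsonSubgroupAOf S ≤ centralizer ({d} : Set G) := fun j hj => by
    refine mem_centralizer_singleton_iff.mpr ?_
    rw [hdw]
    exact ((Commute.inv_right (show Commute j v1 from
      mem_centralizer_iff.1 (hVA v1 hv1.1 hv1.2) j ((map_subtype_le _ : _ ≤ S) hj))).mul_right
      (show Commute j w from mem_centralizer_iff.1 hw.2 j hj)).eq
  have hAf : A.map f ≤ centralizer ({d} : Set G) := fun a ha => mem_centralizer_singleton_iff.mpr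
    ((hA.2.1.map f).1 a ha d (mul_mem hv2.2 hc.2))
  have htop : centralizer ({d} : Set G) ⊔ P = ⊤ := by
    rw [eq_top_iff, ← hg]
    refine sup_le ?_ ?_
    · rw [← hAPS]; exact sup_le_sup_right ((le_thompson hA).trans hJ) _
    · rw [← hAPS, Subgroup.map_sup, hconjn P inferInstance]
      exact sup_le_sup_right hAf _
  have hle : normalClosure (A : Set G) ≤ centralizer ({d} : Set G) := by
    refine (closure_le _).mpr fun x hx => ?_
    obtain ⟨a, ha, h, rfl⟩ := by simpa [Group.mem_conjugatesOfSet_iff, isConj_iff] using hx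
    have hh : h ∈ centralizer ({d} : Set G) ⊔ P := htop.symm ▸ mem_top h
    rw [mem_sup_of_normal_right] at hh
    obtain ⟨n, hn, r, hr, rfl⟩ := hh
    have hra : r * a * r⁻¹ ∈ Cfsg.thompsonSubgroupAOf S :=
      (mem_normalizer_iff.mp (normalizer_le_thompson S (le_normalizer (hPS hr))) a).mp (le_thompson hA ha)
    rw [SetLike.mem_coe, show n * r * a * (n * r)⁻¹ = n * (r * a * r⁻¹) * n⁻¹ by group]
    exact mul_mem (mul_mem hn (hJ hra)) (inv_mem hn)
  exact fun x hx => mem_centralizer_singleton_iff.mp (hle hx)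

theorem isPushingUp {n : ℕ} {P : Sylow p G} (hE₁ : centralizer (Cfsg.pCore p G : Set G) ≤ Cfsg.pCore p G)
    (hE₂ : ∃! M : Subgroup G, IsCoatom M ∧ (P : Subgroup G) ≤ M) (K : Subgroup G) [K.Normal]
    (F : Type) [Field F] [Fintype F] (hn : 1 ≤ n) (hF : Fintype.card F = p ^ n)
    (hE₃ : Nonempty (G ⧸ K ≃* Matrix.ProjectiveSpecialLinearGroup (Fin 2) F)) :
    Cfsg.IsPushingUpSituation p (P : Subgroup G) := by
  refine ⟨fun h => ?_, ⟨P, rfl⟩, hE₁, hE₂, K, inferInstance, F, inferInstance, inferInstance, n, hF, hE₃⟩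
  obtain ⟨M, hM, -⟩ := hE₂.exists
  exact hM.1 (le_antisymm le_top (h.le.trans bot_le))

end Cfsg.Agent.CharP.PushingUpZJ
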