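import Mathlib
import Cfsg.Prelude.Def_LocalStructure
import Cfsg.Agent.Lib.CharP.Sylow
import Cfsg.Agent.Lib.Cores.Residual

/-!
`p`-closed groups, and `O^p` modulo normal `p`-subgroups.
-/

set_option autoImplicit false

namespace Cfsg.Agent.CharP

open Subgroup

variable {H K : Type*} [Group H] [Group K] {p : ℕ} [Fact p.Prime]

theorem isPClosed_iff [Finite H] :
    Cfsg.IsPClosed p H ↔ ∀ P : Subgroup H, IsPGroup p ↥P → P ≤ Cfsg.pCore p H := by
  refine ⟨fun h P hP => ?_, fun h S => ?_⟩
  · obtain ⟨S, hS⟩ := hP.exists_le_sylow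
    exact hS.trans (le_pCore (h S) S.isPGroup')
  · have h1 : (S : Subgroup H) = Cfsg.pCore p H :=
      le_antisymm (h S S.isPGroup') ((isPGroup_pCore p H).le_sylow_of_normal S)
    rw [h1]
    infer_instance

theorem isPClosed_of_mulCommutative [Finite H] (h : ∀ a b : H, a * b = b * a) :
    Cfsg.IsPClosed p H := fun S =>
  ⟨fun n hn g => by rw [h g n, mul_inv_cancel_right]; exact hn⟩

theorem isPClosed_of_surjective [Finite H] {f : H →* K} (hf : Function.Surjective f)
    (h : Cfsg.IsPClosed p H) : Cfsg.IsPClosed p K := by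
  have : Finite K := Finite.of_surjective f hf
  intro S
  obtain ⟨T, rfl⟩ := Sylow.mapSurjective_surjective hf p S
  exact (h T).map f hf

/-- `p`-closedness of a subgroup, in ambient terms. -/
theorem isPClosed_subgroup_iff [Finite H] {N : Subgroup H} :
    Cfsg.IsPClosed p ↥N ↔ ∀ P : Subgroup H, P ≤ N → IsPGroup p ↥P → P ≤ Cfsg.pCoreOf p N := by
  rw [isPClosed_iff]
  refine ⟨fun h P hPN hP => ?_, fun h P hP x hx => ?_⟩
  · rw [← map_subgroupOf_eq_of_le hPN]
    exact map_mono (h _ hP.comap_subtype)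
  · obtain ⟨y, hy, hyx⟩ := h _ (map_subtype_le P) (hP.map _) (mem_map_of_mem _ hx)
    exact (Subtype.ext hyx : y = x) ▸ hy

theorem isPClosed_mono [Finite H] {M N : Subgroup H} (hMN : M ≤ N) (h : Cfsg.IsPClosed p ↥N) :
    Cfsg.IsPClosed p ↥M := by
  rw [isPClosed_subgroup_iff] at h ⊢
  intro P hPM hP
  refine (le_inf hPM (h P (hPM.trans hMN) hP)).trans ?_
  refine le_pCoreOf inf_le_left (le_trans ?_ inf_normalizer_le_normalizer_inf)
    ((isPGroup_pCoreOf p N).to_le inf_le_right)
  exact le_inf le_normalizer (hMN.trans (le_normalizer_pCoreOf p N))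

/-- Being `p`-closed only depends on the image modulo a normal `p`-subgroup. -/
theorem isPClosed_map_iff [Finite H] {f : H →* K} (hker : IsPGroup p ↥f.ker) {N : Subgroup H} :
    Cfsg.IsPClosed p ↥(N.map f) ↔ Cfsg.IsPClosed p ↥N := by
  refine ⟨fun h => ?_, fun h => isPClosed_of_surjective (f.subgroupMap_surjective N) h⟩
  have hfin : Finite f.range := Finite.of_surjective _ f.rangeRestrict_surjective
  have hfin' : Finite (N.map f) := Finite.of_surjective _ (f.subgroupMap_surjective N)
  rw [isPClosed_subgroup_iff]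
  intro P hPN hP
  rw [isPClosed_iff] at h
  set g := f.subgroupMap N
  have h1 := h ((P.subgroupOf N).map g) ((hP.comap_subtype).map g)
  have h2 : P.subgroupOf N ≤ (Cfsg.pCore p ↥(N.map f)).comap g := map_le_iff_le_comap.1 h1
  have h3 : (Cfsg.pCore p ↥(N.map f)).comap g ≤ Cfsg.pCore p ↥N := by
    refine le_pCore inferInstance ((isPGroup_pCore p _).comap_of_ker_isPGroup g ?_)
    refine hker.of_injective ?_ ?_
    · exact ((N.subtype.comp g.ker.subtype).codRestrict f.ker fun x =>
        congrArg Subtype.val x.2)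
    · intro a b hab
      exact Subtype.ext (Subtype.ext (congrArg Subtype.val hab :))
  rw [← map_subgroupOf_eq_of_le hPN]
  exact map_mono (h2.trans h3)

theorem isPClosed_iff_of_ker [Finite H] {f : H →* K} (hf : Function.Surjective f)
    (hker : IsPGroup p ↥f.ker) : Cfsg.IsPClosed p K ↔ Cfsg.IsPClosed p H := by
  refine ⟨fun h => ?_, isPClosed_of_surjective hf⟩
  have : Finite K := Finite.of_surjective f hf
  have h1 : Cfsg.IsPClosed p ↥((⊤ : Subgroup H).map f) :=
    isPClosed_of_surjective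
      (f := (MulEquiv.subgroupCongr (map_top_of_surjective f hf).symm).toMonoidHom.comp
        (Subgroup.topEquiv.symm.toMonoidHom))
      (by
        intro x
        refine ⟨x.1, ?_⟩
        exact Subtype.ext rfl) h
  exact isPClosed_of_surjective (f := Subgroup.topEquiv.toMonoidHom)
    (fun x => ⟨⟨x, mem_top x⟩, rfl⟩) ((isPClosed_map_iff hker).1 h1)

omit [Fact p.Prime] in
theorem pCore_comap_eq [Finite H] {f : H →* K} (hf : Function.Surjective f)
    (hker : IsPGroup p ↥f.ker) : (Cfsg.pCore p K).comap f = Cfsg.pCore p H := by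
  refine le_antisymm (le_pCore inferInstance ((isPGroup_pCore p K).comap_of_ker_isPGroup f hker))
    (map_le_iff_le_comap.1 (le_pCore (Normal.map inferInstance f hf) ((isPGroup_pCore p H).map f)))

/-- If `O^p(H) ≤ N D` with `D` a `p`-group then `O^p(H) ≤ N` (for normal `N`). -/
theorem pResidual_le_of_le_sup [Finite H] {N D : Subgroup H} [N.Normal] [D.Normal]
    (hD : IsPGroup p ↥D) (h : Cfsg.pResidual p H ≤ N ⊔ D) : Cfsg.pResidual p H ≤ N := by
  rw [Cfsg.Agent.Cores.pResidual_le_iff] at h ⊢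
  obtain ⟨a, ha⟩ := IsPGroup.iff_card.1 h
  obtain ⟨b, hb⟩ := IsPGroup.iff_card.1 hD
  have h1 : (N.relIndex (N ⊔ D)) ∣ p ^ b := by
    rw [relIndex_sup_left, ← hb]
    exact relIndex_dvd_card N D
  obtain ⟨c, -, hc⟩ := (Nat.dvd_prime_pow Fact.out).1 h1
  refine IsPGroup.of_card (n := c + a) ?_
  rw [← index_eq_card, ← relIndex_mul_index (le_sup_left : N ≤ N ⊔ D), hc, index_eq_card, ha,
    pow_add]

theorem normal_sup_eq_top_of_sylow_le [Finite H] (T : Sylow p H) {N : Subgroup H}
    (h : Cfsg.pResidual p H ≤ N) (hT : (T : Subgroup H) ≤ N) : N = ⊤ :=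
  eq_top_iff.2 ((Cfsg.Agent.Cores.pResidual_le_sylow_sup T).ge.trans (sup_le hT h))

end Cfsg.Agent.CharP
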