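import Cfsg.Agent.Lib.CharP.WeaklyClosed
import Cfsg.Agent.Lib.CharP.PClosed
import Cfsg.Prelude.Def_LocalStructure

/-!
Parabolic subgroups of characteristic `p`: monotonicity of `Y_L`, `Y_L = Ω₁(Z(C_T(Y_L)))`, the
reduction `L ↦ N_M(C_T(Y_L))`, and members of `𝓛_H`.
-/

set_option autoImplicit false

namespace Cfsg.Agent.CharP

open Subgroup

variable {G : Type*} [Group G] [Finite G] {p : ℕ} [Fact p.Prime]

omit [Finite G] [Fact p.Prime] in
theorem inv_pow_mul_mul_pow_mem {C : Subgroup G} {o c : G} (ho : o ∈ normalizer (C : Set G))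
    (hc : c ∈ C) (n : ℕ) : (o ^ n)⁻¹ * (o * c) ^ n ∈ C := by
  induction n with
  | zero => simp
  | succ n ih =>
    have h := mul_mem ((mem_normalizer_iff.1 (inv_mem ho) _).1 ih) hc
    rw [inv_inv] at h
    have e : (o ^ (n + 1))⁻¹ * (o * c) ^ (n + 1) = o⁻¹ * ((o ^ n)⁻¹ * (o * c) ^ n) * o * c := by
      rw [pow_succ, pow_succ]; group
    rw [e]
    exact h

/-- A Sylow subgroup meets a normal subgroup in a Sylow subgroup. -/
theorem IsSylIn.inf_normal {T L N : Subgroup G} (hT : IsSylIn p T L) (hNL : N ≤ L)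
    (hn : L ≤ normalizer (N : Set G)) : IsSylIn p (T ⊓ N) N := by
  have hT' := hT
  obtain ⟨S, rfl⟩ := hT
  haveI : (N.subgroupOf L).Normal := (normal_subgroupOf_iff_le_normalizer hNL).2 hn
  refine isSylIn_of_not_dvd (hT'.isPGroup.to_le inf_le_left) inf_le_right ?_
  rw [inf_relIndex_right]
  have h := Cores.sylow_subgroupOf_isSubnormal S
    (A := N.subgroupOf L) (inferInstance : (N.subgroupOf L).Normal).isSubnormal
  rw [← relIndex, ← relIndex_map_map_of_injective _ _ (subtype_injective L),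
    map_subgroupOf_eq_of_le hNL] at h
  exact h

/-- `C_T(Y)` is a Sylow subgroup of `C_L(Y)`. -/
theorem IsSylIn.inf_centralizer {T L Y : Subgroup G} (hT : IsSylIn p T L)
    (hn : L ≤ normalizer (Y : Set G)) :
    IsSylIn p (T ⊓ centralizer (Y : Set G)) (L ⊓ centralizer (Y : Set G)) := by
  have h := hT.inf_normal (N := L ⊓ centralizer (Y : Set G)) inf_le_left
    ((le_inf le_normalizer (hn.trans (normalizer_le_normalizer_centralizer Y))).trans
      inf_normalizer_le_normalizer_inf)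
  rwa [← inf_assoc, inf_eq_left.2 hT.le] at h

/-- The Frattini factorization `L = N_L(C_T(Y)) C_L(Y)`. -/
theorem exists_mem_normalizer_mul_mem_centralizer {T L Y : Subgroup G} (hT : IsSylIn p T L)
    (hn : L ≤ normalizer (Y : Set G)) {g : G} (hg : g ∈ L) :
    ∃ a ∈ L ⊓ normalizer ((T ⊓ centralizer (Y : Set G) : Subgroup G) : Set G),
      ∃ c ∈ L ⊓ centralizer (Y : Set G), g = a * c := by
  set T₀ := T ⊓ centralizer (Y : Set G)
  set C := L ⊓ centralizer (Y : Set G)
  have hCn : L ≤ normalizer (C : Set G) :=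
    (le_inf le_normalizer (hn.trans (normalizer_le_normalizer_centralizer Y))).trans
      inf_normalizer_le_normalizer_inf
  have h0 := hT.inf_centralizer hn
  have h1 := h0.conj g⁻¹
  rw [conj_map_of_mem (hCn (inv_mem hg))] at h1
  obtain ⟨c, hc, hce⟩ := h1.exists_conj h0
  rw [conj_map_map] at hce
  refine ⟨g * c⁻¹, mem_inf.2 ⟨mul_mem hg (inv_mem hc.1), ?_⟩, c, hc, by group⟩
  have := inv_mem (mem_normalizer_of_conj_map hce)
  rw [mul_inv_rev, inv_inv] at this
  exact this

/-- `Y_R ≤ Y_L` for a parabolic `R` of `L` of characteristic `p`, in ambient form. -/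
theorem le_largestPReducedOf_of_parabolic {T R L V : Subgroup G} (hL : IsCharP p L)
    (hT : IsSylIn p T L) (hTR : T ≤ R) (hRL : R ≤ L) (hVR : V ≤ R)
    (hVn : R ≤ normalizer (V : Set G)) (hVe : Cfsg.IsElementaryAbelian p V)
    (hr : ∀ N : Subgroup G, N ≤ R → R ≤ normalizer (N : Set G) →
      (∀ x ∈ N, ∃ k : ℕ, x ^ p ^ k ∈ centralizer (V : Set G)) → N ≤ centralizer (V : Set G)) :
    V ≤ Cfsg.largestPReducedOf p L := by
  obtain ⟨S, rfl⟩ := hT
  set R' := R.subgroupOf L
  set V' := V.subgroupOf L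
  have hVL : V ≤ L := hVR.trans hRL
  have hSR : (S : Subgroup ↥L) ≤ R' := fun x hx => hTR ⟨x, hx, rfl⟩
  have hVR' : V' ≤ R' := comap_mono hVR
  have hmem : ∀ {x : ↥R'}, x ∈ centralizer (V'.subgroupOf R' : Set ↥R') ↔
      ((x : ↥L) : G) ∈ centralizer (V : Set G) := fun {x} =>
    (mem_centralizer_subgroupOf hVR').trans (mem_centralizer_subgroupOf hVL)
  have hX : Cfsg.IsPReducedNormal p (V'.subgroupOf R') := by
    refine isPReducedNormal_iff.2 ⟨⟨fun v hv g => ?_⟩, ⟨⟨⟨fun a b => ?_⟩⟩, fun a ha => ?_⟩,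
      fun N hN hx => ?_⟩
    · exact (mem_normalizer_iff.1 (hVn (mem_subgroupOf.1 g.2)) _).1 hv
    · exact Subtype.ext (Subtype.ext (Subtype.ext (mul_comm_of_mem hVe.1
        (mem_subgroupOf.1 (mem_subgroupOf.1 a.2)) (mem_subgroupOf.1 (mem_subgroupOf.1 b.2)))))
    · exact Subtype.ext (Subtype.ext (hVe.2 _ ha))
    · intro y hy
      refine hmem.2 (hr ((N.map R'.subtype).map L.subtype) ?_ ?_ ?_
        (mem_map_of_mem _ (mem_map_of_mem _ hy)))
      · rintro _ ⟨_, ⟨z, hz, rfl⟩, rfl⟩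
        exact z.2
      · intro g hg
        rw [mem_normalizer_iff]
        have key : ∀ g ∈ R, ∀ z ∈ (N.map R'.subtype).map L.subtype,
            g * z * g⁻¹ ∈ (N.map R'.subtype).map L.subtype := by
          rintro g hg _ ⟨_, ⟨z, hz, rfl⟩, rfl⟩
          exact ⟨_, ⟨_, hN.conj_mem z hz ⟨⟨g, hRL hg⟩, hg⟩, rfl⟩, rfl⟩
        refine fun z => ⟨key g hg z, fun hz => ?_⟩
        have := key g⁻¹ (inv_mem hg) _ hz
        simpa [mul_assoc] using this
      · rintro _ ⟨_, ⟨z, hz, rfl⟩, rfl⟩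
        obtain ⟨k, hk⟩ := hx z hz
        exact ⟨k, hmem.1 hk⟩
  have h := le_largestPReduced
    (isPReducedNormal_normalClosure ((isCharP_iff L).1 hL) S R' hSR hX)
  have h' := map_mono (f := L.subtype) ((subset_normalClosure).trans (SetLike.coe_subset_coe.2 h))
  rw [map_subgroupOf_eq_of_le hVR', map_subgroupOf_eq_of_le hVL] at h'
  exact h'

theorem largestPReducedOf_mono {T R L : Subgroup G} (hL : IsCharP p L) (hT : IsSylIn p T L)
    (hTR : T ≤ R) (hRL : R ≤ L) :
    Cfsg.largestPReducedOf p R ≤ Cfsg.largestPReducedOf p L :=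
  le_largestPReducedOf_of_parabolic hL hT hTR hRL (largestPReducedOf_le p R)
    (le_normalizer_largestPReducedOf p R) (isElementaryAbelian_largestPReducedOf p R)
    fun _ h1 h2 h3 => largestPReducedOf_reduced h1 h2 h3

theorem pCoreOf_le_of_parabolic {T R L : Subgroup G} (hT : IsSylIn p T L)
    (hTR : T ≤ R) (hRL : R ≤ L) : Cfsg.pCoreOf p L ≤ Cfsg.pCoreOf p R :=
  le_pCoreOf ((pCoreOf_le_of_isSylIn hT).trans hTR)
    (hRL.trans (le_normalizer_pCoreOf p L)) (isPGroup_pCoreOf p L)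

omit [Finite G] [Fact p.Prime] in
theorem omegaCentre_exponent (T : Subgroup G) :
    Cfsg.IsElementaryAbelian p (omegaCentre p T) :=
  isElementaryAbelian_closure (fun _ hu _ hv => (hu.1.2 _ hv.1.1).symm) (fun _ hu => hu.2)

/-- `Y_L = Ω₁(Z(T₀))` and `O_p(N_L(T₀)) = T₀` for `T₀ = C_T(Y_L)`. -/
theorem largestPReducedOf_eq_omegaCentre {T L : Subgroup G} (hL : IsCharP p L)
    (hT : IsSylIn p T L) :
    Cfsg.largestPReducedOf p L =
      omegaCentre p (T ⊓ centralizer (Cfsg.largestPReducedOf p L : Set G)) ∧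
    Cfsg.pCoreOf p (L ⊓ normalizer
        ((T ⊓ centralizer (Cfsg.largestPReducedOf p L : Set G) : Subgroup G) : Set G)) =
      T ⊓ centralizer (Cfsg.largestPReducedOf p L : Set G) := by
  set Y := Cfsg.largestPReducedOf p L
  set T₀ := T ⊓ centralizer (Y : Set G)
  set C := L ⊓ centralizer (Y : Set G)
  set R := L ⊓ normalizer (T₀ : Set G)
  have hLY : L ≤ normalizer (Y : Set G) := le_normalizer_largestPReducedOf p L
  have hYe := isElementaryAbelian_largestPReducedOf p L
  have h0 : IsSylIn p T₀ C := hT.inf_centralizer hLY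
  have hTR : T ≤ R := le_inf hT.le
    ((le_inf le_normalizer ((hT.le.trans hLY).trans (normalizer_le_normalizer_centralizer Y))).trans
      inf_normalizer_le_normalizer_inf)
  have hT0R : T₀ ≤ R := inf_le_left.trans hTR
  have hCn : L ≤ normalizer (C : Set G) :=
    (le_inf le_normalizer (hLY.trans (normalizer_le_normalizer_centralizer Y))).trans
      inf_normalizer_le_normalizer_inf
  -- `p`-elements of `C_R(Y)` lie in `T₀`
  have hpe : ∀ x ∈ C, x ∈ normalizer (T₀ : Set G) → (∃ k : ℕ, x ^ p ^ k = 1) → x ∈ T₀ := by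
    rintro x hxC hxN ⟨k, hk⟩
    obtain ⟨i, -, hi⟩ := (Nat.dvd_prime_pow Fact.out).1 (orderOf_dvd_of_pow_eq_one hk)
    have hxp : IsPGroup p ↥(zpowers x) :=
      IsPGroup.of_card (n := i) (by rw [Nat.card_zpowers]; exact hi)
    have := h0.eq_of_le (h0.isPGroup.to_sup_of_normal_left' hxp (zpowers_le.2 hxN))
      (sup_le h0.le (zpowers_le.2 hxC)) le_sup_left
    exact this ▸ (le_sup_right : zpowers x ≤ T₀ ⊔ zpowers x) (mem_zpowers x)
  -- a normal subgroup of `R` that is a `p`-group modulo `C(Y)` centralizes `Y`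
  have hred : ∀ N : Subgroup G, N ≤ R → R ≤ normalizer (N : Set G) →
      (∀ x ∈ N, ∃ k : ℕ, x ^ p ^ k ∈ centralizer (Y : Set G)) → N ≤ centralizer (Y : Set G) := by
    intro N hNR hN hx
    have hNC : N ≤ normalizer (C : Set G) := hNR.trans (inf_le_left.trans hCn)
    refine le_trans le_sup_left (largestPReducedOf_reduced (N := N ⊔ C)
      (sup_le (hNR.trans inf_le_left) inf_le_left) ?_ ?_)
    · intro g hg
      obtain ⟨a, ha, c, hc, rfl⟩ := exists_mem_normalizer_mul_mem_centralizer hT hLY hg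
      refine mul_mem ?_ (le_normalizer ((le_sup_right : C ≤ N ⊔ C) hc))
      rw [mem_normalizer_iff_map_conj_eq, Subgroup.map_sup]
      exact congrArg₂ (· ⊔ ·) (conj_map_of_mem (hN ha))
        (conj_map_of_mem (hCn ha.1))
    · intro x hx'
      rw [← SetLike.mem_coe, coe_mul_of_left_le_normalizer_right _ _ hNC] at hx'
      obtain ⟨o, ho, c, hc, rfl⟩ := hx'
      obtain ⟨k, hk⟩ := hx o ho
      refine ⟨k, ?_⟩
      have h := mul_mem hk (inv_pow_mul_mul_pow_mem (hNC ho) hc (p ^ k)).2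
      simpa using h
  have hcore : Cfsg.pCoreOf p R = T₀ := by
    refine le_antisymm ?_ (le_pCoreOf hT0R inf_le_right h0.isPGroup)
    refine le_inf (pCoreOf_le_of_isSylIn (hT.mono hTR inf_le_left))
      (hred _ (pCoreOf_le p R) (le_normalizer_pCoreOf p R) fun x hx => ?_)
    obtain ⟨k, hk⟩ := isPGroup_pCoreOf p R ⟨x, hx⟩
    refine ⟨k, ?_⟩
    rw [show x ^ p ^ k = 1 from congrArg Subtype.val hk]
    exact one_mem _
  refine ⟨le_antisymm ?_ ?_, hcore⟩
  · intro y hy
    have hyT : y ∈ T := pCoreOf_le_of_isSylIn hT (largestPReducedOf_le_pCoreOf p L hy)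
    refine subset_closure ⟨mem_inf.2 ⟨mem_inf.2 ⟨hyT, fun v hv => mul_comm_of_mem hYe.1 hv hy⟩,
      fun t ht => ?_⟩, hYe.2 y hy⟩
    exact ((mem_inf.1 ht).2 y hy).symm
  · set W := omegaCentre p T₀
    have hW0 : W ≤ T₀ := omegaCentre_le p T₀
    have hWc : T₀ ≤ centralizer (W : Set G) :=
      le_centralizer_iff.1 (omegaCentre_le_centralizer p T₀)
    have hYW : Y ≤ W := by
      intro y hy
      have hyT : y ∈ T := pCoreOf_le_of_isSylIn hT (largestPReducedOf_le_pCoreOf p L hy)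
      exact subset_closure ⟨mem_inf.2 ⟨mem_inf.2 ⟨hyT, fun v hv => mul_comm_of_mem hYe.1 hv hy⟩,
        fun t ht => ((mem_inf.1 ht).2 y hy).symm⟩, hYe.2 y hy⟩
    refine le_largestPReducedOf_of_parabolic hL hT hTR inf_le_left (hW0.trans hT0R) ?_
      (omegaCentre_exponent T₀) ?_
    · intro g hg
      refine mem_normalizer_of_conj_map ?_
      show (omegaCentre p T₀).map (MulAut.conj g).toMonoidHom = omegaCentre p T₀
      rw [omegaCentre_map (f := (MulAut.conj g).toMonoidHom) (MulAut.conj g).injective,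
        conj_map_of_mem hg.2]
    · intro N hNR hN hx x hxN
      have hxY : x ∈ centralizer (Y : Set G) := hred N hNR hN (fun z hz => by
        obtain ⟨k, hk⟩ := hx z hz
        exact ⟨k, centralizer_le (SetLike.coe_subset_coe.2 hYW) hk⟩) hxN
      obtain ⟨k, hk⟩ := hx x hxN
      obtain ⟨i, m, hm, hkm⟩ := Nat.exists_eq_pow_mul_and_not_dvd (orderOf_pos x).ne' p
        (Fact.out : p.Prime).ne_one
      have hxm : x ^ m ∈ T₀ := hpe _ (pow_mem (mem_inf.2 ⟨(hNR hxN).1, hxY⟩) m)
        (pow_mem (hNR hxN).2 m) ⟨i, by rw [← pow_mul, mul_comm, ← hkm, pow_orderOf_eq_one]⟩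
      have hg : Nat.gcd m (p ^ k) = 1 :=
        Nat.Coprime.pow_right k (((Fact.out : p.Prime).coprime_iff_not_dvd.2 hm).symm)
      have h := pow_gcd_mem' x (hWc hxm) hk
      rwa [hg, pow_one] at h
where
  pow_gcd_mem' {K : Subgroup G} (x : G) {a b : ℕ} (ha : x ^ a ∈ K)
      (hb : x ^ b ∈ K) : x ^ Nat.gcd a b ∈ K := by
    have h : x ^ (Nat.gcd a b : ℤ) ∈ K := by
      rw [Nat.gcd_eq_gcd_ab, zpow_add, zpow_mul, zpow_mul, zpow_natCast, zpow_natCast]
      exact mul_mem (zpow_mem ha _) (zpow_mem hb _)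
    rwa [zpow_natCast] at h

theorem largestPReducedOf_top :
    Cfsg.largestPReducedOf p (⊤ : Subgroup G) = Cfsg.largestPReduced p G := by
  refine le_antisymm (le_largestPReduced (isPReducedNormal_iff.2
    ⟨?_, isElementaryAbelian_largestPReducedOf p ⊤, fun N hN hx => ?_⟩)) ?_
  · rw [← normalizer_eq_top_iff, eq_top_iff]
    exact le_normalizer_largestPReducedOf p ⊤
  · exact largestPReducedOf_reduced le_top
      (fun x _ => normalizer_eq_top_iff.2 hN ▸ mem_top x) hx
  · obtain ⟨hn, he, hr⟩ := isPReducedNormal_iff.1 (isPReducedNormal_largest p G)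
    refine le_largestPReducedOf le_top (fun x _ => normalizer_eq_top_iff.2 hn ▸ mem_top x) he ?_
    intro N _ hN hx
    exact hr N (normalizer_eq_top_iff.1 (top_le_iff.1 hN)) hx

/-- Replacing `L` by `N_M(C_T(Y_L))` when `M C(Y_L) = L C(Y_L)`. -/
theorem reduce_step {T L M : Subgroup G} (hL : IsCharP p L) (hTL : IsSylIn p T L)
    (hTM : IsSylIn p T M)
    (hfac : M ⊔ centralizer (Cfsg.largestPReducedOf p L : Set G) =
      L ⊔ centralizer (Cfsg.largestPReducedOf p L : Set G)) :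
    T ≤ M ⊓ normalizer ((T ⊓ centralizer (Cfsg.largestPReducedOf p L : Set G) : Subgroup G) : Set G) ∧
    Cfsg.largestPReducedOf p
        (M ⊓ normalizer ((T ⊓ centralizer (Cfsg.largestPReducedOf p L : Set G) : Subgroup G) : Set G)) =
      Cfsg.largestPReducedOf p L ∧
    L ⊔ centralizer (Cfsg.largestPReducedOf p L : Set G) =
      (M ⊓ normalizer ((T ⊓ centralizer (Cfsg.largestPReducedOf p L : Set G) : Subgroup G) : Set G))
        ⊔ centralizer (Cfsg.largestPReducedOf p L : Set G) ∧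
    Cfsg.pCoreOf p
        (M ⊓ normalizer ((T ⊓ centralizer (Cfsg.largestPReducedOf p L : Set G) : Subgroup G) : Set G)) =
      T ⊓ centralizer (Cfsg.largestPReducedOf p L : Set G) := by
  set Y := Cfsg.largestPReducedOf p L
  set C := centralizer (Y : Set G)
  set T₀ := T ⊓ C
  set Ls := M ⊓ normalizer (T₀ : Set G)
  have hLY : L ≤ normalizer (Y : Set G) := le_normalizer_largestPReducedOf p L
  have hMY : M ≤ normalizer (Y : Set G) :=
    le_trans (le_sup_left.trans hfac.le) (sup_le hLY (centralizer_le_normalizer _))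
  have hYe := isElementaryAbelian_largestPReducedOf p L
  have hCn : L ≤ normalizer (C : Set G) := hLY.trans (normalizer_le_normalizer_centralizer Y)
  have hCnM : M ≤ normalizer (C : Set G) := hMY.trans (normalizer_le_normalizer_centralizer Y)
  have hTLs : T ≤ Ls := le_inf hTM.le
    ((le_inf le_normalizer (hTL.le.trans hCn)).trans inf_normalizer_le_normalizer_inf)
  have hsup : M ≤ Ls ⊔ C := by
    intro m hm
    obtain ⟨a, ha, c, hc, rfl⟩ := exists_mem_normalizer_mul_mem_centralizer hTM hMY hm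
    exact mul_mem ((le_sup_left : Ls ≤ Ls ⊔ C) ha) ((le_sup_right : C ≤ Ls ⊔ C) hc.2)
  have heq : L ⊔ C = Ls ⊔ C := by
    rw [← hfac]
    exact le_antisymm (sup_le hsup le_sup_right) (sup_le_sup_right inf_le_left C)
  have hred : ∀ N : Subgroup G, N ≤ Ls → Ls ≤ normalizer (N : Set G) →
      (∀ x ∈ N, ∃ k : ℕ, x ^ p ^ k ∈ C) → N ≤ C := by
    intro N hNLs hN hx o ho
    have hNC : N ≤ normalizer (C : Set G) := hNLs.trans (inf_le_left.trans hCnM)
    have hn : L ≤ normalizer ((N ⊔ C : Subgroup G) : Set G) := by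
      refine le_trans (le_sup_left.trans heq.le) (sup_le ?_ (le_sup_right.trans le_normalizer))
      intro g hg
      rw [mem_normalizer_iff_map_conj_eq, Subgroup.map_sup]
      exact congrArg₂ (· ⊔ ·) (conj_map_of_mem (hN hg)) (conj_map_of_mem (hCnM hg.1))
    have hN' : (N ⊔ C) ⊓ L ≤ C := by
      refine largestPReducedOf_reduced inf_le_right
        ((le_inf hn le_normalizer).trans inf_normalizer_le_normalizer_inf) fun x hx' => ?_
      have h1 := (mem_inf.1 hx').1
      rw [← SetLike.mem_coe, coe_mul_of_left_le_normalizer_right _ _ hNC] at h1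
      obtain ⟨o', ho', c, hc, rfl⟩ := h1
      obtain ⟨k, hk⟩ := hx o' ho'
      refine ⟨k, ?_⟩
      have h := mul_mem hk (inv_pow_mul_mul_pow_mem (hNC ho') hc (p ^ k))
      rwa [mul_inv_cancel_left] at h
    have h1 : o ∈ L ⊔ C := heq.ge ((le_sup_left : Ls ≤ Ls ⊔ C) (hNLs ho))
    rw [← SetLike.mem_coe, coe_mul_of_left_le_normalizer_right _ _ hCn] at h1
    obtain ⟨l, hl, c, hc, rfl⟩ := h1
    refine mul_mem (hN' (mem_inf.2 ⟨?_, hl⟩)) hc
    have h2 := mul_mem ((le_sup_left : N ≤ N ⊔ C) ho) ((le_sup_right : C ≤ N ⊔ C) (inv_mem hc))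
    simpa using h2
  have hY0 : Y ≤ T₀ := le_inf
    ((largestPReducedOf_le_pCoreOf p L).trans (pCoreOf_le_of_isSylIn hTL))
    fun y hy v hv => mul_comm_of_mem hYe.1 hv hy
  have hcore : Cfsg.pCoreOf p Ls = T₀ := by
    refine le_antisymm (le_inf (pCoreOf_le_of_isSylIn (hTM.mono hTLs inf_le_left)) ?_)
      (le_pCoreOf (inf_le_left.trans hTLs) inf_le_right (hTL.isPGroup.to_le inf_le_left))
    refine hred _ (pCoreOf_le p Ls) (le_normalizer_pCoreOf p Ls) fun x hx => ?_
    obtain ⟨k, hk⟩ := isPGroup_pCoreOf p Ls ⟨x, hx⟩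
    refine ⟨k, ?_⟩
    rw [show x ^ p ^ k = 1 from congrArg Subtype.val hk]
    exact one_mem _
  refine ⟨hTLs, le_antisymm ?_ ?_, heq, hcore⟩
  · refine le_trans ?_ (largestPReducedOf_eq_omegaCentre hL hTL).1.ge
    intro y hy
    refine subset_closure ⟨mem_inf.2 ⟨?_, fun t ht => ?_⟩,
      (isElementaryAbelian_largestPReducedOf p Ls).2 y hy⟩
    · exact hcore.le (largestPReducedOf_le_pCoreOf p Ls hy)
    · exact (pCoreOf_le_centralizer_largestPReducedOf p Ls (hcore.symm ▸ ht) y hy).symm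
  · exact le_largestPReducedOf ((hY0.trans inf_le_left).trans hTLs) (inf_le_left.trans hMY) hYe hred

/-! ### The family `𝓛_H` -/

omit [Fact p.Prime] in
theorem mem_charPSubgroups_iff {L : Subgroup G} :
    L ∈ Cfsg.charPSubgroups p G ↔
      Cfsg.pCoreOf p L ≠ ⊥ ∧ centralizer (Cfsg.pCoreOf p L : Set G) ≤ Cfsg.pCoreOf p L := by
  show (Cfsg.pCore p ↥L ≠ ⊥ ∧ _) ↔ _
  exact and_congr_left fun _ => (map_eq_bot_iff_of_injective _ L.subtype_injective).symm.not

omit [Fact p.Prime] in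
theorem isCharP_of_mem_charPSubgroups {L : Subgroup G} (h : L ∈ Cfsg.charPSubgroups p G) :
    IsCharP p L :=
  inf_le_right.trans (mem_charPSubgroups_iff.1 h).2

theorem mem_charPSubgroups_of_parabolic (hH : Cfsg.IsOfParabolicCharacteristic p G) (T : Sylow p G)
    {R X : Subgroup G} (hR : IsPGroup p ↥R) (hR1 : R ≠ ⊥) (hTX : (T : Subgroup G) ≤ X)
    (hXN : X ≤ normalizer (R : Set G)) : X ∈ Cfsg.charPSubgroups p G := by
  have hN : IsCharP p (normalizer (R : Set G)) :=
    (isCharP_iff _).2 (hH R hR hR1 ⟨T, hTX.trans hXN⟩)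
  set O := Cfsg.pCoreOf p (normalizer (R : Set G))
  have hTs : IsSylIn p (T : Subgroup G) (normalizer (R : Set G)) :=
    IsSylIn.mono (H := ⊤) (isSylIn_top_iff.2 ⟨T, rfl⟩) (hTX.trans hXN) le_top
  have hOX : O ≤ Cfsg.pCoreOf p X := pCoreOf_le_of_parabolic hTs hTX hXN
  have hRO : R ≤ O := le_pCoreOf le_normalizer le_rfl hR
  refine mem_charPSubgroups_iff.2 ⟨fun h => hR1 (le_bot_iff.1 (h ▸ hRO.trans hOX)), ?_⟩
  refine le_trans ?_ hOX
  refine (le_inf ?_ (centralizer_le (SetLike.coe_subset_coe.2 hOX))).trans hN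
  exact (centralizer_le (SetLike.coe_subset_coe.2 (hRO.trans hOX))).trans (centralizer_le_normalizer _)

theorem largestPReducedOf_ne_bot (T : Sylow p G) {L : Subgroup G}
    (hTL : (T : Subgroup G) ≤ L) (hL : L ∈ Cfsg.charPSubgroups p G) :
    Cfsg.largestPReducedOf p L ≠ ⊥ := by
  have hT : IsSylIn p (T : Subgroup G) L :=
    IsSylIn.mono (H := ⊤) (isSylIn_top_iff.2 ⟨T, rfl⟩) hTL le_top
  obtain ⟨z, hz, hzo, hzc⟩ := exists_order_prime_central T.isPGroup' (pCoreOf_le_of_isSylIn hT)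
    (hT.le.trans (le_normalizer_pCoreOf p L)) (mem_charPSubgroups_iff.1 hL).1
  intro h
  have h1 : z ∈ omegaCentre p (T : Subgroup G) :=
    subset_closure ⟨mem_inf.2 ⟨pCoreOf_le_of_isSylIn hT hz, hzc⟩, by rw [← hzo, pow_orderOf_eq_one]⟩
  have h2 := omegaCentre_le_largestPReducedOf ((isCharP_iff L).1 (isCharP_of_mem_charPSubgroups hL)) hT h1
  rw [h, mem_bot] at h2
  rw [h2, orderOf_one] at hzo
  exact (Fact.out : p.Prime).ne_one hzo.symm

/-- In a group of parabolic characteristic `p`, `𝔐_H(T)` covers `𝓛_H(T)`. -/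
theorem exists_frakM (hH : Cfsg.IsOfParabolicCharacteristic p G) (T : Sylow p G) {L : Subgroup G}
    (hTL : (T : Subgroup G) ≤ L) (hL : L ∈ Cfsg.charPSubgroups p G) :
    ∃ M Ls : Subgroup G, (T : Subgroup G) ≤ M ∧ Cfsg.IsInFrakM p M ∧ (T : Subgroup G) ≤ Ls ∧
      Ls ≤ M ∧ Ls ∈ Cfsg.charPSubgroups p G ∧
      Cfsg.largestPReducedOf p L = Cfsg.largestPReducedOf p Ls ∧
      Cfsg.largestPReducedOf p L ≤ Cfsg.largestPReducedOf p M ∧
      L ⊔ centralizer (Cfsg.largestPReducedOf p L : Set G) =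
        Ls ⊔ centralizer (Cfsg.largestPReducedOf p L : Set G) := by
  classical
  have hsyl : ∀ X : Subgroup G, (T : Subgroup G) ≤ X → IsSylIn p (T : Subgroup G) X :=
    fun X h => IsSylIn.mono (H := ⊤) (isSylIn_top_iff.2 ⟨T, rfl⟩) h le_top
  have hp : ∀ X : Subgroup G, IsPGroup p ↥(Cfsg.largestPReducedOf p X) := fun X =>
    isPGroup_of_isElementaryAbelian (isElementaryAbelian_largestPReducedOf p X)
  -- suitable subgroups below `L C(Y_L)`
  let good : Subgroup G → Prop := fun Ls => (T : Subgroup G) ≤ Ls ∧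
    Ls ∈ Cfsg.charPSubgroups p G ∧
    Cfsg.largestPReducedOf p L = Cfsg.largestPReducedOf p Ls ∧
    L ⊔ centralizer (Cfsg.largestPReducedOf p L : Set G) =
      Ls ⊔ centralizer (Cfsg.largestPReducedOf p L : Set G)
  obtain ⟨X₀, hLX₀, hX₀⟩ := (Set.toFinite (Cfsg.charPSubgroups p G)).exists_le_maximal hL
  have hX₀' : X₀ ∈ Cfsg.maxCharPSubgroups p G :=
    ⟨hX₀.1, fun Z hZ h => le_antisymm (hX₀.2 hZ h) h⟩
  obtain ⟨X, ⟨hXmax, Ls, hLs, hLsX⟩, hXY⟩ := Set.exists_max_image
    {X : Subgroup G | X ∈ Cfsg.maxCharPSubgroups p G ∧ ∃ Ls, good Ls ∧ Ls ≤ X}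
    (fun X => Nat.card ↥(Cfsg.largestPReducedOf p X)) (Set.toFinite _)
    ⟨X₀, hX₀', L, ⟨hTL, hL, rfl, rfl⟩, hLX₀⟩
  have hTX : (T : Subgroup G) ≤ X := hLs.1.trans hLsX
  have hXc : IsCharP p X := isCharP_of_mem_charPSubgroups hXmax.1
  have hY1 := largestPReducedOf_ne_bot T hTX hXmax.1
  set Y := Cfsg.largestPReducedOf p X
  have hXn : X ≤ normalizer (Y : Set G) := le_normalizer_largestPReducedOf p X
  have hXN : normalizer (Y : Set G) = X :=
    hXmax.2 _ (mem_charPSubgroups_of_parabolic hH T (hp X) hY1 (hTX.trans hXn) le_rfl) hXn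
  have hCX : centralizer (Y : Set G) ≤ X := (centralizer_le_normalizer _).trans hXN.le
  -- a minimal parabolic supplement of `C(Y)` in `X`
  obtain ⟨M, ⟨hTM, hMX, hMC⟩, hMmin⟩ := (Set.toFinite {M : Subgroup G |
      (T : Subgroup G) ≤ M ∧ M ≤ X ∧ M ⊔ centralizer (Y : Set G) = X}).exists_minimal
    ⟨X, hTX, le_rfl, sup_eq_left.2 hCX⟩
  set T₀ := (T : Subgroup G) ⊓ centralizer (Y : Set G)
  obtain ⟨h1, h2, h3, h4⟩ := reduce_step hXc (hsyl X hTX) (hsyl M hTM)
    (hMC.trans (sup_eq_left.2 hCX).symm)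
  have hMN : M ≤ normalizer (T₀ : Set G) :=
    (hMmin ⟨h1, inf_le_left.trans hMX, h3.symm.trans (sup_eq_left.2 hCX)⟩ inf_le_left).trans
      inf_le_right
  rw [inf_eq_left.2 hMN] at h2 h4
  have hM : M ∈ Cfsg.charPSubgroups p G :=
    mem_charPSubgroups_of_parabolic hH T (hp X) hY1 hTM (hMX.trans hXn)
  have hdag : M ⊔ centralizer (Cfsg.largestPReducedOf p M : Set G) = X := by rw [h2]; exact hMC
  -- a good subgroup inside `M`
  have hYL : Cfsg.largestPReducedOf p L ≤ Y :=
    hLs.2.2.1.le.trans (largestPReducedOf_mono hXc (hsyl X hTX) hLs.1 hLsX)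
  set D := L ⊔ centralizer (Cfsg.largestPReducedOf p L : Set G)
  have hMD : (M ⊓ D) ⊔ centralizer (Cfsg.largestPReducedOf p L : Set G) = D := by
    refine le_antisymm (sup_le inf_le_right le_sup_right) (hLs.2.2.2.le.trans (sup_le ?_ le_sup_right))
    intro l hl
    have h := hMC.ge (hLsX hl)
    rw [← SetLike.mem_coe, coe_mul_of_left_le_normalizer_right _ _
      ((hMX.trans hXn).trans (normalizer_le_normalizer_centralizer Y))] at h
    obtain ⟨m, hm, c, hc, rfl⟩ := h
    have hc' : c ∈ centralizer (Cfsg.largestPReducedOf p L : Set G) :=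
      centralizer_le (SetLike.coe_subset_coe.2 hYL) hc
    refine mul_mem ((le_sup_left : M ⊓ D ≤ _) (mem_inf.2 ⟨hm, ?_⟩))
      ((le_sup_right : centralizer (Cfsg.largestPReducedOf p L : Set G) ≤ _) hc')
    have h5 : m * c ∈ D := hLs.2.2.2.ge
      ((le_sup_left : Ls ≤ Ls ⊔ centralizer (Cfsg.largestPReducedOf p L : Set G)) hl)
    have h6 := mul_mem h5 ((le_sup_right : _ ≤ D) (inv_mem hc'))
    simpa using h6
  obtain ⟨g1, g2, g3, -⟩ := reduce_step (isCharP_of_mem_charPSubgroups hL) (hsyl L hTL)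
    (hsyl (M ⊓ D) (le_inf hTM (hTL.trans le_sup_left))) hMD
  have hgood : good ((M ⊓ D) ⊓ normalizer
      (((T : Subgroup G) ⊓ centralizer (Cfsg.largestPReducedOf p L : Set G) : Subgroup G) : Set G)) :=
    ⟨g1, mem_charPSubgroups_of_parabolic hH T (hp L) (largestPReducedOf_ne_bot T hTL hL) g1
      ((inf_le_left.trans inf_le_right).trans
        (sup_le (le_normalizer_largestPReducedOf p L) (centralizer_le_normalizer _))),
      g2.symm, g3⟩
  refine ⟨M, _, hTM, ⟨hM, ?_, ?_, ?_, ?_, ?_⟩, hgood.1, inf_le_left.trans inf_le_left, hgood.2.1,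
    hgood.2.2.1, hYL.trans h2.ge, hgood.2.2.2⟩
  · rw [hdag]; exact hXmax
  · intro X' hX' hMX'
    rw [hdag]
    have hTX' : (T : Subgroup G) ≤ X' := hTM.trans hMX'
    have hle : Y ≤ Cfsg.largestPReducedOf p X' :=
      h2.ge.trans (largestPReducedOf_mono (isCharP_of_mem_charPSubgroups hX'.1) (hsyl X' hTX') hTM hMX')
    have he : Y = Cfsg.largestPReducedOf p X' := eq_of_le_of_card_ge hle
      (hXY X' ⟨hX', _, hgood, (inf_le_left.trans inf_le_left).trans hMX'⟩)
    have h5 : X' ≤ X := by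
      rw [← hXN, he]
      exact le_normalizer_largestPReducedOf p X'
    exact (hX'.2 X hXmax.1 h5).symm
  · rw [hdag]; exact h2
  · rw [h2, isPClosed_subgroup_iff]
    intro P hP hPp
    have h0 := (hsyl M hTM).inf_centralizer (Y := Y) (hMX.trans hXn)
    have hT0 : T₀ ≤ Cfsg.pCoreOf p (M ⊓ centralizer (Y : Set G)) :=
      le_pCoreOf h0.le (inf_le_left.trans hMN) h0.isPGroup
    refine le_trans ?_ hT0
    have h := h0.eq_of_le
      (h0.isPGroup.to_sup_of_normal_left' hPp (hP.trans (inf_le_left.trans hMN)))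
      (sup_le h0.le hP) le_sup_left
    exact le_sup_right.trans h.le
  · rw [h2]
    set C' := (M ⊓ centralizer (Y : Set G)).subgroupOf M
    haveI : C'.Normal := (normal_subgroupOf_iff_le_normalizer inf_le_left).2
      ((le_inf le_normalizer ((hMX.trans hXn).trans (normalizer_le_normalizer_centralizer Y))).trans
        inf_normalizer_le_normalizer_inf)
    refine le_iInf₂ fun K' hK' => ?_
    rw [map_le_iff_le_comap]
    by_contra hCK
    set K := K'.comap (QuotientGroup.mk' (Cfsg.pCore p ↥M))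
    have hK : IsCoatom K :=
      Subgroup.isCoatom_comap_of_surjective (QuotientGroup.mk'_surjective _) hK'
    have htop : K ⊔ C' = ⊤ := hK.2 _ (lt_of_le_of_ne le_sup_left fun h => hCK (h ▸ le_sup_right))
    have hT0K : T₀.subgroupOf M ≤ K := by
      intro x hx
      have : x ∈ Cfsg.pCore p ↥M := by
        have h5 : (x : G) ∈ Cfsg.pCoreOf p M := h4.symm ▸ hx
        obtain ⟨y, hy, hyx⟩ := h5
        exact (Subtype.ext hyx : y = x) ▸ hy
      show QuotientGroup.mk' (Cfsg.pCore p ↥M) x ∈ K'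
      rw [QuotientGroup.mk'_apply, (QuotientGroup.eq_one_iff x).2 this]
      exact one_mem _
    have hidx : ¬ p ∣ K.index := by
      have h0 := (hsyl M hTM).inf_centralizer (Y := Y) (hMX.trans hXn)
      have hT0C : T₀.subgroupOf M ≤ C' := comap_mono h0.le
      have hr : ¬ p ∣ (T₀.subgroupOf M).relIndex C' := by
        rw [relIndex_subgroupOf inf_le_left]
        exact h0.not_dvd
      refine fun hd => hr (hd.trans ?_)
      have e2 := card_mul_index C'
      have e3 := card_mul_index (C'.subgroupOf K)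
      have e1 := card_mul_index K
      rw [← relIndex_top_right C', ← htop, relIndex_sup_right] at e2
      rw [← relIndex] at e3
      have hpos : 0 < C'.relIndex K := Nat.pos_of_ne_zero fun h => by
        rw [h, mul_zero] at e3
        exact (Nat.card_pos (α := ↥K)).ne e3
      have e4 : Nat.card ↥(C'.subgroupOf K) * K.index = Nat.card ↥C' := by
        refine Nat.eq_of_mul_eq_mul_right hpos ?_
        rw [e2, ← e1, mul_right_comm, e3]
      have e5 := card_mul_index ((T₀.subgroupOf M).subgroupOf C')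
      rw [← relIndex, Nat.card_congr (subgroupOfEquivOfLe hT0C).toEquiv] at e5
      have e6 : Nat.card ↥(T₀.subgroupOf M) ∣ Nat.card ↥(C'.subgroupOf K) := by
        have h7 : Nat.card ↥(C'.subgroupOf K) = Nat.card ↥(C' ⊓ K) := by
          rw [← inf_subgroupOf_right C' K, Nat.card_congr (subgroupOfEquivOfLe inf_le_right).toEquiv]
        rw [h7]
        exact card_dvd_of_le (le_inf hT0C hT0K)
      obtain ⟨a, ha⟩ := e6
      refine Dvd.intro_left a (Nat.eq_of_mul_eq_mul_left (Nat.card_pos (α := ↥(T₀.subgroupOf M))) ?_)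
      rw [← mul_assoc, ← ha, e4, e5]
    -- a conjugate of `K` contains `T`
    set KG := K.map M.subtype
    have hKM : KG ≤ M := map_subtype_le K
    have hidx' : ¬ p ∣ KG.relIndex M := by
      rw [relIndex, subgroupOf, comap_map_eq_self_of_injective M.subtype_injective]
      exact hidx
    obtain ⟨T₁, hT₁⟩ := exists_isSylIn p KG
    obtain ⟨g, hg, hge⟩ := (hT₁.of_not_dvd hKM hidx').exists_conj (hsyl M hTM)
    have hle : M ≤ KG ⊔ centralizer (Y : Set G) := by
      intro m hm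
      have h5 := mem_map_of_mem M.subtype (htop.ge (mem_top (⟨m, hm⟩ : ↥M)))
      rw [Subgroup.map_sup, map_subgroupOf_eq_of_le (inf_le_left)] at h5
      exact SetLike.le_def.1 (sup_le_sup_left inf_le_right _) h5
    have hnew : KG.map (MulAut.conj g).toMonoidHom ∈ {M : Subgroup G |
        (T : Subgroup G) ≤ M ∧ M ≤ X ∧ M ⊔ centralizer (Y : Set G) = X} := by
      refine ⟨hge ▸ map_mono hT₁.le,
        (map_mono (hKM.trans hMX)).trans (conj_map_of_mem (le_normalizer (hMX hg))).le, ?_⟩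
      have h5 : (KG ⊔ centralizer (Y : Set G)).map (MulAut.conj g).toMonoidHom = X := by
        rw [le_antisymm (sup_le (hKM.trans hMX) hCX) (hMC.ge.trans (sup_le hle le_sup_right))]
        exact conj_map_of_mem (le_normalizer (hMX hg))
      rw [Subgroup.map_sup, conj_map_of_mem (normalizer_le_normalizer_centralizer Y (hXn (hMX hg)))] at h5
      exact h5
    have hle2 : KG.map (MulAut.conj g).toMonoidHom ≤ M :=
      (map_mono hKM).trans (conj_map_of_mem (le_normalizer hg)).le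
    have h6 := card_le_of_le (hMmin hnew hle2)
    rw [card_map_of_injective (MulAut.conj g).injective,
      card_map_of_injective M.subtype_injective] at h6
    exact hK.1 (eq_top_of_le_card K h6)

end Cfsg.Agent.CharP
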