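import Cfsg.Agent.Lib.Cores.Residual
import Cfsg.Agent.Lib.Cores.Subnormal
import Cfsg.Agent.Lib.Subnormal.Join

/-!
`O^p` and subnormal subgroups: a normal `q`-group normalizes `q`-perfect subnormal subgroups,
Wielandt's theorem `O^p(⟨A, B⟩) = ⟨O^p(A), O^p(B)⟩` for subnormal `A`, `B`, and the lemma that
`(M ⊓ A) ⊔ (M ⊓ B)` is trivial or all of a minimal normal subgroup `M` when `A ⊔ B` is everything.
-/

set_option autoImplicit false

namespace Cfsg.Agent.CharP

open Subgroup

variable {G G' : Type*} [Group G] [Group G'] {p : ℕ}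

/-- `O^p(A)` inside the ambient group. -/
def resOf (p : ℕ) (A : Subgroup G) : Subgroup G := (Cfsg.pResidual p ↥A).map A.subtype

theorem resOf_le (p : ℕ) (A : Subgroup G) : resOf p A ≤ A := map_subtype_le _

theorem resOf_le_pResidual (p : ℕ) (A : Subgroup G) : resOf p A ≤ Cfsg.pResidual p G :=
  Cores.map_pResidual_le A.subtype p

theorem resOf_mono (p : ℕ) {A B : Subgroup G} (h : A ≤ B) : resOf p A ≤ resOf p B := by
  unfold resOf
  rw [← subtype_comp_inclusion h, ← map_map]
  exact map_mono (Cores.map_pResidual_le _ p)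

theorem map_resOf [Finite G] [Fact p.Prime] (f : G →* G') (A : Subgroup G) :
    (resOf p A).map f = resOf p (A.map f) := by
  unfold resOf
  rw [← Cores.map_pResidual_of_surjective (f.subgroupMap_surjective A) p, map_map, map_map]
  rfl

theorem resOf_top (p : ℕ) : resOf p (⊤ : Subgroup G) = Cfsg.pResidual p G := by
  refine le_antisymm (resOf_le_pResidual p ⊤) ?_
  intro x hx
  exact ⟨Subgroup.topEquiv.symm x, Cores.map_pResidual_le Subgroup.topEquiv.symm.toMonoidHom p
    ⟨x, hx, rfl⟩, rfl⟩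

theorem le_normalizer_resOf (p : ℕ) (A : Subgroup G) :
    normalizer (A : Set G) ≤ normalizer (resOf p A : Set G) :=
  normalizer_le_normalizer_map_subtype A (Cfsg.pResidual p ↥A)
where
  normalizer_le_normalizer_map_subtype (A : Subgroup G) (X : Subgroup ↥A) [X.Characteristic] :
      normalizer (A : Set G) ≤ normalizer ((X.map A.subtype : Subgroup G) : Set G) := by
    intro g hg
    rw [mem_normalizer_iff_map_conj_eq]
    let e : ↥A ≃* ↥A :=
      ((MulAut.conj g).subgroupMap A).trans
        (MulEquiv.subgroupCongr (mem_normalizer_iff_map_conj_eq.1 hg))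
    conv_rhs => rw [← (characteristic_iff_map_eq (H := X)).1 inferInstance e]
    rw [map_map, map_map]
    rfl

theorem resOf_resOf (p : ℕ) (A : Subgroup G) : resOf p (resOf p A) = resOf p A := by
  refine le_antisymm (resOf_le _ _) ?_
  have h : ∀ x ∈ Cfsg.pResidual p ↥A, (x : G) ∈ resOf p (resOf p A) := by
    intro x hx
    induction hx using closure_induction with
    | mem y hy => exact ⟨⟨(y : G), y, subset_closure hy, rfl⟩, subset_closure (by
        show (orderOf _).Coprime p
        rw [← Subgroup.orderOf_coe]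
        show (orderOf (y : G)).Coprime p
        rw [Subgroup.orderOf_coe]
        exact hy), rfl⟩
    | one => exact one_mem _
    | mul a b _ _ ha hb => exact mul_mem ha hb
    | inv a _ ha => exact inv_mem ha
  rintro _ ⟨x, hx, rfl⟩
  exact h x hx

theorem isSubnormal_resOf [Finite G] {A : Subgroup G} (hA : A.IsSubnormal) :
    (resOf p A).IsSubnormal :=
  IsSubnormal.step _ A (resOf_le p A) hA
    ((normal_subgroupOf_iff_le_normalizer (resOf_le p A)).2
      (le_normalizer.trans (le_normalizer_resOf p A)))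

theorem resOf_le_of_isPGroup_quotient [Fact p.Prime] {A N : Subgroup G} (hNA : N ≤ A)
    (hn : A ≤ normalizer (N : Set G))
    (h : ∀ x ∈ A, ∃ k : ℕ, x ^ p ^ k ∈ N) : resOf p A ≤ N := by
  haveI : (N.subgroupOf A).Normal := (normal_subgroupOf_iff_le_normalizer hNA).2 hn
  have h1 : Cfsg.pResidual p ↥A ≤ N.subgroupOf A := by
    refine Cores.pResidual_le_of_isPGroup_quotient fun x => ?_
    induction x using QuotientGroup.induction_on with
    | H g =>
      obtain ⟨k, hk⟩ := h g g.2
      exact ⟨k, by rw [← QuotientGroup.mk_pow, QuotientGroup.eq_one_iff]; exact hk⟩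
  exact (map_mono h1).trans (map_subgroupOf_eq_of_le hNA).le

theorem exists_pow_mem_resOf [Finite G] [Fact p.Prime] {A : Subgroup G} {x : G} (hx : x ∈ A) :
    ∃ k : ℕ, x ^ p ^ k ∈ resOf p A := by
  obtain ⟨k, hk⟩ := Cores.isPGroup_quotient_pResidual p ((⟨x, hx⟩ : ↥A) : ↥A ⧸ Cfsg.pResidual p ↥A)
  rw [← QuotientGroup.mk_pow, QuotientGroup.eq_one_iff] at hk
  exact ⟨k, _, hk, rfl⟩

theorem mem_resOf_of_coprime {A : Subgroup G} {x : G} (hx : x ∈ A) (h : (orderOf x).Coprime p) :
    x ∈ resOf p A :=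
  ⟨⟨x, hx⟩, subset_closure (by
    show (orderOf _).Coprime p
    rwa [← Subgroup.orderOf_coe]), rfl⟩

/-- A subnormal subgroup of `p`-power index contains `O^p`. -/
theorem pResidual_le_of_isSubnormal [Finite G] [Fact p.Prime] {A : Subgroup G}
    (hA : A.IsSubnormal) (hidx : ∃ k, A.index = p ^ k) : Cfsg.pResidual p G ≤ A := by
  induction hA with
  | top => exact le_top
  | step A K hAK _ hn ih =>
    obtain ⟨k, hk⟩ := hidx
    have h1 := relIndex_mul_index hAK
    obtain ⟨i, _, hi⟩ := (Nat.dvd_prime_pow Fact.out).1 (hk ▸ Dvd.intro_left _ h1 : K.index ∣ p ^ k)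
    obtain ⟨j, _, hj⟩ := (Nat.dvd_prime_pow Fact.out).1
      (hk ▸ Dvd.intro _ h1 : A.relIndex K ∣ p ^ k)
    have h2 : resOf p (Cfsg.pResidual p G) ≤ resOf p K := resOf_mono p (ih ⟨i, hi⟩)
    rw [← resOf_top p, resOf_resOf, resOf_top] at h2
    refine h2.trans ?_
    haveI := hn
    have h3 : Cfsg.pResidual p ↥K ≤ A.subgroupOf K :=
      Cores.pResidual_le_of_isPGroup_quotient
        (IsPGroup.of_card (n := j) (by rw [← index_eq_card]; exact hj))
    exact (map_mono h3).trans (map_subgroupOf_eq_of_le hAK).le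

/-- A normal `q`-group normalizes every `q`-perfect subnormal subgroup. -/
theorem le_normalizer_of_resOf_eq [Finite G] [Fact p.Prime] {L X : Subgroup G} [L.Normal]
    (hL : IsPGroup p L) (hX : X.IsSubnormal) (hperf : resOf p X = X) :
    L ≤ normalizer (X : Set G) := by
  set Y := X ⊔ L
  have hidx : ∃ k, (X.subgroupOf Y).index = p ^ k := by
    have hdvd : X.relIndex Y ∣ Nat.card L := by
      have h1 := card_mul_index (X.subgroupOf Y)
      rw [Nat.card_congr (subgroupOfEquivOfLe (le_sup_left : X ≤ Y)).toEquiv,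
        show (X.subgroupOf Y).index = X.relIndex Y from rfl] at h1
      have h2 := card_mul_index (L.subgroupOf Y)
      rw [Nat.card_congr (subgroupOfEquivOfLe (le_sup_right : L ≤ Y)).toEquiv,
        show (L.subgroupOf Y).index = L.relIndex Y from rfl, relIndex_sup_right] at h2
      have h3 := card_mul_index (L.subgroupOf X)
      rw [show (L.subgroupOf X).index = L.relIndex X from rfl] at h3
      have hr : 0 < L.relIndex X := Nat.pos_of_ne_zero fun h => by
        rw [h, mul_zero] at h3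
        exact (Nat.card_pos (α := X)).ne h3
      refine Dvd.intro_left (Nat.card (L.subgroupOf X)) (Nat.eq_of_mul_eq_mul_right hr ?_)
      rw [h2, ← h1, mul_right_comm, h3]
    obtain ⟨n, hn⟩ := IsPGroup.iff_card.1 hL
    obtain ⟨i, _, hi⟩ := (Nat.dvd_prime_pow Fact.out).1
      (hn ▸ hdvd : X.relIndex Y ∣ p ^ n)
    exact ⟨i, hi⟩
  have h1 : Cfsg.pResidual p ↥Y ≤ X.subgroupOf Y :=
    pResidual_le_of_isSubnormal hX.subgroupOf hidx
  have h2 : resOf p Y = X := by
    refine le_antisymm ((map_mono h1).trans (map_subgroupOf_eq_of_le le_sup_left).le) ?_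
    rw [← hperf]
    exact resOf_mono p le_sup_left
  rw [← h2]
  exact (le_sup_right.trans le_normalizer).trans (le_normalizer_resOf p Y)

theorem exists_minimal_normal_top [Finite G] [Nontrivial G] :
    ∃ M : Subgroup G, M.Normal ∧ M ≠ ⊥ ∧
      ∀ L : Subgroup G, L.Normal → L ≤ M → L = ⊥ ∨ L = M := by
  obtain ⟨M, hMn, _, hM, hmin⟩ :=
    Cfsg.Agent.Solvable.Basics.exists_minimal_normal (N := (⊤ : Subgroup G)) top_ne_bot
  exact ⟨M, hMn, hM, hmin⟩

/-- If subnormal `A`, `B` generate `G`, then `(M ⊓ A) ⊔ (M ⊓ B)` is everything of a minimal normal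
`M`, unless `M` is central of prime order. -/
theorem minimal_normal_inf_sup [Finite G] {A B M : Subgroup G} (hA : A.IsSubnormal)
    (hB : B.IsSubnormal) (htop : A ⊔ B = ⊤) [M.Normal] (hM : M ≠ ⊥)
    (hmin : ∀ L : Subgroup G, L.Normal → L ≤ M → L = ⊥ ∨ L = M) :
    (M ⊓ A) ⊔ (M ⊓ B) = M ∨ ((Nat.card M).Prime ∧ ∀ g : G, ∀ m ∈ M, g * m = m * g) := by
  set W := (M ⊓ A) ⊔ (M ⊓ B)
  have hWM : W ≤ M := sup_le inf_le_left inf_le_left
  have hMA := Subnormal.Join.le_normalizer_of_isSubnormal hA hM hmin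
  have hMB := Subnormal.Join.le_normalizer_of_isSubnormal hB hM hmin
  -- commutators of `M` with `A` lie in `M ⊓ A`
  have hcomm : ∀ C : Subgroup G, M ≤ normalizer (C : Set G) → ∀ c ∈ C, ∀ m ∈ M,
      c * m * c⁻¹ * m⁻¹ ∈ M ⊓ C := by
    intro C hC c hc m hm
    refine mem_inf.2 ⟨mul_mem (‹M.Normal›.conj_mem m hm c) (inv_mem hm), ?_⟩
    have h1 : m * c⁻¹ * m⁻¹ ∈ C := (mem_normalizer_iff.1 (hC hm) c⁻¹).1 (inv_mem hc)
    simpa [mul_assoc] using mul_mem hc h1
  have hinv : ∀ C : Subgroup G, M ≤ normalizer (C : Set G) → M ⊓ C ≤ W →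
      C ≤ normalizer (W : Set G) := by
    intro C hC hle
    have h : ∀ c ∈ C, ∀ w ∈ W, c * w * c⁻¹ ∈ W := by
      intro c hc w hw
      have := mul_mem (hle (hcomm C hC c hc w (hWM hw))) hw
      simpa [mul_assoc] using this
    intro c hc
    rw [mem_normalizer_iff]
    refine fun w => ⟨h c hc w, fun hw => ?_⟩
    have := h c⁻¹ (inv_mem hc) _ hw
    simpa [mul_assoc] using this
  have hWn : W.Normal := by
    rw [← normalizer_eq_top_iff, eq_top_iff, ← htop]
    exact sup_le (hinv A hMA le_sup_left) (hinv B hMB le_sup_right)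
  rcases hmin W hWn hWM with hW | hW
  · right
    have hcent : M ≤ center G := by
      intro m hm
      have hcm : A ⊔ B ≤ centralizer {m} := by
        refine sup_le ?_ ?_ <;> intro c hc <;> rw [mem_centralizer_singleton_iff]
        · have h := (hW ▸ le_sup_left : M ⊓ A ≤ ⊥) (hcomm A hMA c hc m hm)
          rw [mem_bot, mul_inv_eq_one, mul_inv_eq_iff_eq_mul] at h
          exact h
        · have h := (hW ▸ le_sup_right : M ⊓ B ≤ ⊥) (hcomm B hMB c hc m hm)
          rw [mem_bot, mul_inv_eq_one, mul_inv_eq_iff_eq_mul] at h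
          exact h
      rw [mem_center_iff]
      intro g
      exact mem_centralizer_singleton_iff.1 (hcm (htop ▸ mem_top g))
    refine ⟨?_, fun g m hm => mem_center_iff.1 (hcent hm) g⟩
    obtain ⟨q, hq, hqd⟩ := Nat.exists_prime_and_dvd (n := Nat.card M)
      (fun h => hM (card_eq_one.1 h))
    haveI := Fact.mk hq
    obtain ⟨⟨z, hz⟩, hzo⟩ := exists_prime_orderOf_dvd_card' q hqd
    rw [orderOf_mk] at hzo
    have hZle : zpowers z ≤ M := zpowers_le.2 hz
    have hZn : (zpowers z).Normal := ⟨fun x hx g => by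
      rw [mem_center_iff.1 (hcent (hZle hx)) g, mul_inv_cancel_right]
      exact hx⟩
    rcases hmin _ hZn hZle with h | h
    · rw [← Nat.card_zpowers, h, card_bot] at hzo
      exact absurd hzo.symm hq.ne_one
    · rw [← h, Nat.card_zpowers, hzo]
      exact hq
  · exact Or.inl hW

/-- For normal subgroups, `O^p(X ⊔ Y) = O^p(X) ⊔ O^p(Y)`; we only need `≤`. -/
theorem resOf_sup_le_of_normalizer [Finite G] [Fact p.Prime] {X Y : Subgroup G}
    (hX : X.IsSubnormal) (hY : Y.IsSubnormal) (htop : X ⊔ Y = ⊤)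
    [(resOf p X ⊔ resOf p Y).Normal] :
    Cfsg.pResidual p G ≤ resOf p X ⊔ resOf p Y := by
  set R := resOf p X ⊔ resOf p Y
  refine Cores.pResidual_le_of_isPGroup_quotient ?_
  have key : ∀ C : Subgroup G, C.IsSubnormal → resOf p C ≤ R →
      C.map (QuotientGroup.mk' R) ≤ Cfsg.pCore p (G ⧸ R) := by
    intro C hC hle
    refine Cores.le_pCore_of_isSubnormal hC.quotient ?_
    rintro ⟨_, x, hx, rfl⟩
    obtain ⟨k, hk⟩ := exists_pow_mem_resOf (p := p) hx
    refine ⟨k, Subtype.ext ?_⟩
    show (QuotientGroup.mk' R x) ^ p ^ k = 1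
    rw [← map_pow, QuotientGroup.mk'_apply, QuotientGroup.eq_one_iff]
    exact hle hk
  have h : (⊤ : Subgroup (G ⧸ R)) ≤ Cfsg.pCore p (G ⧸ R) := by
    rw [← map_top_of_surjective _ (QuotientGroup.mk'_surjective R), ← htop, Subgroup.map_sup]
    exact sup_le (key X hX le_sup_left) (key Y hY le_sup_right)
  exact (Cores.pCore_eq_top_iff p).1 (top_le_iff.1 h)

theorem exists_mul_of_mem_sup {R M : Subgroup G} [M.Normal] {x : G}
    (h : x ∈ R ⊔ M) : ∃ r ∈ R, ∃ m ∈ M, r * m = x :=
  mem_sup_of_normal_right.1 h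

theorem pow_gcd_mem {K : Subgroup G} (x : G) {a b : ℕ} (ha : x ^ a ∈ K)
    (hb : x ^ b ∈ K) : x ^ Nat.gcd a b ∈ K := by
  have h : x ^ (Nat.gcd a b : ℤ) ∈ K := by
    rw [Nat.gcd_eq_gcd_ab, zpow_add, zpow_mul, zpow_mul, zpow_natCast, zpow_natCast]
    exact mul_mem (zpow_mem ha _) (zpow_mem hb _)
  rwa [zpow_natCast] at h

theorem pResidual_sup_aux [Fact p.Prime] :
    ∀ (n : ℕ) {G : Type*} [Group G] [Finite G], Nat.card G = n → ∀ A B : Subgroup G,
      A.IsSubnormal → B.IsSubnormal → A ⊔ B = ⊤ →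
      Cfsg.pResidual p G ≤ resOf p A ⊔ resOf p B := by
  intro n
  induction n using Nat.strongRecOn with | ind n ih => ?_
  intro G _ _ hn A B hA hB htop
  rcases subsingleton_or_nontrivial G with h | h
  · exact fun x _ => (Subsingleton.elim (α := G) 1 x) ▸ one_mem _
  obtain ⟨M, hMn, hM, hmin⟩ := exists_minimal_normal_top (G := G)
  set R := resOf p A ⊔ resOf p B with hR
  set L := Cfsg.pResidual p G with hL
  have hRL : R ≤ L := sup_le (resOf_le_pResidual p A) (resOf_le_pResidual p B)
  have hlt : Nat.card (G ⧸ M) < n := by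
    rw [← hn, card_eq_card_quotient_mul_card_subgroup M]
    exact lt_mul_of_one_lt_right Nat.card_pos ((one_lt_card_iff_ne_bot _).mpr hM)
  have hLRM : L ≤ R ⊔ M := by
    have h := ih _ hlt rfl _ _ (hA.quotient (K := M)) (hB.quotient (K := M))
      (by rw [← Subgroup.map_sup, htop, map_top_of_surjective _ (QuotientGroup.mk'_surjective M)])
    rw [← map_resOf, ← map_resOf, ← Subgroup.map_sup] at h
    intro x hx
    have := h (Cores.map_pResidual_le (QuotientGroup.mk' M) p ⟨x, hx, rfl⟩)
    rw [← mem_comap, comap_map_eq, QuotientGroup.ker_mk'] at this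
    exact this
  have hMR : M ≤ normalizer (R : Set G) := by
    intro m hm
    rw [mem_normalizer_iff_map_conj_eq, hR, Subgroup.map_sup]
    have h1 := Subnormal.Join.le_normalizer_of_isSubnormal
      (isSubnormal_resOf (p := p) hA) hM hmin hm
    have h2 := Subnormal.Join.le_normalizer_of_isSubnormal
      (isSubnormal_resOf (p := p) hB) hM hmin hm
    rw [mem_normalizer_iff_map_conj_eq] at h1 h2
    rw [h1, h2]
  have hLR : L ≤ normalizer (R : Set G) := hLRM.trans (sup_le le_normalizer hMR)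
  by_cases hMp : IsPGroup p M
  · -- `L / R` is a `p`-group and `L` is `p`-perfect
    have h1 : resOf p L = L := by rw [hL, ← resOf_top p, resOf_resOf]
    rw [← h1]
    refine resOf_le_of_isPGroup_quotient hRL hLR fun x hx => ?_
    obtain ⟨r, hr, m, hm, rfl⟩ := exists_mul_of_mem_sup (hLRM hx)
    haveI : (R.subgroupOf (R ⊔ M)).Normal :=
      (normal_subgroupOf_iff_le_normalizer le_sup_left).2 (sup_le le_normalizer hMR)
    obtain ⟨k, hk⟩ := hMp ⟨m, hm⟩
    refine ⟨k, ?_⟩
    have hmk : ((⟨r * m, hLRM hx⟩ : ↥(R ⊔ M)) : ↥(R ⊔ M) ⧸ R.subgroupOf (R ⊔ M))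
        = ((⟨m, le_sup_right (a := R) hm⟩ : ↥(R ⊔ M)) : ↥(R ⊔ M) ⧸ R.subgroupOf (R ⊔ M)) := by
      rw [show (⟨r * m, hLRM hx⟩ : ↥(R ⊔ M)) = ⟨r, le_sup_left (b := M) hr⟩ *
        ⟨m, le_sup_right (a := R) hm⟩ from rfl, QuotientGroup.mk_mul,
        (QuotientGroup.eq_one_iff _).2 (show (⟨r, le_sup_left (b := M) hr⟩ : ↥(R ⊔ M)) ∈
          R.subgroupOf (R ⊔ M) from hr), one_mul]
    have h2 := congrArg (· ^ p ^ k) hmk
    simp only [← QuotientGroup.mk_pow] at h2
    rw [(QuotientGroup.eq_one_iff ((⟨m, le_sup_right (a := R) hm⟩ : ↥(R ⊔ M)) ^ p ^ k)).2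
      (show m ^ p ^ k ∈ R by
        have h3 : m ^ p ^ k = 1 := congrArg Subtype.val hk
        rw [h3]
        exact one_mem R)] at h2
    exact (QuotientGroup.eq_one_iff ((⟨r * m, hLRM hx⟩ : ↥(R ⊔ M)) ^ p ^ k)).1 h2
  -- `M` is `p`-perfect
  have hMperf : resOf p M = M := by
    have hn : (resOf p M).Normal := by
      rw [← normalizer_eq_top_iff, eq_top_iff, ← normalizer_eq_top_iff.2 ‹M.Normal›]
      exact le_normalizer_resOf p M
    refine (hmin _ hn (resOf_le p M)).resolve_left fun h => hMp fun x => ?_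
    obtain ⟨k, hk⟩ := exists_pow_mem_resOf (p := p) x.2
    rw [h, mem_bot] at hk
    exact ⟨k, Subtype.ext hk⟩
  rcases minimal_normal_inf_sup hA hB htop hM hmin with hW | ⟨hq, hcent⟩
  · -- `M ≤ R`
    have hsub : ∀ C : Subgroup G, C.IsSubnormal → M ⊓ C ≤ M →
        ((M ⊓ C).subgroupOf M).IsSubnormal := fun C hC _ => by
      rw [inf_comm, inf_subgroupOf_right]
      exact hC.subgroupOf
    have hnr : ∀ C : Subgroup G, C.IsSubnormal →
        M ≤ normalizer (resOf p (M ⊓ C) : Set G) := by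
      intro C hC
      refine (le_inf (le_normalizer (H := M)) (Subnormal.Join.le_normalizer_of_isSubnormal hC hM hmin)).trans ?_
      refine le_trans ?_ (le_normalizer_resOf p _)
      intro g hg
      rw [mem_normalizer_iff] at *
      intro x
      rw [mem_inf, mem_inf, (mem_normalizer_iff.1 hg.1 x), (mem_normalizer_iff.1 hg.2 x)]
    have hMR' : M ≤ R := by
      rw [← hMperf]
      have hle : resOf p (M ⊓ A) ⊔ resOf p (M ⊓ B) ≤ R :=
        sup_le_sup (resOf_mono p inf_le_right) (resOf_mono p inf_le_right)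
      refine le_trans ?_ hle
      set X := (M ⊓ A).subgroupOf M
      set Y := (M ⊓ B).subgroupOf M
      have hmap : ∀ C : Subgroup G, C ≤ M → (resOf p (C.subgroupOf M)).map M.subtype = resOf p C :=
        fun C hC => by rw [map_resOf, map_subgroupOf_eq_of_le hC]
      haveI : (resOf p X ⊔ resOf p Y).Normal := by
        have e : resOf p X ⊔ resOf p Y = (resOf p (M ⊓ A) ⊔ resOf p (M ⊓ B)).subgroupOf M := by
          apply map_injective M.subtype_injective
          rw [Subgroup.map_sup, hmap _ inf_le_left, hmap _ inf_le_left,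
            map_subgroupOf_eq_of_le (sup_le ((resOf_le _ _).trans inf_le_left)
              ((resOf_le _ _).trans inf_le_left))]
        rw [e]
        refine (normal_subgroupOf_iff_le_normalizer (sup_le ((resOf_le _ _).trans inf_le_left)
          ((resOf_le _ _).trans inf_le_left))).2 fun m hm => ?_
        rw [mem_normalizer_iff_map_conj_eq, Subgroup.map_sup,
          mem_normalizer_iff_map_conj_eq.1 (hnr A hA hm),
          mem_normalizer_iff_map_conj_eq.1 (hnr B hB hm)]
      have h := map_mono (f := M.subtype) (resOf_sup_le_of_normalizer (p := p)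
        (hsub A hA inf_le_left) (hsub B hB inf_le_left)
        (by rw [← subgroupOf_sup inf_le_left inf_le_left, hW, subgroupOf_self]))
      rw [Subgroup.map_sup, hmap _ inf_le_left, hmap _ inf_le_left] at h
      exact h
    exact hLRM.trans (sup_le le_rfl hMR')
  -- `M` is central of prime order `q ≠ p`
  by_contra hnot
  set q := Nat.card M with hqdef
  haveI := Fact.mk hq
  have hqp : q ≠ p := fun h => hMp (IsPGroup.of_card (n := 1) (by rw [pow_one, ← h]))
  have hML : M ≤ L := by
    rw [← hMperf]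
    exact resOf_le_pResidual p M
  have hpowq : ∀ x ∈ L, x ^ q ∈ R := by
    intro x hx
    obtain ⟨r, hr, m, hm, rfl⟩ := exists_mul_of_mem_sup (hLRM hx)
    rw [(show Commute r m from hcent r m hm).mul_pow]
    have hm1 : m ^ q = 1 := orderOf_dvd_iff_pow_eq_one.1 (M.orderOf_dvd_natCard hm)
    rw [hm1, mul_one]
    exact pow_mem hr _
  haveI hLn : L.Normal := by rw [hL]; infer_instance
  set L0 := resOf q L
  haveI hL0n : L0.Normal := by
    rw [← normalizer_eq_top_iff, eq_top_iff,
      ← normalizer_eq_top_iff.2 hLn]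
    exact le_normalizer_resOf q L
  have hL0R : L0 ≤ R :=
    resOf_le_of_isPGroup_quotient hRL hLR fun x hx => ⟨1, by rw [pow_one]; exact hpowq x hx⟩
  set π := QuotientGroup.mk' L0
  haveI : (L.map π).Normal :=
    hLn.map π (QuotientGroup.mk'_surjective L0)
  have hLq : IsPGroup q (L.map π) := by
    rintro ⟨_, x, hx, rfl⟩
    obtain ⟨k, hk⟩ := exists_pow_mem_resOf (p := q) hx
    refine ⟨k, Subtype.ext ?_⟩
    show (π x) ^ q ^ k = 1
    rw [← map_pow]
    exact (QuotientGroup.eq_one_iff _).2 hk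
  -- every element of `p`-power order of `A` or `B` normalizes `R`
  have key : ∀ C : Subgroup G, C.IsSubnormal → resOf p C ≤ R → C ≤ normalizer (R : Set G) := by
    intro C hC hCR c hc
    have hCL : C ⊓ L ≤ R := by
      intro z hz
      obtain ⟨k, hk⟩ := exists_pow_mem_resOf (p := p) hz.1
      have hg : Nat.gcd (p ^ k) q = 1 :=
        Nat.Coprime.pow_left k ((Nat.coprime_primes Fact.out hq).2 (Ne.symm hqp))
      have h := pow_gcd_mem z (hCR hk) (hpowq z hz.2)
      rwa [hg, pow_one] at h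
    obtain ⟨k, hk⟩ := exists_pow_mem_resOf (p := p) hc
    -- split off the `p`-part of `c`
    obtain ⟨i, m, hm, hkm⟩ := Nat.exists_eq_pow_mul_and_not_dvd (orderOf_pos c).ne' p
      (Fact.out : p.Prime).ne_one
    have hcop : Nat.gcd m (p ^ k) = 1 :=
      Nat.Coprime.pow_right k (((Fact.out : p.Prime).coprime_iff_not_dvd.2 hm).symm)
    have hs : c ^ m ∈ normalizer (R : Set G) := by
      set s := c ^ m with hs
      have hso : (orderOf s).Coprime q := by
        have : orderOf s ∣ p ^ i := by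
          apply orderOf_dvd_of_pow_eq_one
          rw [hs, ← pow_mul, mul_comm, ← hkm, pow_orderOf_eq_one]
        exact Nat.Coprime.coprime_dvd_left this
          (Nat.Coprime.pow_left i ((Nat.coprime_primes Fact.out hq).2 (Ne.symm hqp)))
      have hsC : π s ∈ resOf q (C.map π) :=
        mem_resOf_of_coprime (mem_map_of_mem π (pow_mem hc m))
          (hso.coprime_dvd_left (orderOf_map_dvd π s))
      have hnorm : L.map π ≤ normalizer (resOf q (C.map π) : Set (G ⧸ L0)) :=
        le_normalizer_of_resOf_eq hLq (isSubnormal_resOf (hC.quotient (K := L0))) (resOf_resOf q _)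
      have hcommR : ∀ x ∈ L, s * x * s⁻¹ * x⁻¹ ∈ R := by
        intro x hx
        have h1 : π (x * s⁻¹ * x⁻¹) ∈ resOf q (C.map π) := by
          rw [map_mul, map_mul, map_inv, map_inv]
          exact (mem_normalizer_iff.1 (hnorm (mem_map_of_mem π hx)) _).1 (inv_mem hsC)
        obtain ⟨d, hd, hde⟩ := resOf_le q _ h1
        have h2 : d⁻¹ * (x * s⁻¹ * x⁻¹) ∈ L0 := (QuotientGroup.eq).1 hde
        have hsx : s * x * s⁻¹ * x⁻¹ = (s * d) * (d⁻¹ * (x * s⁻¹ * x⁻¹)) := by group
        rw [hsx]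
        refine mul_mem (hCL (mem_inf.2 ⟨mul_mem (pow_mem hc m) hd, ?_⟩)) (hL0R h2)
        have h3 : s * d = (s * x * s⁻¹ * x⁻¹) * (d⁻¹ * (x * s⁻¹ * x⁻¹))⁻¹ := by group
        rw [h3]
        exact mul_mem (mul_mem (hLn.conj_mem x hx s)
          (inv_mem hx)) (inv_mem (hRL (hL0R h2)))
      have hle : R.map (MulAut.conj s).toMonoidHom ≤ R := by
        rintro _ ⟨r, hr, rfl⟩
        have := mul_mem (hcommR r (hRL hr)) hr
        simpa [mul_assoc] using this
      exact mem_normalizer_iff_map_conj_eq.2 (eq_of_le_of_card_ge hle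
        (card_map_of_injective (MulAut.conj s).injective).ge)
    have h := pow_gcd_mem (K := normalizer (R : Set G)) c hs
      (hLR (resOf_le_pResidual p C hk))
    rwa [hcop, pow_one] at h
  haveI : R.Normal := by
    rw [← normalizer_eq_top_iff, eq_top_iff, ← htop]
    exact sup_le (key A hA le_sup_left) (key B hB le_sup_right)
  exact hnot (resOf_sup_le_of_normalizer hA hB htop)

/-- **Wielandt**: `O^p(⟨A, B⟩) = ⟨O^p(A), O^p(B)⟩` for subnormal subgroups `A`, `B`. -/
theorem resOf_sup [Finite G] [Fact p.Prime] {A B : Subgroup G} (hA : A.IsSubnormal)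
    (hB : B.IsSubnormal) : resOf p (A ⊔ B) = resOf p A ⊔ resOf p B := by
  refine le_antisymm ?_ (sup_le (resOf_mono p le_sup_left) (resOf_mono p le_sup_right))
  have h := pResidual_sup_aux (p := p) _ rfl (A.subgroupOf (A ⊔ B)) (B.subgroupOf (A ⊔ B))
    hA.subgroupOf hB.subgroupOf
    (by rw [← subgroupOf_sup le_sup_left le_sup_right, subgroupOf_self])
  have h' := map_mono (f := (A ⊔ B).subtype) h
  rw [Subgroup.map_sup, map_resOf, map_resOf, map_subgroupOf_eq_of_le le_sup_left,
    map_subgroupOf_eq_of_le le_sup_right] at h'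
  exact h'

end Cfsg.Agent.CharP
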