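import Mathlib
import Cfsg.Agent.Lib.CharP.Sylow
import Cfsg.Agent.Lib.Fusion.Saturation

/-!
Alperin's fusion argument as an induction principle for an equivalence relation.
-/

set_option autoImplicit false

namespace Cfsg.Agent.CharP.FusionInduction

open Subgroup

variable {G : Type*} [Group G] [Finite G] {p : ℕ} [Fact p.Prime]

/-- A conjugate whose normaliser meets `P` in a Sylow subgroup. -/
theorem exists_tame (P : Sylow p G) {Q : Subgroup G} (hQ : Q ≤ (P : Subgroup G)) :
    ∃ k : G, Q.map (MulAut.conj k).toMonoidHom ≤ (P : Subgroup G) ∧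
      ((P : Subgroup G) ⊓ normalizer (Q : Set G)).map (MulAut.conj k).toMonoidHom ≤ (P : Subgroup G) ∧
      IsSylIn p ((P : Subgroup G) ⊓ normalizer (Q.map (MulAut.conj k).toMonoidHom : Set G))
        (normalizer (Q.map (MulAut.conj k).toMonoidHom : Set G)) := by
  obtain ⟨T, hT, hle⟩ := exists_isSylIn_ge
    (P := (P : Subgroup G) ⊓ normalizer (Q : Set G)) (H := normalizer (Q : Set G))
    (P.2.to_le inf_le_left) inf_le_right
  obtain ⟨S, hS⟩ := hT.isPGroup.exists_le_sylow
  obtain ⟨k, hk⟩ := MulAction.exists_smul_eq G S P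
  have hTP : T.map (MulAut.conj k).toMonoidHom ≤ (P : Subgroup G) := by
    rw [← hk, Sylow.coe_subgroup_smul]
    exact map_mono hS
  refine ⟨k, (map_mono ((le_inf hQ le_normalizer).trans hle)).trans hTP,
    (map_mono hle).trans hTP, ?_⟩
  have h1 := hT.conj k
  rw [map_equiv_normalizer_eq] at h1
  rwa [h1.eq_of_le (P.2.to_le inf_le_left) inf_le_right (le_inf hTP h1.le)]

/-- Fusion of the elements of `Q₀` is generated by normalisers of tame subgroups at least as
large as `Q₀`. -/
theorem fusion_induction_ge (P : Sylow p G) {R : G → G → Prop} (hR : Equivalence R) {Q₀ : Subgroup G}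
    (hQ₀ : Q₀ ≤ (P : Subgroup G))
    (h : ∀ U : Subgroup G, U ≤ (P : Subgroup G) → Nat.card Q₀ ≤ Nat.card U →
      IsSylIn p ((P : Subgroup G) ⊓ normalizer (U : Set G)) (normalizer (U : Set G)) →
      ∀ n ∈ normalizer (U : Set G), ∀ y ∈ U, R y (n * y * n⁻¹))
    {g : G} (hg : Q₀.map (MulAut.conj g).toMonoidHom ≤ (P : Subgroup G)) {y : G} (hy : y ∈ Q₀) :
    R y (g * y * g⁻¹) := by
  suffices key : ∀ (m : ℕ) (Q : Subgroup G), Nat.card (P : Subgroup G) < Nat.card Q + m →
      Nat.card Q₀ ≤ Nat.card Q →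
      Q ≤ (P : Subgroup G) → ∀ g : G, Q.map (MulAut.conj g).toMonoidHom ≤ (P : Subgroup G) →
      ∀ y ∈ Q, R y (g * y * g⁻¹) from
    key (Nat.card (P : Subgroup G) + 1) Q₀ (by omega) le_rfl hQ₀ g hg y hy
  clear hQ₀ hg hy g y
  intro m
  induction m with
  | zero => intro Q hm _ hQ; exact absurd (card_le_of_le hQ) (by omega)
  | succ m ih =>
    intro Q hm hge hQ g hgQ y hy
    obtain ⟨k, hkQ, hkT, hU⟩ := exists_tame P hQ
    rcases hQ.eq_or_lt with hQP | hlt
    · have hU' : Q.map (MulAut.conj k).toMonoidHom = Q :=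
        eq_of_le_of_card_ge (hkQ.trans hQP.ge) (card_map_of_injective (MulAut.conj k).injective).ge
      rw [hU'] at hU
      refine h Q hQ hge hU g (mem_normalizer_iff_map_conj_eq.2 ?_) y hy
      exact eq_of_le_of_card_ge (hgQ.trans hQP.ge) (card_map_of_injective (MulAut.conj g).injective).ge
    have hc : ∀ (a : G) (X : Subgroup G), Nat.card (X.map (MulAut.conj a).toMonoidHom) = Nat.card X :=
      fun a X => card_map_of_injective (MulAut.conj a).injective
    have hmemc : ∀ (a : G) {X : Subgroup G} {x : G}, x ∈ X →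
        a * x * a⁻¹ ∈ X.map (MulAut.conj a).toMonoidHom := fun a X x hx => ⟨x, hx, by simp⟩
    set Q' := Q.map (MulAut.conj g).toMonoidHom
    set U := Q.map (MulAut.conj k).toMonoidHom with hUdef
    obtain ⟨k', hkQ', hkT', hU'⟩ := exists_tame P hgQ
    set U' := Q'.map (MulAut.conj k').toMonoidHom with hU'def
    have hbig : ∀ X : Subgroup G, X ≤ (P : Subgroup G) → Nat.card X = Nat.card Q →
        Nat.card Q < Nat.card ((P : Subgroup G) ⊓ normalizer (X : Set G) : Subgroup G) := by
      intro X hX hcX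
      have hXlt : X < (P : Subgroup G) := by
        refine lt_of_le_of_ne hX fun he => hlt.ne (eq_of_le_of_card_ge hQ ?_)
        rw [← hcX, he]
      have h1 := Fusion.Saturation.lt_normalizerIn P.2 hXlt
      rw [← hcX]
      exact lt_of_not_ge fun h2 => h1.ne (eq_of_le_of_card_ge h1.le h2)
    have step1 : R y (k * y * k⁻¹) :=
      ih _ (by have := hbig Q hQ rfl; omega) (by have := hbig Q hQ rfl; omega) inf_le_left k hkT y ⟨hQ hy, le_normalizer hy⟩
    have hy' : g * y * g⁻¹ ∈ Q' := hmemc g hy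
    have step2 : R (g * y * g⁻¹) (k' * (g * y * g⁻¹) * k'⁻¹) :=
      ih _ (by have := hbig Q' hgQ (hc g Q); omega) (by have := hbig Q' hgQ (hc g Q); omega) inf_le_left k' hkT' _
        ⟨hgQ hy', le_normalizer hy'⟩
    set t := k' * g * k⁻¹ with htdef
    have ht : U.map (MulAut.conj t).toMonoidHom = U' := by
      rw [hUdef, hU'def, conj_map_map, conj_map_map, htdef, inv_mul_cancel_right]
    have h3 := hU.conj t
    rw [map_equiv_normalizer_eq (f := MulAut.conj t)] at h3
    simp only [MulEquiv.toMonoidHom_eq_coe] at h3 ht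
    rw [ht] at h3
    obtain ⟨n, hn, hnc⟩ := h3.exists_conj hU'
    rw [← MulEquiv.toMonoidHom_eq_coe] at hnc
    rw [conj_map_map] at hnc
    have hw : k * y * k⁻¹ ∈ U := hmemc k hy
    have step3 : R (k * y * k⁻¹) ((n * t) * (k * y * k⁻¹) * (n * t)⁻¹) :=
      ih _ (by have := hbig U hkQ (hc k Q); omega) (by have := hbig U hkQ (hc k Q); omega) inf_le_left (n * t)
        (hnc.le.trans inf_le_left) _ ⟨hkQ hw, le_normalizer hw⟩
    have hw' : t * (k * y * k⁻¹) * t⁻¹ ∈ U' := by
      rw [← ht]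
      exact ⟨_, hw, by simp⟩
    have step4 := h U' hkQ' (hge.trans ((hc k' Q').trans (hc g Q)).ge) hU' n hn _ hw'
    have e1 : n * t * (k * y * k⁻¹) * (n * t)⁻¹ = n * (t * (k * y * k⁻¹) * t⁻¹) * n⁻¹ := by group
    have e2 : t * (k * y * k⁻¹) * t⁻¹ = k' * (g * y * g⁻¹) * k'⁻¹ := by rw [htdef]; group
    rw [e1] at step3
    rw [e2] at step3 step4
    exact hR.trans (hR.trans (hR.trans step1 step3) (hR.symm step4)) (hR.symm step2)

/-- Fusion in a Sylow subgroup is generated by normalisers of tame subgroups. -/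
theorem fusion_induction (P : Sylow p G) {R : G → G → Prop} (hR : Equivalence R)
    (h : ∀ U : Subgroup G, U ≤ (P : Subgroup G) →
      IsSylIn p ((P : Subgroup G) ⊓ normalizer (U : Set G)) (normalizer (U : Set G)) →
      ∀ n ∈ normalizer (U : Set G), ∀ y ∈ U, R y (n * y * n⁻¹))
    {y g : G} (hy : y ∈ P) (hg : g * y * g⁻¹ ∈ P) : R y (g * y * g⁻¹) := by
  refine fusion_induction_ge P hR (Q₀ := zpowers y) (zpowers_le.2 hy)
    (fun U hU _ => h U hU) ?_ (mem_zpowers y)
  rw [MonoidHom.map_zpowers, zpowers_le]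
  exact (by simpa using hg : (MulAut.conj g).toMonoidHom y ∈ P)

end Cfsg.Agent.CharP.FusionInduction
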