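import Mathlib
import Cfsg.Agent.Solvable.Basics

/-!
Relative norms of a group acting on an abelian group, and a criterion for a point fixed by a
Sylow subgroup to be fixed by the whole group.
-/

set_option autoImplicit false
set_option linter.unusedSectionVars false

namespace Cfsg.Agent.CharP.RelTrace

open Subgroup

variable {H : Type*} [Group H] [Finite H] {M : Type*} [CommGroup M] (φ : H →* MulAut M)

open Classical in
/-- The cosets of `R` met by `T`. -/
noncomputable def img (R T : Subgroup H) : Finset (H ⧸ R) :=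
  (Set.toFinite {c : H ⧸ R | ∃ t ∈ T, (t : H ⧸ R) = c}).toFinset

theorem mem_img {R T : Subgroup H} {c : H ⧸ R} :
    c ∈ img R T ↔ ∃ t ∈ T, (t : H ⧸ R) = c := by
  classical
  simp [img]

/-- The relative norm. -/
noncomputable def tr (R T : Subgroup H) (w : M) : M := ∏ c ∈ img R T, φ c.out w

theorem apply_apply (a b : H) (w : M) : φ a (φ b w) = φ (a * b) w := by
  rw [map_mul]; rfl

theorem apply_out {R : Subgroup H} {w : M} (hw : ∀ r ∈ R, φ r w = w) (t : H) :
    φ (t : H ⧸ R).out w = φ t w := by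
  obtain ⟨r, hr⟩ := QuotientGroup.mk_out_eq_mul R t
  rw [hr, ← apply_apply, hw r r.2]

theorem tr_pow (R T : Subgroup H) (w : M) (n : ℕ) : tr φ R T (w ^ n) = tr φ R T w ^ n := by
  simp only [tr, map_pow, Finset.prod_pow]

theorem tr_fixed {R T : Subgroup H} {w : M} (hw : ∀ r ∈ R, φ r w = w) {t : H} (ht : t ∈ T) :
    φ t (tr φ R T w) = tr φ R T w := by
  rw [tr, map_prod]
  refine Finset.prod_bij (fun c _ => t • c) ?_ ?_ ?_ ?_
  · intro c hc
    obtain ⟨s, hs, rfl⟩ := mem_img.1 hc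
    exact mem_img.2 ⟨t * s, T.mul_mem ht hs, rfl⟩
  · exact fun a _ b _ h => MulAction.injective t h
  · intro c hc
    obtain ⟨s, hs, rfl⟩ := mem_img.1 hc
    exact ⟨((t⁻¹ * s : H) : H ⧸ R), mem_img.2 ⟨_, T.mul_mem (T.inv_mem ht) hs, rfl⟩,
      by rw [MulAction.Quotient.smul_coe, smul_eq_mul, mul_inv_cancel_left]⟩
  · intro c hc
    obtain ⟨s, hs, rfl⟩ := mem_img.1 hc
    rw [MulAction.Quotient.smul_coe, smul_eq_mul, apply_out φ hw, apply_out φ hw, apply_apply]

theorem tr_trans {R S T : Subgroup H} (hRS : R ≤ S) (hST : S ≤ T) {w : M}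
    (hw : ∀ r ∈ R, φ r w = w) : tr φ R T w = tr φ S T (tr φ R S w) := by
  classical
  let π : H ⧸ R → H ⧸ S := fun c => (c.out : H ⧸ S)
  have hπ : ∀ t : H, π (t : H ⧸ R) = (t : H ⧸ S) := fun t => by
    obtain ⟨r, hr⟩ := QuotientGroup.mk_out_eq_mul R t
    refine QuotientGroup.eq.2 ?_
    rw [hr, mul_inv_rev, inv_mul_cancel_right]
    exact S.inv_mem (hRS r.2)
  have hmaps : ∀ c ∈ img R T, π c ∈ img S T := fun c hc => by
    obtain ⟨t, ht, rfl⟩ := mem_img.1 hc
    exact mem_img.2 ⟨t, ht, (hπ t).symm⟩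
  rw [tr, ← Finset.prod_fiberwise_of_maps_to hmaps, tr]
  refine Finset.prod_congr rfl fun d hd => ?_
  obtain ⟨t, ht, rfl⟩ := mem_img.1 hd
  rw [apply_out φ (fun s hs => tr_fixed φ hw hs), tr, map_prod]
  symm
  refine Finset.prod_bij (fun c _ => t • c) ?_ ?_ ?_ ?_
  · intro c hc
    obtain ⟨s, hs, rfl⟩ := mem_img.1 hc
    refine Finset.mem_filter.2 ⟨mem_img.2 ⟨t * s, T.mul_mem ht (hST hs), rfl⟩, ?_⟩
    rw [MulAction.Quotient.smul_coe, smul_eq_mul, hπ]
    exact QuotientGroup.eq.2 (by simpa using hs)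
  · exact fun a _ b _ h => MulAction.injective t h
  · intro c hc
    obtain ⟨hc1, hc2⟩ := Finset.mem_filter.1 hc
    obtain ⟨u, hu, rfl⟩ := mem_img.1 hc1
    rw [hπ, QuotientGroup.eq] at hc2
    refine ⟨((t⁻¹ * u : H) : H ⧸ R), mem_img.2 ⟨_, ?_, rfl⟩,
      by rw [MulAction.Quotient.smul_coe, smul_eq_mul, mul_inv_cancel_left]⟩
    simpa using S.inv_mem hc2
  · intro c hc
    obtain ⟨s, hs, rfl⟩ := mem_img.1 hc
    rw [MulAction.Quotient.smul_coe, smul_eq_mul, apply_out φ hw, apply_out φ hw, apply_apply]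

theorem card_img {R T : Subgroup H} : (img R T).card = R.relIndex T := by
  classical
  let f : ↥T ⧸ R.subgroupOf T → H ⧸ R := fun c => ((c.out : T) : H ⧸ R)
  have hf : ∀ t : T, f (t : ↥T ⧸ R.subgroupOf T) = ((t : H) : H ⧸ R) := fun t => by
    obtain ⟨r, hr⟩ := QuotientGroup.mk_out_eq_mul (R.subgroupOf T) t
    refine QuotientGroup.eq.2 ?_
    rw [hr, Subgroup.coe_mul, mul_inv_rev, inv_mul_cancel_right]
    exact R.inv_mem (mem_subgroupOf.1 r.2)
  rw [relIndex, index, ← Nat.card_eq_finsetCard]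
  symm
  refine Nat.card_eq_of_bijective (fun c => (⟨f c, mem_img.2 ⟨_, c.out.2, rfl⟩⟩ : {x // x ∈ img R T})) ⟨?_, ?_⟩
  · intro a b hab
    have h := congrArg Subtype.val hab
    induction a using QuotientGroup.induction_on with
    | H a =>
      induction b using QuotientGroup.induction_on with
      | H b =>
        simp only [hf] at h
        exact QuotientGroup.eq.2 (mem_subgroupOf.2 (QuotientGroup.eq.1 h))
  · rintro ⟨c, hc⟩
    obtain ⟨t, ht, rfl⟩ := mem_img.1 hc
    exact ⟨((⟨t, ht⟩ : T) : ↥T ⧸ R.subgroupOf T), Subtype.ext (hf ⟨t, ht⟩)⟩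

variable {p : ℕ} [Fact p.Prime]

/-- The norm over a normal step of index `p`. -/
theorem tr_step {N S : Subgroup H} (hi : N.relIndex S = p) {a : H} (ha : a ∈ S)
    (haN : a ∉ N) (hap : a ^ p ∈ N) {w : M} (hw : ∀ r ∈ N, φ r w = w) :
    tr φ N S w = ∏ j ∈ Finset.range p, φ (a ^ j) w := by
  classical
  rw [tr]
  have hinj : Set.InjOn (fun j => ((a ^ j : H) : H ⧸ N)) (Finset.range p : Set ℕ) := by
    intro i hi' j hj' hij
    simp only [Finset.coe_range, Set.mem_Iio] at hi' hj'
    have key : ∀ i j, i ≤ j → j < p → ((a ^ i : H) : H ⧸ N) = (a ^ j : H) → i = j := by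
      intro i j hle hj h
      by_contra hne
      rw [QuotientGroup.eq] at h
      have h1 : a ^ (j - i) ∈ N := by
        rwa [show a ^ j = a ^ i * a ^ (j - i) by rw [← pow_add, Nat.add_sub_cancel' hle],
          inv_mul_cancel_left] at h
      have hlt : j - i < p := by omega
      have hcop : (j - i).Coprime p := Nat.Coprime.symm
        ((Fact.out : p.Prime).coprime_iff_not_dvd.2
          (Nat.not_dvd_of_pos_of_lt (by omega) hlt))
      obtain ⟨u, v, huv⟩ := (Int.isCoprime_iff_nat_coprime (a := ((j - i : ℕ) : ℤ)) (b := (p : ℤ))).2 hcop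
      apply haN
      have e : a = (a ^ (j - i)) ^ u * (a ^ p) ^ v := by
        rw [← zpow_natCast, ← zpow_natCast, ← zpow_mul, ← zpow_mul, ← zpow_add, mul_comm _ u,
          mul_comm _ v, huv, zpow_one]
      rw [e]
      exact mul_mem (zpow_mem h1 u) (zpow_mem hap v)
    rcases le_total i j with h | h
    · exact key i j h hj' hij
    · exact (key j i h hi' hij.symm).symm
  have himg : img N S = (Finset.range p).image fun j => ((a ^ j : H) : H ⧸ N) := by
    symm
    refine Finset.eq_of_subset_of_card_le (fun c hc => ?_) ?_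
    · obtain ⟨j, -, rfl⟩ := Finset.mem_image.1 hc
      exact mem_img.2 ⟨a ^ j, S.pow_mem ha j, rfl⟩
    · rw [card_img, hi, Finset.card_image_of_injOn hinj, Finset.card_range]
  rw [himg, Finset.prod_image hinj]
  exact Finset.prod_congr rfl fun j _ => apply_out φ hw _

/-- Vanishing of norms from below. -/
theorem tr_eq_one (𝒳 : Set (Subgroup H)) (n : ℕ)
    (hstep : ∀ A ∈ 𝒳, ∀ B : Subgroup H, B ≤ A → B.relIndex A = p → ∀ a ∈ A, a ∉ B → a ^ p ∈ B →
      ∀ v : M, (∀ b ∈ B, φ b v = v) → (v ^ n) ^ p = 1 →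
        ∏ j ∈ Finset.range p, φ (a ^ j) (v ^ n) = 1) :
    ∀ (S : Subgroup H), IsPGroup p S → ∀ R : Subgroup H, R ≤ S →
      (∃ A ∈ 𝒳, A ≤ S ∧ ¬ A ≤ R) → ∀ v : M, (∀ r ∈ R, φ r v = v) → (v ^ n) ^ p = 1 →
        tr φ R S (v ^ n) = 1 := by
  intro S
  induction hc : Nat.card S using Nat.strong_induction_on generalizing S with
  | _ c ih =>
  intro hS R hRS hA v hv hvp
  obtain ⟨A, hA, hAS, hAR⟩ := hA
  have hne : R.subgroupOf S ≠ ⊤ := fun h => hAR (hAS.trans (subgroupOf_eq_top.1 h))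
  obtain ⟨C, hC, hRC⟩ := (eq_top_or_exists_le_coatom (R.subgroupOf S)).resolve_left hne
  have := hS.isNilpotent
  have hCn := Subgroup.NormalizerCondition.normal_of_coatom C
    Group.normalizerCondition_of_isNilpotent hC
  have hCi : C.index = p := by
    have hi := Solvable.Basics.index_prime_of_normal_coatom hC
    obtain ⟨m, hm⟩ := hS.index C
    exact (Nat.prime_dvd_prime_iff_eq hi Fact.out).1 (hi.dvd_of_dvd_pow hm.dvd)
  set N := C.map S.subtype with hN
  have hNS : N ≤ S := map_subtype_le C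
  have hRN : R ≤ N := fun r hr => ⟨⟨r, hRS hr⟩, hRC (mem_subgroupOf.2 hr), rfl⟩
  have hNi : N.relIndex S = p := by
    rw [relIndex, hN, subgroupOf, comap_map_eq_self_of_injective S.subtype_injective, hCi]
  have hpowN : ∀ a ∈ S, a ^ p ∈ N := fun a ha =>
    ⟨(⟨a, ha⟩ : S) ^ p, hCi ▸ C.pow_index_mem _, rfl⟩
  have hv' : ∀ r ∈ R, φ r (v ^ n) = v ^ n := fun r hr => by rw [map_pow, hv r hr]
  rw [tr_trans φ hRN hNS hv']
  by_cases hAN : A ≤ N
  · have hlt : Nat.card N < c := by
      rw [← hc]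
      refine lt_of_not_ge fun h => ?_
      rw [eq_of_le_of_card_ge hNS h, relIndex_self] at hNi
      exact (Fact.out : p.Prime).ne_one hNi.symm
    rw [ih _ hlt N rfl (hS.to_le hNS) R hRN ⟨A, hA, hAN, hAR⟩ v hv hvp]
    simp [tr]
  · obtain ⟨a, haA, haN⟩ := SetLike.not_le_iff_exists.1 hAN
    set v' := tr φ R N v with hv'def
    have hfix : ∀ r ∈ N, φ r v' = v' := fun r hr => tr_fixed φ hv hr
    have hB : (A ⊓ N).relIndex A = p := by
      rw [inf_relIndex_left]
      have h1 : N.relIndex A ≤ p := hNi ▸ relIndex_le_of_le_right hAS (by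
        rw [hNi]; exact (Fact.out : p.Prime).ne_zero)
      obtain ⟨m, hm⟩ := (hS.to_le hAS).index (N.subgroupOf A)
      change N.relIndex A = p ^ m at hm
      rcases Nat.eq_zero_or_pos m with rfl | hm0
      · exact absurd (relIndex_eq_one.1 (hm.trans (pow_zero p))) hAN
      · rw [hm] at h1 ⊢
        exact le_antisymm h1 (Nat.le_self_pow hm0.ne' p)
    rw [tr_pow φ R N v n, ← hv'def,
      tr_step φ hNi (hAS haA) haN (hpowN a (hAS haA)) (fun r hr => by rw [map_pow, hfix r hr])]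
    refine hstep A hA _ inf_le_left hB a haA (fun h => haN h.2)
      (mem_inf.2 ⟨A.pow_mem haA p, hpowN a (hAS haA)⟩) v' (fun b hb => hfix b hb.2) ?_
    rw [hv'def, ← tr_pow, ← tr_pow, hvp]
    simp [tr]

/-- A point fixed by a Sylow subgroup and by a subgroup outside of which all norms vanish. -/
theorem fixed_of_vanish (T : Sylow p H) (N₀ : Subgroup H) (hTN : (T : Subgroup H) ≤ N₀) (x : M)
    (hxT : ∀ t ∈ (T : Subgroup H), φ t x = x) (hx : ∀ h ∈ N₀, φ h x = x) (hxp : x ^ p = 1)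
    (hvan : ∀ g : H, g ∉ N₀ →
      tr φ ((T : Subgroup H) ⊓ (T : Subgroup H).map (MulAut.conj g).toMonoidHom) (T : Subgroup H)
        (φ g x) = 1) :
    ∀ h : H, φ h x = x := by
  classical
  set S : Subgroup H := (T : Subgroup H)
  have := Fintype.ofFinite (H ⧸ S)
  set f : M := ∏ c : H ⧸ S, φ c.out x with hf
  have hffix : ∀ h, φ h f = f := fun h => by
    rw [hf, map_prod]
    refine Fintype.prod_equiv (MulAction.toPerm h) _ _ fun c => ?_
    induction c using QuotientGroup.induction_on with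
    | H g =>
      rw [apply_out φ hxT, apply_apply, MulAction.toPerm_apply, MulAction.Quotient.smul_coe,
        smul_eq_mul, apply_out φ hxT]
  have hrest : ∏ c ∈ Finset.univ \ img S N₀, φ c.out x = 1 := by
    let π : H ⧸ S → Quotient (MulAction.orbitRel S (H ⧸ S)) := Quotient.mk''
    rw [← Finset.prod_fiberwise_of_maps_to (g := π)
      (t := (Finset.univ \ img S N₀).image π) (fun c hc => Finset.mem_image_of_mem π hc)]
    refine Finset.prod_eq_one fun d hd => ?_
    obtain ⟨c, hc, rfl⟩ := Finset.mem_image.1 hd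
    induction c using QuotientGroup.induction_on with
    | H g =>
      have hg : g ∉ N₀ := fun hg => (Finset.mem_sdiff.1 hc).2 (mem_img.2 ⟨g, hg, rfl⟩)
      set R := S ⊓ S.map (MulAut.conj g).toMonoidHom with hR
      have hgR : ∀ r ∈ R, g⁻¹ * r * g ∈ S := fun r hr => by
        obtain ⟨s, hs, he⟩ := hr.2
        rw [← he]
        simpa [mul_assoc] using hs
      have hw : ∀ r ∈ R, φ r (φ g x) = φ g x := fun r hr => by
        rw [apply_apply, show r * g = g * (g⁻¹ * r * g) by group, ← apply_apply,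
          hxT _ (hgR r hr)]
      rw [← hvan g hg, tr]
      symm
      have hout : ∀ t : H, (((t : H ⧸ R).out * g : H) : H ⧸ S) = ((t * g : H) : H ⧸ S) := fun t => by
        obtain ⟨r, hr⟩ := QuotientGroup.mk_out_eq_mul R t
        refine QuotientGroup.eq.2 ?_
        rw [hr]
        have := S.inv_mem (hgR r r.2)
        simpa [mul_assoc] using this
      refine Finset.prod_bij (fun c _ => ((c.out * g : H) : H ⧸ S)) ?_ ?_ ?_ ?_
      · intro c hc'
        obtain ⟨t, ht, rfl⟩ := mem_img.1 hc'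
        rw [hout]
        refine Finset.mem_filter.2 ⟨Finset.mem_sdiff.2 ⟨Finset.mem_univ _, fun h => ?_⟩, ?_⟩
        · obtain ⟨u, hu, he⟩ := mem_img.1 h
          rw [QuotientGroup.eq] at he
          apply hg
          have h2 := N₀.mul_mem (N₀.inv_mem (hTN ht)) (N₀.mul_mem hu (hTN he))
          simpa [mul_assoc] using h2
        · exact Quotient.sound' ⟨⟨t, ht⟩, rfl⟩
      · intro a ha b hb hab
        obtain ⟨t, ht, rfl⟩ := mem_img.1 ha
        obtain ⟨u, hu, rfl⟩ := mem_img.1 hb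
        rw [hout, hout, QuotientGroup.eq] at hab
        refine QuotientGroup.eq.2 ⟨S.mul_mem (S.inv_mem ht) hu, ⟨_, hab, ?_⟩⟩
        simp [mul_assoc]
      · intro c hc'
        obtain ⟨-, hc2⟩ := Finset.mem_filter.1 hc'
        obtain ⟨⟨t, ht⟩, he⟩ := Quotient.exact' hc2
        refine ⟨(t : H ⧸ R), mem_img.2 ⟨t, ht, rfl⟩, ?_⟩
        rw [hout]
        exact he
      · intro c hc'
        obtain ⟨t, ht, rfl⟩ := mem_img.1 hc'
        rw [hout, apply_out φ hw, apply_out φ hxT, apply_apply]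
  have hfm : f = x ^ S.relIndex N₀ := by
    rw [hf, ← Finset.prod_sdiff (Finset.subset_univ (img S N₀)), hrest, one_mul, ← card_img]
    refine Finset.prod_eq_pow_card fun c hc => ?_
    obtain ⟨u, hu, rfl⟩ := mem_img.1 hc
    rw [apply_out φ hxT, hx u hu]
  have hcop : (S.relIndex N₀).Coprime p := by
    refine Nat.Coprime.coprime_dvd_left (relIndex_dvd_index_of_le hTN) ?_
    exact (Nat.Prime.coprime_iff_not_dvd Fact.out).2 T.not_dvd_index |>.symm
  intro h
  have h1 : (φ h x / x) ^ S.relIndex N₀ = 1 := by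
    rw [div_pow, ← map_pow, ← hfm, hffix, div_self']
  have h2 : (φ h x / x) ^ p = 1 := by rw [div_pow, ← map_pow, hxp, map_one, div_self']
  have h3 := pow_gcd_eq_one.2 ⟨h1, h2⟩
  rwa [hcop.gcd_eq_one, pow_one, div_eq_one] at h3

end Cfsg.Agent.CharP.RelTrace
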