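import Mathlib
import Cfsg.Agent.Lib.CharP.Sylow
import Cfsg.Agent.Lib.CharP.FusionInduction
import Cfsg.Agent.Lib.Coprime.OmegaDetect
import Cfsg.Agent.Lib.Coprime.PGroup
import Cfsg.Agent.Lib.Fusion.Saturation
import Cfsg.Agent.Lib.Transfer.Fusion
import Cfsg.Agent.Lib.Transfer.Tate
import Cfsg.Agent.Lib.Transfer.NormalPComplement
import Cfsg.Agent.Lib.Transfer.SmallSylow

/-!
Subgroups of one fixed order of a Sylow subgroup that are all strongly closed:
for the smallest prime this forces a normal `p`-complement.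
-/

set_option autoImplicit false

namespace Cfsg.Agent.CharP.StronglyClosedOrder

open Subgroup

variable {G : Type*} [Group G] {p : ℕ}

/-- In a group, `g y g⁻¹` a power of `y` with coprimality forces commuting. -/
theorem commute_of_pow [Fact p.Prime] {g y : G} {j a : ℕ} (hy : y ^ p ^ a = 1) {n : ℕ}
    (hn : g ^ n = 1) (hcop : n.Coprime (p * (p - 1))) (h : g * y * g⁻¹ = y ^ j) :
    g * y * g⁻¹ = y := by
  have hk : ∀ k : ℕ, g ^ k * y * (g ^ k)⁻¹ = y ^ j ^ k := by
    intro k
    induction k with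
    | zero => simp
    | succ k ih =>
      rw [pow_succ', show g * g ^ k * y * (g * g ^ k)⁻¹ = g * (g ^ k * y * (g ^ k)⁻¹) * g⁻¹ by group,
        ih, ← conj_pow, h, ← pow_mul, ← pow_succ']
  obtain ⟨b, -, hb⟩ := (Nat.dvd_prime_pow Fact.out).1 (orderOf_dvd_of_pow_eq_one hy)
  have h1 : y ^ j ^ n = y ^ 1 := by rw [← hk n, hn, pow_one]; group
  rw [pow_eq_pow_iff_modEq, hb, ← ZMod.natCast_eq_natCast_iff, Nat.cast_pow, Nat.cast_one] at h1
  have hn0 : n ≠ 0 := by
    rintro rfl
    have := (Fact.out : p.Prime).two_le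
    rw [Nat.coprime_zero_left] at hcop
    have h2 := Nat.eq_one_of_mul_eq_one_right hcop
    omega
  obtain ⟨u, hu⟩ : IsUnit ((j : ℕ) : ZMod (p ^ b)) := IsUnit.of_pow_eq_one h1 hn0
  have hu1 : u ^ n = 1 := Units.ext (by rw [Units.val_pow_eq_pow_val, hu, h1]; rfl)
  have hc : n.Coprime (Nat.totient (p ^ b)) := by
    rcases Nat.eq_zero_or_pos b with rfl | hb0
    · simp
    · rw [Nat.totient_prime_pow Fact.out hb0]
      exact Nat.Coprime.mul_right ((Nat.Coprime.coprime_mul_right_right hcop).pow_right _)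
        (Nat.Coprime.coprime_mul_left_right hcop)
  have hu2 : u = 1 := by
    have h2 := pow_gcd_eq_one.2 ⟨hu1, ZMod.pow_totient u⟩
    rwa [hc.gcd_eq_one, pow_one] at h2
  rw [h]
  conv_rhs => rw [← pow_one y]
  rw [pow_eq_pow_iff_modEq, hb, ← ZMod.natCast_eq_natCast_iff, ← hu, hu2]
  simp

/-- The same modulo a subgroup normalised by both elements. -/
theorem conj_mem_of_pow_mem [Fact p.Prime] {N : Subgroup G} {g y : G}
    (hgN : g ∈ normalizer (N : Set G)) (hyN : y ∈ normalizer (N : Set G)) {a : ℕ}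
    (hy : y ^ p ^ a = 1) (hcop : (orderOf g).Coprime (p * (p - 1))) {j : ℕ}
    (h : g * y * g⁻¹ * (y ^ j)⁻¹ ∈ N) : g * y * g⁻¹ * y⁻¹ ∈ N := by
  let H := normalizer (N : Set G)
  let g' : H := ⟨g, hgN⟩
  let y' : H := ⟨y, hyN⟩
  let f := QuotientGroup.mk' (N.subgroupOf H)
  have key : f g' * f y' * (f g')⁻¹ = f y' := by
    refine commute_of_pow (j := j) (a := a) (n := orderOf g) ?_ ?_ hcop ?_
    · rw [← map_pow, show y' ^ p ^ a = 1 from Subtype.ext hy, map_one]
    · rw [← map_pow, show g' ^ orderOf g = 1 from Subtype.ext (pow_orderOf_eq_one g), map_one]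
    · rw [← mul_inv_eq_one, ← map_pow, ← map_inv, ← map_mul, ← map_mul, ← map_inv, ← map_mul]
      exact (QuotientGroup.eq_one_iff _).2 h
  rw [← mul_inv_eq_one, ← map_inv, ← map_mul, ← map_mul, ← map_inv, ← map_mul] at key
  exact mem_subgroupOf.1 ((QuotientGroup.eq_one_iff (g' * y' * g'⁻¹ * y'⁻¹)).1 key)

/-- The order condition on the distinguished subgroups. -/
def Good (d : ℕ) (E : Subgroup G) : Prop := Nat.card E = d ∨ (d = 2 ∧ Nat.card E = 4)

/-- An element lying in a distinguished subgroup. -/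
def Small (d : ℕ) (y : G) : Prop := orderOf y ≤ d ∨ (d = 2 ∧ orderOf y = 4)

/-- All distinguished subgroups of `P` are strongly closed. -/
def Closed (P : Subgroup G) (d : ℕ) : Prop :=
  ∀ E : Subgroup G, E ≤ P → Good d E →
    ∀ g : G, E.map (MulAut.conj g).toMonoidHom ⊓ normalizer (E : Set G) ≤ E

theorem le_normalizer_of_good [Finite G] [Fact p.Prime] {P E : Subgroup G} {d : ℕ}
    (hP : IsPGroup p P) (h : Closed P d) (hEP : E ≤ P) (hE : Good d E) :
    P ≤ normalizer (E : Set G) := by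
  set T := P ⊓ normalizer (E : Set G) with hT
  by_contra hle
  have hlt : T < P := inf_lt_left.2 hle
  obtain ⟨g, hg, hgT⟩ := Fusion.Saturation.exists_mem_normalizer_not_mem hP hlt
  have hET : E ≤ T := le_inf hEP le_normalizer
  have h1 : E.map (MulAut.conj g).toMonoidHom ≤ E := by
    refine le_trans (le_inf le_rfl ?_) (h E hEP hE g)
    rintro _ ⟨e, he, rfl⟩
    exact (((mem_normalizer_iff.1 hg.2) e).1 (hET he)).2
  refine hgT ⟨hg.1, mem_normalizer_iff_map_conj_eq.2 ?_⟩
  exact eq_of_le_of_card_ge h1 (card_map_of_injective (MulAut.conj g).injective).ge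

theorem mem_of_conj [Finite G] [Fact p.Prime] {P E : Subgroup G} {d : ℕ}
    (hP : IsPGroup p P) (h : Closed P d) (hEP : E ≤ P) (hE : Good d E) {y g : G} (hy : y ∈ E)
    (hg : g * y * g⁻¹ ∈ P) : g * y * g⁻¹ ∈ E :=
  h E hEP hE g ⟨⟨y, hy, by simp⟩, le_normalizer_of_good hP h hEP hE hg⟩

/-- A small element is sent inside every large enough subgroup containing it. -/
theorem mem_of_small [Finite G] [Fact p.Prime] {P M : Subgroup G} {d k : ℕ} (hd : d = p ^ k)
    (hP : IsPGroup p P) (h : Closed P d) (hMP : M ≤ P) (hM : d ≤ Nat.card M) {y g : G}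
    (hy : y ∈ M) (hs : Small d y) (hg : g * y * g⁻¹ ∈ P) : g * y * g⁻¹ ∈ M := by
  obtain ⟨m, hm⟩ := IsPGroup.iff_card.1 (hP.to_le hMP)
  obtain ⟨b, hb⟩ := IsPGroup.iff_orderOf.1 (hP.to_le hMP) ⟨y, hy⟩
  rw [orderOf_mk] at hb
  by_cases hle : orderOf y ≤ d
  · have hkm : k ≤ m := by
      rw [hd, hm] at hM
      exact (Nat.pow_le_pow_iff_right (Fact.out : p.Prime).one_lt).1 hM
    have hbk : b ≤ k := by
      rw [hd, hb] at hle
      exact (Nat.pow_le_pow_iff_right (Fact.out : p.Prime).one_lt).1 hle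
    obtain ⟨K, hK, hKy⟩ := Sylow.exists_subgroup_card_pow_prime_le (G := M) p
      (hm ▸ pow_dvd_pow p hkm) (zpowers (⟨y, hy⟩ : M))
      (by rw [Nat.card_zpowers, orderOf_mk, hb]) hbk
    have hK' : Nat.card (K.map M.subtype) = d := by
      rw [card_map_of_injective M.subtype_injective, hK, hd]
    refine map_subtype_le K (mem_of_conj hP h ((map_subtype_le K).trans hMP) (Or.inl hK') ?_ hg)
    exact ⟨⟨y, hy⟩, hKy (mem_zpowers _), rfl⟩
  · obtain ⟨hd2, hy4⟩ := hs.resolve_left hle
    refine (zpowers_le.2 hy) (mem_of_conj hP h ((zpowers_le.2 hy).trans hMP)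
      (Or.inr ⟨hd2, by rw [Nat.card_zpowers, hy4]⟩) (mem_zpowers y) hg)

/-- For the smallest prime, elements of order prime to `p` have order prime to `p (p - 1)`. -/
theorem coprime_smallest [Finite G] [Fact p.Prime]
    (hmin : ∀ q : ℕ, q.Prime → q ∣ Nat.card G → p ≤ q) {g : G} (hg : (orderOf g).Coprime p) :
    (orderOf g).Coprime (p * (p - 1)) := by
  refine Nat.Coprime.mul_right hg (Nat.coprime_of_dvd fun r hr hro hrp => ?_)
  have h1 := hmin r hr (hro.trans (orderOf_dvd_natCard g))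
  have h3 := (Fact.out : p.Prime).two_le
  have h2 := Nat.le_of_dvd (by omega) hrp
  omega

/-- The Frattini subgroup of `P`, seen in `G`. -/
def phi (P : Subgroup G) : Subgroup G := (frattini P).map P.subtype

theorem phi_le (P : Subgroup G) : phi P ≤ P := map_subtype_le _

theorem le_normalizer_phi (P : Subgroup G) : P ≤ normalizer (phi P : Set G) :=
  le_normalizer.trans (Coprime.OmegaDetect.normalizer_le_normalizer_char P (frattini P))

theorem commutator_mem_phi [Finite G] [Fact p.Prime] {P : Subgroup G} (hP : IsPGroup p P) {x y : G}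
    (hx : x ∈ P) (hy : y ∈ P) : x * y * x⁻¹ * y⁻¹ ∈ phi P := by
  have := hP.isNilpotent
  exact ⟨⟨x, hx⟩ * ⟨y, hy⟩ * ⟨x, hx⟩⁻¹ * ⟨y, hy⟩⁻¹, Coprime.commutator_le_frattini P
    (commutator_mem_commutator (mem_top _) (mem_top _)), rfl⟩

/-- Small elements are moved along their line modulo the Frattini subgroup. -/
theorem conj_mem_sup_phi [Finite G] [Fact p.Prime] {P : Subgroup G} {d k : ℕ} (hd : d = p ^ k)
    (hP : IsPGroup p P) (h : Closed P d) (hdP : d < Nat.card P) {y g : G} (hyP : y ∈ P)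
    (hs : Small d y) (hg : g * y * g⁻¹ ∈ P) : g * y * g⁻¹ ∈ zpowers y ⊔ phi P := by
  have := hP.isNilpotent
  let X : Subgroup P := zpowers ⟨y, hyP⟩ ⊔ frattini P
  by_contra hne
  have hz : (⟨_, hg⟩ : P) ∉ X := fun hz => hne (by
    have := mem_map_of_mem P.subtype hz
    rwa [Subgroup.map_sup, MonoidHom.map_zpowers] at this)
  obtain ⟨C, hC, hXC, hzC⟩ := Solvable.Basics.exists_coatom_notMem (Fact.out : p.Prime)
    ((Coprime.commutator_le_frattini P).trans le_sup_right)
    (fun x => le_sup_right (a := zpowers (⟨y, hyP⟩ : P)) (Solvable.Basics.pow_mem_frattini hP x)) hz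
  refine hzC ?_
  have := Subgroup.NormalizerCondition.normal_of_coatom C
    Group.normalizerCondition_of_isNilpotent hC
  have hi := Solvable.Basics.index_prime_of_normal_coatom hC
  have hip : C.index = p := by
    obtain ⟨m, hm⟩ := hP.index C
    exact (Nat.prime_dvd_prime_iff_eq hi Fact.out).1 (hi.dvd_of_dvd_pow hm.dvd)
  obtain ⟨n, hn⟩ := IsPGroup.iff_card.1 hP
  have hcard : d ≤ Nat.card (C.map P.subtype) := by
    rw [card_map_of_injective P.subtype_injective]
    have h1 := C.card_mul_index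
    rw [hip, hn] at h1
    rw [hd, hn] at hdP
    have hkn : k < n := (Nat.pow_lt_pow_iff_right (Fact.out : p.Prime).one_lt).1 hdP
    obtain ⟨n', rfl⟩ : ∃ n', n = n' + 1 := ⟨n - 1, by omega⟩
    rw [pow_succ] at h1
    rw [Nat.eq_of_mul_eq_mul_right (Fact.out : p.Prime).pos h1, hd]
    exact Nat.pow_le_pow_right (Fact.out : p.Prime).pos (by omega)
  have h2 := mem_of_small hd hP h (map_subtype_le C) hcard (g := g)
    (mem_map_of_mem P.subtype (hXC (le_sup_left (b := frattini P) (mem_zpowers (⟨y, hyP⟩ : P))))) hs hg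
  obtain ⟨c, hc, he⟩ := h2
  rwa [show (⟨g * y * g⁻¹, hg⟩ : P) = c from Subtype.ext he.symm]

theorem exists_pow_mem [Finite G] {N : Subgroup G} {x y : G}
    (hyN : y ∈ normalizer (N : Set G)) (hx : x ∈ zpowers y ⊔ N) : ∃ j : ℕ, x * (y ^ j)⁻¹ ∈ N := by
  have h1 : x ∈ ((N ⊔ zpowers y : Subgroup G) : Set G) := by rw [sup_comm]; exact hx
  rw [coe_mul_of_right_le_normalizer_left N (zpowers y) (zpowers_le.2 hyN)] at h1
  obtain ⟨m, hm, z, hz, rfl⟩ := Set.mem_mul.1 h1
  obtain ⟨j, rfl⟩ := Submonoid.mem_powers_iff _ _ |>.1 (mem_powers_iff_mem_zpowers.2 hz)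
  exact ⟨j, by simpa using hm⟩

variable [Finite G] [Fact p.Prime] {P : Subgroup G} {d k : ℕ}

/-- The key local statement. -/
theorem local_fusion (hd : d = p ^ k) (hk : k ≠ 0) (hP : IsPGroup p P) (h : Closed P d)
    (hdP : d < Nat.card P) (hmin : ∀ q : ℕ, q.Prime → q ∣ Nat.card G → p ≤ q) {Q : Subgroup G}
    (hQP : Q ≤ P) {g : G} (hgQ : g ∈ normalizer (Q : Set G)) (hg : (orderOf g).Coprime p) :
    ∀ y ∈ Q, g * y * g⁻¹ * y⁻¹ ∈ phi P := by
  have hcop := coprime_smallest hmin hg
  have hpd : p ≤ d := hd ▸ le_self_pow (Fact.out : p.Prime).one_le hk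
  have hconj : ∀ y ∈ Q, g * y * g⁻¹ ∈ Q := fun y hy => ((mem_normalizer_iff.1 hgQ) y).1 hy
  have hpow : ∀ y ∈ Q, ∃ a, y ^ p ^ a = 1 := fun y hy => by
    obtain ⟨a, ha⟩ := IsPGroup.iff_orderOf.1 (hP.to_le hQP) ⟨y, hy⟩
    exact ⟨a, by rw [← ha, orderOf_mk, pow_orderOf_eq_one]⟩
  by_cases hall : ∀ y ∈ Q, Small d y
  · intro y hy
    set N := Q ⊓ phi P
    have hgN : g ∈ normalizer (N : Set G) := by
      refine Fusion.Saturation.mem_normalizer_of_forall fun w hw => ?_
      refine mem_inf.2 ⟨hconj w hw.1, ?_⟩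
      have h1 := conj_mem_sup_phi hd hP h hdP (hQP hw.1) (hall w hw.1) (hQP (hconj w hw.1))
      rwa [sup_eq_right.2 (zpowers_le.2 hw.2)] at h1
    have hyN : y ∈ normalizer (N : Set G) := inf_normalizer_le_normalizer_inf
      ⟨le_normalizer hy, le_normalizer_phi P (hQP hy)⟩
    obtain ⟨j, hj⟩ := exists_pow_mem (le_normalizer_phi P (hQP hy))
      (conj_mem_sup_phi hd hP h hdP (hQP hy) (hall y hy) (hQP (hconj y hy)))
    obtain ⟨a, ha⟩ := hpow y hy
    exact (conj_mem_of_pow_mem hgN hyN ha hcop (j := j)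
      (mem_inf.2 ⟨Q.mul_mem (hconj y hy) (Q.inv_mem (Q.pow_mem hy j)), hj⟩)).2
  · push Not at hall
    obtain ⟨z, hzQ, hz⟩ := hall
    suffices g ∈ centralizer (Q : Set G) from fun y hy => by
      rw [← this y hy, mul_inv_cancel_right, mul_inv_cancel]
      exact one_mem _
    obtain ⟨b, hb⟩ := IsPGroup.iff_orderOf.1 (hP.to_le hQP) ⟨z, hzQ⟩
    rw [orderOf_mk] at hb
    -- a distinguished cyclic subgroup
    obtain ⟨c, hcQ, hcgood, hcd⟩ : ∃ c ∈ Q, Good d (zpowers c) ∧ d ≤ orderOf c := by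
      have hdz : d ∣ orderOf z ∧ (d = 2 → 4 ∣ orderOf z) := by
        have h1 : ¬ orderOf z ≤ d := fun hle => hz (Or.inl hle)
        have hkb : k < b := by
          rw [hb, hd, Nat.pow_le_pow_iff_right (Fact.out : p.Prime).one_lt] at h1
          omega
        refine ⟨hb ▸ hd ▸ pow_dvd_pow p hkb.le, fun hd2 => ?_⟩
        have hp2 : p = 2 := ((Nat.prime_dvd_prime_iff_eq Fact.out Nat.prime_two).1
          (hd2 ▸ hd ▸ dvd_pow_self p hk))
        have hk1 : k = 1 := by
          rw [hd, hp2] at hd2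
          exact Nat.pow_right_injective le_rfl (hd2.trans (pow_one 2).symm)
        rw [hb, hp2]
        exact pow_dvd_pow 2 (by omega : 2 ≤ b)
      by_cases hd2 : d = 2
      · refine ⟨z ^ (orderOf z / 4), Q.pow_mem hzQ _, Or.inr ⟨hd2, ?_⟩, ?_⟩
        · rw [Nat.card_zpowers, orderOf_pow_orderOf_div (orderOf_pos z).ne' (hdz.2 hd2)]
        · rw [orderOf_pow_orderOf_div (orderOf_pos z).ne' (hdz.2 hd2), hd2]; norm_num
      · refine ⟨z ^ (orderOf z / d), Q.pow_mem hzQ _, Or.inl ?_, ?_⟩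
        · rw [Nat.card_zpowers, orderOf_pow_orderOf_div (orderOf_pos z).ne' hdz.1]
        · rw [orderOf_pow_orderOf_div (orderOf_pos z).ne' hdz.1]
    have hCQ : zpowers c ≤ Q := zpowers_le.2 hcQ
    have hCn : P ≤ normalizer (zpowers c : Set G) :=
      le_normalizer_of_good hP h (hCQ.trans hQP) hcgood
    have hgC : g ∈ normalizer (zpowers c : Set G) :=
      Fusion.Saturation.mem_normalizer_of_forall fun w hw =>
        mem_of_conj hP h (hCQ.trans hQP) hcgood hw (hQP (hconj w (hCQ hw)))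
    have hgc : g ∈ centralizer (zpowers c : Set G) := by
      obtain ⟨a, ha⟩ := hpow c hcQ
      have hc1 : g * c * g⁻¹ = c := by
        obtain ⟨j, hj⟩ := Submonoid.mem_powers_iff _ _ |>.1 (mem_powers_iff_mem_zpowers.2
          (((mem_normalizer_iff.1 hgC) c).1 (mem_zpowers c)))
        exact commute_of_pow ha (pow_orderOf_eq_one g) hcop hj.symm
      rw [← zpowers_le]
      refine le_centralizer_iff.1 (zpowers_le.2 ?_)
      intro w hw
      obtain ⟨i, rfl⟩ := mem_zpowers_iff.1 hw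
      have : Commute g c := mul_inv_eq_iff_eq_mul.1 hc1
      exact (this.zpow_left i).eq
    refine Coprime.OmegaDetect.mem_centralizer_of_fix hg (hP.to_le hQP) hgQ fun a ha hap => ?_
    have has : Small d a := by
      rcases hap with h1 | ⟨hp2, h4⟩
      · exact Or.inl ((Nat.le_of_dvd (Fact.out : p.Prime).pos (orderOf_dvd_of_pow_eq_one h1)).trans hpd)
      · subst hp2
        have h1 := orderOf_dvd_of_pow_eq_one h4
        by_cases hd2 : d = 2
        · obtain ⟨e, he, hoe⟩ := (Nat.dvd_prime_pow Nat.prime_two (m := 2)).1 h1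
          interval_cases e
          · exact Or.inl (by rw [hoe, hd2]; norm_num)
          · exact Or.inl (by rw [hoe, hd2]; norm_num)
          · exact Or.inr ⟨hd2, by rw [hoe]; norm_num⟩
        · refine Or.inl ((Nat.le_of_dvd (by norm_num) h1).trans ?_)
          rw [hd] at hd2 ⊢
          have hk1 : k ≠ 1 := fun hk1 => hd2 (by rw [hk1, pow_one])
          calc (4 : ℕ) = 2 ^ 2 := by norm_num
            _ ≤ 2 ^ k := Nat.pow_le_pow_right (by norm_num) (by omega)
    set M := zpowers c ⊔ zpowers a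
    have hMP : M ≤ P := sup_le (hCQ.trans hQP) (zpowers_le.2 (hQP ha))
    have hM : d ≤ Nat.card M := by
      refine hcd.trans ?_
      rw [← Nat.card_zpowers]
      exact card_le_of_le le_sup_left
    have h1 := mem_of_small hd hP h hMP hM (le_sup_right (a := zpowers c) (mem_zpowers a)) has
      (hQP (hconj a ha))
    have haC := hCn (hQP ha)
    obtain ⟨j, hj⟩ := exists_pow_mem haC (by rwa [sup_comm] : g * a * g⁻¹ ∈ zpowers a ⊔ zpowers c)
    obtain ⟨e, he⟩ := hpow a ha
    have h2 := conj_mem_of_pow_mem hgC haC he hcop hj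
    exact Coprime.OmegaDetect.eq_one_of_fix ((hgc _ h2).symm)
      (Coprime.OmegaDetect.coprime_of_mem (hP.to_le hQP) hg (hCQ h2))

omit P in
/-- A cyclic Sylow subgroup for the smallest prime has a normal complement. -/
theorem hasNormalPComplement_of_cyclic (hmin : ∀ q : ℕ, q.Prime → q ∣ Nat.card G → p ≤ q)
    (S : Sylow p G) [IsCyclic (S : Subgroup G)] : Cfsg.HasNormalPComplement p G := by
  have : IsMulCommutative (S : Subgroup G) := inferInstance
  refine Transfer.NormalPComplement.hasNormalPComplement_of_normalizer_le_centralizer S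
    (Transfer.SmallSylow.normalizer_le_centralizer_of_forall S fun g hg ho => ?_)
  obtain ⟨c, hc⟩ := IsCyclic.exists_generator (α := (S : Subgroup G))
  have hmem : ∀ y ∈ (S : Subgroup G), ∃ j : ℕ, (c : G) ^ j = y := fun y hy => by
    obtain ⟨j, hj⟩ := Submonoid.mem_powers_iff _ _ |>.1 (mem_powers_iff_mem_zpowers.2 (hc ⟨y, hy⟩))
    exact ⟨j, congrArg Subtype.val hj⟩
  obtain ⟨a, ha⟩ := IsPGroup.iff_orderOf.1 S.2 c
  obtain ⟨j, hj⟩ := hmem _ (((mem_normalizer_iff.1 hg) _).1 c.2)
  have hc1 : g * c * g⁻¹ = c := commute_of_pow (p := p) (a := a)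
    (by rw [← ha, ← orderOf_coe c, pow_orderOf_eq_one]) (pow_orderOf_eq_one g)
    (coprime_smallest hmin ho) hj.symm
  intro y hy
  obtain ⟨i, rfl⟩ := hmem y hy
  exact (Commute.pow_right (show Commute g (c : G) from mul_inv_eq_iff_eq_mul.1 hc1) i).eq.symm

omit P in
/-- If all distinguished subgroups of a Sylow subgroup for the smallest prime are strongly
closed, there is a normal `p`-complement. -/
theorem hasNormalPComplement (hd : d = p ^ k) (hk : k ≠ 0)
    (hmin : ∀ q : ℕ, q.Prime → q ∣ Nat.card G → p ≤ q) (S : Sylow p G)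
    (h : Closed (S : Subgroup G) d) (hdS : d < Nat.card (S : Subgroup G)) :
    Cfsg.HasNormalPComplement p G := by
  set Φ := phi (S : Subgroup G) with hΦ
  have hnorm : ∀ {x f : G}, x ∈ S → f ∈ Φ → x * f * x⁻¹ ∈ Φ := fun {x f} hx hf =>
    (mem_normalizer_iff.1 (le_normalizer_phi (S : Subgroup G) hx) f).1 hf
  have hfus : ∀ {x g : G}, x ∈ S → g * x * g⁻¹ ∈ S → x⁻¹ * (g * x * g⁻¹) ∈ Φ := by
    intro x g hx hg
    refine FusionInduction.fusion_induction S (R := fun a b => a⁻¹ * b ∈ Φ)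
      ⟨fun a => by simp, fun {a b} hab => by simpa using Φ.inv_mem hab,
        fun {a b c} hab hbc => by simpa [mul_assoc] using Φ.mul_mem hab hbc⟩ ?_ hx hg
    intro U hU hT n hn
    let H : Subgroup (normalizer (U : Set G)) :=
      { carrier := {n | ∀ y ∈ U, y⁻¹ * ((n : G) * y * (n : G)⁻¹) ∈ Φ}
        one_mem' := fun y _ => by simp
        mul_mem' := fun {a b} ha hb y hy => by
          have := Φ.mul_mem (hb y hy) (ha _ (((mem_normalizer_iff.1 b.2) y).1 hy))
          simpa [mul_assoc] using this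
        inv_mem' := fun {a} ha y hy => by
          have := Φ.inv_mem (ha _ (((mem_normalizer_iff''.1 a.2) y).1 hy))
          simpa [mul_assoc] using this }
    suffices H = ⊤ from fun y hy => (this ▸ mem_top (⟨n, hn⟩ : normalizer (U : Set G)) :
      (⟨n, hn⟩ : normalizer (U : Set G)) ∈ H) y hy
    by_contra htop
    obtain ⟨r, hr, hrd⟩ := Nat.exists_prime_and_dvd (fun h1 => htop (index_eq_one.1 h1))
    have : Fact r.Prime := ⟨hr⟩
    obtain ⟨W, hW, hWH⟩ : ∃ W : Sylow r (normalizer (U : Set G)), True ∧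
        (W : Subgroup (normalizer (U : Set G))) ≤ H := by
      by_cases hrp : r = p
      · subst hrp
        obtain ⟨W, hW⟩ := hT
        refine ⟨W, trivial, fun w hw y hy => ?_⟩
        have hwS : (w : G) ∈ S := (hW ▸ mem_map_of_mem _ hw : (w : G) ∈ (S : Subgroup G) ⊓ _).1
        have := hnorm (S.inv_mem (hU hy)) (commutator_mem_phi S.2 hwS (hU hy))
        simpa [mul_assoc] using this
      · refine ⟨default, trivial, fun w hw y hy => ?_⟩
        obtain ⟨e, he⟩ := IsPGroup.iff_orderOf.1 (default : Sylow r _).2 ⟨w, hw⟩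
        rw [orderOf_mk] at he
        have hco : (orderOf (w : G)).Coprime p := by
          rw [orderOf_coe, he]
          exact ((Nat.coprime_primes hr Fact.out).2 hrp).pow_left e
        have := hnorm (S.inv_mem (hU hy))
          (local_fusion hd hk S.2 h hdS hmin hU w.2 hco y hy)
        simpa [mul_assoc] using this
    exact W.not_dvd_index (hrd.trans (index_dvd_of_le hWH))
  have hfocal : commutator G ⊓ (S : Subgroup G) ≤ Φ :=
    Transfer.Fusion.focal_le_of_fusion S fun x hx g hg => ⟨g, rfl, by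
      have := hnorm hx (Φ.inv_mem (hfus hx hg))
      simpa [commutatorElement_def, mul_assoc] using this⟩
  obtain ⟨N, hN, hNS, htop⟩ := Transfer.Fusion.exists_normal_inf_eq_focal S
  have hNc := Transfer.Tate.hasNormalPComplement_of_inf_le_frattini S N (hNS.le.trans hfocal)
  obtain ⟨n, hn⟩ := IsPGroup.iff_card.1 S.2
  have hdvd : N.index ∣ p ^ n := by
    rw [← hn, ← relIndex_top_right, ← htop, sup_comm, relIndex_sup_right]
    exact relIndex_dvd_card ..
  obtain ⟨e, -, he⟩ := (Nat.dvd_prime_pow Fact.out).1 hdvd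
  exact Transfer.NormalPComplement.hasNormalPComplement_of_normal_index hNc he

end Cfsg.Agent.CharP.StronglyClosedOrder
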