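import Mathlib
import Cfsg.Prelude.Def_LocalEven
import Cfsg.Agent.Lib.CharP.RelTrace
import Cfsg.Agent.Lib.CharP.StronglyClosedOrder
import Cfsg.Agent.Lib.PLocal.Omega
import Cfsg.Agent.Lib.PLocal.Replacement
import Cfsg.Agent.Lib.PLocal.S4Section
import Cfsg.Agent.Lib.Involutions.BaerSuzuki

/-!
An element of a normal abelian `p`-subgroup centralised by a Sylow subgroup is central as soon as
it is centralised by the normalisers of suitable families of offenders.
-/

set_option autoImplicit false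
set_option linter.unusedSectionVars false

namespace Cfsg.Agent.CharP.Offender

open Subgroup
open scoped commutatorElement

variable {H : Type*} [Group H] [Finite H] {p : ℕ} [Fact p.Prime]

/-- A normal subgroup inducing a `p`-group on `V` acts trivially. -/
theorem le_centralizer_of_pow (T : Sylow p H) {V : Subgroup H} [V.Normal] {v₀ : H} (hv₀ : v₀ ∈ V)
    (hvT : ∀ t ∈ (T : Subgroup H), t * v₀ = v₀ * t) (hgen : V ≤ normalClosure {v₀})
    (K : Subgroup H) [K.Normal] (hK : ∃ e : ℕ, ∀ k ∈ K, k ^ p ^ e ∈ centralizer (V : Set H)) :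
    K ≤ centralizer (V : Set H) := by
  obtain ⟨e, hpow⟩ := hK
  set C₀ := centralizer ({v₀} : Set H) ⊓ K with hC₀
  have h1 : C₀.relIndex K ∣ ((T : Subgroup H) ⊓ K).relIndex K :=
    relIndex_dvd_of_le_left _ (le_inf (fun t ht => mem_centralizer_singleton_iff.2 (hvT t ht.1))
      inf_le_right)
  have h2 : C₀.relIndex K ∣ (centralizer (V : Set H) ⊓ K).relIndex K :=
    relIndex_dvd_of_le_left _ (inf_le_inf_right K (centralizer_le (Set.singleton_subset_iff.2 hv₀)))
  obtain ⟨j, hj⟩ : ∃ j, (centralizer (V : Set H) ⊓ K).relIndex K = p ^ j := by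
    rw [inf_relIndex_right]
    have hq : IsPGroup p (K ⧸ (centralizer (V : Set H)).subgroupOf K) := by
      intro z
      obtain ⟨k, rfl⟩ := QuotientGroup.mk_surjective z
      exact ⟨e, by rw [← QuotientGroup.mk_pow, QuotientGroup.eq_one_iff]; exact hpow k k.2⟩
    exact IsPGroup.iff_card.1 hq
  have h3 : C₀.relIndex K = 1 := Nat.eq_one_of_dvd_coprimes
    (((Nat.Prime.coprime_iff_not_dvd Fact.out).2
      (PLocal.Omega.not_dvd_relIndex_inf T K)).pow_left j).symm h1 (hj ▸ h2)
  have hK : K ≤ centralizer ({v₀} : Set H) := (relIndex_eq_one.1 h3).trans inf_le_left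
  have : normalClosure ({v₀} : Set H) ≤ centralizer (K : Set H) :=
    normalClosure_le_normal (Set.singleton_subset_iff.2 fun k hk =>
      mem_centralizer_singleton_iff.1 (hK hk))
  exact le_centralizer_iff.1 (hgen.trans this)

/-- The elements stabilising the series `1 ≤ U ≤ V`. -/
def modCentralizer (V U : Subgroup H) [U.Normal] : Subgroup H where
  carrier := {k | ∀ v ∈ V, k * v * k⁻¹ * v⁻¹ ∈ U}
  one_mem' := fun v _ => by simp
  mul_mem' := fun {a b} ha hb v hv => by
    have := U.mul_mem (Normal.conj_mem inferInstance _ (hb v hv) a) (ha v hv)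
    simpa [mul_assoc] using this
  inv_mem' := fun {a} ha v hv => by
    have := U.inv_mem (Normal.conj_mem inferInstance _ (ha v hv) a⁻¹)
    simpa [mul_assoc] using this

instance modCentralizer_normal (V U : Subgroup H) [V.Normal] [U.Normal] :
    (modCentralizer V U).Normal :=
  ⟨fun k hk x v hv => by
    have h1 := hk _ (show x⁻¹ * v * x ∈ V by simpa using Normal.conj_mem inferInstance v hv x⁻¹)
    have := Normal.conj_mem inferInstance _ h1 x
    simpa [mul_assoc] using this⟩

/-- Elements trivial modulo a central subgroup are trivial. -/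
theorem modCentralizer_le (T : Sylow p H) {V U : Subgroup H} [V.Normal] [U.Normal]
    (hVp : IsPGroup p V) (hVc : ∀ a ∈ V, ∀ b ∈ V, a * b = b * a) (hUV : U ≤ V)
    (hUc : U ≤ center H) {v₀ : H} (hv₀ : v₀ ∈ V)
    (hvT : ∀ t ∈ (T : Subgroup H), t * v₀ = v₀ * t) (hgen : V ≤ normalClosure {v₀}) :
    modCentralizer V U ≤ centralizer (V : Set H) := by
  set K := modCentralizer V U
  obtain ⟨e, he⟩ := IsPGroup.iff_card.1 hVp
  have hpow : ∀ k ∈ K, k ^ p ^ e ∈ centralizer (V : Set H) := by
    intro k hk v hv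
    set u := k * v * k⁻¹ * v⁻¹ with hu
    have huU : u ∈ U := hk v hv
    have hiter : ∀ m : ℕ, k ^ m * v * (k ^ m)⁻¹ = u ^ m * v := by
      intro m
      induction m with
      | zero => simp
      | succ m ih =>
        calc k ^ (m + 1) * v * (k ^ (m + 1))⁻¹ = k * (k ^ m * v * (k ^ m)⁻¹) * k⁻¹ := by
              rw [pow_succ']; group
          _ = k * (u ^ m) * k⁻¹ * (k * v * k⁻¹) := by rw [ih]; group
          _ = u ^ m * (u * v) := by
              rw [mem_center_iff.1 (pow_mem (hUc huU) m) k, mul_inv_cancel_right,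
                show k * v * k⁻¹ = u * v by rw [hu, inv_mul_cancel_right]]
          _ = _ := by rw [← mul_assoc, ← pow_succ]
    have h1 : u ^ p ^ e = 1 := by
      rw [← he]
      exact congrArg Subtype.val (pow_card_eq_one' (x := (⟨u, hUV huU⟩ : V)))
    have h2 := hiter (p ^ e)
    rw [h1, one_mul] at h2
    exact (mul_inv_eq_iff_eq_mul.1 h2).symm
  refine le_centralizer_of_pow T hv₀ hvT hgen K ⟨e, hpow⟩

/-- The main criterion. -/
theorem central_of_family (T : Sylow p H) {V : Subgroup H} [V.Normal]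
    (hVc : ∀ a ∈ V, ∀ b ∈ V, a * b = b * a) {v₀ : H} (hv₀ : v₀ ∈ V)
    (hvT : ∀ t ∈ (T : Subgroup H), t * v₀ = v₀ * t) (hgen : V ≤ normalClosure {v₀})
    (n : ℕ) (hxp : (v₀ ^ n) ^ p = 1)
    (hproper : ∀ H₁ : Subgroup H, (T : Subgroup H) ≤ H₁ → H₁ ≠ ⊤ →
      H₁ ≤ centralizer ({v₀ ^ n} : Set H))
    (𝒳 : Set (Subgroup H)) (hne : 𝒳.Nonempty) (hXT : ∀ A ∈ 𝒳, A ≤ (T : Subgroup H))
    (hXV : ∀ A ∈ 𝒳, ¬ A ≤ centralizer (V : Set H))
    (hconj : ∀ A ∈ 𝒳, ∀ g : H, A.map (MulAut.conj g).toMonoidHom ≤ (T : Subgroup H) →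
      A.map (MulAut.conj g).toMonoidHom ∈ 𝒳)
    (hstep : ∀ A ∈ 𝒳, ∀ B : Subgroup H, B ≤ A → B.relIndex A = p → ∀ a ∈ A, a ∉ B → a ^ p ∈ B →
      ∀ v ∈ V, (∀ b ∈ B, b * v = v * b) → (v ^ n) ^ p = 1 →
        Commute a (v ^ n) ∨ (p ≠ 2 ∧ Commute a (a * v ^ n * a⁻¹ * (v ^ n)⁻¹))) :
    v₀ ^ n ∈ center H := by
  set S : Subgroup H := (T : Subgroup H)
  set W : Subgroup H := sSup 𝒳 with hW
  have hWS : W ≤ S := sSup_le hXT
  have hWmap : ∀ g : H, (∀ A ∈ 𝒳, A.map (MulAut.conj g).toMonoidHom ≤ S) →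
      g ∈ normalizer (W : Set H) := fun g hg => by
    refine mem_normalizer_iff_map_conj_eq.2 (eq_of_le_of_card_ge ?_
      (card_map_of_injective (MulAut.conj g).injective).ge)
    rw [hW, (gc_map_comap _).l_sSup]
    exact iSup₂_le fun A hA => le_sSup (hconj A hA g (hg A hA))
  have hSN : S ≤ normalizer (W : Set H) := fun t ht => hWmap t fun A hA => by
    rintro _ ⟨a, ha, rfl⟩
    exact S.mul_mem (S.mul_mem ht (hXT A hA ha)) (S.inv_mem ht)
  by_cases htop : normalizer (W : Set H) = ⊤
  · have : W.Normal := normalizer_eq_top_iff.1 htop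
    have h1 : normalClosure ({v₀} : Set H) ≤ centralizer (W : Set H) :=
      normalClosure_le_normal (Set.singleton_subset_iff.2 fun w hw => hvT w (hWS hw))
    obtain ⟨A, hA⟩ := hne
    exact absurd ((le_sSup hA).trans (le_centralizer_iff.1 (hgen.trans h1))) (hXV A hA)
  have hN₀ := hproper _ hSN htop
  letI : CommGroup V :=
    { (inferInstance : Group V) with mul_comm := fun a b => Subtype.ext (hVc a a.2 b b.2) }
  let φ : H →* MulAut V := MulAut.conjNormal
  have hφ : ∀ (h : H) (v : V), ((φ h v : V) : H) = h * v * h⁻¹ := fun h v => MulAut.conjNormal_apply h v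
  have hφfix : ∀ (h : H) (v : V), φ h v = v ↔ h * (v : H) = (v : H) * h := fun h v => by
    rw [Subtype.ext_iff, hφ, mul_inv_eq_iff_eq_mul]
  set x : V := ⟨v₀, hv₀⟩ ^ n with hx
  have hxv : (x : H) = v₀ ^ n := SubmonoidClass.coe_pow _ _
  have hxp' : x ^ p = 1 := Subtype.ext (by rw [SubmonoidClass.coe_pow, hxv, hxp]; rfl)
  have hfix := RelTrace.fixed_of_vanish φ T (normalizer (W : Set H)) hSN x
    (fun t ht => (hφfix t x).2 (by
      rw [hxv]; exact (Commute.pow_right (hvT t ht) n).eq))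
    (fun h hh => (hφfix h x).2 (by
      rw [hxv]; exact mem_centralizer_singleton_iff.1 (hN₀ hh)))
    hxp' ?_
  · refine mem_center_iff.2 fun h => ?_
    rw [← hxv]
    exact (hφfix h x).1 (hfix h)
  intro g hg
  rw [hx, map_pow]
  refine RelTrace.tr_eq_one (p := p) φ 𝒳 n ?_ S T.2 _ inf_le_left ?_ _ ?_ ?_
  · intro A hA B hBA hBi a ha haB hap v hv hvp
    set w : V := v ^ n with hw
    have hwH : (w : H) = (v : H) ^ n := SubmonoidClass.coe_pow _ _
    rcases hstep A hA B hBA hBi a ha haB hap v v.2 (fun b hb => (hφfix b v).1 (hv b hb))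
        (by rw [← hwH, ← SubmonoidClass.coe_pow, hvp]; rfl) with hc | ⟨hp2, hc⟩
    · have hfw : ∀ j : ℕ, φ (a ^ j) w = w := fun j => (hφfix _ w).2 (by
        rw [hwH]; exact (hc.pow_left j).eq)
      rw [Finset.prod_congr rfl (fun j _ => hfw j), Finset.prod_const, Finset.card_range, hvp]
    · set d : V := φ a w / w with hd
      have hdH : (d : H) = a * (v : H) ^ n * a⁻¹ * ((v : H) ^ n)⁻¹ := by
        rw [hd, div_eq_mul_inv, Subgroup.coe_mul, Subgroup.coe_inv, hφ, hwH]
      have hdfix : φ a d = d := (hφfix a d).2 (by rw [hdH]; exact hc.eq)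
      have hit : ∀ j : ℕ, φ (a ^ j) w = d ^ j * w := by
        intro j
        induction j with
        | zero => simp
        | succ j ih =>
          rw [pow_succ', ← RelTrace.apply_apply, ih, map_mul, map_pow, hdfix, pow_succ, mul_assoc,
            hd, div_mul_cancel]
      rw [Finset.prod_congr rfl (fun j _ => hit j), Finset.prod_mul_distrib,
        Finset.prod_pow_eq_pow_sum, Finset.prod_const, Finset.card_range, hvp, mul_one]
      have hdvd : p ∣ ∑ j ∈ Finset.range p, j := by
        have h2 : p ∣ (∑ j ∈ Finset.range p, j) * 2 := by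
          rw [Finset.sum_range_id_mul_two]; exact Dvd.intro _ rfl
        exact (Nat.Coprime.dvd_of_dvd_mul_right
          ((Nat.coprime_primes Fact.out Nat.prime_two).2 hp2) h2)
      obtain ⟨c, hc'⟩ := hdvd
      rw [hc', pow_mul, hd, div_pow, ← map_pow, hvp, map_one, div_self', one_pow]
  · by_contra hcon
    push Not at hcon
    apply hg
    rw [← inv_inv g]
    refine inv_mem (hWmap g⁻¹ fun A hA => ?_)
    rintro _ ⟨a, ha, rfl⟩
    obtain ⟨s, hs, he⟩ := (hcon A hA (hXT A hA) ha).2
    rw [← he]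
    simp only [MulEquiv.coe_toMonoidHom, MulAut.conj_apply, inv_inv, mul_assoc, inv_mul_cancel_left, inv_mul_cancel, mul_one]
    exact hs
  · rintro r ⟨-, s, hs, rfl⟩
    refine Subtype.ext ?_
    rw [hφ, hφ, MulEquiv.coe_toMonoidHom, MulAut.conj_apply]
    show g * s * g⁻¹ * (g * v₀ * g⁻¹) * (g * s * g⁻¹)⁻¹ = g * v₀ * g⁻¹
    calc g * s * g⁻¹ * (g * v₀ * g⁻¹) * (g * s * g⁻¹)⁻¹ = g * (s * v₀ * s⁻¹) * g⁻¹ := by group
      _ = _ := by rw [hvT s hs, mul_inv_cancel_right]
  · rw [← map_pow, ← map_pow, ← hx, hxp', map_one]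

/-- An offender. -/
def Off (V A : Subgroup H) : Prop :=
  IsMulCommutative A ∧ ¬ A ≤ centralizer (V : Set H) ∧
    (V ⊓ centralizer (A : Set H)).relIndex V ≤ (A ⊓ centralizer (V : Set H)).relIndex A

/-- An offender of which no proper subgroup is an offender. -/
def MinOff (V A : Subgroup H) : Prop := Off V A ∧ ∀ B < A, ¬ Off V B

theorem map_inf_centralizer (f : H ≃* H) (X Y : Subgroup H) :
    (X ⊓ centralizer (Y : Set H)).map f.toMonoidHom =
      X.map f.toMonoidHom ⊓ centralizer (Y.map f.toMonoidHom : Set H) := by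
  rw [Subgroup.map_inf _ _ _ f.injective]
  congr 1
  ext z
  simp only [mem_map, mem_centralizer_iff, SetLike.mem_coe, MulEquiv.coe_toMonoidHom]
  constructor
  · rintro ⟨w, hw, rfl⟩ _ ⟨y, hy, rfl⟩
    rw [← map_mul, ← map_mul, hw y hy]
  · intro hz
    refine ⟨f.symm z, fun y hy => f.injective ?_, f.apply_symm_apply z⟩
    rw [map_mul, map_mul, f.apply_symm_apply]
    exact hz _ ⟨y, hy, rfl⟩

theorem Off.map {V A : Subgroup H} [hVn : V.Normal] (g : H) (h : Off V A) :
    Off V (A.map (MulAut.conj g).toMonoidHom) := by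
  obtain ⟨h1, h2, h3⟩ := h
  have hV : V.map (MulAut.conj g).toMonoidHom = V :=
    mem_normalizer_iff_map_conj_eq.1 (by rw [normalizer_eq_top_iff.2 hVn]; trivial)
  refine ⟨Subgroup.map_isMulCommutative _ _, fun hle => h2 fun a ha v hv => ?_, ?_⟩
  · have := hle ⟨a, ha, rfl⟩ (g * v * g⁻¹) (hVn.conj_mem v hv g)
    refine (MulAut.conj g).injective ?_
    rw [map_mul, map_mul]
    exact this
  · rw [← hV, ← map_inf_centralizer, ← map_inf_centralizer,
      relIndex_map_map_of_injective _ _ (MulAut.conj g).injective,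
      relIndex_map_map_of_injective _ _ (MulAut.conj g).injective]
    exact h3

theorem MinOff.map {V A : Subgroup H} [V.Normal] (g : H) (h : MinOff V A) :
    MinOff V (A.map (MulAut.conj g).toMonoidHom) := by
  refine ⟨h.1.map g, fun B hB hoff => ?_⟩
  have h1 := hoff.map g⁻¹
  refine h.2 _ ?_ h1
  have h2 : B.map (MulAut.conj g⁻¹).toMonoidHom <
      (A.map (MulAut.conj g).toMonoidHom).map (MulAut.conj g⁻¹).toMonoidHom :=
    (map_lt_map_iff_of_injective (MulAut.conj g⁻¹).injective).2 hB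
  rwa [CharP.conj_map_map, inv_mul_cancel, CharP.conj_map_one] at h2

theorem exists_minOff {V A : Subgroup H} (h : Off V A) : ∃ B ≤ A, MinOff V B := by
  obtain ⟨B, hBA, hB⟩ := (Set.toFinite {B : Subgroup H | Off V B}).exists_le_minimal h
  exact ⟨B, hBA, hB.1, fun C hC hoff => hC.not_ge (hB.2 hoff hC.le)⟩

theorem exists_pow_relIndex {V : Subgroup H} (hVp : IsPGroup p V) (X : Subgroup H) :
    ∃ k, X.relIndex V = p ^ k := hVp.index (X.subgroupOf V)

/-- What a hyperplane of a minimal offender fixes. -/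
theorem minOff_step {V A B : Subgroup H} [V.Normal] (hVp : IsPGroup p V)
    (hVc : ∀ a ∈ V, ∀ b ∈ V, a * b = b * a) (hA : MinOff V A) (hAp : IsPGroup p A) (hBA : B ≤ A)
    (hBi : B.relIndex A = p) :
    V ⊓ centralizer (B : Set H) = V ⊓ centralizer (A : Set H) ∨
      (A ⊓ centralizer (V : Set H)).relIndex A = p := by
  obtain ⟨⟨hAc, hAn, hAw⟩, hmin⟩ := hA
  set CA := A ⊓ centralizer (V : Set H)
  have hsub : V ⊓ centralizer (A : Set H) ≤ V ⊓ centralizer (B : Set H) :=
    inf_le_inf_left V (centralizer_le hBA)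
  by_cases hCB : CA ≤ B
  · by_cases hBV : B ≤ centralizer (V : Set H)
    · right
      rw [show CA = B from le_antisymm hCB (le_inf hBA hBV), hBi]
    · left
      have hlt : B < A := lt_of_le_of_ne hBA fun he => by
        rw [he, relIndex_self] at hBi
        exact (Fact.out : p.Prime).ne_one hBi.symm
      have hBc : IsMulCommutative B :=
        ⟨⟨fun a b => Subtype.ext ((congrArg Subtype.val
          (hAc.is_comm.comm ⟨a, hBA a.2⟩ ⟨b, hBA b.2⟩) :))⟩⟩
      have hnot : ¬ ((V ⊓ centralizer (B : Set H)).relIndex V ≤ (B ⊓ centralizer (V : Set H)).relIndex B) :=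
        fun h => hmin B hlt ⟨hBc, hBV, h⟩
      have hCBeq : B ⊓ centralizer (V : Set H) = CA :=
        le_antisymm (inf_le_inf_right _ hBA) (le_inf hCB inf_le_right)
      have hm := relIndex_mul_relIndex CA B A hCB hBA
      rw [hCBeq] at hnot
      rw [hBi] at hm
      obtain ⟨i, hi⟩ := exists_pow_relIndex (p := p) hVp (V ⊓ centralizer (B : Set H))
      obtain ⟨j, hj⟩ := exists_pow_relIndex (p := p) (hAp.to_le hBA) CA
      obtain ⟨l, hl⟩ := exists_pow_relIndex (p := p) hVp (V ⊓ centralizer (A : Set H))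
      have hmul := relIndex_mul_relIndex _ _ V hsub inf_le_left
      obtain ⟨r, hr⟩ := exists_pow_relIndex (p := p) (hVp.to_le inf_le_left) (V ⊓ centralizer (A : Set H))
      rw [hr, hi, hl, ← pow_add] at hmul
      rw [hi, hj] at hnot
      change (V ⊓ centralizer (A : Set H)).relIndex V ≤ CA.relIndex A at hAw
      rw [hl, ← hm, hj, ← pow_succ] at hAw
      have hp1 := (Fact.out : p.Prime).one_lt
      have e1 := Nat.pow_right_injective hp1 hmul
      have e2 := (Nat.pow_le_pow_iff_right hp1).1 hAw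
      have e3 : j < i := by
        by_contra h
        exact hnot (Nat.pow_le_pow_right (by omega) (by omega))
      have hr0 : r = 0 := by omega
      rw [hr0, pow_zero, relIndex_eq_one] at hr
      exact le_antisymm hr hsub
  · left
    obtain ⟨c, hcA, hcB⟩ := SetLike.not_le_iff_exists.1 hCB
    have hgen : B ⊔ CA = A := by
      refine le_antisymm (sup_le hBA inf_le_left) ?_
      have h1 := relIndex_mul_relIndex B (B ⊔ CA) A le_sup_left (sup_le hBA inf_le_left)
      rw [hBi] at h1
      rcases (Nat.dvd_prime Fact.out).1 (Dvd.intro _ h1) with h2 | h2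
      · exact absurd (relIndex_eq_one.1 h2 (le_sup_right (a := B) hcA)) hcB
      · rw [h2] at h1
        exact relIndex_eq_one.1 ((mul_eq_left₀ (Fact.out : p.Prime).ne_zero).1 h1)
    refine le_antisymm (le_inf inf_le_left ?_) hsub
    rw [le_centralizer_iff, ← hgen]
    exact sup_le (le_centralizer_iff.1 inf_le_right)
      ((inf_le_right : CA ≤ centralizer (V : Set H)).trans (centralizer_le inf_le_left))

/-- An element acting as a transvection centralises its commutators. -/
theorem commute_of_index_prime {V A : Subgroup H} [V.Normal] (hVp : IsPGroup p V)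
    (hVc : ∀ a ∈ V, ∀ b ∈ V, a * b = b * a) (hAp : IsPGroup p A)
    (hi : (V ⊓ centralizer (A : Set H)).relIndex V ≤ p) {a v : H} (ha : a ∈ A) (hv : v ∈ V) :
    Commute a (a * v * a⁻¹ * v⁻¹) := by
  set CV := V ⊓ centralizer (A : Set H) with hCV
  suffices h : a * v * a⁻¹ * v⁻¹ ∈ CV from h.2 a ha
  have hAN : A ≤ normalizer (V : Set H) := le_normalizer_of_normal
  set X := ⁅V, A⁆ with hX
  have hXV : X ≤ V := PLocal.Replacement.commutator_le_left hAN le_rfl
  have hmem : a * v * a⁻¹ * v⁻¹ ∈ X := by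
    rw [show a * v * a⁻¹ * v⁻¹ = (⁅v, a⁆)⁻¹ by rw [commutatorElement_def]; group]
    exact inv_mem (commutator_mem_commutator hv ha)
  have h1 := relIndex_mul_relIndex CV (X ⊔ CV) V le_sup_right (sup_le hXV inf_le_left)
  obtain ⟨k, hk⟩ := exists_pow_relIndex (p := p) hVp CV
  rw [hk] at hi h1
  have hk1 : k ≤ 1 := (Nat.pow_le_pow_iff_right (Fact.out : p.Prime).one_lt).1 (by rwa [pow_one])
  have hd : CV.relIndex (X ⊔ CV) ∣ p := (Dvd.intro _ h1).trans ((pow_dvd_pow p hk1).trans (pow_one p).dvd)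
  rcases (Nat.dvd_prime Fact.out).1 hd with h | h
  · exact relIndex_eq_one.1 h (le_sup_left (b := CV) hmem)
  · exfalso
    have hone : (X ⊔ CV).relIndex V = 1 := by
      rw [h] at h1
      interval_cases k
      · rw [pow_zero, mul_eq_one] at h1
        exact absurd h1.1 (Fact.out : p.Prime).ne_one
      · rw [pow_one] at h1
        exact (mul_eq_left₀ (Fact.out : p.Prime).ne_zero).1 h1
    have hV : X ⊔ CV = V := le_antisymm (sup_le hXV inf_le_left) (relIndex_eq_one.1 hone)
    have hXX : X ≤ ⁅X, A⁆ := by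
      conv_lhs => rw [hX, ← hV, PLocal.Replacement.commutator_sup hVc hAN hXV inf_le_left]
      refine sup_le le_rfl ?_
      rw [commutator_eq_bot_iff_le_centralizer.2 inf_le_right]
      exact bot_le
    have hP : IsPGroup p (V ⊔ A : Subgroup H) := hVp.to_sup_of_normal_left hAp
    have hbot : X = ⊥ := PLocal.Replacement.eq_bot_of_le_commutator hP (hXV.trans le_sup_left)
      (hXX.trans (commutator_mono le_rfl le_sup_right))
    have : CV = V := by rw [← hV, hbot, bot_sup_eq]
    rw [hbot, bot_sup_eq, relIndex_self] at h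
    exact (Fact.out : p.Prime).ne_one h.symm

end Cfsg.Agent.CharP.Offender
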