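import Mathlib
import Cfsg.Prelude.Def_IsolatedElements

/-!
Isolated elements of `p`-power order.
-/

set_option autoImplicit false

namespace Cfsg.Agent.CharP

open Subgroup

variable {G : Type*} [Group G] [Finite G] {p : ℕ} [Fact p.Prime] {x : G}

/-- An isolated element is central in every `p`-subgroup containing it. -/
theorem isolated_commute_of_pgroup (hiso : Cfsg.IsIsolated x) {R : Subgroup G}
    (hR : IsPGroup p ↥R) (hxR : x ∈ R) {y : G} (hy : y ∈ R) : y * x = x * y := by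
  have := hR.isNilpotent
  let C : Subgroup ↥R := centralizer ({⟨x, hxR⟩} : Set ↥R)
  have htop : C = ⊤ := by
    by_contra hne
    obtain ⟨n, hn, hnC⟩ :=
      SetLike.exists_of_lt (Group.normalizerCondition_of_isNilpotent C (lt_top_iff_ne_top.2 hne))
    have hxC : (⟨x, hxR⟩ : ↥R) ∈ C := mem_centralizer_singleton_iff.2 rfl
    have h1 : n * ⟨x, hxR⟩ * n⁻¹ ∈ C := (mem_normalizer_iff.1 hn _).1 hxC
    have h2 := mem_centralizer_singleton_iff.1 h1
    have h4 : (n : G) * x * (n : G)⁻¹ * x = x * ((n : G) * x * (n : G)⁻¹) :=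
      congrArg Subtype.val h2
    have h3 : (n : G) * x * (n : G)⁻¹ = x := hiso n h4.symm
    exact hnC (mem_centralizer_singleton_iff.2 (Subtype.ext (mul_inv_eq_iff_eq_mul.1 h3)))
  have hmem : (⟨y, hy⟩ : ↥R) ∈ C := htop ▸ mem_top _
  have heq : (⟨y, hy⟩ : ↥R) * ⟨x, hxR⟩ = ⟨x, hxR⟩ * ⟨y, hy⟩ := mem_centralizer_singleton_iff.1 hmem
  exact congrArg Subtype.val heq

/-- Two conjugates of an isolated element in one `p`-subgroup are equal. -/
theorem isolated_eq_of_pgroup (hiso : Cfsg.IsIsolated x) {R : Subgroup G}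
    (hR : IsPGroup p ↥R) (hxR : x ∈ R) {g : G} (hg : g * x * g⁻¹ ∈ R) : g * x * g⁻¹ = x :=
  hiso g (isolated_commute_of_pgroup hiso hR hxR hg).symm

omit [Finite G] [Fact p.Prime] in
theorem isPGroup_zpowers (hx : ∃ k : ℕ, orderOf x = p ^ k) : IsPGroup p ↥(zpowers x) := by
  obtain ⟨k, hk⟩ := hx
  exact IsPGroup.of_card (n := k) (by rw [Nat.card_zpowers, hk])

/-- If `x` and `gxg⁻¹` lie in a subgroup `M`, they are conjugate in `M`. -/
theorem isolated_exists_conj (hiso : Cfsg.IsIsolated x) (hx : ∃ k : ℕ, orderOf x = p ^ k)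
    {M : Subgroup G} (hxM : x ∈ M) {g : G} (hg : g * x * g⁻¹ ∈ M) :
    ∃ m ∈ M, m * (g * x * g⁻¹) * m⁻¹ = x := by
  have hy : ∃ k : ℕ, orderOf (g * x * g⁻¹) = p ^ k := by
    obtain ⟨k, hk⟩ := hx
    exact ⟨k, hk ▸ orderOf_injective (MulAut.conj g).toMonoidHom (MulAut.conj g).injective x⟩
  obtain ⟨R, hR⟩ := ((isPGroup_zpowers hx).comap_subtype (K := M)).exists_le_sylow
  obtain ⟨R', hR'⟩ := ((isPGroup_zpowers hy).comap_subtype (K := M)).exists_le_sylow
  obtain ⟨m, hm⟩ := MulAction.exists_smul_eq ↥M R' R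
  refine ⟨m, m.2, ?_⟩
  have h1 : (⟨x, hxM⟩ : ↥M) ∈ (R : Subgroup ↥M) := hR (mem_subgroupOf.2 (mem_zpowers x))
  have h2 : m * ⟨g * x * g⁻¹, hg⟩ * m⁻¹ ∈ (R : Subgroup ↥M) := by
    rw [← hm, Sylow.coe_subgroup_smul]
    exact ⟨_, hR' (mem_subgroupOf.2 (mem_zpowers _)), rfl⟩
  have h3 : (m : G) * g * x * ((m : G) * g)⁻¹ = (m : G) * (g * x * g⁻¹) * (m : G)⁻¹ := by group
  rw [← h3]
  refine isolated_eq_of_pgroup hiso (R.isPGroup'.map M.subtype)
    (mem_map_of_mem M.subtype h1) ?_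
  rw [h3]
  exact mem_map_of_mem M.subtype h2

end Cfsg.Agent.CharP
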