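import Mathlib
import Cfsg.Agent.Lib.CharP.Offender
import Cfsg.Agent.Lib.Coprime.Commutator
import Cfsg.Agent.Lib.CharP.Isolated

/-!
An involutory transvection on a module that does not lie in a normal 2-subgroup forces a section
isomorphic to `S₄`.
-/

set_option autoImplicit false
set_option linter.unusedSectionVars false

namespace Cfsg.Agent.CharP.Offender

open Subgroup
open scoped commutatorElement

variable {H : Type*} [Group H] [Finite H]

/-- A section of a subgroup is a section. -/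
theorem involves_of_subgroup {K : Type*} [Group K] (L : Subgroup H) (h : Cfsg.Involves K ↥L) :
    Cfsg.Involves K H := by
  obtain ⟨A, R, hR, ⟨e⟩⟩ := h
  have := hR
  let f := equivMapOfInjective A L.subtype L.subtype_injective
  have hmap : (R.subgroupOf A).map f.toMonoidHom = (R.map L.subtype).subgroupOf (A.map L.subtype) := by
    ext z
    constructor
    · rintro ⟨a, ha, rfl⟩
      exact mem_subgroupOf.2 ⟨(a : L), mem_subgroupOf.1 ha, rfl⟩
    · intro hz
      obtain ⟨r, hr, hrz⟩ := mem_subgroupOf.1 hz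
      obtain ⟨a, rfl⟩ := f.surjective z
      exact ⟨a, mem_subgroupOf.2 (L.subtype_injective hrz ▸ hr), rfl⟩
  have hn : ((R.map L.subtype).subgroupOf (A.map L.subtype)).Normal :=
    hmap ▸ Normal.map inferInstance f.toMonoidHom f.surjective
  exact ⟨A.map L.subtype, R.map L.subtype, hn, ⟨(QuotientGroup.congr _ _ f hmap).symm.trans e⟩⟩

theorem exists_cube {V : Subgroup H} [V.Normal] {W : Subgroup H} (hWV : W ≤ V)
    (hW4 : W.relIndex V ≤ 4) (hV2 : ∀ v ∈ V, v ^ 2 = 1) {s : H} (hs : Odd (orderOf s))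
    (hsW : ∀ w ∈ W, s * w = w * s) : ∀ v ∈ V, s ^ 3 * v = v * s ^ 3 := by
  intro v hv
  have hcW : ∀ i : ℕ, ∀ w ∈ W, s ^ i * w * (s ^ i)⁻¹ = w := fun i w hw => by
    rw [mul_inv_eq_iff_eq_mul]
    exact ((show Commute s w from hsW w hw).pow_left i).eq
  by_cases hvW : v ∈ W
  · exact ((show Commute s v from hsW v hvW).pow_left 3).eq
  have hconj : ∀ i : ℕ, s ^ i * v * (s ^ i)⁻¹ ∈ V := fun i => Normal.conj_mem inferInstance v hv _
  let K : Subgroup V := W.subgroupOf V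
  let f : Fin 4 → {c : V ⧸ K // c ≠ ((1 : V) : V ⧸ K)} := fun i =>
    ⟨((⟨_, hconj i⟩ : V) : V ⧸ K), fun h => hvW (by
      rw [QuotientGroup.eq, mul_one] at h
      have h1 : s ^ (i : ℕ) * v * (s ^ (i : ℕ))⁻¹ ∈ W := by
        simpa [K, mem_subgroupOf] using h
      have h2 := hcW i _ h1
      have h3 : s ^ (i : ℕ) * v * (s ^ (i : ℕ))⁻¹ = v := by
        have h4 := congrArg (fun z => (s ^ (i : ℕ))⁻¹ * z * s ^ (i : ℕ)) h2
        simpa [mul_assoc] using h4
      rwa [h3] at h1)⟩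
  have hcard : Nat.card {c : V ⧸ K // c ≠ ((1 : V) : V ⧸ K)} < Nat.card (Fin 4) := by
    classical
    have := Fintype.ofFinite (V ⧸ K)
    rw [Nat.card_eq_fintype_card, Fintype.card_subtype_compl, Fintype.card_subtype_eq,
      ← Nat.card_eq_fintype_card, Nat.card_fin]
    have h1 : Nat.card (V ⧸ K) ≤ 4 := hW4
    omega
  obtain ⟨i, j, hij, hne⟩ : ∃ i j : Fin 4, f i = f j ∧ (i : ℕ) < j := by
    by_contra hcon
    push Not at hcon
    refine hcard.not_ge (Nat.card_le_card_of_injective f fun i j h => Fin.ext ?_)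
    rcases lt_trichotomy (i : ℕ) j with h' | h' | h'
    · exact absurd h' (hcon i j h).not_gt
    · exact h'
    · exact absurd h' (hcon j i h.symm).not_gt
  have h0 := congrArg Subtype.val hij
  rw [QuotientGroup.eq] at h0
  have h1 : (s ^ (i : ℕ) * v * (s ^ (i : ℕ))⁻¹)⁻¹ * (s ^ (j : ℕ) * v * (s ^ (j : ℕ))⁻¹) ∈ W := by
    simpa [K, mem_subgroupOf] using h0
  set d := (j : ℕ) - i with hd
  have h2 : v⁻¹ * (s ^ d * v * (s ^ d)⁻¹) ∈ W := by
    set w := v⁻¹ * (s ^ d * v * (s ^ d)⁻¹) with hw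
    have e : (s ^ (i : ℕ) * v * (s ^ (i : ℕ))⁻¹)⁻¹ * (s ^ (j : ℕ) * v * (s ^ (j : ℕ))⁻¹) =
        s ^ (i : ℕ) * w * (s ^ (i : ℕ))⁻¹ := by
      rw [hw, show (j : ℕ) = i + d by omega, pow_add]
      group
    rw [e] at h1
    have h3 := hcW i _ h1
    have h5 : s ^ (i : ℕ) * w * (s ^ (i : ℕ))⁻¹ = w := by
      have h4 := congrArg (fun z => (s ^ (i : ℕ))⁻¹ * z * s ^ (i : ℕ)) h3
      simpa [mul_assoc] using h4
    rwa [h5] at h1
  -- the exponents stabilising the coset of `v`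
  have hadd : ∀ k l : ℕ, v⁻¹ * (s ^ k * v * (s ^ k)⁻¹) ∈ W → v⁻¹ * (s ^ l * v * (s ^ l)⁻¹) ∈ W →
      v⁻¹ * (s ^ (k + l) * v * (s ^ (k + l))⁻¹) ∈ W := fun k l hk hl => by
    have e : v⁻¹ * (s ^ (k + l) * v * (s ^ (k + l))⁻¹) =
        v⁻¹ * (s ^ k * v * (s ^ k)⁻¹) * (s ^ k * (v⁻¹ * (s ^ l * v * (s ^ l)⁻¹)) * (s ^ k)⁻¹) := by
      rw [pow_add]; group
    rw [e, hcW k _ hl]
    exact W.mul_mem hk hl
  have hmul : ∀ k : ℕ, v⁻¹ * (s ^ (d * k) * v * (s ^ (d * k))⁻¹) ∈ W := by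
    intro k
    induction k with
    | zero => simp
    | succ k ih => rw [Nat.mul_succ]; exact hadd _ _ ih h2
  obtain ⟨m, hm⟩ := hs
  have h3 : v⁻¹ * (s ^ 3 * v * (s ^ 3)⁻¹) ∈ W := by
    have hj := j.2
    rcases (show d = 1 ∨ d = 2 ∨ d = 3 by omega) with h | h | h
    · have := hmul 3; rwa [h, one_mul] at this
    · have := hmul (3 * (m + 1))
      rwa [h, show 2 * (3 * (m + 1)) = orderOf s * 3 + 3 by rw [hm]; ring, pow_add, pow_mul,
        pow_orderOf_eq_one, one_pow, one_mul] at this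
    · have := hmul 1; rwa [h, mul_one] at this
  set u := v⁻¹ * (s ^ 3 * v * (s ^ 3)⁻¹) with hu
  set u' := s ^ 3 * v * (s ^ 3)⁻¹ * v⁻¹ with hu'
  have hu2 : u' ^ 2 = 1 := hV2 _ (V.mul_mem (hconj 3) (V.inv_mem hv))
  have huu : u' = v * u * v⁻¹ := by rw [hu', hu, mul_inv_cancel_left]
  have hcomm : v * u * v⁻¹ = u := by
    have hvi : ∀ z ∈ V, z⁻¹ = z := fun z hz =>
      inv_eq_of_mul_eq_one_right (by rw [← pow_two]; exact hV2 z hz)
    have h4 := hvi (v * u) (V.mul_mem hv (hWV h3))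
    rw [mul_inv_rev, hvi v hv, hvi u (hWV h3)] at h4
    rw [← h4, mul_inv_cancel_right]
  refine Coprime.OmegaDetect.eq_one_of_fix ?_ ?_
  · show Commute (s ^ 3) u'
    rw [huu, hcomm]
    exact (show Commute s u from hsW u h3).pow_left 3
  · refine Nat.Coprime.coprime_dvd_right (orderOf_dvd_of_pow_eq_one hu2) ?_
    exact Nat.Coprime.coprime_dvd_left (orderOf_pow_dvd 3)
      (Nat.coprime_two_right.2 ⟨m, hm⟩)

theorem involves_s4_of_transvection (T : Sylow 2 H) {V : Subgroup H} [V.Normal]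
    (hVc : ∀ a ∈ V, ∀ b ∈ V, a * b = b * a) (hV2 : ∀ v ∈ V, v ^ 2 = 1) {v₀ : H} (hv₀ : v₀ ∈ V)
    (hvT : ∀ t ∈ (T : Subgroup H), t * v₀ = v₀ * t) (hgen : V ≤ normalClosure {v₀})
    {a : H} (han : a ∉ centralizer (V : Set H)) (hsq : a ^ 2 ∈ centralizer (V : Set H))
    (hidx : (V ⊓ centralizer ({a} : Set H)).relIndex V ≤ 2) :
    Cfsg.Involves (Equiv.Perm (Fin 4)) H := by
  have : Fact (Nat.Prime 2) := ⟨Nat.prime_two⟩
  set C := centralizer (V : Set H) with hC
  let π := QuotientGroup.mk' C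
  have hπ : Function.Surjective π := QuotientGroup.mk'_surjective C
  have hker : ∀ z, π z = 1 ↔ z ∈ C := fun z => QuotientGroup.eq_one_iff z
  have ha2 : π a * π a = 1 := by rw [← map_mul, ← pow_two, hker]; exact hsq
  have hXp : IsPGroup 2 (zpowers (π a)) :=
    CharP.isPGroup_zpowers (by
      obtain ⟨k, -, hk⟩ := (Nat.dvd_prime_pow Nat.prime_two (m := 1)).1
        (orderOf_dvd_of_pow_eq_one (show π a ^ 2 ^ 1 = 1 by rw [pow_one, pow_two, ha2]))
      exact ⟨k, hk⟩)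
  obtain ⟨g, hg⟩ : ∃ g : H, ¬ IsPGroup 2 ↥(zpowers (π a) ⊔ zpowers (π g * π a * (π g)⁻¹)) := by
    by_contra hcon
    push Not at hcon
    obtain ⟨D, hD, hDp, haD⟩ := Involutions.BaerSuzuki.baer_suzuki (zpowers (π a)) hXp (fun y => by
      obtain ⟨g, rfl⟩ := hπ y
      rw [MonoidHom.map_zpowers]
      exact hcon g)
    obtain ⟨e, he⟩ := IsPGroup.iff_card.1 hDp
    have := hD.comap π
    have h1 : D.comap π ≤ C := le_centralizer_of_pow T hv₀ hvT hgen _ ⟨e, fun k hk => by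
      rw [← hker, map_pow, ← he]
      exact congrArg Subtype.val (pow_card_eq_one' (x := (⟨π k, hk⟩ : D)))⟩
    exact han (h1 (haD (mem_zpowers _)))
  set b := g * a * g⁻¹ with hb
  have hπb : π g * π a * (π g)⁻¹ = π b := by rw [hb, map_mul, map_mul, map_inv]
  rw [hπb] at hg
  have hai : (π a)⁻¹ = π a := inv_eq_of_mul_eq_one_right ha2
  have hb2 : π b * π b = 1 := by
    rw [← hπb, show π g * π a * (π g)⁻¹ * (π g * π a * (π g)⁻¹) = π g * (π a * π a) * (π g)⁻¹ by group,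
      ha2, mul_one, mul_inv_cancel]
  set r := π a * π b with hr
  have har : π a * r * (π a)⁻¹ = r⁻¹ := by
    rw [hr, mul_inv_rev, hai, inv_eq_of_mul_eq_one_right hb2, ← mul_assoc (π a) (π a), ha2, one_mul]
  obtain ⟨e, m, hm, hem⟩ := Nat.exists_eq_pow_mul_and_not_dvd (orderOf_pos r).ne' 2 (by norm_num)
  have hm1 : m ≠ 1 := by
    rintro rfl
    apply hg
    have hRp : IsPGroup 2 (zpowers r) := CharP.isPGroup_zpowers ⟨e, by rw [hem, mul_one]⟩
    have hnorm : zpowers (π a) ≤ normalizer (zpowers r : Set (H ⧸ C)) := zpowers_le.2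
      (Fusion.Saturation.mem_normalizer_of_forall fun z hz => by
        obtain ⟨i, rfl⟩ := mem_zpowers_iff.1 hz
        rw [← conj_zpow, har]
        exact zpow_mem (inv_mem (mem_zpowers r)) i)
    refine (hXp.to_sup_of_normal_right' hRp hnorm).to_le (sup_le le_sup_left (zpowers_le.2 ?_))
    rw [show π b = (π a)⁻¹ * r by rw [hr, inv_mul_cancel_left]]
    exact mul_mem (mem_sup_left (inv_mem (mem_zpowers _))) (mem_sup_right (mem_zpowers _))
  -- an element of odd order inverted by `a` modulo `C`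
  obtain ⟨o₀, m₀, hm₀, hom⟩ :=
    Nat.exists_eq_pow_mul_and_not_dvd (orderOf_pos (a * b)).ne' 2 (by norm_num)
  set s₁ := (a * b) ^ (2 ^ o₀) with hs₁
  have hs₁o : Odd (orderOf s₁) := by
    rw [hs₁, orderOf_pow' _ (by positivity), hom, Nat.gcd_mul_right_left,
      Nat.mul_div_cancel_left _ (by positivity)]
    exact Nat.odd_iff.2 (by omega)
  have hs₁n : π s₁ ≠ 1 := by
    intro h
    apply hm1
    rw [hs₁, map_pow, map_mul, ← hr] at h
    have h1 : m ∣ 2 ^ o₀ := (Dvd.intro_left _ hem.symm).trans (orderOf_dvd_of_pow_eq_one h)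
    exact Nat.eq_one_of_dvd_coprimes
      ((Nat.prime_two.coprime_iff_not_dvd.2 hm).pow_left o₀).symm dvd_rfl h1
  have hs₁a : π a * π s₁ * (π a)⁻¹ = (π s₁)⁻¹ := by
    rw [hs₁, map_pow, map_mul, ← hr, ← conj_pow, har, inv_pow]
  set W := V ⊓ centralizer ({a} : Set H) ⊓ (V ⊓ centralizer ({b} : Set H)) with hW
  have hWb : (V ⊓ centralizer ({b} : Set H)).relIndex V ≤ 2 := by
    have hV : V.map (MulAut.conj g).toMonoidHom = V :=
      CharP.conj_map_of_mem (le_normalizer_of_normal (mem_top g))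
    have h1 : (V ⊓ centralizer ({b} : Set H)) =
        (V ⊓ centralizer ({a} : Set H)).map (MulAut.conj g).toMonoidHom := by
      rw [Subgroup.map_inf _ _ _ (MulAut.conj g).injective, hV]
      congr 1
      ext z
      simp only [mem_map, mem_centralizer_singleton_iff, MulEquiv.coe_toMonoidHom, MulAut.conj_apply]
      constructor
      · intro hz
        refine ⟨g⁻¹ * z * g, ?_, by group⟩
        rw [hb] at hz
        have := congrArg (fun y => g⁻¹ * y * g) hz
        simpa [mul_assoc] using this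
      · rintro ⟨w, hw, rfl⟩
        rw [hb]
        have := congrArg (fun y => g * y * g⁻¹) hw
        simpa [mul_assoc] using this
    rw [h1]
    calc ((V ⊓ centralizer ({a} : Set H)).map (MulAut.conj g).toMonoidHom).relIndex V
        = ((V ⊓ centralizer ({a} : Set H)).map (MulAut.conj g).toMonoidHom).relIndex
            (V.map (MulAut.conj g).toMonoidHom) := by rw [hV]
      _ ≤ 2 := by rw [relIndex_map_map_of_injective _ _ (MulAut.conj g).injective]; exact hidx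
  have hW4 : W.relIndex V ≤ 4 := (relIndex_inf_le).trans (Nat.mul_le_mul hidx hWb)
  have hsW : ∀ w ∈ W, s₁ * w = w * s₁ := fun w hw => by
    have h1 : Commute a w := (mem_centralizer_singleton_iff.1 hw.1.2).symm
    have h2 : Commute b w := (mem_centralizer_singleton_iff.1 hw.2.2).symm
    exact ((h1.mul_left h2).pow_left _).eq
  have hcube := exists_cube (inf_le_left.trans inf_le_left) hW4 hV2 hs₁o hsW
  -- its three-part
  obtain ⟨e₃, m₃, hm₃, hem₃⟩ :=
    Nat.exists_eq_pow_mul_and_not_dvd (orderOf_pos s₁).ne' 3 (by norm_num)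
  obtain ⟨s, hs⟩ : ∃ s, s = s₁ ^ m₃ := ⟨_, rfl⟩
  have hso : orderOf s = 3 ^ e₃ := by
    rw [hs, orderOf_pow' _ (by rintro rfl; exact hm₃ (dvd_zero 3)), hem₃, Nat.gcd_mul_left_left,
      Nat.mul_div_cancel _ (Nat.pos_of_ne_zero (by rintro rfl; exact hm₃ (dvd_zero 3)))]
  have hs3C : ∀ i : ℕ, (s₁ ^ 3) ^ i ∈ C := fun i => C.pow_mem (show s₁ ^ 3 ∈ C from fun v hv => (hcube v hv).symm) i
  have hπ3 : (π s₁) ^ 3 = 1 := by rw [← map_pow, hker]; simpa using hs3C 1
  have hsn : π s ≠ 1 := fun h => hs₁n (by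
    rw [hs, map_pow] at h
    have h2 := pow_gcd_eq_one.2 ⟨hπ3, h⟩
    rwa [(Nat.prime_three.coprime_iff_not_dvd.2 hm₃).gcd_eq_one, pow_one] at h2)
  have hsa : π a * π s * (π a)⁻¹ = (π s)⁻¹ := by
    rw [hs, map_pow, ← conj_pow, hs₁a, inv_pow]
  have hs3 : (π s) ^ 3 = 1 := by rw [hs, map_pow, ← pow_mul, mul_comm, pow_mul, hπ3, one_pow]
  -- Frattini argument
  have : Fact (Nat.Prime 3) := ⟨Nat.prime_three⟩
  set M := C ⊔ zpowers s with hM
  obtain ⟨R, hR, hsR⟩ := CharP.exists_isSylIn_ge (p := 3) (H := M)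
    (CharP.isPGroup_zpowers ⟨e₃, hso⟩) le_sup_right
  have hMπ : ∀ z ∈ M, ∃ i : ℕ, π z = π s ^ i := fun z hz => by
    have h1 : π z ∈ M.map π := mem_map_of_mem π hz
    rw [hM, Subgroup.map_sup, QuotientGroup.map_mk'_self, bot_sup_eq, MonoidHom.map_zpowers] at h1
    obtain ⟨i, hi⟩ := Submonoid.mem_powers_iff _ _ |>.1 (mem_powers_iff_mem_zpowers.2 h1)
    exact ⟨i, hi.symm⟩
  have haM : a ∈ normalizer (M : Set H) :=
    Fusion.Saturation.mem_normalizer_of_forall fun z hz => by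
      obtain ⟨i, hi⟩ := hMπ z hz
      have h1 : π (a * z * a⁻¹) = π (s⁻¹ ^ i) := by
        rw [map_mul, map_mul, map_inv π a, hi, ← conj_pow, hsa, map_pow, map_inv π s]
      have h2 : (s⁻¹ ^ i)⁻¹ * (a * z * a⁻¹) ∈ C := by
        rw [← hker, map_mul, map_inv, h1, inv_mul_cancel]
      have h3 := M.mul_mem (M.pow_mem (M.inv_mem (le_sup_right (a := C) (mem_zpowers s))) i)
        (le_sup_left (b := zpowers s) h2)
      rwa [mul_inv_cancel_left] at h3
  have hRa : IsSylIn 3 (R.map (MulAut.conj a).toMonoidHom) M := by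
    have := hR.conj a
    rwa [CharP.conj_map_of_mem haM] at this
  obtain ⟨m', hm', hmc⟩ := hRa.exists_conj hR
  set n := m' * a with hn
  have hnR : n ∈ normalizer (R : Set H) := CharP.mem_normalizer_of_conj_map (by
    rw [hn, ← CharP.conj_map_map]; exact hmc)
  obtain ⟨i, hi⟩ := hMπ m' hm'
  have hconj_i : π a * π s ^ i * (π a)⁻¹ = (π s ^ i)⁻¹ := by
    rw [← conj_pow, hsa, inv_pow]
  have hn2 : π n * π n = 1 := by
    rw [hn, map_mul, hi]
    calc π s ^ i * π a * (π s ^ i * π a) = π s ^ i * (π a * π s ^ i * (π a)⁻¹) * (π a * π a) := by group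
      _ = 1 := by rw [hconj_i, ha2, mul_one, mul_inv_cancel]
  have hns : π n * π s * (π n)⁻¹ = (π s)⁻¹ := by
    rw [hn, map_mul, hi]
    calc π s ^ i * π a * π s * (π s ^ i * π a)⁻¹ = π s ^ i * (π a * π s * (π a)⁻¹) * (π s ^ i)⁻¹ := by group
      _ = (π s)⁻¹ := by
          rw [hsa]
          exact mul_inv_eq_iff_eq_mul.2 ((Commute.pow_self (π s) i).inv_right.eq)
  obtain ⟨en, mn, hmn, henn⟩ := Nat.exists_eq_pow_mul_and_not_dvd (orderOf_pos n).ne' 2 (by norm_num)
  set u := n ^ mn with hu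
  have huπ : π u = π n := by
    obtain ⟨k, hk⟩ : Odd mn := Nat.odd_iff.2 (by omega)
    rw [hu, map_pow, hk, pow_succ, pow_mul, pow_two, hn2, one_pow, one_mul]
  -- the section
  set V' := ⁅V, R⁆ with hV'
  have hRV : R ≤ normalizer (V : Set H) := le_normalizer_of_normal
  have hV'V : V' ≤ V := PLocal.Replacement.commutator_le_left hRV le_rfl
  have hN : normalizer (R : Set H) ≤ normalizer (V' : Set H) := fun y hy => by
    refine CharP.mem_normalizer_of_conj_map ?_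
    rw [hV', map_commutator, CharP.conj_map_of_mem (le_normalizer_of_normal (mem_top y)),
      CharP.conj_map_of_mem hy]
  set L := normalizer (R : Set H) ⊔ V' with hL
  set D := C ⊓ normalizer (R : Set H) with hD
  have hVp : IsPGroup 2 V := fun v => ⟨1, Subtype.ext (by rw [pow_one]; exact hV2 v v.2)⟩
  have : IsMulCommutative V := ⟨⟨fun a b => Subtype.ext (hVc a a.2 b b.2)⟩⟩
  have hcop : (Nat.card R).Coprime (Nat.card V) := by
    obtain ⟨i, hi⟩ := IsPGroup.iff_card.1 hR.isPGroup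
    obtain ⟨j, hj⟩ := IsPGroup.iff_card.1 hVp
    rw [hi, hj]
    exact Nat.Coprime.pow _ _ (by norm_num)
  have hfree := Coprime.inf_centralizer_inf_commutator hRV hcop
  have hDV : ∀ v ∈ V', v ∈ normalizer (R : Set H) → v = 1 := fun v hv hvN => by
    have hvC : v ∈ centralizer (R : Set H) := fun x hx => by
      have h1 : x⁻¹ * (v * x * v⁻¹) ∈ R := R.mul_mem (R.inv_mem hx) (((mem_normalizer_iff.1 hvN) x).1 hx)
      have h2 : x⁻¹ * (v * x * v⁻¹) ∈ V := by
        have := V.mul_mem (Normal.conj_mem inferInstance v (hV'V hv) x⁻¹) (V.inv_mem (hV'V hv))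
        simpa [mul_assoc] using this
      have h3 : x⁻¹ * (v * x * v⁻¹) = 1 := by
        rw [← orderOf_eq_one_iff]
        exact Nat.eq_one_of_dvd_coprimes hcop
          ((orderOf_mk _ h1).symm.dvd.trans (orderOf_dvd_natCard _))
          ((orderOf_mk _ h2).symm.dvd.trans (orderOf_dvd_natCard _))
      exact (mul_inv_eq_iff_eq_mul.1 (inv_mul_eq_one.1 h3).symm).symm
    exact mem_bot.1 (hfree ▸ mem_inf.2 ⟨mem_inf.2 ⟨hV'V hv, hvC⟩, hv⟩)
  have hDn : (D.subgroupOf L).Normal := by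
    refine normal_subgroupOf_of_le_normalizer ?_
    refine sup_le (fun y hy => CharP.mem_normalizer_of_conj_map ?_) fun v hv => ?_
    · rw [hD, Subgroup.map_inf _ _ _ (MulAut.conj y).injective,
        CharP.conj_map_of_mem (le_normalizer_of_normal (mem_top y)),
        CharP.conj_map_of_mem (le_normalizer hy)]
    · refine Fusion.Saturation.mem_normalizer_of_forall fun z hz => ?_
      rw [mul_inv_eq_iff_eq_mul.2 (show v * z = z * v from hz.1 v (hV'V hv))]
      exact hz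
  have hNL : normalizer (R : Set H) ≤ L := le_sup_left
  have hV'L : V' ≤ L := le_sup_right
  let q := QuotientGroup.mk' (D.subgroupOf L)
  have hq : ∀ z : L, q z = 1 ↔ (z : H) ∈ D := fun z => (QuotientGroup.eq_one_iff z).trans mem_subgroupOf
  refine involves_of_subgroup L (PLocal.S4Section.involves_of_quotient (N := D.subgroupOf L) ?_)
  have huN : u ∈ normalizer (R : Set H) := pow_mem hnR mn
  have hsN : s ∈ normalizer (R : Set H) := le_normalizer (hsR (mem_zpowers s))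
  obtain ⟨w, hw, hws⟩ : ∃ w ∈ V', s * w * s⁻¹ ≠ w := by
    by_contra hcon
    push Not at hcon
    apply hsn
    rw [hker]
    intro v hv
    have hd : s * v * s⁻¹ * v⁻¹ ∈ V' := by
      rw [show s * v * s⁻¹ * v⁻¹ = (⁅v, s⁆)⁻¹ by rw [commutatorElement_def]; group]
      exact inv_mem (commutator_mem_commutator hv (hsR (mem_zpowers s)))
    refine (Coprime.OmegaDetect.eq_one_of_fix (mul_inv_eq_iff_eq_mul.1 (hcon _ hd)) ?_).symm
    exact Nat.Coprime.coprime_dvd_right (orderOf_dvd_of_pow_eq_one (hV2 _ (hV'V hd)))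
      (by rw [hso]; exact Nat.Coprime.pow_left _ (by norm_num))
  have hconjL : ∀ (y : L), (y : H) ∈ normalizer (R : Set H) →
      ∀ z ∈ (V'.subgroupOf L).map q, q y * z * (q y)⁻¹ ∈ (V'.subgroupOf L).map q := by
    rintro y hy _ ⟨z, hz, rfl⟩
    refine ⟨y * z * y⁻¹, mem_subgroupOf.2 ?_, by rw [map_mul, map_mul, map_inv]⟩
    exact ((mem_normalizer_iff.1 (hN hy)) z).1 (mem_subgroupOf.1 hz)
  refine PLocal.S4Section.involves_s4 (V := (V'.subgroupOf L).map q)
    (a := q ⟨u, hNL huN⟩) (x := q ⟨s, hNL hsN⟩) (w := q ⟨w, hV'L hw⟩)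
    ?_ ?_ ?_ ?_ ?_ (hconjL _ huN) (hconjL _ hsN) ?_ ⟨_, mem_subgroupOf.2 hw, rfl⟩ ?_
  · rintro _ ⟨x, hx, rfl⟩ _ ⟨y, hy, rfl⟩
    rw [← map_mul, ← map_mul]
    exact congrArg q (Subtype.ext (hVc _ (hV'V hx) _ (hV'V hy)))
  · rintro _ ⟨x, hx, rfl⟩
    rw [← map_pow, show x ^ 2 = 1 from Subtype.ext (hV2 _ (hV'V hx)), map_one]
  · rw [← map_mul, hq]
    exact ⟨(hker _).1 (by show π (u * u) = 1; rw [map_mul, huπ, hn2]), mul_mem huN huN⟩
  · rw [← mul_inv_eq_one, inv_inv, ← map_inv, ← map_mul, ← map_mul, ← map_mul, hq]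
    refine Subgroup.mem_inf.2 ⟨(hker _).1 ?_, mul_mem (mul_mem (mul_mem huN hsN) (inv_mem huN)) hsN⟩
    show π (u * s * u⁻¹ * s) = 1
    rw [map_mul, map_mul, map_mul, map_inv, huπ, hns, inv_mul_cancel]
  · refine Odd.of_dvd_nat ?_ (orderOf_map_dvd q _)
    rw [← orderOf_coe]
    show Odd (orderOf s)
    rw [hso]
    exact Odd.pow (by decide)
  · rintro _ ⟨x, hx, rfl⟩
    rw [← map_pow, ← map_mul, ← map_mul]
    refine congrArg q (Subtype.ext ?_)
    exact (((hker _).1 (by rw [map_pow, hs3]) : s ^ 3 ∈ C) x (hV'V hx)).symm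
  · rw [← map_inv, ← map_mul, ← map_mul]
    intro h
    apply hws
    have h1 : ((⟨s, hNL hsN⟩ * ⟨w, hV'L hw⟩ * ⟨s, hNL hsN⟩⁻¹) * (⟨w, hV'L hw⟩ : L)⁻¹ : L).1 ∈ D := by
      rw [← hq, map_mul, h, map_inv, mul_inv_cancel]
    have h2 : s * w * s⁻¹ * w⁻¹ = 1 := hDV _
      (V'.mul_mem (((mem_normalizer_iff.1 (hN hsN)) w).1 hw) (V'.inv_mem hw)) h1.2
    exact mul_inv_eq_one.1 h2

end Cfsg.Agent.CharP.Offender
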