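import Mathlib
import Cfsg.Agent.Lib.CharP.Offender
import Cfsg.Agent.Lib.CharP.OffenderTransvection
import Cfsg.Agent.Lib.CharP.FusionInduction
import Cfsg.Agent.Lib.PLocal.MaxAbelian

/-!
`J` controls the weak closure of elements (Glauberman), through relative norms and replacement.
-/

set_option autoImplicit false
set_option linter.unusedSectionVars false

universe u

namespace Cfsg.Agent.CharP.WeakClosureJ

open Subgroup
open scoped commutatorElement
open PLocal.MaxAbelian (family)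

variable {G : Type u} [Group G] [Finite G] {p : ℕ} [Fact p.Prime]

theorem J_eq (U : Subgroup G) : Cfsg.thompsonSubgroupAOf U = sSup (family 0 U) := by
  rw [PLocal.MaxAbelian.family_zero, Cfsg.thompsonSubgroupAOf, Cfsg.thompsonSubgroupA]
  apply le_antisymm
  · rw [map_le_iff_le_comap]
    exact sSup_le fun A hA => map_le_iff_le_comap.mp (le_sSup ⟨A, hA, rfl⟩)
  · refine sSup_le ?_
    rintro _ ⟨A, hA, rfl⟩; exact map_mono (le_sSup hA)

theorem J_le (U : Subgroup G) : Cfsg.thompsonSubgroupAOf U ≤ U := map_subtype_le _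

theorem J_map {H : Type u} [Group H] [Finite H] {f : G →* H} (hf : Function.Injective f)
    (U : Subgroup G) : Cfsg.thompsonSubgroupAOf (U.map f) = (Cfsg.thompsonSubgroupAOf U).map f := by
  rw [J_eq, J_eq, PLocal.MaxAbelian.family_map 0 hf, sSup_image, (gc_map_comap _).l_sSup]

theorem normalizer_le_normalizer_J (U : Subgroup G) :
    normalizer (U : Set G) ≤ normalizer (Cfsg.thompsonSubgroupAOf U : Set G) := fun g hg => by
  refine CharP.mem_normalizer_of_conj_map ?_
  rw [← J_map (MulAut.conj g).injective, CharP.conj_map_of_mem hg]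

theorem J_eq_of_le {U T : Subgroup G} (hUT : U ≤ T) (hJ : Cfsg.thompsonSubgroupAOf T ≤ U) :
    Cfsg.thompsonSubgroupAOf U = Cfsg.thompsonSubgroupAOf T := by
  have hmem : ∀ A ∈ family 0 T, A ≤ U := fun A hA => ((le_sSup hA).trans (J_eq T).ge).trans hJ
  have he : family 0 U = family 0 T := by
    ext A
    constructor
    · intro hA
      obtain ⟨B, hB⟩ := PLocal.MaxAbelian.family_nonempty 0 T
      exact ⟨hA.1.trans hUT, hA.2.1, fun C hC hg =>
        (hB.2.2 C hC hg).trans (hA.2.2 B (hmem B hB) hB.2.1)⟩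
    · exact fun hA => ⟨hmem A hA, hA.2.1, fun C hC hg => hA.2.2 C (hC.trans hUT) hg⟩
  rw [J_eq, J_eq, he]

theorem comm_of_family {U A : Subgroup G} (hA : A ∈ family 0 U) : A ≤ centralizer (A : Set G) :=
  fun a ha b hb => hA.2.1.1 b hb a ha

/-- Replacement: a noncentral largest abelian subgroup acting quadratically. -/
theorem exists_quadratic {T : Subgroup G} (hT : IsPGroup p T) {V : Subgroup G} [V.Normal]
    (hVc : ∀ a ∈ V, ∀ b ∈ V, a * b = b * a) (hVT : V ≤ T) {A : Subgroup G} (hA : A ∈ family 0 T)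
    (hAV : ¬ A ≤ centralizer (V : Set G)) :
    ∃ A' ∈ family 0 T, ¬ A' ≤ centralizer (V : Set G) ∧
      ∀ a ∈ A', ∀ v ∈ V, Commute a (a * v * a⁻¹ * v⁻¹) := by
  have hAc := comm_of_family hA
  have hAN : A ≤ normalizer (V : Set G) := le_normalizer_of_normal
  have habl : ⁅A, A⁆ ≤ centralizer (V : Set G) := by
    rw [commutator_eq_bot_iff_le_centralizer.2 hAc]; exact bot_le
  have hfix : ∀ B ≤ A, B ⊓ (V ⊓ centralizer (B : Set G)) ≤ V ⊓ centralizer (A : Set G) := fun B hB =>
    le_inf (inf_le_right.trans inf_le_left) ((inf_le_left.trans hB).trans hAc)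
  have habel : ∀ B ≤ A, PLocal.MaxAbelian.Good 0 (B ⊔ V ⊓ centralizer (B : Set G)) := fun B hB => by
    refine ⟨fun a ha b hb => ?_, fun a _ => pow_zero a⟩
    have hle : B ⊔ V ⊓ centralizer (B : Set G) ≤
        centralizer ((B ⊔ V ⊓ centralizer (B : Set G) : Subgroup G) : Set G) := by
      refine sup_le (le_centralizer_iff.1 (sup_le ((hB.trans hAc).trans (centralizer_le hB))
        inf_le_right)) (le_centralizer_iff.1 (sup_le (le_centralizer_iff.1 inf_le_right) ?_))
      intro y hy z hz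
      exact hVc z hz.1 y hy.1
    exact hle hb a ha
  have hleT : ∀ B ≤ A, B ⊔ V ⊓ centralizer (B : Set G) ≤ T := fun B hB =>
    sup_le (hB.trans hA.1) (inf_le_left.trans hVT)
  have hmax : ∀ B ≤ A, Cfsg.Agent.PLocal.Replacement.weight V B ≤
      Cfsg.Agent.PLocal.Replacement.weight V A := fun B hB => by
    refine (PLocal.Replacement.card_mul_card_le B (V ⊓ centralizer (B : Set G))).trans ?_
    exact Nat.mul_le_mul (hA.2.2 _ (hleT B hB) (habel B hB)) (card_le_of_le (hfix B hB))
  obtain ⟨hw, hC⟩ := PLocal.Replacement.timmesfeld hVc hAN habl hmax V le_rfl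
  set A₀ := A ⊓ centralizer ((⁅V, A⁆ : Subgroup G) : Set G) with hA₀
  have hA₁ : A₀ ⊔ V ⊓ centralizer (A₀ : Set G) ∈ family 0 T := by
    refine ⟨hleT A₀ inf_le_left, habel A₀ inf_le_left, fun B hB hg => (hA.2.2 B hB hg).trans ?_⟩
    have h1 := (PLocal.Replacement.card_mul_card_le A₀ (V ⊓ centralizer (A₀ : Set G))).trans
      (Nat.mul_le_mul_left _ (card_le_of_le (hfix A₀ inf_le_left)))
    have h2 : Cfsg.Agent.PLocal.Replacement.weight V A₀ = Cfsg.Agent.PLocal.Replacement.weight V A := hw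
    change Nat.card A₀ * Nat.card ↥(V ⊓ centralizer (A₀ : Set G)) =
      Nat.card A * Nat.card ↥(V ⊓ centralizer (A : Set G)) at h2
    rw [h2] at h1
    exact Nat.le_of_mul_le_mul_right h1 Nat.card_pos
  refine ⟨_, hA₁, fun hcon => ?_, ?_⟩
  · have h1 : V ⊓ centralizer (A₀ : Set G) = V :=
      inf_eq_left.2 (le_centralizer_iff.1 (le_sup_left.trans hcon))
    rw [h1] at hC
    have hXV : ⁅V, A⁆ ≤ V := PLocal.Replacement.commutator_le_left hAN le_rfl
    have hXX : ⁅V, A⁆ ≤ ⁅⁅V, A⁆, A⁆ := by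
      conv_lhs => rw [hC, PLocal.Replacement.commutator_sup hVc hAN hXV inf_le_left]
      refine sup_le le_rfl ?_
      rw [commutator_eq_bot_iff_le_centralizer.2 inf_le_right]
      exact bot_le
    have hbot : ⁅V, A⁆ = ⊥ := PLocal.Replacement.eq_bot_of_le_commutator hT (hXV.trans hVT)
      (hXX.trans (commutator_mono le_rfl hA.1))
    exact hAV (le_centralizer_iff.1 (commutator_eq_bot_iff_le_centralizer.1 hbot))
  · intro y hy v hv
    have hy' : y ∈ ((A₀ ⊔ V ⊓ centralizer (A₀ : Set G) : Subgroup G) : Set G) := hy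
    rw [coe_mul_of_left_le_normalizer_right _ _
      ((le_centralizer_iff.1 (inf_le_right : V ⊓ centralizer (A₀ : Set G) ≤ centralizer (A₀ : Set G))).trans
        (centralizer_le_normalizer _))] at hy'
    obtain ⟨a, ha, w, hw', rfl⟩ := Set.mem_mul.1 hy'
    have e : a * w * v * (a * w)⁻¹ = a * v * a⁻¹ := by
      rw [mul_inv_rev, mul_assoc a w v, hVc w hw'.1 v hv]; group
    rw [e]
    set d := a * v * a⁻¹ * v⁻¹ with hd
    have hdX : d ∈ ⁅V, A⁆ := by
      rw [hd, show a * v * a⁻¹ * v⁻¹ = (⁅v, a⁆)⁻¹ by rw [commutatorElement_def]; group]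
      exact inv_mem (commutator_mem_commutator hv ha.1)
    have hdV : d ∈ V := PLocal.Replacement.commutator_le_left hAN le_rfl hdX
    exact (show Commute a d from (ha.2 d hdX).symm).mul_left (hVc w hw'.1 d hdV)

/-- An element central modulo the centre, with central `p`-th power, centralised by a Sylow. -/
theorem central_of_mod (T : Sylow p G) {x : G} (hxp : x ^ p ∈ center G)
    (hmod : ∀ g : G, g * x * g⁻¹ * x⁻¹ ∈ center G)
    (hxT : ∀ t ∈ (T : Subgroup G), t * x = x * t) : x ∈ center G := by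
  suffices h : centralizer ({x} : Set G) = ⊤ from
    mem_center_iff.2 fun g => mem_centralizer_singleton_iff.1 (h ▸ mem_top g)
  by_contra htop
  obtain ⟨r, hr, hrd⟩ := Nat.exists_prime_and_dvd (fun h1 => htop (index_eq_one.1 h1))
  have : Fact r.Prime := ⟨hr⟩
  obtain ⟨W, hW⟩ : ∃ W : Sylow r G, (W : Subgroup G) ≤ centralizer ({x} : Set G) := by
    by_cases hrp : r = p
    · subst hrp
      exact ⟨T, fun t ht => mem_centralizer_singleton_iff.2 (hxT t ht)⟩
    · refine ⟨default, fun w hw => mem_centralizer_singleton_iff.2 ?_⟩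
      set u := w * x * w⁻¹ * x⁻¹ with hu
      have huc := hmod w
      have hup : u ^ p = 1 := by
        have h1 : w * x * w⁻¹ = u * x := by rw [hu, inv_mul_cancel_right]
        have h2 := congrArg (· ^ p) h1
        simp only [conj_pow] at h2
        rw [(show Commute u x from (mem_center_iff.1 huc x).symm).mul_pow,
          mem_center_iff.1 hxp w, mul_inv_cancel_right] at h2
        exact right_eq_mul.1 h2
      have hcop : (orderOf w).Coprime p := by
        obtain ⟨e, he⟩ := IsPGroup.iff_orderOf.1 (default : Sylow r G).2 ⟨w, hw⟩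
        rw [orderOf_mk] at he
        rw [he]
        exact ((Nat.coprime_primes hr Fact.out).2 hrp).pow_left e
      exact (Coprime.OmegaDetect.eq_one_of_fix (mem_center_iff.1 huc w)
        (hcop.coprime_dvd_right (orderOf_dvd_of_pow_eq_one hup)))
  exact W.not_dvd_index (hrd.trans (index_dvd_of_le hW))

/-- The hypothesis on the element or the group. -/
def Alt (p : ℕ) {H : Type u} [Group H] (T V : Subgroup H) (x : H) : Prop :=
  p ≠ 2 ∨ (∃ z ∈ V, (∀ t ∈ T, t * z = z * t) ∧ z ^ p = x) ∨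
    ¬ Cfsg.Involves (Equiv.Perm (Fin 4)) H

set_option maxHeartbeats 800000 in
theorem central_aux : ∀ (N : ℕ) (H : Type u) [Group H] [Finite H] (m : ℕ) (T : Sylow p H)
    (V : Subgroup H) [V.Normal] (x : H), Nat.card H < N → orderOf x < m → IsPGroup p V →
    (∀ a ∈ V, ∀ b ∈ V, a * b = b * a) → x ∈ V → (∀ t ∈ (T : Subgroup H), t * x = x * t) →
    normalizer (Cfsg.thompsonSubgroupAOf (T : Subgroup H) : Set H) ≤ centralizer ({x} : Set H) →
    Alt p (T : Subgroup H) V x → x ∈ center H := by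
  intro N
  induction N with
  | zero => intro H _ _ m T V _ x h; omega
  | succ N ihN =>
  intro H _ _ m
  induction m with
  | zero => intro T V _ x _ h; omega
  | succ m ihm =>
  intro T V _ x hcard hord hVp hVc hxV hxT hN hAlt
  by_cases hx1 : x = 1
  · subst hx1; exact one_mem _
  set S : Subgroup H := (T : Subgroup H) with hS
  have hVS : V ≤ S := hVp.le_sylow_of_normal T
  obtain ⟨e, he⟩ := IsPGroup.iff_orderOf.1 hVp ⟨x, hxV⟩
  rw [orderOf_mk] at he
  have he0 : e ≠ 0 := fun h => hx1 (orderOf_eq_one_iff.1 (by rw [he, h, pow_zero]))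
  have hNpow : normalizer (Cfsg.thompsonSubgroupAOf S : Set H) ≤ centralizer ({x ^ p} : Set H) :=
    fun g hg => mem_centralizer_singleton_iff.2
      ((show Commute g x from mem_centralizer_singleton_iff.1 (hN hg)).pow_right p).eq
  have hxpc : x ^ p ∈ center H := by
    refine ihm T V (x ^ p) hcard ?_ hVp hVc (V.pow_mem hxV p)
      (fun t ht => ((show Commute t x from hxT t ht).pow_right p).eq) hNpow ?_
    · rw [orderOf_pow_of_dvd (Fact.out : p.Prime).ne_zero (he ▸ dvd_pow_self p he0)]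
      exact lt_of_lt_of_le (Nat.div_lt_self (orderOf_pos x) (Fact.out : p.Prime).one_lt) (by omega)
    · rcases hAlt with h | ⟨z, hzV, hzT, hz⟩ | h
      · exact Or.inl h
      · exact Or.inr (Or.inl ⟨z ^ p, V.pow_mem hzV p,
          fun t ht => ((show Commute t z from hzT t ht).pow_right p).eq, by rw [hz]⟩)
      · exact Or.inr (Or.inr h)
  -- proper subgroups containing `T`
  have hproper : ∀ H₁ : Subgroup H, S ≤ H₁ → H₁ ≠ ⊤ → H₁ ≤ centralizer ({x} : Set H) := by
    intro H₁ hS₁ hne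
    have hlt : Nat.card H₁ < N := by
      have : Nat.card H₁ < Nat.card H := lt_of_le_of_ne (card_le_card_group H₁)
        fun h => hne (eq_top_of_card_eq H₁ h)
      omega
    have hTmap : ((T.subtype hS₁ : Subgroup H₁)).map H₁.subtype = S := by
      rw [Sylow.coe_subtype, map_subgroupOf_eq_of_le hS₁]
    have h1 := ihN H₁ (orderOf x + 1) (T.subtype hS₁) (V.subgroupOf H₁)
      ⟨x, hS₁ (hVS hxV)⟩ hlt (by rw [orderOf_mk]; omega)
      (hVp.comap_subtype) (fun a ha b hb => Subtype.ext (hVc a (mem_subgroupOf.1 ha) b (mem_subgroupOf.1 hb)))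
      (mem_subgroupOf.2 hxV) (fun t ht => Subtype.ext (hxT t (hTmap ▸ mem_map_of_mem _ ht)))
      ?_ ?_
    · intro g hg
      exact mem_centralizer_singleton_iff.2 (congrArg Subtype.val (mem_center_iff.1 h1 ⟨g, hg⟩))
    · intro g hg
      refine mem_centralizer_singleton_iff.2 (Subtype.ext ?_)
      refine mem_centralizer_singleton_iff.1 (hN ?_)
      rw [← hTmap, J_map H₁.subtype_injective]
      exact le_normalizer_map H₁.subtype ⟨g, hg, rfl⟩
    · rcases hAlt with h | ⟨z, hzV, hzT, hz⟩ | h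
      · exact Or.inl h
      · exact Or.inr (Or.inl ⟨⟨z, hS₁ (hVS hzV)⟩, mem_subgroupOf.2 hzV,
          fun t ht => Subtype.ext (hzT t (hTmap ▸ mem_map_of_mem _ ht)), Subtype.ext hz⟩)
      · exact Or.inr (Or.inr fun hi => h (Offender.involves_of_subgroup H₁ hi))
  -- the element generating the module
  obtain ⟨v₀, hv₀, hv₀T, n, hv₀n, hcase⟩ : ∃ v₀ ∈ V, (∀ t ∈ S, t * v₀ = v₀ * t) ∧ ∃ n : ℕ,
      v₀ ^ n = x ∧ ((n = 1 ∧ (p ≠ 2 ∨ ¬ Cfsg.Involves (Equiv.Perm (Fin 4)) H)) ∨ (p = 2 ∧ n = 2)) := by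
    by_cases hgood : p ≠ 2 ∨ ¬ Cfsg.Involves (Equiv.Perm (Fin 4)) H
    · exact ⟨x, hxV, hxT, 1, pow_one x, Or.inl ⟨rfl, hgood⟩⟩
    · push Not at hgood
      rcases hAlt with h | ⟨z, hzV, hzT, hz⟩ | h
      · exact absurd hgood.1 h
      · exact ⟨z, hzV, hzT, 2, hgood.1 ▸ hz, Or.inr ⟨hgood.1, rfl⟩⟩
      · exact absurd hgood.2 h
  set V₁ := normalClosure ({v₀} : Set H) with hV₁
  have hV₁V : V₁ ≤ V := normalClosure_le_normal (Set.singleton_subset_iff.2 hv₀)
  have hv₀₁ : v₀ ∈ V₁ := subset_normalClosure rfl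
  have hV₁c : ∀ a ∈ V₁, ∀ b ∈ V₁, a * b = b * a := fun a ha b hb => hVc a (hV₁V ha) b (hV₁V hb)
  have hV₁p : IsPGroup p V₁ := hVp.to_le hV₁V
  have hxV₁ : x ∈ V₁ := hv₀n ▸ pow_mem hv₀₁ n
  set C := centralizer (V₁ : Set H) with hC
  by_cases hJC : Cfsg.thompsonSubgroupAOf S ≤ C
  · -- Frattini argument
    obtain ⟨P, hP⟩ := (CharP.isSylIn_of_not_dvd (T.2.to_le inf_le_left) inf_le_right
      (PLocal.Omega.not_dvd_relIndex_inf T C) : CharP.IsSylIn p (S ⊓ C) C)
    have htop := Sylow.normalizer_sup_eq_top P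
    rw [hP] at htop
    refine mem_center_iff.2 fun g => mem_centralizer_singleton_iff.1 ?_
    refine (sup_le ?_ ?_ : normalizer ((S ⊓ C : Subgroup H) : Set H) ⊔ C ≤ _) (htop.symm ▸ mem_top g)
    · refine (normalizer_le_normalizer_J _).trans ?_
      rw [J_eq_of_le inf_le_left (le_inf (J_le S) hJC)]
      exact hN
    · exact fun c hc => mem_centralizer_singleton_iff.2 (hc x hxV₁).symm
  -- pass to the quotient by the centre
  obtain ⟨A, hA, hAC⟩ : ∃ A ∈ family 0 S, ¬ A ≤ C := by
    by_contra hcon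
    push Not at hcon
    exact hJC ((J_eq S).le.trans (sSup_le hcon))
  set U := V₁ ⊓ center H with hU
  let f := QuotientGroup.mk' U
  have hf : Function.Surjective f := QuotientGroup.mk'_surjective U
  have hfker : ∀ z, f z = 1 ↔ z ∈ U := fun z => QuotientGroup.eq_one_iff z
  let Tb : Sylow p (H ⧸ U) := T.mapSurjective hf
  have hTb : (Tb : Subgroup (H ⧸ U)) = S.map f := Sylow.coe_mapSurjective hf T
  set Vb := V₁.map f with hVb
  have : Vb.Normal := Normal.map inferInstance f hf
  have hVbc : ∀ a ∈ Vb, ∀ b ∈ Vb, a * b = b * a := by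
    rintro _ ⟨a, ha, rfl⟩ _ ⟨b, hb, rfl⟩
    rw [← map_mul, ← map_mul, hV₁c a ha b hb]
  have hVbp : IsPGroup p Vb := hV₁p.map f
  have hgenb : Vb ≤ normalClosure {f v₀} := by
    refine map_le_iff_le_comap.2 ?_
    exact normalClosure_le_normal (Set.singleton_subset_iff.2 (subset_normalClosure (Set.mem_singleton _)))
  have hTbfix : ∀ t ∈ (Tb : Subgroup (H ⧸ U)), t * f v₀ = f v₀ * t := by
    rw [hTb]
    rintro _ ⟨t, ht, rfl⟩
    rw [← map_mul, ← map_mul, hv₀T t ht]
  have hxbp : ((f v₀) ^ n) ^ p = 1 := by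
    rw [← map_pow, hv₀n, ← map_pow, hfker]
    exact mem_inf.2 ⟨pow_mem hxV₁ p, hxpc⟩
  have hCb : ∀ a : H, f a ∈ centralizer (Vb : Set (H ⧸ U)) ↔ a ∈ C := fun a => by
    constructor
    · intro ha
      refine Offender.modCentralizer_le T hV₁p hV₁c inf_le_left inf_le_right hv₀₁ hv₀T
        le_rfl (show a ∈ Offender.modCentralizer V₁ U from fun v hv => (hfker _).1 ?_)
      rw [map_mul, map_mul, map_mul, map_inv, map_inv, ← ha (f v) ⟨v, hv, rfl⟩, mul_inv_cancel_right,
        mul_inv_cancel]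
    · rintro ha _ ⟨v, hv, rfl⟩
      rw [← map_mul, ← map_mul, ha v hv]
  have hproperb : ∀ H₁ : Subgroup (H ⧸ U), (Tb : Subgroup (H ⧸ U)) ≤ H₁ → H₁ ≠ ⊤ →
      H₁ ≤ centralizer ({(f v₀) ^ n} : Set (H ⧸ U)) := by
    intro H₁ h1 h2 y hy
    obtain ⟨y, rfl⟩ := hf y
    have h3 : S ≤ H₁.comap f := fun t ht => h1 (hTb ▸ mem_map_of_mem f ht)
    have h4 : H₁.comap f ≠ ⊤ := fun h => h2 (by
      rw [← map_comap_eq_self_of_surjective hf H₁, h, map_top_of_surjective f hf])
    refine mem_centralizer_singleton_iff.2 ?_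
    rw [← map_pow, hv₀n, ← map_mul, ← map_mul,
      mem_centralizer_singleton_iff.1 (hproper _ h3 h4 (mem_comap.2 hy))]
  have hfin : f x ∈ center (H ⧸ U) → x ∈ center H := fun h => by
    refine central_of_mod T hxpc (fun g => ?_) hxT
    have h1 : f (g * x * g⁻¹ * x⁻¹) = 1 := by
      rw [map_mul, map_mul, map_mul, map_inv, map_inv, mem_center_iff.1 h (f g), mul_inv_cancel_right,
        mul_inv_cancel]
    exact ((hfker _).1 h1).2
  rcases hcase with ⟨hn1, hgood⟩ | ⟨hp2, hn2⟩
  · subst hn1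
    rw [pow_one] at hv₀n
    subst hv₀n
    have hexp : ∀ v ∈ Vb, v ^ p = 1 := by
      let E : Subgroup (H ⧸ U) :=
        { carrier := {v | v ∈ Vb ∧ v ^ p = 1}
          one_mem' := ⟨one_mem _, one_pow p⟩
          mul_mem' := fun {a b} ha hb => ⟨mul_mem ha.1 hb.1, by
            rw [(show Commute a b from hVbc a ha.1 b hb.1).mul_pow, ha.2, hb.2, one_mul]⟩
          inv_mem' := fun {a} ha => ⟨inv_mem ha.1, by rw [inv_pow, ha.2, inv_one]⟩ }
      have hEn : E.Normal := ⟨fun v hv g => ⟨Normal.conj_mem inferInstance v hv.1 g, by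
        rw [conj_pow, hv.2, mul_one, mul_inv_cancel]⟩⟩
      have h1 : Vb ≤ E := hgenb.trans (normalClosure_le_normal (Set.singleton_subset_iff.2
        ⟨mem_map_of_mem f hv₀₁, by simpa using hxbp⟩))
      exact fun v hv => (h1 hv).2
    -- an offender
    have hoff : Offender.Off Vb (A.map f) := by
      have hAc : IsMulCommutative A := PLocal.MaxAbelian.good_zero_iff.1 hA.2.1
      refine ⟨Subgroup.map_isMulCommutative _ _,
        fun hle => hAC fun a ha => (hCb a).1 (hle ⟨a, ha, rfl⟩), ?_⟩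
      have h1 : (V₁ ⊓ centralizer (A : Set H)).relIndex V₁ ≤ (A ⊓ C).relIndex A := by
        have hab : PLocal.MaxAbelian.Good 0 ((A ⊓ C) ⊔ V₁) := by
          refine ⟨fun a ha b hb => ?_, fun a _ => pow_zero a⟩
          have hle : (A ⊓ C) ⊔ V₁ ≤ centralizer (((A ⊓ C) ⊔ V₁ : Subgroup H) : Set H) := by
            refine sup_le (le_centralizer_iff.1 (sup_le
              ((inf_le_left.trans (comm_of_family hA)).trans (centralizer_le inf_le_left))
              (le_centralizer_iff.1 inf_le_right))) (le_centralizer_iff.1 (sup_le inf_le_right ?_))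
            exact fun y hy z hz => hV₁c z hz y hy
          exact hle hb a ha
        have h2 := PLocal.Replacement.card_mul_card_le (A ⊓ C) V₁
        have h3 := hA.2.2 _ (sup_le (inf_le_left.trans hA.1) (hV₁V.trans hVS)) hab
        have h4 : Nat.card ↥(A ⊓ C ⊓ V₁) ≤ Nat.card ↥(V₁ ⊓ centralizer (A : Set H)) :=
          card_le_of_le (le_inf inf_le_right ((inf_le_left.trans inf_le_left).trans (comm_of_family hA)))
        have e1 := Solvable.Basics.card_mul_relIndex (C := A ⊓ C) (K := A) inf_le_left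
        have e2 := Solvable.Basics.card_mul_relIndex (C := V₁ ⊓ centralizer (A : Set H)) (K := V₁)
          inf_le_left
        have h5 : Nat.card ↥(A ⊓ C) * (Nat.card ↥(V₁ ⊓ centralizer (A : Set H)) *
            (V₁ ⊓ centralizer (A : Set H)).relIndex V₁) ≤
            Nat.card ↥(A ⊓ C) * (Nat.card ↥(V₁ ⊓ centralizer (A : Set H)) * (A ⊓ C).relIndex A) :=
          calc _ = Nat.card ↥(A ⊓ C) * Nat.card V₁ := by rw [e2]
            _ ≤ Nat.card A * Nat.card ↥(V₁ ⊓ centralizer (A : Set H)) :=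
              h2.trans (Nat.mul_le_mul h3 h4)
            _ = _ := by rw [← e1]; ring
        exact Nat.le_of_mul_le_mul_left (Nat.le_of_mul_le_mul_left h5 Nat.card_pos) Nat.card_pos
      have hl : (Vb ⊓ centralizer (A.map f : Set (H ⧸ U))).relIndex Vb ≤
          (V₁ ⊓ centralizer (A : Set H)).relIndex V₁ := by
        refine Nat.le_of_dvd (Nat.pos_of_ne_zero index_ne_zero_of_finite) ?_
        have hmap : ((V₁ ⊓ centralizer (A : Set H)).map f).relIndex Vb ∣
            (V₁ ⊓ centralizer (A : Set H)).relIndex V₁ := by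
          rw [hVb, ← relIndex_comap]
          exact relIndex_dvd_of_le_left _ (le_comap_map f _)
        refine (relIndex_dvd_of_le_left _ ?_).trans hmap
        rintro _ ⟨v, hv, rfl⟩
        refine mem_inf.2 ⟨⟨v, hv.1, rfl⟩, ?_⟩
        rintro _ ⟨a, ha, rfl⟩
        rw [← map_mul, ← map_mul, hv.2 a ha]
      have hr : (A.map f ⊓ centralizer (Vb : Set (H ⧸ U))).relIndex (A.map f) = (A ⊓ C).relIndex A := by
        rw [inf_relIndex_left, inf_relIndex_left, ← relIndex_comap]
        congr 1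
        ext a
        exact hCb a
      exact hl.trans (h1.trans hr.ge)
    obtain ⟨B₀, hB₀A, hB₀⟩ := Offender.exists_minOff hoff
    refine hfin ?_
    have hmain := Offender.central_of_family Tb (V := Vb) hVbc (v₀ := f v₀)
      (mem_map_of_mem f hv₀₁) hTbfix hgenb 1 hxbp hproperb
      {B | B ≤ (Tb : Subgroup (H ⧸ U)) ∧ Offender.MinOff Vb B}
      ⟨B₀, hTb ▸ hB₀A.trans (map_mono hA.1), hB₀⟩ (fun B hB => hB.1) (fun B hB => hB.2.1.2.1)
      (fun B hB g hg => ⟨hg, hB.2.map g⟩) ?_
    · rwa [pow_one] at hmain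
    intro B hB D hDB hDi a ha haD hap v hv hvD hvp
    rw [pow_one] at hvp ⊢
    have hBp : IsPGroup p B := Tb.2.to_le hB.1
    rcases Offender.minOff_step hVbp hVbc hB.2 hBp hDB hDi with h | h
    · left
      have h1 : v ∈ Vb ⊓ centralizer (B : Set (H ⧸ U)) := h ▸ mem_inf.2 ⟨hv, fun d hd => hvD d hd⟩
      exact h1.2 a ha
    · have hidx : (Vb ⊓ centralizer (B : Set (H ⧸ U))).relIndex Vb ≤ p := hB.2.1.2.2.trans h.le
      by_cases hp2 : p = 2
      · left
        subst hp2
        by_contra hne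
        have haC : a ∉ centralizer (Vb : Set (H ⧸ U)) := fun hc => hne (hc v hv).symm
        have hsq : a ^ 2 ∈ centralizer (Vb : Set (H ⧸ U)) := by
          have := hB.2.1.1
          have : ((B ⊓ centralizer (Vb : Set (H ⧸ U))).subgroupOf B).Normal := normal_of_comm _
          have h1 := Subgroup.pow_index_mem
            ((B ⊓ centralizer (Vb : Set (H ⧸ U))).subgroupOf B) ⟨a, ha⟩
          rw [show ((B ⊓ centralizer (Vb : Set (H ⧸ U))).subgroupOf B).index = 2 from h] at h1
          exact (mem_inf.1 (mem_subgroupOf.1 h1)).2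
        refine (hgood.resolve_left fun h => h rfl) (PLocal.S4Section.involves_of_quotient (N := U) ?_)
        refine Offender.involves_s4_of_transvection Tb hVbc hexp (mem_map_of_mem f hv₀₁) hTbfix hgenb
          haC hsq (le_trans ?_ hidx)
        refine relIndex_le_of_le_left (inf_le_inf_left Vb ?_) index_ne_zero_of_finite
        exact centralizer_le (Set.singleton_subset_iff.2 ha)
      · exact Or.inr ⟨hp2, Offender.commute_of_index_prime hVbp hVbc hBp hidx ha hv⟩
  · subst hp2
    subst hn2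
    obtain ⟨A₁, hA₁, hA₁C, hquad⟩ := exists_quadratic T.2 hV₁c (hV₁V.trans hVS) hA hAC
    refine hfin ?_
    have hUS : U ≤ S := inf_le_left.trans (hV₁V.trans hVS)
    have hmain := Offender.central_of_family Tb (V := Vb) hVbc (v₀ := f v₀)
      (mem_map_of_mem f hv₀₁) hTbfix hgenb 2 hxbp hproperb
      {B | ∃ A' ∈ family 0 S, ¬ A' ≤ C ∧ (∀ a ∈ A', ∀ v ∈ V₁, Commute a (a * v * a⁻¹ * v⁻¹)) ∧
        A'.map f = B}
      ⟨_, A₁, hA₁, hA₁C, hquad, rfl⟩ ?_ ?_ ?_ ?_
    · rwa [← map_pow, hv₀n] at hmain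
    · rintro _ ⟨A', hA', -, -, rfl⟩
      exact hTb ▸ map_mono hA'.1
    · rintro _ ⟨A', -, hA'C, -, rfl⟩ hle
      exact hA'C fun a ha => (hCb a).1 (hle ⟨a, ha, rfl⟩)
    · rintro _ ⟨A', hA', hA'C, hq, rfl⟩ g hg
      obtain ⟨g, rfl⟩ := hf g
      have hle : A'.map (MulAut.conj g).toMonoidHom ≤ S := by
        rintro _ ⟨a, ha, rfl⟩
        have h1 : (MulAut.conj (f g)).toMonoidHom (f a) ∈ (Tb : Subgroup (H ⧸ U)) :=
          hg ⟨f a, mem_map_of_mem f ha, rfl⟩
        rw [hTb] at h1
        obtain ⟨s, hs, he'⟩ := h1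
        have h2 : s⁻¹ * (g * a * g⁻¹) ∈ U := by
          rw [← hfker, map_mul, map_inv, he', map_mul, map_mul, map_inv]
          simp
        simpa using S.mul_mem hs (hUS h2)
      refine ⟨A'.map (MulAut.conj g).toMonoidHom, ⟨hle, hA'.2.1.map _, fun B hB hgB => ?_⟩, ?_, ?_, ?_⟩
      · rw [card_map_of_injective (MulAut.conj g).injective]
        exact hA'.2.2 B hB hgB
      · intro hle'
        refine hA'C fun a ha v hv => ?_
        have := hle' ⟨a, ha, rfl⟩ (g * v * g⁻¹) (Normal.conj_mem inferInstance v hv g)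
        refine (MulAut.conj g).injective ?_
        rw [map_mul, map_mul]
        exact this
      · rintro _ ⟨a, ha, rfl⟩ v hv
        have hv' : g⁻¹ * v * g ∈ V₁ := by simpa using Normal.conj_mem inferInstance v hv g⁻¹
        have h3 := (hq a ha _ hv').map (MulAut.conj g).toMonoidHom
        simpa [mul_assoc] using h3
      · rw [map_map, map_map]
        congr 1
    · rintro _ ⟨A', hA', -, hq, rfl⟩ D - - a ha - hap v hv hvD hvp
      left
      obtain ⟨a, ha, rfl⟩ := ha
      obtain ⟨w, hw, rfl⟩ := hv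
      set d := f a * f w * (f a)⁻¹ * (f w)⁻¹ with hd
      have hdc : Commute (f a) d := by
        rw [hd, ← map_inv, ← map_inv, ← map_mul, ← map_mul, ← map_mul]
        exact (hq a ha w hw).map f
      have hdV : d ∈ Vb := mul_mem (Normal.conj_mem inferInstance _ (mem_map_of_mem f hw) _)
        (inv_mem (mem_map_of_mem f hw))
      have h1 : f a * f w * (f a)⁻¹ = d * f w := by rw [hd, inv_mul_cancel_right]
      have h2 : (f a) ^ 2 * f w * ((f a) ^ 2)⁻¹ = d * (d * f w) := by
        calc (f a) ^ 2 * f w * ((f a) ^ 2)⁻¹ = f a * (f a * f w * (f a)⁻¹) * (f a)⁻¹ := by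
              rw [pow_two]; group
          _ = f a * d * (f a)⁻¹ * (f a * f w * (f a)⁻¹) := by nth_rw 1 [h1]; group
          _ = _ := by rw [hdc.eq, mul_inv_cancel_right, h1]
      rw [show (f a) ^ 2 * f w = f w * (f a) ^ 2 from hvD _ hap, mul_inv_cancel_right, ← mul_assoc,
        right_eq_mul] at h2
      show f a * f w ^ 2 = f w ^ 2 * f a
      rw [← mul_inv_eq_iff_eq_mul, ← conj_pow, h1,
        (show Commute d (f w) from hVbc d hdV _ (mem_map_of_mem f hw)).mul_pow, pow_two d, h2, one_mul]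

/-- An element of an abelian normal `p`-subgroup centralised by a Sylow subgroup `T` and by
`N(J(T))` is central, for odd `p`, or if it is a `p`-th power of such an element, or in an
`S₄`-free group. -/
theorem central_of_controls {H : Type u} [Group H] [Finite H] (T : Sylow p H) (V : Subgroup H)
    [V.Normal] (hVp : IsPGroup p V) (hVc : ∀ a ∈ V, ∀ b ∈ V, a * b = b * a) {x : H} (hx : x ∈ V)
    (hxT : ∀ t ∈ (T : Subgroup H), t * x = x * t)
    (hN : normalizer (Cfsg.thompsonSubgroupAOf (T : Subgroup H) : Set H) ≤ centralizer ({x} : Set H))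
    (hAlt : Alt p (T : Subgroup H) V x) : x ∈ center H :=
  central_aux (Nat.card H + 1) H (orderOf x + 1) T V x (Nat.lt_succ_self _) (Nat.lt_succ_self _)
    hVp hVc hx hxT hN hAlt

end Cfsg.Agent.CharP.WeakClosureJ
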