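import Mathlib
import Cfsg.Agent.Lib.CharP.Sylow
import Cfsg.Agent.Lib.Fusion.Embedded

/-!
Strongly `p`-embedded subgroups: the criterion by normalisers, Sylow subgroups, intersections.
-/

set_option autoImplicit false

namespace Cfsg.Agent.CharP

open Subgroup

variable {G : Type*} [Group G] [Finite G] {p : ℕ} [hp : Fact p.Prime]

omit [Finite G] hp in
theorem conj_mem_normalizer_map {A : Subgroup G} {n : G} (g : G)
    (hn : n ∈ normalizer (A : Set G)) :
    g * n * g⁻¹ ∈ normalizer ((A.map (MulAut.conj g).toMonoidHom : Subgroup G) : Set G) :=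
  le_normalizer_map (MulAut.conj g).toMonoidHom ⟨n, hn, rfl⟩

theorem spe_normalizer_le {H : Subgroup G} (hH : Cfsg.IsStronglyPEmbedded p H) {A : Subgroup G}
    (hAH : A ≤ H) (hA : IsPGroup p ↥A) (hA1 : A ≠ ⊥) : normalizer (A : Set G) ≤ H := by
  obtain ⟨hdvd, -, P, hP⟩ := Cfsg.Agent.Fusion.Embedded.stronglyPEmbedded_iff.1 hH
  have hPH : (P : Subgroup G) ≤ H :=
    le_normalizer.trans (hP _ le_rfl (Sylow.ne_bot_of_dvd_card P hdvd))
  have hPs : IsSylIn p (P : Subgroup G) H := (isSylIn_top_iff.2 ⟨P, rfl⟩).mono hPH le_top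
  obtain ⟨T, hT, hAT⟩ := exists_isSylIn_ge hA hAH
  obtain ⟨m, hm, hmT⟩ := hT.exists_conj hPs
  intro n hn
  have h1 : A.map (MulAut.conj m).toMonoidHom ≤ (P : Subgroup G) := hmT ▸ map_mono hAT
  have h2 : A.map (MulAut.conj m).toMonoidHom ≠ ⊥ := fun h =>
    hA1 ((map_eq_bot_iff_of_injective _ (MulAut.conj m).injective).1 h)
  have h3 := hP _ h1 h2 (conj_mem_normalizer_map m hn)
  simpa [mul_assoc] using mul_mem (mul_mem (inv_mem hm) h3) hm

/-- The criterion for strong `p`-embedding. -/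
theorem spe_of_normalizers {M : Subgroup G} (hM : M ≠ ⊤) (hpM : p ∣ Nat.card M)
    (h : ∀ A : Subgroup G, A ≤ M → IsPGroup p ↥A → A ≠ ⊥ → normalizer (A : Set G) ≤ M) :
    Cfsg.IsStronglyPEmbedded p M := by
  obtain ⟨T, hT⟩ := exists_isSylIn p M
  have hT1 : T ≠ ⊥ := by
    rintro rfl
    have h0 := hT.not_dvd
    rw [relIndex_bot_left] at h0
    exact h0 hpM
  obtain ⟨P, hP⟩ := hT.isPGroup.exists_le_sylow
  have hPM : (P : Subgroup G) ≤ M := by
    by_contra hne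
    have hlt : T.subgroupOf (P : Subgroup G) < ⊤ := by
      refine lt_top_iff_ne_top.2 fun h' => hne ?_
      exact le_trans (subgroupOf_eq_top.1 h') hT.le
    have := P.isPGroup'.isNilpotent
    have hlt' := Group.normalizerCondition_of_isNilpotent _ hlt
    obtain ⟨x, hx, hx'⟩ := SetLike.exists_of_lt hlt'
    have hxN : (x : G) ∈ normalizer (T : Set G) := by
      have h5 : (x : G) ∈ normalizer (((T.subgroupOf (P : Subgroup G)).map
          (P : Subgroup G).subtype : Subgroup G) : Set G) :=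
        le_normalizer_map (P : Subgroup G).subtype ⟨x, hx, rfl⟩
      rwa [map_subgroupOf_eq_of_le hP] at h5
    have hxM := h T hT.le hT.isPGroup hT1 hxN
    have h6 : T = (P : Subgroup G) ⊓ M :=
      (hT.eq_of_le (P.isPGroup'.to_le inf_le_left) inf_le_right (le_inf hP hT.le)).symm
    exact hx' (mem_subgroupOf.2 (h6 ▸ mem_inf.2 ⟨x.2, hxM⟩))
  refine Cfsg.Agent.Fusion.Embedded.stronglyPEmbedded_iff.2
    ⟨hpM.trans (card_subgroup_dvd_card M), hM, P, fun A hA hA1 => ?_⟩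
  exact h A (hA.trans hPM) (P.isPGroup'.to_le hA) hA1

theorem spe_dvd_card {H : Subgroup G} (hH : Cfsg.IsStronglyPEmbedded p H) : p ∣ Nat.card H := by
  obtain ⟨hdvd, -, P, hP⟩ := Cfsg.Agent.Fusion.Embedded.stronglyPEmbedded_iff.1 hH
  have hne := Sylow.ne_bot_of_dvd_card P hdvd
  have hPH : (P : Subgroup G) ≤ H := le_normalizer.trans (hP _ le_rfl hne)
  exact dvd_trans (Sylow.dvd_card_of_dvd_card P hdvd) (card_dvd_of_le hPH)

/-- A Sylow subgroup of `H ⊓ Y` that is nontrivial is a Sylow subgroup of `Y`. -/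
theorem spe_isSylIn_of_inf {H : Subgroup G} (hH : Cfsg.IsStronglyPEmbedded p H) {Y Q : Subgroup G}
    (hQ : IsSylIn p Q (H ⊓ Y)) (hQ1 : Q ≠ ⊥) : IsSylIn p Q Y := by
  obtain ⟨T, hT, hQT⟩ := exists_isSylIn_ge hQ.isPGroup (hQ.le.trans inf_le_right)
  suffices hTH : T ≤ H by
    rw [← hQ.eq_of_le hT.isPGroup (le_inf hTH hT.le) hQT]
    exact hT
  by_contra hne
  have hlt : Q.subgroupOf T < ⊤ := by
    refine lt_top_iff_ne_top.2 fun h' => hne ?_
    exact le_trans (subgroupOf_eq_top.1 h') (hQ.le.trans inf_le_left)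
  have := hT.isPGroup.isNilpotent
  obtain ⟨x, hx, hx'⟩ := SetLike.exists_of_lt (Group.normalizerCondition_of_isNilpotent _ hlt)
  have hxN : (x : G) ∈ normalizer (Q : Set G) := by
    have h5 : (x : G) ∈ normalizer (((Q.subgroupOf T).map T.subtype : Subgroup G) : Set G) :=
      le_normalizer_map T.subtype ⟨x, hx, rfl⟩
    rwa [map_subgroupOf_eq_of_le hQT] at h5
  have hxH := spe_normalizer_le hH (hQ.le.trans inf_le_left) hQ.isPGroup hQ1 hxN
  have h6 : T ⊓ H = Q :=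
    hQ.eq_of_le (hT.isPGroup.to_le inf_le_left) (le_inf inf_le_right (inf_le_left.trans hT.le))
      (le_inf hQT (hQ.le.trans inf_le_left))
  exact hx' (mem_subgroupOf.2 (h6 ▸ mem_inf.2 ⟨x.2, hxH⟩))

theorem spe_mem_of_dvd {H : Subgroup G} (hH : Cfsg.IsStronglyPEmbedded p H) {g : G}
    (h : p ∣ Nat.card ↥(H ⊓ H.map (MulAut.conj g).toMonoidHom)) : g ∈ H := by
  obtain ⟨x, hx⟩ := exists_prime_orderOf_dvd_card' p h
  obtain ⟨y, hyH, hxy⟩ := mem_map.1 x.2.2
  have hxo : orderOf (x : G) = p := (orderOf_coe x).trans hx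
  have hyo : orderOf y = p := by
    rw [← hxo, ← hxy]
    exact (orderOf_injective (MulAut.conj g).toMonoidHom (MulAut.conj g).injective y).symm
  obtain ⟨hdvd, -, P, hP⟩ := Cfsg.Agent.Fusion.Embedded.stronglyPEmbedded_iff.1 hH
  have hPH : (P : Subgroup G) ≤ H :=
    le_normalizer.trans (hP _ le_rfl (Sylow.ne_bot_of_dvd_card P hdvd))
  have hPs : IsSylIn p (P : Subgroup G) H := (isSylIn_top_iff.2 ⟨P, rfl⟩).mono hPH le_top
  have key : ∀ z ∈ H, orderOf z = p → ∃ m ∈ H, m * z * m⁻¹ ∈ (P : Subgroup G) := by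
    intro z hzH hzo
    have hzp : IsPGroup p ↥(zpowers z) :=
      IsPGroup.of_card (n := 1) (by rw [Nat.card_zpowers, hzo, pow_one])
    obtain ⟨T, hT, hzT⟩ := exists_isSylIn_ge hzp (zpowers_le.2 hzH)
    obtain ⟨m, hm, hmT⟩ := hT.exists_conj hPs
    exact ⟨m, hm, hmT ▸ mem_map_of_mem (MulAut.conj m).toMonoidHom (hzT (mem_zpowers z))⟩
  obtain ⟨m, hm, hm'⟩ := key y hyH hyo
  obtain ⟨n, hn, hn'⟩ := key x x.2.1 hxo
  have hne : m * y * m⁻¹ ≠ 1 := by
    intro h1
    rw [mul_inv_eq_one, mul_eq_left] at h1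
    rw [h1, orderOf_one] at hyo
    exact hp.out.ne_one hyo.symm
  have hmem := Cfsg.Agent.Fusion.Embedded.mem_of_conj hP hm' hne
    (a := n * g * m⁻¹) (by
      have e : n * g * m⁻¹ * (m * y * m⁻¹) * (n * g * m⁻¹)⁻¹ = n * (g * y * g⁻¹) * n⁻¹ := by group
      rw [e]
      have hxy' : g * y * g⁻¹ = x := hxy
      rw [hxy']
      exact hn')
  simpa [mul_assoc] using mul_mem (mul_mem (inv_mem hn) hmem) hm

theorem spe_inf {H X : Subgroup G} (hX : Cfsg.IsStronglyPEmbedded p X) (hHX : ¬ H ≤ X)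
    (hdvd : p ∣ Nat.card ↥(H ⊓ X)) : Cfsg.IsStronglyPEmbedded p ((H ⊓ X).subgroupOf H) := by
  refine spe_of_normalizers (fun h => hHX ((subgroupOf_eq_top.1 h).trans inf_le_right)) ?_ ?_
  · rwa [Nat.card_congr (subgroupOfEquivOfLe (inf_le_left : H ⊓ X ≤ H)).toEquiv]
  · intro A hA hAp hA1 n hn
    refine mem_subgroupOf.2 ⟨n.2, ?_⟩
    refine spe_normalizer_le hX ?_ (hAp.map H.subtype)
      (fun h => hA1 ((map_eq_bot_iff_of_injective _ H.subtype_injective).1 h))
      (le_normalizer_map H.subtype ⟨n, hn, rfl⟩)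
    rintro _ ⟨a, ha, rfl⟩
    exact (mem_subgroupOf.1 (hA ha)).2

/-- The criterion by intersections with conjugates. -/
theorem spe_of_dvd {M : Subgroup G} (hM : M ≠ ⊤) (hpM : p ∣ Nat.card M)
    (h : ∀ g : G, p ∣ Nat.card ↥(M ⊓ M.map (MulAut.conj g).toMonoidHom) → g ∈ M) :
    Cfsg.IsStronglyPEmbedded p M := by
  refine spe_of_normalizers hM hpM fun A hA hAp hA1 n hn => h n ?_
  refine dvd_trans ?_ (card_dvd_of_le (H := A) (le_inf hA ?_))
  · obtain ⟨k, hk⟩ := IsPGroup.iff_card.1 hAp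
    rw [hk]
    refine dvd_pow_self p fun h0 => hA1 ?_
    rw [h0, pow_zero] at hk
    exact card_eq_one.1 hk
  · rw [← conj_map_of_mem hn]
    exact map_mono hA

theorem conj_mem_map {H : Subgroup G} {g x : G} (hx : g⁻¹ * x * g ∈ H) :
    x ∈ H.map (MulAut.conj g).toMonoidHom :=
  ⟨_, hx, by show g * (g⁻¹ * x * g) * g⁻¹ = x; group⟩

/-- A Sylow subgroup meeting a strongly `p`-embedded subgroup nontrivially lies in it. -/
theorem spe_sylow_le {H : Subgroup G} (hH : Cfsg.IsStronglyPEmbedded p H) (P : Sylow p G) {a : G}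
    (ha : a ∈ (P : Subgroup G)) (haH : a ∈ H) (hao : orderOf a = p) : (P : Subgroup G) ≤ H := by
  intro x hx
  obtain ⟨T, hT, haT⟩ := exists_isSylIn_ge (p := p) (P := zpowers a) (H := H ⊓ (P : Subgroup G))
    (P.isPGroup'.to_le (zpowers_le.2 ha)) (zpowers_le.2 ⟨haH, ha⟩)
  have hT1 : T ≠ ⊥ := fun h => by
    have := haT (mem_zpowers a)
    rw [h, mem_bot] at this
    rw [this, orderOf_one] at hao
    exact hp.out.ne_one hao.symm
  have h2 := spe_isSylIn_of_inf hH hT hT1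
  rw [← h2.eq_of_le P.isPGroup' le_rfl h2.le] at hT
  exact (hT.le hx).1

end Cfsg.Agent.CharP
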