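import Cfsg.Agent.Lib.CharP.SL2FixedPointFree

/-!
Higman's theorem, group form: if `G/Q ≅ SL(2, 2ⁿ)`, `n ≥ 2`, `Q` a 2-group and an element of order three has
no fixed point on `Q`, then `Q` is elementary abelian, hence a sum of natural modules.
-/

set_option autoImplicit false

namespace Cfsg.Agent.CharP.SL2HigmanGroup

open SL2Natural SL2FixedPointFree
open scoped MatrixGroups
open scoped IsMulCommutative

universe u

variable {K : Type*} [Field K] {G : Type u} [Group G]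

/-- the conjugation action of `SL(2, K)` on a normal subgroup centralized by the kernel -/
@[reducible] noncomputable def sectAction (π : G →* SL(2, K)) (hπ : Function.Surjective π) (A : Subgroup G)
    [IsMulCommutative ↥A] (hAn : A.Normal)
    (hc : ∀ y, π y = 1 → ∀ a ∈ A, y * a = a * y) : DistribMulAction SL(2, K) (Additive ↥A) where
  smul g a := Additive.ofMul
    ⟨Function.surjInv hπ g * (a.toMul : ↥A) * (Function.surjInv hπ g)⁻¹, hAn.conj_mem _ a.toMul.2 _⟩
  one_smul a := by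
    refine Additive.toMul.injective (Subtype.ext ?_)
    show Function.surjInv hπ 1 * ((a.toMul : ↥A) : G) * (Function.surjInv hπ 1)⁻¹ = _
    rw [hc _ (Function.surjInv_eq hπ 1) _ a.toMul.2, mul_inv_cancel_right]
  mul_smul g h a := by
    refine Additive.toMul.injective (Subtype.ext ?_)
    show Function.surjInv hπ (g * h) * ((a.toMul : ↥A) : G) * (Function.surjInv hπ (g * h))⁻¹ =
      Function.surjInv hπ g * (Function.surjInv hπ h * (a.toMul : ↥A) * (Function.surjInv hπ h)⁻¹) *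
        (Function.surjInv hπ g)⁻¹
    set s := Function.surjInv hπ (g * h)
    set t := Function.surjInv hπ g * Function.surjInv hπ h
    have hk : π (t⁻¹ * s) = 1 := by
      simp only [s, t, map_mul, map_inv, Function.surjInv_eq hπ]
      exact inv_mul_cancel _
    have h1 : (t⁻¹ * s) * ((a.toMul : ↥A) : G) * (t⁻¹ * s)⁻¹ = ((a.toMul : ↥A) : G) := by
      rw [hc _ hk _ a.toMul.2, mul_inv_cancel_right]
    calc s * ((a.toMul : ↥A) : G) * s⁻¹
        = t * ((t⁻¹ * s) * ((a.toMul : ↥A) : G) * (t⁻¹ * s)⁻¹) * t⁻¹ := by group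
      _ = _ := by rw [h1]; simp only [t]; group
  smul_zero g := by
    refine Additive.toMul.injective (Subtype.ext ?_)
    show Function.surjInv hπ g * ((1 : ↥A) : G) * (Function.surjInv hπ g)⁻¹ = ((1 : ↥A) : G)
    simp
  smul_add g a b := by
    refine Additive.toMul.injective (Subtype.ext ?_)
    show Function.surjInv hπ g * (((a.toMul * b.toMul : ↥A)) : G) * _ = _
    show Function.surjInv hπ g * (((a.toMul : ↥A) : G) * ((b.toMul : ↥A) : G)) * _ =
      (Function.surjInv hπ g * _ * _) * (Function.surjInv hπ g * _ * _)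
    group

theorem sectAction_eq {π : G →* SL(2, K)} (hπ : Function.Surjective π) {A : Subgroup G} [IsMulCommutative ↥A]
    (hAn : A.Normal)
    (hc : ∀ y, π y = 1 → ∀ a ∈ A, y * a = a * y) {g : SL(2, K)} {y : G} (hy : π y = g) (a : Additive ↥A) :
    letI := sectAction π hπ A hAn hc
    (((g • a).toMul : ↥A) : G) = y * (a.toMul : ↥A) * y⁻¹ := by
  have h1 := hc (y⁻¹ * Function.surjInv hπ g)
    (by rw [map_mul, map_inv, Function.surjInv_eq hπ, hy, inv_mul_cancel]) _ a.toMul.2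
  show Function.surjInv hπ g * ((a.toMul : ↥A) : G) * (Function.surjInv hπ g)⁻¹ = _
  calc Function.surjInv hπ g * ((a.toMul : ↥A) : G) * (Function.surjInv hπ g)⁻¹
      = y * ((y⁻¹ * Function.surjInv hπ g) * ((a.toMul : ↥A) : G) *
          (y⁻¹ * Function.surjInv hπ g)⁻¹) * y⁻¹ := by group
    _ = _ := by rw [h1, mul_inv_cancel_right]

/-- An element of order three without fixed points satisfies `g² + g + 1 = 0`. -/
theorem rel_of_fpf {x : G} (hx3 : x ^ 3 = 1) {A : Subgroup G} (hAn : A.Normal) (hab : ∀ a ∈ A, ∀ b ∈ A, a * b = b * a)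
    (hfpf : ∀ q ∈ A, x * q * x⁻¹ = q → q = 1) {a : G} (ha : a ∈ A) :
    x * (x * a * x⁻¹) * x⁻¹ * (x * a * x⁻¹) * a = 1 := by
  have h1 : x * a * x⁻¹ ∈ A := hAn.conj_mem _ ha _
  have h2 : x * (x * a * x⁻¹) * x⁻¹ ∈ A := hAn.conj_mem _ h1 _
  refine hfpf _ (mul_mem (mul_mem h2 h1) ha) ?_
  have hx' : x * x * x = 1 := by rw [← pow_two, ← pow_succ]; exact hx3
  calc x * (x * (x * a * x⁻¹) * x⁻¹ * (x * a * x⁻¹) * a) * x⁻¹
      = (x * x * x) * a * (x * x * x)⁻¹ * ((x * (x * a * x⁻¹) * x⁻¹) * (x * a * x⁻¹)) := by group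
    _ = a * ((x * (x * a * x⁻¹) * x⁻¹) * (x * a * x⁻¹)) := by rw [hx']; simp
    _ = _ := hab _ ha _ (mul_mem h2 h1)

/-- Fixed-point-freeness passes to quotients. -/
theorem fpf_quotient [Finite G] {x : G} {Q N : Subgroup G} [hN : N.Normal] (hNQ : N ≤ Q)
    (hfpf : ∀ q ∈ Q, x * q * x⁻¹ = q → q = 1) {q : G} (hq : q ∈ Q)
    (h : x * q * x⁻¹ * q⁻¹ ∈ N) : q ∈ N := by
  let φ : N → N := fun m => ⟨x * m * x⁻¹ * (m : G)⁻¹, mul_mem (hN.conj_mem _ m.2 _) (inv_mem m.2)⟩
  have hinj : Function.Injective φ := by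
    intro a b hab
    have hab' : x * a * x⁻¹ * (a : G)⁻¹ = x * b * x⁻¹ * (b : G)⁻¹ := congrArg Subtype.val hab
    have h1 : x * ((b : G)⁻¹ * a) * x⁻¹ = (b : G)⁻¹ * a := by
      calc x * ((b : G)⁻¹ * a) * x⁻¹
          = (x * b * x⁻¹)⁻¹ * (x * a * x⁻¹ * (a : G)⁻¹) * a := by group
        _ = _ := by rw [hab']; group
    exact Subtype.ext (inv_mul_eq_one.mp (hfpf _ (hNQ (mul_mem (inv_mem b.2) a.2)) h1)).symm
  obtain ⟨m, hm⟩ := (Finite.injective_iff_surjective.mp hinj) ⟨_, h⟩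
  have hm' : x * m * x⁻¹ * (m : G)⁻¹ = x * q * x⁻¹ * q⁻¹ := congrArg Subtype.val hm
  have h1 : x * ((m : G)⁻¹ * q) * x⁻¹ = (m : G)⁻¹ * q := by
    calc x * ((m : G)⁻¹ * q) * x⁻¹ = (x * m * x⁻¹)⁻¹ * (x * q * x⁻¹ * q⁻¹) * q := by group
      _ = _ := by rw [← hm']; group
  rw [← inv_mul_eq_one.mp (hfpf _ (mul_mem (inv_mem (hNQ m.2)) hq) h1)]
  exact m.2

/-- Relation of the section action. -/
theorem sect_rel {π : G →* SL(2, K)} (hπ : Function.Surjective π) {A : Subgroup G} [IsMulCommutative ↥A]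
    (hAn : A.Normal)
    (hc : ∀ y, π y = 1 → ∀ a ∈ A, y * a = a * y) {x : G} (hx3 : x ^ 3 = 1) (hx : π x = ww * uu 1)
    (hfpf : ∀ q ∈ A, x * q * x⁻¹ = q → q = 1) (a : Additive ↥A) :
    letI := sectAction π hπ A hAn hc
    ww (F := K) • uu (1 : K) • ww (F := K) • uu (1 : K) • a + ww (F := K) • uu (1 : K) • a + a = 0 := by
  letI := sectAction π hπ A hAn hc
  have hab : ∀ a ∈ A, ∀ b ∈ A, a * b = b * a := fun a ha b hb => by
    have h := congrArg Subtype.val (mul_comm (⟨a, ha⟩ : ↥A) ⟨b, hb⟩)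
    exact h
  have hm : ∀ b : Additive ↥A, ww (F := K) • uu (1 : K) • b = (ww * uu (1 : K)) • b :=
    fun b => (mul_smul _ _ _).symm
  refine Additive.toMul.injective (Subtype.ext ?_)
  rw [hm, hm, toMul_add, Subgroup.coe_mul, toMul_add, Subgroup.coe_mul, sectAction_eq hπ hAn hc hx,
    sectAction_eq hπ hAn hc hx]
  show _ = ((1 : ↥A) : G)
  rw [Subgroup.coe_one]
  exact rel_of_fpf hx3 hAn hab hfpf a.toMul.2

variable [Finite K] [CharP K 2]

/-- `Q` has exponent two. -/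
theorem sq_eq_one (hK : ∃ c : K, c ≠ 0 ∧ c ≠ 1) : ∀ (N : ℕ) (G : Type u) [Group G] [Finite G],
    Nat.card G ≤ N → ∀ (π : G →* SL(2, K)), Function.Surjective π → IsPGroup 2 π.ker → ∀ x : G,
      x ^ 3 = 1 → π x = ww * uu 1 → (∀ q ∈ π.ker, x * q * x⁻¹ = q → q = 1) → ∀ q ∈ π.ker, q * q = 1 := by
  intro N
  induction N with
  | zero => intro G _ _ hN; exact absurd hN (Nat.not_le.mpr Nat.card_pos)
  | succ N ih =>
    intro G _ _ hN π hπ hQ2 x hx3 hx hfpf
    haveI : Fact (Nat.Prime 2) := ⟨Nat.prime_two⟩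
    by_cases hQ1 : π.ker = ⊥
    · intro q hq
      rw [hQ1, Subgroup.mem_bot] at hq
      rw [hq, one_mul]
    let Z : Subgroup G :=
      { carrier := {z | π z = 1 ∧ z * z = 1 ∧ ∀ q, π q = 1 → q * z = z * q}
        one_mem' := ⟨map_one π, one_mul 1, fun q _ => by simp⟩
        mul_mem' := by
          rintro a b ⟨ha, ha2, hac⟩ ⟨hb, hb2, hbc⟩
          refine ⟨by rw [map_mul, ha, hb, one_mul], ?_, fun q hq => ?_⟩
          · calc a * b * (a * b) = a * (b * a) * b := by group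
              _ = (a * a) * (b * b) := by rw [hac b hb]; group
              _ = 1 := by rw [ha2, hb2, one_mul]
          · rw [← mul_assoc, hac q hq, mul_assoc, hbc q hq, mul_assoc]
        inv_mem' := by
          rintro a ⟨ha, ha2, hac⟩
          have : a⁻¹ = a := inv_eq_of_mul_eq_one_right ha2
          show π a⁻¹ = 1 ∧ _
          rw [this]
          exact ⟨ha, ha2, hac⟩ }
    have hZn : Z.Normal := by
      refine ⟨fun z hz g => ⟨?_, ?_, fun q hq => ?_⟩⟩
      · rw [map_mul, map_mul, hz.1, mul_one, ← map_mul, mul_inv_cancel, map_one]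
      · calc g * z * g⁻¹ * (g * z * g⁻¹) = g * (z * z) * g⁻¹ := by group
          _ = 1 := by rw [hz.2.1, mul_one, mul_inv_cancel]
      · have h := hz.2.2 (g⁻¹ * q * g) (by rw [map_mul, map_mul, hq, mul_one, ← map_mul, inv_mul_cancel, map_one])
        calc q * (g * z * g⁻¹) = g * ((g⁻¹ * q * g) * z) * g⁻¹ := by group
          _ = _ := by rw [h]; group
    have hZQ : Z ≤ π.ker := fun z hz => hz.1
    have hZ1 : Z ≠ ⊥ := by
      haveI : Nontrivial π.ker := (Subgroup.nontrivial_iff_ne_bot _).mpr hQ1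
      haveI := hQ2.center_nontrivial
      have hd : 2 ∣ Nat.card (Subgroup.center π.ker) := by
        obtain ⟨j, hj⟩ := (IsPGroup.iff_card (G := Subgroup.center π.ker)).mp (hQ2.to_subgroup _)
        rw [hj]
        refine dvd_pow_self 2 fun h0 => ?_
        subst h0
        exact absurd hj (Finite.one_lt_card).ne'
      obtain ⟨z, hz⟩ := exists_prime_orderOf_dvd_card' 2 hd
      have hzz : z * z = 1 := (sq z).symm.trans (orderOf_dvd_iff_pow_eq_one.mp hz.dvd)
      intro hbot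
      have hmem : ((z : π.ker) : G) ∈ Z := by
        refine ⟨(z : π.ker).2, ?_, fun q hq => ?_⟩
        · exact congrArg (fun w : Subgroup.center π.ker => ((w : π.ker) : G)) hzz
        · exact congrArg Subtype.val (Subgroup.mem_center_iff.mp z.2 ⟨q, hq⟩)
      rw [hbot, Subgroup.mem_bot] at hmem
      have : z = 1 := Subtype.ext (Subtype.ext hmem)
      rw [this, orderOf_one] at hz
      exact absurd hz (by norm_num)
    -- the quotient
    haveI := hZn
    let π' : G ⧸ Z →* SL(2, K) := QuotientGroup.lift Z π hZQ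
    have hπ'mk : ∀ g : G, π' (g : G ⧸ Z) = π g := fun g => rfl
    have hπ' : Function.Surjective π' := fun g => let ⟨y, hy⟩ := hπ g; ⟨y, hy⟩
    have hQ2' : IsPGroup 2 π'.ker := by
      rintro ⟨y, hy⟩
      obtain ⟨g, rfl⟩ := QuotientGroup.mk'_surjective Z y
      obtain ⟨j, hj⟩ := hQ2 ⟨g, (hπ'mk g).symm.trans hy⟩
      exact ⟨j, Subtype.ext (congrArg (QuotientGroup.mk' Z) (congrArg Subtype.val hj))⟩
    have hx3' : ((x : G ⧸ Z)) ^ 3 = 1 := by
      rw [← QuotientGroup.mk_pow, hx3, QuotientGroup.mk_one]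
    have hfpf' : ∀ q ∈ π'.ker, (x : G ⧸ Z) * q * (x : G ⧸ Z)⁻¹ = q → q = 1 := by
      intro y hy h
      obtain ⟨g, rfl⟩ := QuotientGroup.mk'_surjective Z y
      refine (QuotientGroup.eq_one_iff g).mpr (fpf_quotient hZQ hfpf ((hπ'mk g).symm.trans hy) ?_)
      refine (QuotientGroup.eq_one_iff _).mp ?_
      simp only [QuotientGroup.mk_mul, QuotientGroup.mk_inv]
      exact mul_inv_eq_one.mpr h
    have hlt : Nat.card (G ⧸ Z) ≤ N := by
      have h1 := Subgroup.card_eq_card_quotient_mul_card_subgroup Z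
      have h2 : 1 < Nat.card Z := (Subgroup.one_lt_card_iff_ne_bot Z).mpr hZ1
      have h3 : Nat.card (G ⧸ Z) < Nat.card G := by
        rw [h1]; exact lt_mul_of_one_lt_right Nat.card_pos h2
      omega
    have hsqZ : ∀ q, π q = 1 → q * q ∈ Z := fun q hq => (QuotientGroup.eq_one_iff _).mp
      ((QuotientGroup.mk_mul Z q q).trans
        (ih (G ⧸ Z) hlt π' hπ' hQ2' (x : G ⧸ Z) hx3' hx hfpf' (q : G ⧸ Z) hq))
    -- `Q` modulo `Z` is abelian
    have hcomZ : ∀ q r, π q = 1 → π r = 1 → q * r * q⁻¹ * r⁻¹ ∈ Z := by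
      intro q r hq hr
      have e : q * r * q⁻¹ * r⁻¹ =
          ((q * r) * (q * r)) * (r⁻¹ * (q⁻¹ * q⁻¹) * r⁻¹⁻¹) * (r⁻¹ * r⁻¹) := by group
      rw [e]
      exact mul_mem (mul_mem (hsqZ _ (by rw [map_mul, hq, hr, one_mul]))
        (hZn.conj_mem _ (hsqZ _ (by rw [map_inv, hq, inv_one])) _)) (hsqZ _ (by rw [map_inv, hr, inv_one]))
    -- the module structures
    haveI iZ : IsMulCommutative ↥Z := ⟨⟨fun a b => Subtype.ext (b.2.2.2 a a.2.1)⟩⟩
    have hcZ : ∀ y, π y = 1 → ∀ a ∈ Z, y * a = a * y := fun y hy a ha => ha.2.2 y hy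
    letI actZ := sectAction π hπ Z hZn hcZ
    have fZ : Fpf K (Additive ↥Z) := by
      refine ⟨fun m => Additive.toMul.injective (Subtype.ext ?_),
        sect_rel hπ hZn hcZ hx3 hx fun q hq => hfpf q hq.1⟩
      exact m.toMul.2.2.1
    let Qb : Subgroup (G ⧸ Z) := π'.ker
    have habQ : ∀ a ∈ Qb, ∀ b ∈ Qb, a * b = b * a := by
      intro a ha b hb
      obtain ⟨q, rfl⟩ := QuotientGroup.mk'_surjective Z a
      obtain ⟨r, rfl⟩ := QuotientGroup.mk'_surjective Z b
      rw [← map_mul, ← map_mul]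
      refine eq_of_mul_inv_eq_one ?_
      rw [← map_inv, ← map_mul, mul_inv_rev, ← mul_assoc]
      exact (QuotientGroup.eq_one_iff _).mpr
        (hcomZ q r ((hπ'mk q).symm.trans ha) ((hπ'mk r).symm.trans hb))
    haveI iM : IsMulCommutative ↥Qb := ⟨⟨fun a b => Subtype.ext (habQ a a.2 b b.2)⟩⟩
    letI actM := sectAction π' hπ' Qb (MonoidHom.normal_ker π')
      (fun y hy a ha => habQ y hy a ha)
    have fM : Fpf K (Additive ↥Qb) := by
      refine ⟨fun m => Additive.toMul.injective (Subtype.ext ?_),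
        sect_rel hπ' (MonoidHom.normal_ker π') _ hx3' hx hfpf'⟩
      obtain ⟨q, hq⟩ := QuotientGroup.mk'_surjective Z (m.toMul : G ⧸ Z)
      show (m.toMul : G ⧸ Z) * (m.toMul : G ⧸ Z) = 1
      rw [← hq, ← map_mul]
      exact (QuotientGroup.eq_one_iff _).mpr
        (hsqZ q ((hπ'mk q).symm.trans ((congrArg π' hq).trans m.toMul.2)))
    -- the commutator pairing
    have hrep : ∀ m : Additive ↥Qb, ∃ q : G, π q = 1 ∧ (q : G ⧸ Z) = (m.toMul : ↥Qb) := by
      intro m
      obtain ⟨q, hq⟩ := QuotientGroup.mk'_surjective Z (m.toMul : G ⧸ Z)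
      exact ⟨q, (hπ'mk q).symm.trans ((congrArg π' hq).trans m.toMul.2), hq⟩
    choose rep hrep1 hrep2 using hrep
    let β : Additive ↥Qb → Additive ↥Qb → Additive ↥Z := fun a b =>
      Additive.ofMul ⟨rep a * rep b * (rep a)⁻¹ * (rep b)⁻¹, hcomZ _ _ (hrep1 a) (hrep1 b)⟩
    have hwell : ∀ {q q' r r' : G}, π q = 1 → π r = 1 → π q' = 1 → π r' = 1 → (q : G ⧸ Z) = q' →
        (r : G ⧸ Z) = r' → q * r * q⁻¹ * r⁻¹ = q' * r' * q'⁻¹ * r'⁻¹ := by
      intro q q' r r' hq hr hq' hr' h1 h2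
      obtain ⟨z, hz, rfl⟩ : ∃ z ∈ Z, q' = q * z := ⟨q⁻¹ * q', QuotientGroup.eq.mp h1, by group⟩
      obtain ⟨w, hw, rfl⟩ : ∃ w ∈ Z, r' = r * w := ⟨r⁻¹ * r', QuotientGroup.eq.mp h2, by group⟩
      symm
      calc q * z * (r * w) * (q * z)⁻¹ * (r * w)⁻¹ = q * (z * (r * w) * z⁻¹) * q⁻¹ * (r * w)⁻¹ := by group
        _ = q * (r * w) * q⁻¹ * (r * w)⁻¹ := by
          rw [← hz.2.2 (r * w) (by rw [map_mul, hr, hw.1, one_mul]), mul_inv_cancel_right]
        _ = q * r * (w * q⁻¹ * w⁻¹) * r⁻¹ := by group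
        _ = _ := by rw [← hw.2.2 q⁻¹ (by rw [map_inv, hq, inv_one]), mul_inv_cancel_right]
    have hβ : ∀ (a b : Additive ↥Qb) (q r : G), π q = 1 → π r = 1 → (q : G ⧸ Z) = (a.toMul : ↥Qb) →
        (r : G ⧸ Z) = (b.toMul : ↥Qb) → ((β a b).toMul : G) = q * r * q⁻¹ * r⁻¹ :=
      fun a b q r hq hr ha hb => hwell (hrep1 a) (hrep1 b) hq hr ((hrep2 a).trans ha.symm)
        ((hrep2 b).trans hb.symm)
    have hβ0 : ∀ a b : Additive ↥Qb, β a b = 0 := by
      refine pairing_eq_zero fM fZ hK β (fun a b c => ?_) (fun a b => ?_) (fun g a b => ?_)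
      · refine Additive.toMul.injective (Subtype.ext ?_)
        rw [hβ a (b + c) (rep a) (rep b * rep c) (hrep1 a) (by rw [map_mul, hrep1, hrep1, one_mul])
          (hrep2 a) (by rw [QuotientGroup.mk_mul, hrep2, hrep2]; rfl)]
        show _ = ((β a b).toMul : G) * ((β a c).toMul : G)
        show _ = (rep a * rep b * (rep a)⁻¹ * (rep b)⁻¹) * (rep a * rep c * (rep a)⁻¹ * (rep c)⁻¹)
        calc rep a * (rep b * rep c) * (rep a)⁻¹ * (rep b * rep c)⁻¹
            = (rep a * rep b * (rep a)⁻¹ * (rep b)⁻¹) *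
              (rep b * (rep a * rep c * (rep a)⁻¹ * (rep c)⁻¹) * (rep b)⁻¹) := by group
          _ = _ := by
            rw [(hcomZ _ _ (hrep1 a) (hrep1 c)).2.2 _ (hrep1 b), mul_inv_cancel_right]
      · refine Additive.toMul.injective (Subtype.ext ?_)
        show rep a * rep b * (rep a)⁻¹ * (rep b)⁻¹ = rep b * rep a * (rep b)⁻¹ * (rep a)⁻¹
        refine (inv_eq_of_mul_eq_one_right (hcomZ _ _ (hrep1 a) (hrep1 b)).2.1).symm.trans ?_
        group
      · obtain ⟨y, hy⟩ := hπ g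
        refine Additive.toMul.injective (Subtype.ext ?_)
        have hy' : π' (y : G ⧸ Z) = g := hy
        rw [sectAction_eq hπ hZn hcZ hy (β a b),
          hβ (g • a) (g • b) (y * rep a * y⁻¹) (y * rep b * y⁻¹)
            (by rw [map_mul, map_mul, hrep1, mul_one, map_inv, mul_inv_cancel])
            (by rw [map_mul, map_mul, hrep1, mul_one, map_inv, mul_inv_cancel])
            (by rw [sectAction_eq hπ' (MonoidHom.normal_ker π') _ hy' a,
              QuotientGroup.mk_mul, QuotientGroup.mk_mul, QuotientGroup.mk_inv, hrep2])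
            (by rw [sectAction_eq hπ' (MonoidHom.normal_ker π') _ hy' b,
              QuotientGroup.mk_mul, QuotientGroup.mk_mul, QuotientGroup.mk_inv, hrep2])]
        show _ = y * (rep a * rep b * (rep a)⁻¹ * (rep b)⁻¹) * y⁻¹
        group
    have hab : ∀ q r, π q = 1 → π r = 1 → q * r = r * q := by
      intro q r hq hr
      have hqm : ((q : G ⧸ Z)) ∈ Qb := hq
      have hrm : ((r : G ⧸ Z)) ∈ Qb := hr
      have h := hβ (Additive.ofMul ⟨_, hqm⟩) (Additive.ofMul ⟨_, hrm⟩) q r hq hr rfl rfl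
      rw [hβ0] at h
      refine eq_of_mul_inv_eq_one ?_
      rw [mul_inv_rev, ← mul_assoc]
      exact h.symm
    -- exponent four does not occur
    haveI iQ : IsMulCommutative ↥π.ker := ⟨⟨fun a b => Subtype.ext (hab a b a.2 b.2)⟩⟩
    letI actQ := sectAction π hπ π.ker (MonoidHom.normal_ker π) (fun y hy a ha => hab y a hy ha)
    intro q hq
    have h := two_torsion (F := K) (E := Additive ↥π.ker) (fun e => ?_)
      (sect_rel hπ (MonoidHom.normal_ker π) _ hx3 hx hfpf) hK (Additive.ofMul ⟨q, hq⟩)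
    · exact congrArg (fun e : Additive ↥π.ker => ((e.toMul : ↥π.ker) : G)) h
    · refine Additive.toMul.injective (Subtype.ext ?_)
      rw [toMul_nsmul, Subgroup.coe_pow, show (4 : ℕ) = 2 * 2 from rfl, pow_mul, sq, sq]
      exact (hsqZ _ e.toMul.2).2.1

end Cfsg.Agent.CharP.SL2HigmanGroup
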