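import Cfsg.Agent.Lib.Fusion.Alperin
import Cfsg.Agent.Lib.Fusion.Normal
import Cfsg.Prelude.Def_PLocal

/-!
For a saturated fusion system over a `p`-group of class at most `n(p-1)+1`, the `p^n`-th powers of
the centre of the `p`-group generate a normal subgroup of the system.
-/

set_option autoImplicit false

namespace Cfsg.Agent.CharP.AgemoNormal

open Cfsg Cfsg.FusionSystem Cfsg.Agent.Fusion.Basic Cfsg.Agent.Fusion.Saturation
  Cfsg.Agent.Fusion.Normal Cfsg.Agent.Fusion.Alperin Polynomial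

/-- The expansion of `(1 + X)^p` for a prime `p`. -/
theorem exists_expansion {p : ℕ} (hp : p.Prime) :
    ∃ W : ℤ[X], (1 + X) ^ p = 1 + X ^ p + C (p : ℤ) * X * (1 + X * W) := by
  obtain ⟨s, hs⟩ : ∃ s : ℤ[X], (1 + X) ^ p = 1 + X ^ p + C (p : ℤ) * X * s := by
    refine ⟨∑ k ∈ Finset.Ioo 0 p, X ^ (p - k - 1) * ((p.choose k / p : ℕ) : ℤ[X]), ?_⟩
    rw [add_pow_prime_eq hp (1 : ℤ[X]) X, one_pow, mul_one, map_natCast]
    simp only [one_pow, one_mul]
  have h1 : s.coeff 0 = 1 := by
    have h := congrArg (fun P : ℤ[X] => P.coeff 1) hs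
    simp only [coeff_one_add_X_pow, Nat.choose_one_right, coeff_add, coeff_one, one_ne_zero,
      if_false, coeff_X_pow, mul_assoc, coeff_C_mul, coeff_X_mul, hp.ne_one.symm, zero_add] at h
    exact (mul_eq_left₀ (Nat.cast_ne_zero.2 hp.ne_zero)).1 h.symm
  obtain ⟨W, hW⟩ : X ∣ s - 1 := by
    rw [X_dvd_iff, coeff_sub, h1, coeff_one_zero, sub_self]
  exact ⟨W, by rw [hs, ← hW, add_sub_cancel]⟩

/-- An operator of order `p` that is unipotent of degree `n(p-1)+1` at `y` fixes `p^n • y`. -/
theorem smul_eq_zero_of_unipotent {p : ℕ} (hp : p.Prime) {M : Type*} [AddCommGroup M]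
    (σ : AddMonoid.End M) (hσ : σ ^ p = 1) (n : ℕ) :
    ∀ y : M, ((σ - 1) ^ (n * (p - 1) + 1)) y = 0 → p ^ n • (σ - 1) y = 0 := by
  obtain ⟨W, hW⟩ := exists_expansion hp
  let φ : ℤ[X] →+* AddMonoid.End M := (aeval (R := ℤ) (σ - 1)).toRingHom
  have hX : φ X = σ - 1 := aeval_X _
  have hmul : ∀ (A B : ℤ[X]) (y : M), φ (A * B) y = φ A (φ B y) := fun A B y => by
    rw [map_mul]; rfl
  have hC : ∀ (k : ℕ) (y : M), φ (C (k : ℤ)) y = k • y := fun k y => by
    rw [map_natCast, map_natCast]; exact AddMonoid.End.natCast_apply k y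
  have hzero : φ (X ^ p + C (p : ℤ) * X * (1 + X * W)) = 0 := by
    have h := congrArg φ hW
    rw [map_pow, map_add, map_one, hX, add_sub_cancel, hσ, add_assoc, map_add φ 1, map_one] at h
    exact left_eq_add.1 h
  have key : ∀ y : M, φ (X ^ (n * (p - 1) + 1)) y = 0 → φ (C ((p ^ n : ℕ) : ℤ) * X) y = 0 := by
    induction n with
    | zero => intro y hy; simpa [hX] using hy
    | succ n ih =>
      intro y hy
      have h1 : φ (C ((p ^ n : ℕ) : ℤ) * X ^ p) y = 0 := by
        have hpos := hp.one_lt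
        have h2 := ih (φ (X ^ (p - 1)) y) (by
          rw [← hmul, ← pow_add]
          rw [show n * (p - 1) + 1 + (p - 1) = (n + 1) * (p - 1) + 1 by ring]
          exact hy)
        rw [← hmul, mul_assoc, ← pow_succ', show p - 1 + 1 = p by omega] at h2
        exact h2
      have hstep : φ (C ((p ^ (n + 1) : ℕ) : ℤ) * X * (1 + X * W)) y = 0 := by
        have e : (C ((p ^ (n + 1) : ℕ) : ℤ) * X * (1 + X * W)) =
            C ((p ^ n : ℕ) : ℤ) * (X ^ p + C (p : ℤ) * X * (1 + X * W)) -
              C ((p ^ n : ℕ) : ℤ) * X ^ p := by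
          rw [pow_succ p n, Nat.cast_mul, C_mul]; ring
        rw [e, map_sub]
        show φ (C ((p ^ n : ℕ) : ℤ) * _) y - φ (C ((p ^ n : ℕ) : ℤ) * X ^ p) y = 0
        rw [h1, hmul, hzero, sub_zero]
        exact map_zero _
      set T := C ((p ^ (n + 1) : ℕ) : ℤ) * X with hT
      have hiter : ∀ k, φ T y = φ (T * (-(X * W)) ^ k) y := by
        intro k
        induction k with
        | zero => rw [pow_zero, mul_one]
        | succ k ihk =>
          rw [ihk]
          have h3 : φ (T * (-(X * W)) ^ k * (1 + X * W)) y = 0 := by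
            rw [show T * (-(X * W)) ^ k * (1 + X * W) = (-(X * W)) ^ k * (T * (1 + X * W)) by ring,
              hmul, hstep, map_zero]
          have e : T * (-(X * W)) ^ k =
              T * (-(X * W)) ^ k * (1 + X * W) + T * (-(X * W)) ^ (k + 1) := by ring
          conv_lhs => rw [e]
          rw [map_add]
          show φ _ y + φ _ y = _
          rw [h3, zero_add]
      rw [hiter ((n + 1) * (p - 1) + 1),
        show T * (-(X * W)) ^ ((n + 1) * (p - 1) + 1) =
          T * (-W) ^ ((n + 1) * (p - 1) + 1) * X ^ ((n + 1) * (p - 1) + 1) by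
            rw [← mul_neg, mul_pow]; ring,
        hmul, hy, map_zero]
  intro y hy
  have h := key y (by rw [map_pow, hX]; exact hy)
  rwa [hmul, hX, hC] at h

/-- A Sylow subgroup meets a normal subgroup in a Sylow subgroup of it. -/
theorem exists_sylow_inf_normal {A : Type*} [Group A] [Finite A] {p : ℕ} [Fact p.Prime]
    (R : Sylow p A) (K : Subgroup A) [K.Normal] :
    ∃ RK : Sylow p K, ∀ x : K, x ∈ (RK : Subgroup K) ↔ (x : A) ∈ (R : Subgroup A) := by
  obtain ⟨T⟩ := (inferInstance : Nonempty (Sylow p K))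
  obtain ⟨Q, hQ⟩ := Sylow.exists_comap_subtype_eq T
  obtain ⟨a, rfl⟩ := MulAction.exists_smul_eq A Q R
  let c : K →* K := (MulAut.conjNormal a⁻¹).toMonoidHom
  have hp : IsPGroup p ((T : Subgroup K).comap c) :=
    T.isPGroup'.comap_of_injective c (MulAut.conjNormal a⁻¹).injective
  have hi : ¬ p ∣ ((T : Subgroup K).comap c).index := by
    rw [Subgroup.index_comap_of_surjective _ (f := c) (MulAut.conjNormal (a⁻¹)).surjective]
    exact T.not_dvd_index
  refine ⟨hp.toSylow hi, fun x => ?_⟩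
  show c x ∈ (T : Subgroup K) ↔ _
  rw [← hQ, Subgroup.mem_comap, Sylow.coe_subgroup_smul,
    Subgroup.mem_pointwise_smul_iff_inv_smul_mem]
  show ((MulAut.conjNormal a⁻¹ x : K) : A) ∈ (Q : Subgroup A) ↔ _
  rw [MulAut.conjNormal_apply, ← map_inv, MulAut.smul_def, MulAut.conj_apply]

section Group

variable {G : Type*} [Group G]

/-- Iterated commutators with `g`. -/
def comm (g : G) : ℕ → G → G
  | 0, x => x
  | k + 1, x => g * comm g k x * g⁻¹ * (comm g k x)⁻¹

/-- The group-theoretic form of `smul_eq_zero_of_unipotent`. -/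
theorem commute_pow_of_engel {p : ℕ} (hp : p.Prime) (n : ℕ) (M : Subgroup G) [IsMulCommutative M]
    (g : G) (hg : ∀ x ∈ M, g * x * g⁻¹ ∈ M) (hgp : ∀ x ∈ M, g ^ p * x * (g ^ p)⁻¹ = x)
    {x : G} (hx : x ∈ M) (hc : comm g (n * (p - 1) + 1) x = 1) :
    g * x ^ (p ^ n) * g⁻¹ = x ^ (p ^ n) := by
  let : CommGroup M := { (inferInstance : Group M) with mul_comm := mul_comm' }
  let c : M →* M := MonoidHom.mk' (fun m => ⟨g * m * g⁻¹, hg m m.2⟩)
    fun a b => Subtype.ext (conj_mul (a := (a : G))).symm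
  let σ : AddMonoid.End (Additive M) := MonoidHom.toAdditive c
  have hiter : ∀ (k : ℕ) (m : M), (((Additive.toMul ((σ ^ k) (Additive.ofMul m))) : M) : G) =
      g ^ k * m * (g ^ k)⁻¹ := by
    intro k
    induction k with
    | zero => intro m; rw [pow_zero, pow_zero, one_mul, inv_one, mul_one]; rfl
    | succ k ih =>
      intro m
      rw [pow_succ']
      show g * (((Additive.toMul ((σ ^ k) (Additive.ofMul m))) : M) : G) * g⁻¹ = _
      rw [ih, pow_succ']; group
  have hσ : σ ^ p = 1 := by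
    refine AddMonoidHom.ext fun m => ?_
    refine congrArg Additive.ofMul (Subtype.ext ?_)
    exact (hiter p (Additive.toMul m)).trans (hgp _ (Additive.toMul m).2)
  have hcomm : ∀ k, (((Additive.toMul (((σ - 1) ^ k) (Additive.ofMul ⟨x, hx⟩))) : M) : G) =
      comm g k x := by
    intro k
    induction k with
    | zero => rfl
    | succ k ih =>
      rw [pow_succ']
      show (((Additive.toMul ((σ - 1) (((σ - 1) ^ k) (Additive.ofMul ⟨x, hx⟩)))) : M) : G) =
        g * comm g k x * g⁻¹ * (comm g k x)⁻¹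
      rw [← ih, ← div_eq_mul_inv]
      rfl
  have h := smul_eq_zero_of_unipotent hp σ hσ n (Additive.ofMul ⟨x, hx⟩) (by
    refine congrArg Additive.ofMul (Subtype.ext ?_)
    exact (hcomm _).trans hc)
  rw [← map_nsmul] at h
  have h' := congrArg (fun a : Additive M => ((Additive.toMul a : M) : G)) h
  have e : g * x ^ (p ^ n) * g⁻¹ * (x ^ (p ^ n))⁻¹ = 1 := by
    rw [← div_eq_mul_inv]
    exact h'
  exact mul_inv_eq_one.1 e

end Group

variable {Ω : Type*} [Group Ω] {S : Subgroup Ω}

theorem comm_mem_lcs {g x : Ω} (hg : g ∈ S) (hx : x ∈ S) :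
    ∀ k, comm g k x ∈ S.lowerCentralSeries k
  | 0 => hx
  | k + 1 => by
    have ih := comm_mem_lcs hg hx k
    rw [Subgroup.lowerCentralSeries_succ, Subgroup.commutator_comm]
    exact Subgroup.commutator_mem_commutator hg ih

variable [Finite S] {F : FusionSystem S} {p : ℕ} [Fact p.Prime]

/-- The `p^n`-th powers of the centre generate a normal subgroup. -/
theorem isNormal_agemo (hS : IsPGroup p S) (hF : F.IsSaturated p) (n : ℕ)
    (hcl : S.lowerCentralSeries (n * (p - 1) + 1) = ⊥) :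
    F.IsNormal (powerClosure p n (S ⊓ Subgroup.centralizer (S : Set Ω))) := by
  set Z := S ⊓ Subgroup.centralizer (S : Set Ω) with hZ
  set V := powerClosure p n Z with hV
  have hVZ : V ≤ Z := (Subgroup.closure_le _).2 (by rintro _ ⟨x, hx, rfl⟩; exact Z.pow_mem hx _)
  have hVS : V ≤ S := hVZ.trans inf_le_left
  have hnorm : S ≤ Subgroup.normalizer (V : Set Ω) := fun s hs =>
    Subgroup.centralizer_le_normalizer _ fun v hv => ((hVZ hv).2 s hs).symm
  refine isNormal_of_le_stab (hQS := hVS) (hQ := hnorm) (le_of_extGroup hS hF fun P hP hext => ?_)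
  have hPS := hP.1
  have : Finite P := finite_of_le hPS
  have hfV : Finite V := finite_of_le hVS
  set E := stabSystem F V hVS hnorm with hE
  -- membership in the automorphism group of the stabilising system
  have hmemE : ∀ α ∈ F.autGroup P, ∀ g, IsMap F (P ⊔ V) g → (∀ x ∈ P, autFun α x = g x) →
      img g V = V → α ∈ E.autGroup P := by
    intro α hα g hg he hgV
    have hm := isMap_of_mem_autGroup hPS hα
    exact (mem_autGroup_iff hPS).2
      ⟨hm.hom, ⟨hm.hom_mem_self, g, hg, fun x => he x x.2, hgV⟩, fun _ => rfl⟩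
  classical
  intro α hα
  rcases eq_or_lt_of_le hPS with hPeq | hlt
  · have hVP : V ≤ P := hPeq ▸ hVS
    have hm := isMap_of_mem_autGroup hPS hα
    refine hmemE α hα (autFun α) ?_ (fun _ _ => rfl) ?_
    · rwa [sup_eq_left.2 hVP]
    · have hle : img (autFun α) V ≤ V := by
        refine img_le fun v hv => ?_
        induction hv using Subgroup.closure_induction with
        | mem y hy =>
          obtain ⟨x, hx, rfl⟩ := hy
          have hxP : x ∈ P := hPeq ▸ hx.1
          refine Subgroup.subset_closure ⟨autFun α x, ⟨hm.mem hxP, fun s hs => ?_⟩, ?_⟩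
          · have hsP : autFun α⁻¹ s ∈ P := autFun_mem _ (hPeq ▸ hs)
            have h := congrArg (autFun α) (hx.2 _ (hPS hsP))
            rwa [hm.map_mul hsP hxP, hm.map_mul hxP hsP, autFun_apply_inv] at h
          · rw [autFun_of_mem α (P.pow_mem hxP _), autFun_of_mem α hxP, ← Subgroup.coe_pow,
              ← map_pow]
            rfl
        | one => rw [hm.map_one]; exact V.one_mem
        | mul a b ha hb iha ihb =>
          rw [hm.map_mul (hVP ha) (hVP hb)]; exact V.mul_mem iha ihb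
        | inv a ha iha => rw [hm.map_inv (hVP ha)]; exact V.inv_mem iha
      exact eq_of_le_card hle ((hm.restrict hVP).card_img).ge
  by_cases hZP : Z ≤ P
  swap
  · obtain ⟨g, hg, he⟩ := exists_extension hS hF (isMap_of_mem_autGroup hPS hα)
      (by rw [autFun_img]; exact fullyNormalized_fullyCentralized hS hF hP)
    refine hext (Subgroup.subset_closure ⟨_, g, ?_, hg, he⟩)
    refine lt_of_le_of_ne (le_nSub (isMap_of_mem_autGroup hPS hα)) fun h => hZP ?_
    rw [h]
    exact fun x hx => centralizerIn_le_nSub ⟨hx.1, fun y hy => hx.2 y (hPS hy)⟩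
  -- the centre of `P` and the kernel of the action on its powers
  let M : Subgroup Ω := P ⊓ Subgroup.centralizer (P : Set Ω)
  have : IsMulCommutative M := ⟨⟨fun a b => Subtype.ext (b.2.2 a a.2.1)⟩⟩
  have hMinv : ∀ (β : MulAut P), ∀ x ∈ M, autFun β x ∈ M := by
    intro β x hx
    refine ⟨autFun_mem β hx.1, fun y hy => ?_⟩
    have hy' : autFun β⁻¹ y ∈ P := autFun_mem _ hy
    have h := congrArg (autFun β) (hx.2 _ hy')
    rwa [autFun_isHom β _ hy' _ hx.1, autFun_isHom β _ hx.1 _ hy', autFun_apply_inv] at h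
  let A := F.autGroup P
  let K : Subgroup A :=
    { carrier := {γ | ∀ x ∈ M, autFun (γ : MulAut P) (x ^ p ^ n) = x ^ p ^ n}
      one_mem' := fun x _ => by rw [OneMemClass.coe_one, autFun_one]; rfl
      mul_mem' := fun {a b} ha hb x hx => by
        rw [Subgroup.coe_mul, autFun_mul, hb x hx, ha x hx]
      inv_mem' := fun {a} ha x hx => by
        conv_lhs => rw [← ha x hx]
        rw [Subgroup.coe_inv, autFun_inv_apply] }
  have hpow : ∀ (β : MulAut P) (k : ℕ), ∀ x ∈ P, autFun β (x ^ k) = autFun β x ^ k := by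
    intro β k x hx
    rw [autFun_of_mem β (P.pow_mem hx k), autFun_of_mem β hx, ← Subgroup.coe_pow, ← map_pow]
    rfl
  have hKn : K.Normal := ⟨fun γ hγ β x hx => by
    rw [Subgroup.coe_mul, Subgroup.coe_mul, Subgroup.coe_inv, autFun_mul, autFun_mul,
      hpow _ _ x hx.1, hγ _ (hMinv _ x hx), hpow _ _ _ (autFun_mem _ hx.1), autFun_apply_inv]⟩
  have hVM : ∀ γ ∈ K, ∀ v ∈ V, autFun (γ : MulAut P) v = v := by
    intro γ hγ v hv
    have hm := isMap_of_mem_autGroup hPS γ.2
    induction hv using Subgroup.closure_induction with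
    | mem y hy =>
      obtain ⟨x, hx, rfl⟩ := hy
      exact hγ x ⟨hZP hx, fun y hy => hx.2 y (hPS hy)⟩
    | one => exact hm.map_one
    | mul a b ha hb iha ihb => rw [hm.map_mul (hZP (hVZ ha)) (hZP (hVZ hb)), iha, ihb]
    | inv a ha iha => rw [hm.map_inv (hZP (hVZ ha)), iha]
  have hVP : V ≤ P := hVZ.trans hZP
  have hKE : ∀ γ ∈ K, (γ : MulAut P) ∈ E.autGroup P := fun γ hγ =>
    hmemE _ γ.2 (autFun (γ : MulAut P)) (by rw [sup_eq_left.2 hVP]; exact isMap_of_mem_autGroup hPS γ.2)
      (fun _ _ => rfl) (by rw [img_congr (g := id) fun v hv => hVM γ hγ v hv, img_id])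
  -- a Sylow subgroup of `K` containing a nontrivial outer automorphism
  obtain ⟨R, hR⟩ := (fullyNormalized_fullyAutomized hS hF hP).2
  obtain ⟨g₀, hg₀, hg₀P⟩ := exists_mem_normalizer_not_mem hS hlt
  have hex : ∃ k, g₀ ^ p ^ k ∈ P := by
    obtain ⟨k, hk⟩ := hS ⟨g₀, hg₀.1⟩
    refine ⟨k, ?_⟩
    have := congrArg Subtype.val hk
    simp only [Subgroup.coe_pow, Subgroup.coe_one] at this
    rw [this]
    exact P.one_mem
  obtain ⟨j, hj⟩ : ∃ j, Nat.find hex = j + 1 := Nat.exists_eq_add_one.2 (Nat.pos_of_ne_zero fun h => by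
    have := Nat.find_spec hex
    rw [h, pow_zero, pow_one] at this
    exact hg₀P this)
  set g := g₀ ^ p ^ j with hgdef
  have hgP : g ∉ P := fun h => Nat.find_min hex (by omega) h
  have hgpP : g ^ p ∈ P := by
    rw [hgdef, ← pow_mul, ← pow_succ, ← hj]; exact Nat.find_spec hex
  have hgN : g ∈ normalizerIn S P := (normalizerIn S P).pow_mem hg₀ _
  let cg : A := ⟨conjAut S P ⟨g, hgN⟩, autInducedBy_le hPS (conjAut_range S P ▸ ⟨_, rfl⟩)⟩
  have hcgK : cg ∈ K := by
    intro x hx
    rw [conjAut_apply ⟨g, hgN⟩ (P.pow_mem hx.1 _)]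
    refine commute_pow_of_engel (Fact.out : p.Prime) n M g (fun y hy => ?_) (fun y hy => ?_) hx ?_
    · have := hMinv (cg : MulAut P) y hy
      rwa [conjAut_apply ⟨g, hgN⟩ hy.1] at this
    · rw [hy.2 _ hgpP]; group
    · have := comm_mem_lcs (S := S) hgN.1 (hPS hx.1) (n * (p - 1) + 1)
      rwa [hcl, Subgroup.mem_bot] at this
  have hcgR : cg ∈ (R : Subgroup A) := by
    rw [hR]; exact Subgroup.mem_subgroupOf.2 (conjAut_range S P ▸ ⟨_, rfl⟩)
  obtain ⟨RK, hRK⟩ := exists_sylow_inf_normal R K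
  obtain ⟨ν, hν, κ, hκ, hνκ⟩ : ∃ ν ∈ Subgroup.normalizer
      ((((RK : Subgroup K).map K.subtype : Subgroup A)) : Set A), ∃ κ ∈ K, ν * κ = ⟨α, hα⟩ := by
    have h := Sylow.normalizer_sup_eq_top RK
    have h' : (⟨α, hα⟩ : A) ∈ ((Subgroup.normalizer
      ((((RK : Subgroup K).map K.subtype : Subgroup A)) : Set A) ⊔ K : Subgroup A) : Set A) := by
      rw [h]; trivial
    rw [Subgroup.mul_normal] at h'
    exact h'
  have hνext : (ν : MulAut P) ∈ extSet F P := by
    have hm := isMap_of_mem_autGroup hPS ν.2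
    obtain ⟨θ, hθ, he⟩ := exists_extension hS hF hm
      (by rw [autFun_img]; exact fullyNormalized_fullyCentralized hS hF hP)
    refine ⟨_, θ, SetLike.lt_iff_le_and_exists.2 ⟨le_nSub hm, g, ?_, hgP⟩, hθ, he⟩
    have hcg : cg ∈ ((RK : Subgroup K).map K.subtype : Subgroup A) :=
      ⟨⟨cg, hcgK⟩, (hRK _).2 hcgR, rfl⟩
    obtain ⟨k, hk, hkeq⟩ := (Subgroup.mem_normalizer_iff.1 hν cg).1 hcg
    have hkR : ((k : K) : A) ∈ (R : Subgroup A) := (hRK _).1 hk
    rw [hR] at hkR
    obtain ⟨h, hh, hhe⟩ := mem_autInducedBy_iff'.1 (Subgroup.mem_subgroupOf.1 hkR)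
    refine ⟨hgN.1, hgN.2, h, hh.1, fun x hx => ?_⟩
    have h1 := hhe (autFun (ν : MulAut P) x) (autFun_mem _ hx)
    have h2 : ((k : K) : A) = ν * cg * ν⁻¹ := hkeq
    rw [h2, Subgroup.coe_mul, Subgroup.coe_mul, Subgroup.coe_inv, autFun_mul, autFun_mul,
      autFun_inv_apply, conjAut_apply ⟨g, hgN⟩ hx] at h1
    exact h1
  have := (E.autGroup P).mul_mem (hext (Subgroup.subset_closure hνext)) (hKE κ hκ)
  rwa [← Subgroup.coe_mul, hνκ] at this

/-- The centre of a group with trivial core has small exponent, hence so does the group. -/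
theorem exponent_dvd (hS : IsPGroup p S) (hF : F.IsSaturated p) (n : ℕ)
    (hcl : S.lowerCentralSeries (n * (p - 1) + 1) = ⊥) (hcore : F.core = ⊥) :
    Monoid.exponent S ∣ p ^ (n ^ 2 * (p - 1) + n) := by
  have hV : powerClosure p n (S ⊓ Subgroup.centralizer (S : Set Ω)) = ⊥ :=
    le_bot_iff.1 (hcore ▸ le_core (isNormal_agemo hS hF n hcl))
  have hz : ∀ x ∈ Subgroup.center S, x ^ p ^ n = 1 := by
    intro x hx
    have : ((x : Ω)) ^ p ^ n ∈ powerClosure p n (S ⊓ Subgroup.centralizer (S : Set Ω)) :=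
      Subgroup.subset_closure ⟨x, ⟨x.2, fun s hs =>
        congrArg Subtype.val (Subgroup.mem_center_iff.1 hx ⟨s, hs⟩)⟩, rfl⟩
    rw [hV, Subgroup.mem_bot] at this
    exact Subtype.ext this
  have hstep : ∀ k, ∀ x ∈ Subgroup.upperCentralSeries S (k + 1),
      x ^ p ^ n ∈ Subgroup.upperCentralSeries S k := by
    intro k
    induction k with
    | zero =>
      intro x hx
      rw [Subgroup.upperCentralSeries_one] at hx
      rw [Subgroup.upperCentralSeries_zero, Subgroup.mem_bot]
      exact hz x hx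
    | succ k ih =>
      intro x hx
      rw [Subgroup.mem_upperCentralSeries_succ_iff]
      intro y
      set N := Subgroup.upperCentralSeries S k
      let q : S →* S ⧸ N := QuotientGroup.mk' N
      rw [← QuotientGroup.eq_one_iff]
      show q (x ^ p ^ n * y * (x ^ p ^ n)⁻¹ * y⁻¹) = 1
      have hxy := Subgroup.mem_upperCentralSeries_succ_iff.1 hx y
      have hd := ih _ hxy
      rw [← QuotientGroup.eq_one_iff] at hd
      have hd' : q (x * y * x⁻¹ * y⁻¹) ^ p ^ n = 1 := by rw [← map_pow]; exact hd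
      have hc : ∀ w, Commute (q (x * y * x⁻¹ * y⁻¹)) (q w) := by
        intro w
        have hw := Subgroup.mem_upperCentralSeries_succ_iff.1 hxy w
        rw [← QuotientGroup.eq_one_iff] at hw
        have hw' : q ((x * y * x⁻¹ * y⁻¹) * w * (x * y * x⁻¹ * y⁻¹)⁻¹ * w⁻¹) = 1 := hw
        rw [map_mul, map_mul, map_mul, map_inv, map_inv, mul_inv_eq_one, mul_inv_eq_iff_eq_mul]
          at hw'
        exact hw'
      have hpow : ∀ m : ℕ, q x ^ m * q y * (q x ^ m)⁻¹ = q (x * y * x⁻¹ * y⁻¹) ^ m * q y := by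
        intro m
        induction m with
        | zero => simp
        | succ m ihm =>
          rw [pow_succ', show q x * q x ^ m * q y * (q x * q x ^ m)⁻¹ =
            q x * (q x ^ m * q y * (q x ^ m)⁻¹) * (q x)⁻¹ by group, ihm,
            show q x * (q (x * y * x⁻¹ * y⁻¹) ^ m * q y) * (q x)⁻¹ =
              (q x * q (x * y * x⁻¹ * y⁻¹) ^ m) * q y * (q x)⁻¹ by group,
            ← ((hc x).pow_left m).eq, pow_succ]
          simp only [map_mul, map_inv]
          group
      rw [map_mul, map_mul, map_mul, map_inv, map_inv, map_pow, hpow, hd', one_mul, mul_inv_cancel]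
  have hdown : ∀ k, ∀ x ∈ Subgroup.upperCentralSeries S k, x ^ p ^ (n * k) = 1 := by
    intro k
    induction k with
    | zero => intro x hx; rw [Subgroup.upperCentralSeries_zero, Subgroup.mem_bot] at hx; simp [hx]
    | succ k ih =>
      intro x hx
      rw [show n * (k + 1) = n + n * k by ring, pow_add, pow_mul]
      exact ih _ (hstep k x hx)
  have htop : Subgroup.upperCentralSeries S (n * (p - 1) + 1) = ⊤ := by
    have : Group.IsNilpotent S := hS.isNilpotent
    rw [← Subgroup.lowerCentralSeries_eq_bot_iff_upperCentralSeries_eq_top]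
    apply Subgroup.map_injective S.subtype_injective
    rw [Subgroup.map_bot, Subgroup.top_subtype_lowerCentralSeries, hcl]
  rw [Monoid.exponent_dvd_iff_forall_pow_eq_one]
  intro x
  have := hdown _ x (htop ▸ Subgroup.mem_top x)
  rwa [show n * (n * (p - 1) + 1) = n ^ 2 * (p - 1) + n by ring] at this

end Cfsg.Agent.CharP.AgemoNormal
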