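import Cfsg.Agent.Lib.Fusion.EssentialShape
import Cfsg.Agent.GStructB.MaxClass

/-!
A `p`-group with a unique abelian subgroup `A` of index `p`, and an essential subgroup `P ≠ A`:
the second centre is `p` times as large as the centre.
-/

set_option autoImplicit false
set_option linter.unusedSectionVars false

namespace Cfsg.Agent.CharP.AbelianIndex

set_option linter.style.haveILetI false
open scoped commutatorElement

open Cfsg Cfsg.FusionSystem
open Cfsg.Agent.Fusion.Basic Cfsg.Agent.Fusion.Saturation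

variable {Ω : Type*} [Group Ω] {S A P : Subgroup Ω} {p : ℕ}

structure Config (p : ℕ) (S A : Subgroup Ω) : Prop where
  pgrp : IsPGroup p S
  le : A ≤ S
  comm : ∀ a ∈ A, ∀ b ∈ A, a * b = b * a
  index : (A.subgroupOf S).index = p
  uniq : ∀ B : Subgroup Ω, B ≤ S → IsMulCommutative ↥B → (B.subgroupOf S).index = p → B = A
  nab : ¬ ∀ a ∈ S, ∀ b ∈ S, a * b = b * a

/-- The centre of `S`, as a subgroup of the ambient group. -/
abbrev zc (S : Subgroup Ω) : Subgroup Ω := S ⊓ Subgroup.centralizer (S : Set Ω)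

/-- Commutation with `x`. -/
def del (x a : Ω) : Ω := a * x * a⁻¹ * x⁻¹

/-- The derived subgroup of `S`, as a subgroup of the ambient group. -/
abbrev derived (S : Subgroup Ω) : Subgroup Ω := (commutator ↥S).map S.subtype

/-- The elements of `A` whose commutators with `S` are central. -/
def sec (S A : Subgroup Ω) : Subgroup Ω where
  carrier := {a | a ∈ A ∧ a ∈ S ∧ ∀ y ∈ S, del y a ∈ zc S}
  one_mem' := ⟨A.one_mem, S.one_mem, fun y _ => by simp [del]⟩
  mul_mem' := by
    rintro a b ⟨ha, haS, ha'⟩ ⟨hb, hbS, hb'⟩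
    refine ⟨A.mul_mem ha hb, S.mul_mem haS hbS, fun y hy => ?_⟩
    have e : del y (a * b) = a * del y b * a⁻¹ * del y a := by simp only [del]; group
    have hc : a * del y b * a⁻¹ = del y b := by
      rw [(hb' y hy).2 a haS, mul_inv_cancel_right]
    rw [e, hc]
    exact (zc S).mul_mem (hb' y hy) (ha' y hy)
  inv_mem' := by
    rintro a ⟨ha, haS, ha'⟩
    refine ⟨A.inv_mem ha, S.inv_mem haS, fun y hy => ?_⟩
    have e : del y a⁻¹ = a⁻¹ * (del y a)⁻¹ * a := by simp only [del]; group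
    have hc := ((zc S).inv_mem (ha' y hy))
    rw [e, hc.2 a⁻¹ (S.inv_mem haS), inv_mul_cancel_right]
    exact hc

theorem zc_le : zc S ≤ S := inf_le_left

theorem zc_comm {z y : Ω} (hz : z ∈ zc S) (hy : y ∈ S) : y * z = z * y := hz.2 y hy

theorem sec_le : sec S A ≤ A := fun _ h => h.1

variable [Finite S] [hp : Fact p.Prime]

theorem Config.finA (h : Config p S A) : Finite A := finite_of_le h.le

theorem Config.dichotomy (h : Config p S A) {B : Subgroup Ω} (hAB : A ≤ B) (hBS : B ≤ S) : B = A ∨ B = S := by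
  have h1 : A.relIndex B * B.relIndex S = p := by
    rw [Subgroup.relIndex_mul_relIndex _ _ _ hAB hBS]; exact h.index
  rcases (Nat.dvd_prime hp.out).mp (Dvd.intro _ h1) with h2 | h2
  · exact Or.inl (le_antisymm (Subgroup.relIndex_eq_one.mp h2) hAB)
  · rw [h2] at h1
    exact Or.inr (le_antisymm hBS (Subgroup.relIndex_eq_one.mp ((mul_eq_left₀ hp.out.ne_zero).mp h1)))

theorem Config.ne (h : Config p S A) : A ≠ S := fun e => h.nab (e ▸ h.comm)

theorem Config.normal (h : Config p S A) : S ≤ Subgroup.normalizer (A : Set Ω) := by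
  have h1 := lt_normalizerIn h.pgrp (lt_of_le_of_ne h.le h.ne)
  rcases h.dichotomy h1.le normalizerIn_le with e | e
  · exact absurd e.symm h1.ne
  · exact fun y hy => (e.ge hy : y ∈ normalizerIn S A).2

theorem Config.conj_mem (h : Config p S A) {y a : Ω} (hy : y ∈ S) (ha : a ∈ A) : y * a * y⁻¹ ∈ A :=
  (Subgroup.mem_normalizer_iff.mp (h.normal hy) a).mp ha

theorem Config.sup_eq (h : Config p S A) {x : Ω} (hx : x ∈ S) (hxA : x ∉ A) : A ⊔ Subgroup.zpowers x = S :=
  (h.dichotomy le_sup_left (sup_le h.le (Subgroup.zpowers_le.mpr hx))).resolve_left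
    fun e => hxA (e ▸ Subgroup.mem_sup_right (Subgroup.mem_zpowers x))

theorem Config.exists_outside (h : Config p S A) : ∃ x ∈ S, x ∉ A := by
  by_contra hh
  push Not at hh
  exact h.ne (le_antisymm h.le hh)

theorem Config.decomp (h : Config p S A) {x g : Ω} (hx : x ∈ S) (hxA : x ∉ A) (hg : g ∈ S) :
    ∃ (i : ℤ) (a : Ω), a ∈ A ∧ g = x ^ i * a := by
  rw [← h.sup_eq hx hxA, sup_comm] at hg
  have hg' : g ∈ ((Subgroup.zpowers x ⊔ A : Subgroup Ω) : Set Ω) := hg
  rw [Subgroup.coe_mul_of_left_le_normalizer_right _ _ ((Subgroup.zpowers_le.mpr hx).trans h.normal)] at hg'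
  obtain ⟨u, ⟨i, rfl⟩, a, ha, e⟩ := hg'
  exact ⟨i, a, ha, e.symm⟩

/-- Commuting with `A` and with one element outside is being central. -/
theorem Config.central_of (h : Config p S A) {x c : Ω} (hx : x ∈ S) (hxA : x ∉ A) (hc : c ∈ S)
    (hcA : ∀ a ∈ A, a * c = c * a) (hcx : x * c = c * x) : c ∈ zc S := by
  refine ⟨hc, fun y hy => ?_⟩
  have : A ⊔ Subgroup.zpowers x ≤ Subgroup.centralizer {c} :=
    sup_le (fun a ha => Subgroup.mem_centralizer_singleton_iff.mpr (hcA a ha))
      (Subgroup.zpowers_le.mpr (Subgroup.mem_centralizer_singleton_iff.mpr hcx))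
  rw [h.sup_eq hx hxA] at this
  exact Subgroup.mem_centralizer_singleton_iff.mp (this hy)

theorem Config.zc_le (h : Config p S A) : zc S ≤ A := by
  intro z hz
  by_contra hzA
  have hcomm : ∀ a ∈ A, a ∈ zc S := fun a ha =>
    h.central_of hz.1 hzA (h.le ha) (fun b hb => h.comm b hb a ha) (zc_comm hz (h.le ha)).symm
  refine h.nab fun a ha b hb => ?_
  have hb' : b ∈ zc S := h.central_of hz.1 hzA hb (fun c hc => ((hcomm c hc).2 b hb).symm) (zc_comm hz hb).symm
  exact hb'.2 a ha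

theorem Config.centralizes (h : Config p S A) {x a : Ω} (hx : x ∈ S) (hxA : x ∉ A) (ha : a ∈ A)
    (hax : x * a = a * x) : a ∈ zc S :=
  h.central_of hx hxA (h.le ha) (fun b hb => h.comm b hb a ha) hax

theorem Config.pow_mem (h : Config p S A) {x : Ω} (hx : x ∈ S) (hxA : x ∉ A) : x ^ p ∈ zc S := by
  haveI : (A.subgroupOf S).Normal := (Subgroup.normal_subgroupOf_iff_le_normalizer h.le).mpr h.normal
  have h1 : QuotientGroup.mk' (A.subgroupOf S) (⟨x, hx⟩ ^ p) = 1 := by
    have h2 : (QuotientGroup.mk' (A.subgroupOf S) ⟨x, hx⟩) ^ Nat.card (↥S ⧸ A.subgroupOf S) = 1 := pow_card_eq_one'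
    rwa [← Subgroup.index_eq_card, h.index, ← map_pow] at h2
  have h3 : x ^ p ∈ A := Subgroup.mem_subgroupOf.mp ((QuotientGroup.eq_one_iff _).mp h1)
  exact h.centralizes hx hxA h3 ((Commute.refl x).pow_right p).eq

theorem Config.del_mem (h : Config p S A) {x a : Ω} (hx : x ∈ S) (ha : a ∈ A) : del x a ∈ A := by
  have e : del x a = a * (x * a⁻¹ * x⁻¹) := by simp only [del]; group
  rw [e]
  exact A.mul_mem ha (h.conj_mem hx (A.inv_mem ha))

theorem Config.del_mul (h : Config p S A) {x a b : Ω} (hx : x ∈ S) (ha : a ∈ A) (hb : b ∈ A) :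
    del x (a * b) = del x a * del x b := by
  have e : del x (a * b) = a * del x b * a⁻¹ * del x a := by simp only [del]; group
  rw [e, h.comm a ha _ (h.del_mem hx hb), mul_inv_cancel_right, h.comm _ (h.del_mem hx hb) _ (h.del_mem hx ha)]

/-- Commutation with `x` as a homomorphism on `A`. -/
def Config.delHom (h : Config p S A) {x : Ω} (hx : x ∈ S) : A →* Ω :=
  MonoidHom.mk' (fun a => del x a) fun a b => h.del_mul hx a.2 b.2

theorem Config.mem_sec (h : Config p S A) {x a : Ω} (hx : x ∈ S) (hxA : x ∉ A) :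
    a ∈ sec S A ↔ a ∈ A ∧ del x a ∈ zc S := by
  refine ⟨fun ha => ⟨ha.1, ha.2.2 x hx⟩, fun ⟨ha, hax⟩ => ⟨ha, h.le ha, fun y hy => ?_⟩⟩
  obtain ⟨i, b, hb, rfl⟩ := h.decomp hx hxA hy
  have e : del (x ^ i * b) a = del (x ^ i) a * (x ^ i * del b a * (x ^ i)⁻¹) := by simp only [del]; group
  have hb1 : del b a = 1 := by
    simp only [del]; rw [h.comm a ha b hb, mul_inv_cancel_right, mul_inv_cancel]
  rw [e, hb1, mul_one, mul_inv_cancel, mul_one]
  -- powers of `x`
  let K : Subgroup Ω :=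
    { carrier := {y | y ∈ S ∧ del y a ∈ zc S}
      one_mem' := ⟨S.one_mem, by simp [del]⟩
      mul_mem' := by
        rintro u v ⟨hu, hu'⟩ ⟨hv, hv'⟩
        refine ⟨S.mul_mem hu hv, ?_⟩
        have e : del (u * v) a = del u a * (u * del v a * u⁻¹) := by simp only [del]; group
        rw [e, zc_comm hv' hu, mul_inv_cancel_right]
        exact (zc S).mul_mem hu' hv'
      inv_mem' := by
        rintro u ⟨hu, hu'⟩
        refine ⟨S.inv_mem hu, ?_⟩
        have e : del u⁻¹ a = u⁻¹ * (del u a)⁻¹ * u := by simp only [del]; group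
        rw [e, zc_comm ((zc S).inv_mem hu') (S.inv_mem hu), inv_mul_cancel_right]
        exact (zc S).inv_mem hu' }
  exact (K.zpow_mem (show x ∈ K from ⟨hx, hax⟩) i).2

theorem Config.zc_le_sec (h : Config p S A) : zc S ≤ sec S A := fun z hz => ⟨h.zc_le hz, hz.1, fun y hy => by
  have : del y z = 1 := by simp only [del]; rw [← zc_comm hz hy, mul_inv_cancel_right, mul_inv_cancel]
  rw [this]; exact (zc S).one_mem⟩

/-- The derived subgroup is the image of commutation with any element outside `A`. -/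
theorem Config.derived_eq (h : Config p S A) {x : Ω} (hx : x ∈ S) (hxA : x ∉ A) :
    derived S = (h.delHom hx).range := by
  set R := (h.delHom hx).range
  have hRA : R ≤ A := by rintro _ ⟨a, rfl⟩; exact h.del_mem hx a.2
  have hRS : R ≤ S := hRA.trans h.le
  refine le_antisymm ?_ ?_
  · haveI : Finite R := finite_of_le hRS
    have hn : S ≤ Subgroup.normalizer (R : Set Ω) := by
      rw [← h.sup_eq hx hxA]
      refine sup_le (fun a ha => mem_normalizer_of_forall fun r hr => ?_)
        (Subgroup.zpowers_le.mpr (mem_normalizer_of_forall fun r hr => ?_))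
      · rw [h.comm a ha r (hRA hr), mul_inv_cancel_right]; exact hr
      · obtain ⟨⟨a, ha⟩, rfl⟩ := hr
        refine ⟨⟨x * a * x⁻¹, h.conj_mem hx ha⟩, ?_⟩
        show del x (x * a * x⁻¹) = x * del x a * x⁻¹
        simp only [del]; group
    haveI : (R.subgroupOf S).Normal := (Subgroup.normal_subgroupOf_iff_le_normalizer hRS).mpr hn
    set f := QuotientGroup.mk' (R.subgroupOf S)
    have hx' : ∀ a, ∀ ha : a ∈ A, f ⟨a, h.le ha⟩ * f ⟨x, hx⟩ = f ⟨x, hx⟩ * f ⟨a, h.le ha⟩ := by
      intro a ha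
      rw [← map_mul, ← map_mul]
      refine (QuotientGroup.eq.mpr (Subgroup.mem_subgroupOf.mpr ?_)).symm
      show (x * a)⁻¹ * (a * x) ∈ R
      have e : (x * a)⁻¹ * (a * x) = (x * a)⁻¹ * del x a * (x * a) := by simp only [del]; group
      rw [e]
      have := (Subgroup.mem_normalizer_iff.mp (hn (S.inv_mem (S.mul_mem hx (h.le ha)))) (del x a)).mp ⟨⟨a, ha⟩, rfl⟩
      rwa [inv_inv] at this
    have key : ∀ u v : ↥S, f u * f v = f v * f u := by
      have hall : ∀ w : ↥S, (∀ a, ∀ ha : a ∈ A, f ⟨a, h.le ha⟩ * f w = f w * f ⟨a, h.le ha⟩) →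
          f ⟨x, hx⟩ * f w = f w * f ⟨x, hx⟩ → ∀ u, f u * f w = f w * f u := by
        intro w h1 h2 u
        obtain ⟨i, a, ha, e⟩ := h.decomp hx hxA u.2
        have hu : u = ⟨x, hx⟩ ^ i * ⟨a, h.le ha⟩ := Subtype.ext (by simpa using e)
        rw [hu, map_mul, map_zpow]
        exact ((Commute.zpow_left (h2 : Commute _ _) i).mul_left (h1 a ha)).eq
      intro u v
      refine hall v (fun a ha => ?_) ?_ u
      · refine (hall ⟨a, h.le ha⟩ (fun b hb => ?_) (hx' a ha).symm v).symm
        rw [← map_mul, ← map_mul]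
        exact congrArg f (Subtype.ext (h.comm b hb a ha))
      · exact (hall ⟨x, hx⟩ hx' rfl v).symm
    have : commutator ↥S ≤ R.subgroupOf S := by
      rw [commutator_def, Subgroup.commutator_le]
      intro u _ v _
      rw [← QuotientGroup.eq_one_iff]
      show f ⁅u, v⁆ = 1
      rw [map_commutatorElement, commutatorElement_eq_one_iff_mul_comm]
      exact key u v
    rintro _ ⟨u, hu, rfl⟩
    exact Subgroup.mem_subgroupOf.mp (this hu)
  · rintro _ ⟨⟨a, ha⟩, rfl⟩
    exact ⟨⁅(⟨a, h.le ha⟩ : ↥S), ⟨x, hx⟩⁆, Subgroup.commutator_mem_commutator (Subgroup.mem_top _) (Subgroup.mem_top _), rfl⟩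

/-- The moved part. -/
abbrev mv (S : Subgroup Ω) : Subgroup Ω := zc S ⊓ derived S

theorem Config.mem_mv (h : Config p S A) {x d : Ω} (hx : x ∈ S) (hxA : x ∉ A) :
    d ∈ mv S ↔ ∃ a ∈ sec S A, del x a = d := by
  constructor
  · intro ⟨hz, hd⟩
    rw [h.derived_eq hx hxA] at hd
    obtain ⟨⟨a, ha⟩, rfl⟩ := hd
    exact ⟨a, (h.mem_sec hx hxA).mpr ⟨ha, hz⟩, rfl⟩
  · rintro ⟨a, ha, rfl⟩
    refine ⟨ha.2.2 x hx, ?_⟩
    rw [h.derived_eq hx hxA]
    exact ⟨⟨a, ha.1⟩, rfl⟩

theorem Config.mv_pow (h : Config p S A) {d : Ω} (hd : d ∈ mv S) : d ^ p = 1 := by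
  obtain ⟨x, hx, hxA⟩ := h.exists_outside
  obtain ⟨a, ha, rfl⟩ := (h.mem_mv hx hxA).mp hd
  have key : ∀ k : ℕ, del x a ^ k = del (x ^ k) a := by
    intro k
    induction k with
    | zero => simp [del]
    | succ k ih =>
      have e : del (x ^ k * x) a = del (x ^ k) a * (x ^ k * del x a * (x ^ k)⁻¹) := by simp only [del]; group
      rw [pow_succ, pow_succ x, e, ih, zc_comm hd.1 (S.pow_mem hx k), mul_inv_cancel_right]
  rw [key]
  simp only [del]
  rw [← zc_comm (h.pow_mem hx hxA) (h.le ha.1) |>.symm, mul_inv_cancel_right, mul_inv_cancel]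

/-- The size of the moved part is the index of the centre in the second centre. -/
theorem Config.card_mv (h : Config p S A) : Nat.card (mv S) = (zc S).relIndex (sec S A) := by
  obtain ⟨x, hx, hxA⟩ := h.exists_outside
  haveI := h.finA
  set g : ↥(sec S A) →* Ω := (h.delHom hx).comp (Subgroup.inclusion sec_le)
  have hr : g.range = mv S := by
    ext d
    rw [h.mem_mv hx hxA]
    constructor
    · rintro ⟨a, rfl⟩; exact ⟨a, a.2, rfl⟩
    · rintro ⟨a, ha, rfl⟩; exact ⟨⟨a, ha⟩, rfl⟩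
  have hk : g.ker = (zc S).subgroupOf (sec S A) := by
    ext a
    rw [MonoidHom.mem_ker, Subgroup.mem_subgroupOf]
    show del x a = 1 ↔ _
    constructor
    · intro e
      refine h.centralizes hx hxA a.2.1 ?_
      simp only [del] at e
      rw [mul_inv_eq_one, mul_inv_eq_iff_eq_mul] at e
      exact e.symm
    · intro hz
      simp only [del]
      rw [← zc_comm hz hx, mul_inv_cancel_right, mul_inv_cancel]
  rw [← hr, ← Subgroup.index_ker, hk]
  rfl

section Essential

variable {F : FusionSystem S}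

/-- An element stabilizing an invariant series of length two lies in the essential subgroup. -/
theorem stab_mem (hS : IsPGroup p S) (hP : F.IsEssential p P) {M : Subgroup Ω}
    (hinv : ∀ α ∈ F.autGroup P, ∀ m ∈ M, m ∈ P → autFun α m ∈ M) {g : Ω} (hg : g ∈ normalizerIn S P)
    (hfix : ∀ m ∈ M, g * m = m * g) (hmv : ∀ y ∈ P, y⁻¹ * (g * y * g⁻¹) ∈ M) : g ∈ P := by
  have hPS : P ≤ S := hP.1.1
  haveI : Finite P := finite_of_le hPS
  refine Fusion.Normal.le_of_le_pCore hP.1 (Fusion.Alperin.essential_radical hP hS) hg ?_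
  let C : ℕ → Subgroup P := fun i => if i = 0 then ⊥ else if i = 1 then M.subgroupOf P else ⊤
  have happ : ∀ y : P, ((conjAut S P ⟨g, hg⟩ y : P) : Ω) = g * y * g⁻¹ := fun _ => rfl
  refine Fusion.EssentialShape.mem_pCore_of_stabilizes (hS.to_le hPS) (F.autGroup P) C 2 (by simp [C]) (by simp [C])
    (fun i hi => ?_) (fun i hi α hα y hy => ?_) (fun i hi y hy => ?_)
  · interval_cases i <;> simp [C]
  · interval_cases i
    · simp only [C, if_pos rfl, Subgroup.mem_bot] at hy ⊢
      rw [hy, map_one]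
    · simp only [C, one_ne_zero, if_false, if_true, Subgroup.mem_subgroupOf] at hy ⊢
      have := hinv α hα _ hy y.2
      rwa [autFun_apply] at this
    · simp [C]
  · interval_cases i
    · simp only [C, if_pos rfl, Nat.zero_add, one_ne_zero, if_false, if_true, Subgroup.mem_subgroupOf] at hy
      simp only [C, if_pos rfl, Subgroup.mem_bot]
      refine Subtype.ext ?_
      rw [Subgroup.coe_mul, Subgroup.coe_inv, happ, hfix _ hy, mul_inv_cancel_right, inv_mul_cancel]
      rfl
    · simp only [C, one_ne_zero, if_false, if_true, Subgroup.mem_subgroupOf]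
      rw [Subgroup.coe_mul, Subgroup.coe_inv, happ]
      exact hmv y y.2

variable (h : Config p S A) (hF : F.IsSaturated p) (hP : F.IsEssential p P) (hPA : P ≠ A)
include h hF hP hPA

omit hF in
theorem exists_mem_outside : ∃ x ∈ P, x ∉ A := by
  by_contra hh
  push Not at hh
  refine hPA (le_antisymm hh fun a ha => centric_centralizerIn_le hP.1 ⟨h.le ha, fun y hy => ?_⟩)
  exact h.comm y (hh y hy) a ha

omit hF hPA in
theorem zc_le_essential : zc S ≤ P :=
  fun _ hz => centric_centralizerIn_le hP.1 ⟨hz.1, fun y hy => zc_comm hz (hP.1.1 hy)⟩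

omit hF hPA in
theorem inter_index {x : Ω} (hxP : x ∈ P) (hxA : x ∉ A) : (P ⊓ A).relIndex P = p := by
  have hPS : P ≤ S := hP.1.1
  have h1 : A.relIndex P ∣ p := by
    haveI : (A.subgroupOf S).Normal := (Subgroup.normal_subgroupOf_iff_le_normalizer h.le).mpr h.normal
    have := Subgroup.relIndex_dvd_index_of_normal (A.subgroupOf S) (P.subgroupOf S)
    rwa [Subgroup.relIndex_subgroupOf hPS, h.index] at this
  rw [Subgroup.inf_relIndex_left]
  refine ((Nat.dvd_prime hp.out).mp h1).resolve_left fun e => hxA (Subgroup.relIndex_eq_one.mp e hxP)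

omit hPA in
/-- The intersection with `A` is at most `p` times the centre. -/
theorem inter_relIndex_le {x : Ω} (hxP : x ∈ P) (hxA : x ∉ A) : (zc S).relIndex (P ⊓ A) ≤ p := by
  have hPS : P ≤ S := hP.1.1
  haveI : Finite P := finite_of_le hPS
  set P₀ := P ⊓ A
  have hidx : P₀.relIndex P = p := inter_index h hP hxP hxA
  by_cases hinv : ∀ α ∈ F.autGroup P, ∀ m ∈ P₀, m ∈ P → autFun α m ∈ P₀
  · exfalso
    obtain ⟨g, hg, hgP⟩ := SetLike.exists_of_lt (lt_normalizerIn h.pgrp (Fusion.Alperin.essential_lt h.pgrp hF hP))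
    obtain ⟨i, a, ha, rfl⟩ := h.decomp (hPS hxP) hxA hg.1
    have haN : a ∈ normalizerIn S P := ⟨h.le ha, by
      simpa using Subgroup.mul_mem _ (Subgroup.le_normalizer (P.inv_mem (P.zpow_mem hxP i))) hg.2⟩
    refine hgP (P.mul_mem (P.zpow_mem hxP i) (stab_mem h.pgrp hP hinv haN (fun m hm => h.comm a ha m hm.2) ?_))
    intro y hy
    refine ⟨P.mul_mem (P.inv_mem hy) ((Subgroup.mem_normalizer_iff.mp haN.2 y).mp hy), ?_⟩
    have e : y⁻¹ * (a * y * a⁻¹) = y⁻¹ * a * y⁻¹⁻¹ * a⁻¹ := by group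
    rw [e]
    exact A.mul_mem (h.conj_mem (S.inv_mem (hPS hy)) ha) (A.inv_mem ha)
  · push Not at hinv
    obtain ⟨α, hα, m, hm, hmP, hm'⟩ := hinv
    have hmap := isMap_of_mem_autGroup hPS hα
    set B := img (autFun α) P₀
    have hBP : B ≤ P := img_le fun y hy => autFun_mem α hy.1
    have hB : ¬ B ≤ P₀ := fun e => hm' (e (mem_img_self _ hm))
    have hsup : P₀ ⊔ B = P := by
      have h1 : P₀.relIndex (P₀ ⊔ B) * (P₀ ⊔ B).relIndex P = p := by
        rw [Subgroup.relIndex_mul_relIndex _ _ _ le_sup_left (sup_le inf_le_left hBP), hidx]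
      rcases (Nat.dvd_prime hp.out).mp (Dvd.intro _ h1) with h2 | h2
      · exact absurd (le_sup_right.trans (Subgroup.relIndex_eq_one.mp h2)) hB
      · rw [h2] at h1
        exact le_antisymm (sup_le inf_le_left hBP)
          (Subgroup.relIndex_eq_one.mp ((mul_eq_left₀ hp.out.ne_zero).mp h1))
    have hBidx : B.relIndex P = p := by
      haveI : Finite B := finite_of_le hBP
      have hcard : Nat.card B = Nat.card P₀ := (hmap.restrict inf_le_left).card_img
      have h1 := Subgroup.card_mul_index (B.subgroupOf P)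
      have h2 := Subgroup.card_mul_index (P₀.subgroupOf P)
      rw [Nat.card_congr (Subgroup.subgroupOfEquivOfLe hBP).toEquiv, hcard] at h1
      rw [Nat.card_congr (Subgroup.subgroupOfEquivOfLe inf_le_left).toEquiv] at h2
      haveI : Finite P₀ := finite_of_le inf_le_left
      rw [← hidx]
      exact Nat.eq_of_mul_eq_mul_left Nat.card_pos (h1.trans h2.symm)
    have hI : B ⊓ P₀ ≤ zc S := by
      intro c hc
      have hle : P ≤ Subgroup.centralizer {c} := by
        rw [← hsup]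
        refine sup_le (fun y hy => Subgroup.mem_centralizer_singleton_iff.mpr (h.comm y hy.2 c hc.2.2)) ?_
        refine img_le fun y hy => Subgroup.mem_centralizer_singleton_iff.mpr ?_
        obtain ⟨c', hc', e⟩ := (hmap.restrict inf_le_left).mem_img.mp hc.1
        rw [← e, ← hmap.map_mul hy.1 hc'.1, ← hmap.map_mul hc'.1 hy.1, h.comm y hy.2 c' hc'.2]
      exact h.centralizes (hPS hxP) hxA hc.2.2 (Subgroup.mem_centralizer_singleton_iff.mp (hle hxP))
    calc (zc S).relIndex P₀ ≤ (B ⊓ P₀).relIndex P₀ := by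
          haveI : Finite P₀ := finite_of_le inf_le_left
          exact Subgroup.relIndex_le_of_le_left hI (Subgroup.index_ne_zero_of_finite (H := (B ⊓ P₀).subgroupOf P₀))
      _ = B.relIndex P₀ := Subgroup.inf_relIndex_right _ _
      _ ≤ B.relIndex P := Subgroup.relIndex_le_of_le_right inf_le_left
          (Subgroup.index_ne_zero_of_finite (H := B.subgroupOf P))
      _ = p := hBidx

omit hPA in
/-- Either the abelian shape or the nonabelian one. -/
theorem shape {x : Ω} (hxP : x ∈ P) (hxA : x ∉ A) :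
    (P ⊓ A = zc S) ∨ (P ⊓ A = sec S A ∧ (zc S).relIndex (sec S A) = p ∧
      ∀ y ∈ P, (∀ v ∈ P, v * y = y * v) → y ∈ zc S) := by
  have hPS : P ≤ S := hP.1.1
  haveI : Finite P := finite_of_le hPS
  haveI : Finite (P ⊓ A : Subgroup Ω) := finite_of_le inf_le_left
  have hZ : zc S ≤ P ⊓ A := le_inf (zc_le_essential h hP) h.zc_le
  by_cases heq : P ⊓ A ≤ zc S
  · exact Or.inl (le_antisymm heq hZ)
  right
  have h1 : (zc S).relIndex (P ⊓ A) = p := by
    obtain ⟨k, hk⟩ := (h.pgrp.to_le (inf_le_left.trans hPS) : IsPGroup p (P ⊓ A : Subgroup Ω)).index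
      ((zc S).subgroupOf (P ⊓ A))
    have hle := inter_relIndex_le h hF hP hxP hxA
    rw [Subgroup.relIndex, hk] at hle
    have hk0 : k ≠ 0 := fun e => heq (Subgroup.relIndex_eq_one.mp (by rw [Subgroup.relIndex, hk, e, pow_zero]))
    have : k ≤ 1 := (Nat.pow_le_pow_iff_right hp.out.one_lt).mp (hle.trans (pow_one p).ge)
    rw [Subgroup.relIndex, hk, show k = 1 by omega, pow_one]
  have hcen : ∀ y ∈ P, (∀ v ∈ P, v * y = y * v) → y ∈ zc S := by
    intro y hy hyc
    by_cases hyA : y ∈ A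
    · exact h.centralizes (hPS hxP) hxA hyA (hyc x hxP)
    · exact absurd (fun a ha => h.centralizes (hPS hy) hyA ha.2 (hyc a ha.1).symm) heq
  have hPn : P ⊓ A ≤ sec S A := by
    -- `P / Z` is abelian
    haveI : ((zc S).subgroupOf P).Normal := ⟨fun z hz g => by
      rw [Subgroup.mem_subgroupOf] at hz ⊢
      rw [Subgroup.coe_mul, Subgroup.coe_mul, Subgroup.coe_inv, zc_comm hz (hPS g.2), mul_inv_cancel_right]
      exact hz⟩
    have hcard : Nat.card (P ⧸ (zc S).subgroupOf P) = p ^ 2 := by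
      rw [← Subgroup.index_eq_card]
      show (zc S).relIndex P = _
      rw [← Subgroup.relIndex_mul_relIndex _ _ _ hZ inf_le_left, h1, inter_index h hP hxP hxA, pow_two]
    intro a ha
    refine (h.mem_sec (hPS hxP) hxA).mpr ⟨ha.2, ?_⟩
    have := GStructB.MaxClass.comm_of_card (p := p) le_rfl hcard (QuotientGroup.mk' _ ⟨a, ha.1⟩) (QuotientGroup.mk' _ ⟨x, hxP⟩)
    rw [← commutatorElement_eq_one_iff_mul_comm, ← map_commutatorElement] at this
    exact Subgroup.mem_subgroupOf.mp ((QuotientGroup.eq_one_iff _).mp this)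
  have hnP : sec S A ≤ P ⊓ A := by
    intro a ha
    have hmv : ∀ y ∈ P, y⁻¹ * (a * y * a⁻¹) ∈ zc S := fun y hy => by
      have h2 := ha.2.2 y (hPS hy)
      have e : y⁻¹ * (a * y * a⁻¹) = y⁻¹ * del y a * y := by simp only [del]; group
      rw [e, zc_comm h2 (S.inv_mem (hPS hy)), inv_mul_cancel_right]
      exact h2
    haveI : Finite P := finite_of_le hPS
    have haN : a ∈ normalizerIn S P := ⟨ha.2.1, mem_normalizer_of_forall fun y hy => by
      have e : a * y * a⁻¹ = y * (y⁻¹ * (a * y * a⁻¹)) := by group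
      rw [e]
      exact P.mul_mem hy (zc_le_essential h hP (hmv y hy))⟩
    refine ⟨stab_mem h.pgrp hP (fun α hα m hm hmP => hcen _ (autFun_mem α hmP) fun v hv => ?_) haN
      (fun m hm => zc_comm hm ha.2.1) hmv, ha.1⟩
    have hmap := isMap_of_mem_autGroup hPS hα
    have hv' := autFun_mem α⁻¹ hv
    rw [← autFun_apply_inv α v, ← hmap.map_mul hv' hmP, ← hmap.map_mul hmP hv', zc_comm hm (hPS hv')]
  have hEq := le_antisymm hPn hnP
  exact ⟨hEq, hEq ▸ h1, hcen⟩

end Essential

section Abelian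

variable {F : FusionSystem S} (h : Config p S A) (hF : F.IsSaturated p) (hP : F.IsEssential p P)
  (hab : P ⊓ A = zc S)
include h hF hP hab

omit hF in
theorem outside_of_notMem {y : Ω} (hy : y ∈ P) (hyZ : y ∉ zc S) : y ∉ A := fun hA => hyZ (hab ▸ ⟨hy, hA⟩)

omit hF in
theorem abelian {u v : Ω} (hu : u ∈ P) (hv : v ∈ P) : u * v = v * u := by
  by_cases hcase : ∃ x ∈ P, x ∉ zc S
  · obtain ⟨x, hx, hxZ⟩ := hcase
    have hxA := outside_of_notMem h hP hab hx hxZ
    have key : ∀ w ∈ P, ∃ (i : ℤ) (z : Ω), z ∈ zc S ∧ w = x ^ i * z := by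
      intro w hw
      obtain ⟨i, a, ha, rfl⟩ := h.decomp (hP.1.1 hx) hxA (hP.1.1 hw)
      refine ⟨i, a, hab ▸ ⟨?_, ha⟩, rfl⟩
      simpa using P.mul_mem (P.inv_mem (P.zpow_mem hx i)) hw
    obtain ⟨i, z, hz, rfl⟩ := key u hu
    obtain ⟨j, z', hz', rfl⟩ := key v hv
    have c1 : ∀ k : ℤ, Commute (x ^ k) z := fun k => zc_comm hz (S.zpow_mem (hP.1.1 hx) k)
    have c2 : ∀ k : ℤ, Commute (x ^ k) z' := fun k => zc_comm hz' (S.zpow_mem (hP.1.1 hx) k)
    exact ((((Commute.refl x).zpow_zpow i j).mul_right (c2 i)).mul_left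
      ((c1 j).symm.mul_right (zc_comm hz' hz.1 : Commute z z'))).eq
  · push Not at hcase
    exact zc_comm (hcase v hv) (hP.1.1 hu)

omit hF in
theorem del_sec_of_normalizer {x a : Ω} (hx : x ∈ P) (hxA : x ∉ A) (ha : a ∈ A)
    (haN : a ∈ normalizerIn S P) : a ∈ sec S A := by
  refine (h.mem_sec (hP.1.1 hx) hxA).mpr ⟨ha, ?_⟩
  rw [← hab]
  exact ⟨P.mul_mem ((Subgroup.mem_normalizer_iff.mp haN.2 x).mp hx) (P.inv_mem hx), h.del_mem (hP.1.1 hx) ha⟩

omit hF in
theorem sec_normalizes {a : Ω} (ha : a ∈ sec S A) : a ∈ normalizerIn S P := by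
  haveI : Finite P := finite_of_le hP.1.1
  refine ⟨ha.2.1, mem_normalizer_of_forall fun y hy => ?_⟩
  have e : a * y * a⁻¹ = del y a * y := by simp only [del]; group
  rw [e]
  exact P.mul_mem (zc_le_essential h hP (ha.2.2 y (hP.1.1 hy))) hy

variable {x : Ω} (hx : x ∈ P) (hxA : x ∉ A)
include hx hxA

theorem exists_sec_notMem : ∃ a ∈ sec S A, a ∉ P := by
  obtain ⟨g, hg, hgP⟩ := SetLike.exists_of_lt (lt_normalizerIn h.pgrp (Fusion.Alperin.essential_lt h.pgrp hF hP))
  obtain ⟨i, a, ha, rfl⟩ := h.decomp (hP.1.1 hx) hxA hg.1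
  have haN : a ∈ normalizerIn S P := ⟨h.le ha, by
    simpa using Subgroup.mul_mem _ (Subgroup.le_normalizer (P.inv_mem (P.zpow_mem hx i))) hg.2⟩
  exact ⟨a, del_sec_of_normalizer h hP hab hx hxA ha haN, fun haP => hgP (P.mul_mem (P.zpow_mem hx i) haP)⟩

/-- Some automorphism moves the centre. -/
theorem exists_moving : ∃ β ∈ F.autGroup P, ∃ z ∈ zc S, autFun β z ∉ zc S := by
  by_contra hh
  push Not at hh
  obtain ⟨a, ha, haP⟩ := exists_sec_notMem h hF hP hab hx hxA
  refine haP (stab_mem h.pgrp hP (fun α hα m hm _ => hh α hα m hm) (sec_normalizes h hP hab ha)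
    (fun m hm => zc_comm hm ha.2.1) fun y hy => ?_)
  have e : y⁻¹ * (a * y * a⁻¹) = y⁻¹ * del y a * y := by simp only [del]; group
  rw [e, zc_comm (ha.2.2 y (hP.1.1 hy)) (S.inv_mem (hP.1.1 hy)), inv_mul_cancel_right]
  exact ha.2.2 y (hP.1.1 hy)

omit hx hxA in
theorem sup_eq_of_notMem {y : Ω} (hy : y ∈ P) (hyZ : y ∉ zc S) : zc S ⊔ Subgroup.zpowers y = P := by
  have hyA := outside_of_notMem h hP hab hy hyZ
  refine le_antisymm (sup_le (zc_le_essential h hP) (Subgroup.zpowers_le.mpr hy)) fun w hw => ?_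
  obtain ⟨i, a, ha, rfl⟩ := h.decomp (hP.1.1 hy) hyA (hP.1.1 hw)
  refine Subgroup.mul_mem _ (Subgroup.mem_sup_right (Subgroup.zpow_mem_zpowers y i)) (Subgroup.mem_sup_left ?_)
  rw [← hab]
  exact ⟨by simpa using P.mul_mem (P.inv_mem (P.zpow_mem hy i)) hw, ha⟩

omit hx hxA in
/-- The moved part avoids the image of the centre under an automorphism moving it. -/
theorem mv_avoid {β : MulAut P} (hβ : β ∈ F.autGroup P) (hβZ : ∃ z ∈ zc S, autFun β z ∉ zc S) {d : Ω}
    (hd : d ∈ mv S) (hd' : ∃ z ∈ zc S, autFun β z = d) : d = 1 := by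
  have hPS := hP.1.1
  haveI : Finite P := finite_of_le hPS
  have hZP := zc_le_essential h hP
  obtain ⟨z₁, hz₁, hz₁'⟩ := hβZ
  have hyA := outside_of_notMem h hP hab (autFun_mem β (hZP hz₁)) hz₁'
  set y := autFun β z₁
  have hyP : y ∈ P := autFun_mem β (hZP hz₁)
  obtain ⟨a, ha, hae⟩ := (h.mem_mv (hPS hyP) hyA).mp hd
  set Z' := img (autFun β) (zc S) with hZ'
  have hmap := isMap_of_mem_autGroup hPS hβ
  have hdW : d ∈ zc S ⊓ Z' := by
    obtain ⟨z, hz, e⟩ := hd'
    exact ⟨hd.1, e ▸ mem_img_self _ hz⟩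
  set W := zc S ⊓ Z'
  have hWP : W ≤ P := inf_le_left.trans hZP
  -- automorphisms stabilizing `W`
  let K : Subgroup (F.autGroup P) :=
    { carrier := {α | (∀ w ∈ W, autFun (α : MulAut P) w = w) ∧ ∀ v ∈ P, v⁻¹ * autFun (α : MulAut P) v ∈ W}
      one_mem' := ⟨fun w _ => by simp [autFun_one], fun v _ => by simp [autFun_one, W.one_mem]⟩
      mul_mem' := by
        rintro α γ ⟨ha1, ha2⟩ ⟨hb1, hb2⟩
        refine ⟨fun w hw => by rw [Subgroup.coe_mul, autFun_mul, hb1 w hw, ha1 w hw], fun v hv => ?_⟩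
        rw [Subgroup.coe_mul, autFun_mul]
        have e : v⁻¹ * autFun (α : MulAut P) (autFun (γ : MulAut P) v) = v⁻¹ * autFun (γ : MulAut P) v *
            ((autFun (γ : MulAut P) v)⁻¹ * autFun (α : MulAut P) (autFun (γ : MulAut P) v)) := by group
        rw [e]
        exact W.mul_mem (hb2 v hv) (ha2 _ (autFun_mem _ hv))
      inv_mem' := by
        rintro α ⟨ha1, ha2⟩
        refine ⟨fun w hw => ?_, fun v hv => ?_⟩
        · conv_lhs => rw [← ha1 w hw]
          rw [Subgroup.coe_inv, autFun_inv_apply]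
        · have := W.inv_mem (ha2 _ (autFun_mem ((α : MulAut P))⁻¹ hv))
          rw [autFun_apply_inv, mul_inv_rev, inv_inv] at this
          simpa [Subgroup.coe_inv] using this }
  have hKp : IsPGroup p K := by
    intro α
    obtain ⟨m, hm⟩ := IsPGroup.iff_card.mp (h.pgrp.to_le hPS)
    refine ⟨m, Subtype.ext (Subtype.ext (autFun_ext fun v hv => ?_))⟩
    have key : ∀ k : ℕ, autFun ((((α : F.autGroup P) : MulAut P)) ^ k) v =
        v * (v⁻¹ * autFun ((α : F.autGroup P) : MulAut P) v) ^ k := by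
      intro k
      induction k with
      | zero => simp [autFun_one]
      | succ k ih =>
        rw [pow_succ', autFun_mul, ih, (isMap_of_mem_autGroup hPS (α : F.autGroup P).2).map_mul hv
          (P.pow_mem (hWP (α.2.2 v hv)) k), α.2.1 _ (W.pow_mem (α.2.2 v hv) k), pow_succ', ← mul_assoc v,
          mul_inv_cancel_left]
    show autFun ((((α : F.autGroup P) : MulAut P)) ^ p ^ m) v = autFun 1 v
    rw [key, autFun_one, ← hm]
    have h1 := pow_card_eq_one' (G := P) (x := ⟨_, hWP (α.2.2 v hv)⟩)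
    have h2 := congrArg (P.subtype) h1
    rw [map_pow, map_one] at h2
    change (v⁻¹ * autFun ((α : F.autGroup P) : MulAut P) v) ^ Nat.card P = 1 at h2
    rw [h2, mul_one]; rfl
  obtain ⟨-, R, hR⟩ := fullyNormalized_fullyAutomized h.pgrp hF hP.2.1
  set g : F.autGroup P := ⟨β, hβ⟩
  set R' := g • R
  have hR'fix : ∀ σ ∈ (R' : Subgroup (F.autGroup P)), ∀ w ∈ Z', autFun (σ : MulAut P) w = w := by
    intro σ hσ w hw
    change σ ∈ ((g • R : Sylow p (F.autGroup P)) : Subgroup (F.autGroup P)) at hσ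
    rw [Sylow.coe_subgroup_smul, Subgroup.mem_pointwise_smul_iff_inv_smul_mem, hR, Subgroup.mem_subgroupOf] at hσ
    have hσ' : β⁻¹ * (σ : MulAut P) * β ∈ autInducedBy S P := by simpa [g] using hσ
    obtain ⟨s, hs, hse⟩ := mem_autInducedBy_iff'.mp hσ'
    obtain ⟨z, hz, rfl⟩ := (hmap.restrict hZP).mem_img.mp hw
    have := hse z (hZP hz)
    rw [autFun_mul, autFun_mul, cj_apply, zc_comm hz hs.1, mul_inv_cancel_right] at this
    conv_rhs => rw [← this, autFun_apply_inv]
  have hnorm : (R' : Subgroup (F.autGroup P)) ≤ Subgroup.normalizer (K : Set (F.autGroup P)) := by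
    intro σ hσ
    have hconj : ∀ σ ∈ (R' : Subgroup (F.autGroup P)), ∀ α ∈ K, σ * α * σ⁻¹ ∈ K := by
      intro σ hσ α hα
      have hWfix : ∀ τ ∈ (R' : Subgroup (F.autGroup P)), ∀ w ∈ W, autFun (τ : MulAut P) w = w :=
        fun τ hτ w hw => hR'fix τ hτ w hw.2
      have hinv : ∀ w ∈ W, autFun ((σ : MulAut P))⁻¹ w = w := fun w hw => by
        have := hWfix σ⁻¹ (Subgroup.inv_mem _ hσ) w hw
        simpa using this
      refine ⟨fun w hw => ?_, fun v hv => ?_⟩
      · simp only [Subgroup.coe_mul, Subgroup.coe_inv, autFun_mul]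
        rw [hinv w hw, hα.1 w hw, hWfix σ hσ w hw]
      · simp only [Subgroup.coe_mul, Subgroup.coe_inv, autFun_mul]
        set u := autFun ((σ : MulAut P))⁻¹ v
        have hu : u ∈ P := autFun_mem _ hv
        have e : autFun (α : MulAut P) u = u * (u⁻¹ * autFun (α : MulAut P) u) := by group
        have hw := hα.2 u hu
        rw [e, (isMap_of_mem_autGroup hPS σ.2).map_mul hu (hWP hw), hWfix σ hσ _ hw,
          show autFun (σ : MulAut P) u = v from autFun_apply_inv _ v, inv_mul_cancel_left]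
        exact hw
    rw [Subgroup.mem_normalizer_iff]
    refine fun α => ⟨hconj σ hσ α, fun hα => ?_⟩
    have := hconj σ⁻¹ (Subgroup.inv_mem _ hσ) _ hα
    simpa [mul_assoc] using this
  have hsup : IsPGroup p (K ⊔ (R' : Subgroup (F.autGroup P)) : Subgroup (F.autGroup P)) :=
    hKp.to_sup_of_normal_left' R'.2 hnorm
  have hKR : K ≤ (R' : Subgroup (F.autGroup P)) := by
    rw [← R'.3 hsup le_sup_right]; exact le_sup_left
  -- conjugation by `a` lies in `K`
  have haN := sec_normalizes h hP hab ha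
  set σa : F.autGroup P := ⟨conjAut S P ⟨a, haN⟩, autInducedBy_le hPS (conjAut_range S P ▸ ⟨_, rfl⟩)⟩
  have hσe : ∀ v ∈ P, autFun (σa : MulAut P) v = a * v * a⁻¹ := fun v hv => conjAut_apply ⟨a, haN⟩ hv
  have hσmap := isMap_of_mem_autGroup hPS σa.2
  have hfixW : ∀ w ∈ W, autFun (σa : MulAut P) w = w := fun w hw => by
    rw [hσe w (hWP hw), zc_comm hw.1 ha.2.1, mul_inv_cancel_right]
  have hσK : σa ∈ K := by
    refine ⟨hfixW, fun v hv => ?_⟩
    rw [← sup_eq_of_notMem h hF hP hab hyP hz₁'] at hv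
    have hv' : v ∈ ((zc S ⊔ Subgroup.zpowers y : Subgroup Ω) : Set Ω) := hv
    rw [Subgroup.coe_mul_of_left_le_normalizer_right _ _ (fun z hz => by
      refine Subgroup.centralizer_le_normalizer _ fun w hw => ?_
      exact zc_comm hz (hPS (Subgroup.zpowers_le.mpr hyP hw)))] at hv'
    obtain ⟨z, hz, _, ⟨i, rfl⟩, rfl⟩ := hv'
    have hyi := P.zpow_mem hyP i
    have e1 : a * y * a⁻¹ = d * y := by
      rw [← hae]; simp only [del]; group
    rw [hσe _ (P.mul_mem (hZP hz) hyi),
      show a * (z * y ^ i) * a⁻¹ = (a * z * a⁻¹) * (a * y * a⁻¹) ^ i by rw [conj_zpow]; group,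
      zc_comm hz ha.2.1, mul_inv_cancel_right, e1,
      (show Commute d y from (zc_comm hd.1 (hPS hyP)).symm).mul_zpow]
    have hdi : Commute (d ^ i) (y ^ i) := ((show Commute d y from (zc_comm hd.1 (hPS hyP)).symm).zpow_zpow i i)
    rw [hdi.eq, ← mul_assoc z, inv_mul_cancel_left]
    exact W.zpow_mem hdW i
  have h1 := hR'fix σa (hKR hσK) y (mem_img_self _ hz₁)
  rw [hσe y hyP] at h1
  rw [← hae]
  simp only [del]
  rw [h1, mul_inv_cancel]

omit hx hxA in
theorem moving_inv {β : MulAut P} (hβ : β ∈ F.autGroup P) (hβZ : ∃ z ∈ zc S, autFun β z ∉ zc S) :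
    ∃ z ∈ zc S, autFun β⁻¹ z ∉ zc S := by
  by_contra hh
  push Not at hh
  obtain ⟨z, hz, hz'⟩ := hβZ
  haveI : Finite (zc S) := finite_of_le (zc_le (S := S))
  haveI : Finite P := finite_of_le hP.1.1
  have hmap := (isMap_of_mem_autGroup hP.1.1 (inv_mem hβ)).restrict (zc_le_essential h hP)
  have heq : img (autFun β⁻¹) (zc S) = zc S :=
    eq_of_le_card (img_le hh) hmap.card_img.ge
  obtain ⟨w, hw, e⟩ := hmap.mem_img.mp (heq.ge hz)
  exact hz' (by rw [← e, autFun_apply_inv]; exact hw)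

theorem card_mv_abelian : Nat.card (mv S) = p := by
  have hPS := hP.1.1
  haveI : Finite P := finite_of_le hPS
  have hZP := zc_le_essential h hP
  haveI : Finite (mv S) := finite_of_le (inf_le_left.trans zc_le)
  obtain ⟨β, hβ, hβZ⟩ := exists_moving h hF hP hab hx hxA
  have hmap := isMap_of_mem_autGroup hPS hβ
  have hle : Nat.card (mv S) ≤ p := by
    calc Nat.card (mv S) ≤ Nat.card (P ⧸ (zc S).subgroupOf P) := by
          refine Nat.card_le_card_of_injective
            (fun d => (QuotientGroup.mk (⟨autFun β d, autFun_mem β (hZP d.2.1)⟩ : P))) fun d e hde => ?_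
          have h1 : (autFun β (d : Ω))⁻¹ * autFun β e ∈ zc S :=
            Subgroup.mem_subgroupOf.mp (QuotientGroup.eq.mp hde)
          rw [← hmap.map_inv (hZP d.2.1), ← hmap.map_mul (P.inv_mem (hZP d.2.1)) (hZP e.2.1)] at h1
          have h2 := mv_avoid h hF hP hab (inv_mem hβ) (moving_inv h hF hP hab hβ hβZ)
            ((mv S).mul_mem ((mv S).inv_mem d.2) e.2) ⟨_, h1, autFun_inv_apply β _⟩
          exact Subtype.ext (inv_mul_eq_one.mp h2)
      _ = (zc S).relIndex P := (Subgroup.index_eq_card _).symm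
      _ = p := by rw [← hab]; exact inter_index h hP hx hxA
  obtain ⟨k, hk⟩ := IsPGroup.iff_card.mp (h.pgrp.to_le (inf_le_left.trans zc_le : mv S ≤ S))
  have hne : k ≠ 0 := by
    rintro rfl
    rw [pow_zero, h.card_mv] at hk
    obtain ⟨a, ha, haP⟩ := exists_sec_notMem h hF hP hab hx hxA
    exact haP (zc_le_essential h hP (Subgroup.relIndex_eq_one.mp hk ha))
  rw [hk] at hle
  have : k ≤ 1 := (Nat.pow_le_pow_iff_right hp.out.one_lt).mp (hle.trans (pow_one p).ge)
  rw [hk, show k = 1 by omega, pow_one]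

end Abelian

/-- The centre has index `p` in the second centre. -/
theorem Config.relIndex_sec {F : FusionSystem S} (h : Config p S A) (hF : F.IsSaturated p) (hP : F.IsEssential p P)
    (hPA : P ≠ A) : (zc S).relIndex (sec S A) = p := by
  obtain ⟨x, hx, hxA⟩ := exists_mem_outside h hP hPA
  rcases shape h hF hP hx hxA with hab | ⟨-, h1, -⟩
  · rw [← h.card_mv]; exact card_mv_abelian h hF hP hab hx hxA
  · exact h1

end Cfsg.Agent.CharP.AbelianIndex
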