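import Cfsg.Agent.Lib.CharP.AbelianIndex

/-!
Abelian subgroup of index `p`: how the system acts on the centre, and the complement of the moved part
that is invariant under all automorphism groups of centric radical shapes.
-/

set_option autoImplicit false
set_option linter.unusedSectionVars false
set_option linter.style.haveILetI false

namespace Cfsg.Agent.CharP.AbelianIndex

open Cfsg Cfsg.FusionSystem
open Cfsg.Agent.Fusion.Basic Cfsg.Agent.Fusion.Saturation
open scoped commutatorElement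

variable {Ω : Type*} [Group Ω] {S A P : Subgroup Ω} {p : ℕ}

/-- Non-commutative. -/
def Nab (R : Subgroup Ω) : Prop := ∃ u ∈ R, ∃ v ∈ R, u * v ≠ v * u

theorem Nab.mono {R T : Subgroup Ω} (h : Nab R) (hRT : R ≤ T) : Nab T := by
  obtain ⟨u, hu, v, hv, huv⟩ := h
  exact ⟨u, hRT hu, v, hRT hv, huv⟩

theorem zc_autFun {F : FusionSystem S} {α : MulAut S} (hα : α ∈ F.autGroup S) {z : Ω} (hz : z ∈ zc S) :
    autFun α z ∈ zc S := by
  refine ⟨autFun_mem α hz.1, fun y hy => ?_⟩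
  have hm := isMap_of_mem_autGroup le_rfl hα
  have hy' := autFun_mem α⁻¹ hy
  rw [← autFun_apply_inv α y, ← hm.map_mul hy' hz.1, ← hm.map_mul hz.1 hy', zc_comm hz hy']

theorem derived_autFun {α : MulAut S} {u : Ω} (hu : u ∈ derived S) : autFun α u ∈ derived S := by
  obtain ⟨c, hc, rfl⟩ := hu
  refine ⟨α c, ?_, (autFun_apply α c).symm⟩
  have h1 := Subgroup.characteristic_iff_comap_eq.mp (inferInstance : (commutator ↥S).Characteristic) α
  exact h1.ge hc

/-- Over the centre, a map behaves like an automorphism of `S`. -/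
def Ctrl (F : FusionSystem S) (f : Ω → Ω) (P : Subgroup Ω) : Prop :=
  ∀ R ≤ P, zc S ≤ R → Nab R → ∃ α ∈ F.autGroup S, ∀ z ∈ zc S, f z = autFun α z

variable [Finite S] [hp : Fact p.Prime]

/-- Central elements of a non-abelian subgroup are central in `S`. -/
theorem Config.center_of_nab (h : Config p S A) {R : Subgroup Ω} (hRS : R ≤ S) (hn : Nab R) {c : Ω}
    (hc : c ∈ R) (hcc : ∀ r ∈ R, r * c = c * r) : c ∈ zc S := by
  obtain ⟨u, hu, v, hv, huv⟩ := hn
  obtain ⟨x, hx, hxA⟩ : ∃ x ∈ R, x ∉ A := by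
    by_contra hh
    push Not at hh
    exact huv (h.comm u (hh u hu) v (hh v hv))
  by_cases hcA : c ∈ A
  · exact h.centralizes (hRS hx) hxA hcA (hcc x hx)
  · exfalso
    have key : ∀ r ∈ R, ∃ (i : ℤ) (z : Ω), z ∈ zc S ∧ r = c ^ i * z := by
      intro r hr
      obtain ⟨i, a, ha, rfl⟩ := h.decomp (hRS hc) hcA (hRS hr)
      have haR : a ∈ R := by simpa using R.mul_mem (R.inv_mem (R.zpow_mem hc i)) hr
      exact ⟨i, a, h.centralizes (hRS hc) hcA ha (hcc a haR).symm, rfl⟩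
    obtain ⟨i, z, hz, rfl⟩ := key u hu
    obtain ⟨j, z', hz', rfl⟩ := key v hv
    have c1 : ∀ k : ℤ, Commute (c ^ k) z := fun k => zc_comm hz (S.zpow_mem (hRS hc) k)
    have c2 : ∀ k : ℤ, Commute (c ^ k) z' := fun k => zc_comm hz' (S.zpow_mem (hRS hc) k)
    exact huv ((((Commute.refl c).zpow_zpow i j).mul_right (c2 i)).mul_left
      ((c1 j).symm.mul_right (zc_comm hz' hz.1 : Commute z z'))).eq

/-- The maps that act on the centre like automorphisms of `S`. -/
def ctrlSystem (h : Config p S A) (F : FusionSystem S) : FusionSystem S where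
  Hom P := {φ | φ ∈ F.Hom P ∧ Ctrl F (ext φ) P}
  le_of_mem hm := F.le_of_mem hm.1
  injective_of_mem hm := F.injective_of_mem hm.1
  conj_mem := by
    intro P g hP hg
    refine ⟨F.conj_mem hP hg, fun R hR hZR _ => ⟨1, one_mem _, fun z hz => ?_⟩⟩
    rw [autFun_one, id, ext_of_mem _ (hR (hZR hz))]
    show g * z * g⁻¹ = z
    rw [zc_comm hz hg, mul_inv_cancel_right]
  comp_mem := by
    rintro P Q φ ψ ⟨hφ, hφc⟩ ⟨hψ, hψc⟩ hPQ
    refine ⟨F.comp_mem hφ hψ hPQ, fun R hR hZR hn => ?_⟩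
    obtain ⟨α, hα, hαe⟩ := hφc R hR hZR hn
    have hm := (IsMap.of_hom hφ).restrict hR
    have himg : img (ext φ) R ≤ Q := img_le fun y hy => by rw [ext_of_mem φ (hR hy)]; exact hPQ _
    have hZ : zc S ≤ img (ext φ) R := fun z hz => by
      have h1 := zc_autFun (inv_mem hα) hz
      have h2 := mem_img_self (ext φ) (hZR h1)
      rwa [hαe _ h1, autFun_apply_inv] at h2
    obtain ⟨u, hu, v, hv, huv⟩ := hn
    obtain ⟨γ, hγ, hγe⟩ := hψc _ himg hZ ⟨_, mem_img_self _ hu, _, mem_img_self _ hv, fun e => huv (hm.inj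
      (R.mul_mem hu hv) (R.mul_mem hv hu) (by rw [hm.map_mul hu hv, hm.map_mul hv hu, e]))⟩
    refine ⟨γ * α, mul_mem hγ hα, fun z hz => ?_⟩
    have h1 : ext (ψ.comp (φ.codRestrict Q hPQ)) z = ext ψ (ext φ z) := by
      rw [ext_of_mem _ (hR (hZR hz)), ext_of_mem φ (hR (hZR hz)), ext_of_mem ψ (hPQ _)]
      rfl
    rw [h1, hαe z hz, hγe _ (zc_autFun hα hz), autFun_mul]
  inv_mem := by
    rintro P φ ⟨hφ, hφc⟩
    obtain ⟨ψ, hψ, hψe⟩ := F.inv_mem hφ
    refine ⟨ψ, ⟨hψ, fun R hR hZR hn => ?_⟩, hψe⟩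
    have hg := (IsMap.of_hom hψ).restrict hR
    have hgf : ∀ y ∈ P, ext ψ (ext φ y) = y := fun y hy => by
      rw [ext_of_mem φ hy, ext_of_mem ψ ⟨⟨y, hy⟩, rfl⟩]
      exact hψe ⟨y, hy⟩
    have hback : ∀ r ∈ R, ext ψ r ∈ P ∧ ext φ (ext ψ r) = r := by
      intro r hr
      obtain ⟨⟨y, hy⟩, rfl⟩ := hR hr
      rw [← ext_of_mem φ hy, hgf y hy]
      exact ⟨hy, rfl⟩
    set R₀ := img (ext ψ) R
    have hR₀ : R₀ ≤ P := img_le fun r hr => (hback r hr).1
    obtain ⟨u, hu, v, hv, huv⟩ := hn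
    have hn₀ : Nab R₀ := ⟨_, mem_img_self _ hu, _, mem_img_self _ hv, fun e => huv (hg.inj
      (R.mul_mem hu hv) (R.mul_mem hv hu) (by rw [hg.map_mul hu hv, hg.map_mul hv hu, e]))⟩
    have hRS : R ≤ S := hg.le
    have hsub : ∀ z ∈ zc S, ext ψ z ∈ zc S := fun z hz => h.center_of_nab hg.img_le_S hn₀
      (mem_img_self _ (hZR hz)) fun r hr => by
        obtain ⟨r', hr', rfl⟩ := hg.mem_img.mp hr
        rw [← hg.map_mul hr' (hZR hz), ← hg.map_mul (hZR hz) hr', zc_comm hz (hRS hr')]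
    haveI : Finite (zc S) := finite_of_le (zc_le (S := S))
    have himgZ : img (ext ψ) (zc S) = zc S :=
      eq_of_le_card (img_le hsub) ((hg.restrict hZR).card_img).ge
    have hZR₀ : zc S ≤ R₀ := himgZ.symm.le.trans (img_mono _ hZR)
    obtain ⟨α, hα, hαe⟩ := hφc R₀ hR₀ hZR₀ hn₀
    refine ⟨α⁻¹, inv_mem hα, fun z hz => ?_⟩
    have := hαe _ (hsub z hz)
    rw [(hback z (hZR hz)).2] at this
    conv_rhs => rw [this, autFun_inv_apply]

section

variable {F : FusionSystem S} (h : Config p S A) (hF : F.IsSaturated p)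
include h hF

theorem le_ctrlSystem : F ≤ ctrlSystem h F := by
  refine Fusion.Alperin.le_of_extGroup h.pgrp hF fun P hP hext α hα => ?_
  have hPS := hP.1
  have hm := isMap_of_mem_autGroup hPS hα
  refine (mem_autGroup_iff hPS).2 ⟨hm.hom, ⟨hm.hom_mem_self, fun R hR hZR hn => ?_⟩, fun _ => rfl⟩
  suffices ∃ γ ∈ F.autGroup S, ∀ z ∈ zc S, autFun α z = autFun γ z by
    obtain ⟨γ, hγ, hγe⟩ := this
    exact ⟨γ, hγ, fun z hz => by rw [ext_of_mem _ (hR (hZR hz))]; exact hγe z hz⟩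
  rcases eq_or_lt_of_le hPS with rfl | hlt
  · exact ⟨α, hα, fun _ _ => rfl⟩
  haveI : Finite P := finite_of_le hPS
  have hZP : zc S ≤ P := hZR.trans hR
  have hnP : Nab P := hn.mono hR
  have hkeep : ∀ β ∈ F.autGroup P, ∀ z ∈ zc S, autFun β z ∈ zc S := by
    intro β hβ z hz
    refine h.center_of_nab hPS hnP (autFun_mem β (hZP hz)) fun r hr => ?_
    have hmβ := isMap_of_mem_autGroup hPS hβ
    have hr' := autFun_mem β⁻¹ hr
    rw [← autFun_apply_inv β r, ← hmβ.map_mul hr' (hZP hz), ← hmβ.map_mul (hZP hz) hr', zc_comm hz (hPS hr')]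
  let K : Subgroup (F.autGroup P) :=
    { carrier := {β | ∀ z ∈ zc S, autFun (β : MulAut P) z = z}
      one_mem' := fun z _ => by simp [autFun_one]
      mul_mem' := fun {β γ} hb hc z hz => by rw [Subgroup.coe_mul, autFun_mul, hc z hz, hb z hz]
      inv_mem' := fun {β} hb z hz => by
        conv_lhs => rw [← hb z hz]
        rw [Subgroup.coe_inv, autFun_inv_apply] }
  haveI : K.Normal := ⟨fun β hβ γ z hz => by
    simp only [Subgroup.coe_mul, Subgroup.coe_inv, autFun_mul]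
    have h1 := hkeep _ (inv_mem γ.2) z hz
    rw [hβ _ h1, autFun_apply_inv]⟩
  obtain ⟨-, R₁, hR₁⟩ := fullyNormalized_fullyAutomized h.pgrp hF hP
  have hR₁K : (R₁ : Subgroup (F.autGroup P)) ≤ K := by
    intro β hβ z hz
    rw [hR₁, Subgroup.mem_subgroupOf] at hβ
    obtain ⟨g, hg, he⟩ := mem_autInducedBy_iff'.mp hβ
    rw [he z (hZP hz), cj_apply, zc_comm hz hg.1, mul_inv_cancel_right]
  have htop := Sylow.normalizer_sup_eq_top (R₁.subtype hR₁K)
  have hmap : ((R₁.subtype hR₁K : Sylow p K) : Subgroup K).map K.subtype = (R₁ : Subgroup (F.autGroup P)) := by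
    rw [Sylow.coe_subtype, Subgroup.subgroupOf_map_subtype, inf_eq_left.mpr hR₁K]
  rw [hmap] at htop
  have ha : (⟨α, hα⟩ : F.autGroup P) ∈ ((Subgroup.normalizer ((R₁ : Subgroup (F.autGroup P)) : Set (F.autGroup P)) ⊔ K :
      Subgroup (F.autGroup P)) : Set (F.autGroup P)) := htop ▸ Subgroup.mem_top _
  rw [Subgroup.mul_normal] at ha
  obtain ⟨n, hn', k, hk, hnk⟩ := ha
  -- the normalizing part extends
  have hnm := isMap_of_mem_autGroup hPS n.2
  obtain ⟨θ, hθ, hθe⟩ := exists_extension h.pgrp hF hnm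
    (by rw [autFun_img]; exact fullyNormalized_fullyCentralized h.pgrp hF hP)
  have hN : normalizerIn S P ≤ nSub S P (autFun (n : MulAut P)) := by
    intro g hg
    have hc : (⟨conjAut S P ⟨g, hg⟩, autInducedBy_le hPS (conjAut_range S P ▸ ⟨_, rfl⟩)⟩ : F.autGroup P) ∈
        (R₁ : Subgroup (F.autGroup P)) := by
      rw [hR₁, Subgroup.mem_subgroupOf]
      exact mem_autInducedBy_iff'.mpr ⟨g, hg, fun y hy => conjAut_apply ⟨g, hg⟩ hy⟩
    have hc' := (Subgroup.mem_normalizer_iff.mp hn' _).mp hc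
    rw [hR₁, Subgroup.mem_subgroupOf] at hc'
    obtain ⟨g', hg', he⟩ := mem_autInducedBy_iff'.mp hc'
    refine mem_nSub.mpr ⟨hg.1, hg.2, g', hg'.1, fun y hy => ?_⟩
    have h3 := he _ (autFun_mem (n : MulAut P) hy)
    rw [Subgroup.coe_mul, Subgroup.coe_mul, Subgroup.coe_inv, autFun_mul, autFun_mul, autFun_inv_apply,
      conjAut_apply ⟨g, hg⟩ hy] at h3
    exact h3
  have hext' : (n : MulAut P) ∈ Fusion.Alperin.extGroup F P :=
    Subgroup.subset_closure ⟨_, θ, lt_of_lt_of_le (lt_normalizerIn h.pgrp hlt) hN, hθ, hθe⟩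
  obtain ⟨φ, ⟨-, hφc⟩, hφe⟩ := (mem_autGroup_iff hPS).1 (hext hext')
  obtain ⟨γ, hγ, hγe⟩ := hφc P le_rfl hZP hnP
  refine ⟨γ, hγ, fun z hz => ?_⟩
  have e : α = (n : MulAut P) * (k : MulAut P) := (congrArg Subtype.val hnk).symm
  rw [e, autFun_mul, hk z hz, ← hγe z hz, ext_of_mem φ (hZP hz)]
  exact (hφe ⟨z, hZP hz⟩).symm

/-- A map on a non-abelian subgroup containing the centre acts on it like an automorphism of `S`. -/
theorem exists_on_center {R : Subgroup Ω} {f : Ω → Ω} (hf : IsMap F R f) (hZR : zc S ≤ R) (hn : Nab R) :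
    ∃ α ∈ F.autGroup S, ∀ z ∈ zc S, f z = autFun α z := by
  obtain ⟨α, hα, he⟩ := (le_ctrlSystem h hF R hf.hom_mem_self).2 R le_rfl hZR hn
  exact ⟨α, hα, fun z hz => by rw [← he z hz, ext_of_mem _ (hZR hz)]; rfl⟩

/-- An automorphism of `S` fixing the moved part and moving the centre into it fixes the centre. -/
theorem fix_center {γ : MulAut S} (hγ : γ ∈ F.autGroup S) (hfix : ∀ d ∈ mv S, autFun γ d = d)
    (hmv : ∀ z ∈ zc S, z⁻¹ * autFun γ z ∈ mv S) {z : Ω} (hz : z ∈ zc S) : autFun γ z = z := by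
  let K : Subgroup (F.autGroup S) :=
    { carrier := {β | ∀ z ∈ zc S, autFun (β : MulAut S) z = z}
      one_mem' := fun z _ => by simp [autFun_one]
      mul_mem' := fun {β γ} hb hc z hz => by rw [Subgroup.coe_mul, autFun_mul, hc z hz, hb z hz]
      inv_mem' := fun {β} hb z hz => by
        conv_lhs => rw [← hb z hz]
        rw [Subgroup.coe_inv, autFun_inv_apply] }
  haveI : K.Normal := ⟨fun β hβ γ z hz => by
    simp only [Subgroup.coe_mul, Subgroup.coe_inv, autFun_mul]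
    rw [hβ _ (zc_autFun (inv_mem γ.2) hz), autFun_apply_inv]⟩
  have hn : F.IsFullyNormalized S :=
    ⟨le_rfl, fun Q hQ => le_of_eq (by rw [Fusion.Alperin.eq_top_of_card le_rfl hQ rfl])⟩
  obtain ⟨-, R, hR⟩ := fullyNormalized_fullyAutomized h.pgrp hF hn
  have hRK : (R : Subgroup (F.autGroup S)) ≤ K := by
    intro β hβ z hz
    rw [hR, Subgroup.mem_subgroupOf] at hβ
    obtain ⟨g, hg, he⟩ := mem_autInducedBy_iff'.mp hβ
    rw [he z hz.1, cj_apply, zc_comm hz hg.1, mul_inv_cancel_right]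
  set c : F.autGroup S := ⟨γ, hγ⟩
  have hm := isMap_of_mem_autGroup le_rfl hγ
  have hpow : c ^ p ∈ K := by
    intro y hy
    have key : ∀ k : ℕ, autFun (γ ^ k) y = y * (y⁻¹ * autFun γ y) ^ k := by
      intro k
      induction k with
      | zero => simp [autFun_one]
      | succ k ih =>
        rw [pow_succ', autFun_mul, ih, hm.map_mul hy.1 (S.pow_mem (hmv y hy).1.1 k),
          hfix _ ((mv S).pow_mem (hmv y hy) k), pow_succ', ← mul_assoc y, mul_inv_cancel_left]
    rw [Subgroup.coe_pow, key, h.mv_pow (hmv y hy), mul_one]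
  have h1 : (QuotientGroup.mk' K c) ^ p = 1 := by
    rw [← map_pow]; exact (QuotientGroup.eq_one_iff _).mpr hpow
  have h2 : orderOf (QuotientGroup.mk' K c) ∣ Nat.gcd p K.index :=
    Nat.dvd_gcd (orderOf_dvd_of_pow_eq_one h1) (Subgroup.index_eq_card K ▸ orderOf_dvd_natCard _)
  have h3 : Nat.gcd p K.index = 1 := (hp.out.coprime_iff_not_dvd).mpr fun e =>
    R.not_dvd_index (e.trans (Subgroup.index_dvd_of_le hRK))
  rw [h3, Nat.dvd_one, orderOf_eq_one_iff] at h2
  exact ((QuotientGroup.eq_one_iff c).mp h2) z hz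

end

/-- An automorphism of `S` inverting the moved part. -/
structure Inverter (F : FusionSystem S) (α : MulAut S) : Prop where
  mem : α ∈ F.autGroup S
  inv : ∀ d ∈ mv S, autFun α d = d⁻¹
  move : ∀ z ∈ zc S, z⁻¹ * autFun α z ∈ mv S

section

variable {F : FusionSystem S} (h : Config p S A) (hF : F.IsSaturated p)
include h hF

theorem Inverter.comp_fix {α γ : MulAut S} (hα : Inverter F α) (hγ : Inverter F γ) {z : Ω} (hz : z ∈ zc S) :
    autFun α (autFun γ z) = z := by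
  rw [← autFun_mul]
  have hm := isMap_of_mem_autGroup le_rfl hα.mem
  refine fix_center h hF (mul_mem hα.mem hγ.mem) (fun d hd => ?_) (fun y hy => ?_) hz
  · rw [autFun_mul, hγ.inv d hd, hα.inv _ ((mv S).inv_mem hd), inv_inv]
  · rw [autFun_mul]
    have he : autFun γ y = y * (y⁻¹ * autFun γ y) := by group
    rw [he, hm.map_mul hy.1 (hγ.move y hy).1.1, hα.inv _ (hγ.move y hy), ← mul_assoc]
    exact (mv S).mul_mem (hα.move y hy) ((mv S).inv_mem (hγ.move y hy))

theorem Inverter.agree {α γ : MulAut S} (hα : Inverter F α) (hγ : Inverter F γ) {z : Ω} (hz : z ∈ zc S) :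
    autFun α z = autFun γ z := by
  have h1 := hα.comp_fix h hF hγ (zc_autFun hγ.mem hz)
  rwa [hγ.comp_fix h hF hγ hz] at h1

theorem Inverter.conj {α β : MulAut S} (hα : Inverter F α) (hβ : β ∈ F.autGroup S) :
    Inverter F (β * α * β⁻¹) := by
  have hm := isMap_of_mem_autGroup le_rfl hβ
  have hmv : ∀ {γ : MulAut S}, γ ∈ F.autGroup S → ∀ d ∈ mv S, autFun γ d ∈ mv S :=
    fun hγ d hd => ⟨zc_autFun hγ hd.1, derived_autFun hd.2⟩
  refine ⟨mul_mem (mul_mem hβ hα.mem) (inv_mem hβ), fun d hd => ?_, fun z hz => ?_⟩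
  · rw [autFun_mul, autFun_mul, hα.inv _ (hmv (inv_mem hβ) d hd), hm.map_inv (autFun_mem _ hd.1.1), autFun_apply_inv]
  · have hz' := zc_autFun (inv_mem hβ) hz
    rw [autFun_mul, autFun_mul]
    have he : autFun α (autFun β⁻¹ z) = autFun β⁻¹ z * ((autFun β⁻¹ z)⁻¹ * autFun α (autFun β⁻¹ z)) := by group
    rw [he, hm.map_mul hz'.1 (hα.move _ hz').1.1, autFun_apply_inv, inv_mul_cancel_left]
    exact hmv hβ _ (hα.move _ hz')

variable (hp2 : p ≠ 2) (hP : F.IsEssential p P) (hab : P ⊓ A = zc S) {x : Ω} (hx : x ∈ P) (hxA : x ∉ A)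
include hp2 hP hab hx hxA

/-- An automorphism moving the centre yields an inverter; its fixed points. -/
theorem exists_inverter {β : MulAut P} (hβ : β ∈ F.autGroup P) (hβZ : ∃ z ∈ zc S, autFun β z ∉ zc S) :
    ∃ α, Inverter F α ∧ ∀ z ∈ zc S, (autFun α z = z ↔ z ∈ img (autFun β) (zc S)) := by
  have hPS := hP.1.1
  haveI : Finite P := finite_of_le hPS
  have hZP := zc_le_essential h hP
  have hm := isMap_of_mem_autGroup hPS hβ
  have hcomm : ∀ {u v : Ω}, u ∈ P → v ∈ P → u * v = v * u := fun hu hv => abelian h hP hab hu hv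
  have hcard : Nat.card (mv S) = p := card_mv_abelian h hF hP hab hx hxA
  haveI : Finite (mv S) := finite_of_le (inf_le_left.trans zc_le)
  -- a generator of the moved part
  obtain ⟨⟨d, hd⟩, hd1⟩ : ∃ d : mv S, d ≠ 1 := by
    haveI : Nontrivial (mv S) := Finite.one_lt_card_iff_nontrivial.mp (hcard ▸ hp.out.one_lt)
    exact exists_ne 1
  have hd1' : d ≠ 1 := fun e => hd1 (Subtype.ext e)
  have hgen : ∀ e ∈ mv S, ∃ i : ℤ, d ^ i = e := by
    intro e he
    haveI : Fact p.Prime := hp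
    have h1 : (⟨e, he⟩ : mv S) ∈ Subgroup.zpowers (⟨d, hd⟩ : mv S) :=
      mem_zpowers_of_prime_card hcard hd1
    obtain ⟨i, hi⟩ := h1
    exact ⟨i, congrArg Subtype.val hi⟩
  have hdP := hZP hd.1
  -- the image of the generator and a preimage
  set x' := autFun β d
  have hx'P : x' ∈ P := autFun_mem β hdP
  have hx'Z : x' ∉ zc S := fun e => hd1' (mv_avoid h hF hP hab (inv_mem hβ) (moving_inv h hF hP hab hβ hβZ) hd
    ⟨x', e, autFun_inv_apply β d⟩)
  have hx'A := outside_of_notMem h hP hab hx'P hx'Z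
  set y := autFun β⁻¹ d
  have hyP : y ∈ P := autFun_mem β⁻¹ hdP
  have hyZ : y ∉ zc S := fun e => hd1' (mv_avoid h hF hP hab hβ hβZ hd ⟨y, e, autFun_apply_inv β d⟩)
  have hyA := outside_of_notMem h hP hab hyP hyZ
  obtain ⟨a, ha, hae⟩ := (h.mem_mv (hPS hx'P) hx'A).mp hd
  obtain ⟨a', ha', hae'⟩ := (h.mem_mv (hPS hyP) hyA).mp ((mv S).inv_mem hd)
  have haN := sec_normalizes h hP hab ha
  have haN' := sec_normalizes h hP hab ha'
  set s : MulAut P := conjAut S P ⟨a, haN⟩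
  set s' : MulAut P := conjAut S P ⟨a', haN'⟩
  have hsm : s ∈ F.autGroup P := autInducedBy_le hPS (conjAut_range S P ▸ ⟨_, rfl⟩)
  have hsm' : s' ∈ F.autGroup P := autInducedBy_le hPS (conjAut_range S P ▸ ⟨_, rfl⟩)
  set u := β * s' * β⁻¹ with hu
  have hum : u ∈ F.autGroup P := mul_mem (mul_mem hβ hsm') (inv_mem hβ)
  have hs_z : ∀ z ∈ zc S, autFun s z = z := fun z hz => by
    rw [conjAut_apply ⟨a, haN⟩ (hZP hz), cj_apply, zc_comm hz ha.2.1, mul_inv_cancel_right]
  have hs'_z : ∀ z ∈ zc S, autFun s' z = z := fun z hz => by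
    rw [conjAut_apply ⟨a', haN'⟩ (hZP hz), cj_apply, zc_comm hz ha'.2.1, mul_inv_cancel_right]
  have hs_x : autFun s x' = d * x' := by
    rw [conjAut_apply ⟨a, haN⟩ hx'P, cj_apply, ← hae]; simp only [del]; group
  have hs'_y : autFun s' y = d⁻¹ * y := by
    rw [conjAut_apply ⟨a', haN'⟩ hyP, cj_apply, ← hae']; simp only [del]; group
  have hu_x : autFun u x' = x' := by
    rw [hu, autFun_mul, autFun_mul, autFun_inv_apply, hs'_z d hd.1]
  have hu_d : autFun u d = x'⁻¹ * d := by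
    rw [hu, autFun_mul, autFun_mul, hs'_y, hm.map_mul (P.inv_mem hdP) hyP, hm.map_inv hdP, autFun_apply_inv]
  have hu_w : ∀ w ∈ img (autFun β) (zc S), autFun u w = w := by
    intro w hw
    obtain ⟨z, hz, rfl⟩ := (hm.restrict hZP).mem_img.mp hw
    rw [hu, autFun_mul, autFun_mul, autFun_inv_apply, hs'_z z hz]
  have hsmap := isMap_of_mem_autGroup hPS hsm
  have humap := isMap_of_mem_autGroup hPS hum
  set w₀ := s * u * s with hw₀
  have hw₀m : w₀ ∈ F.autGroup P := mul_mem (mul_mem hsm hum) hsm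
  have hw_d : autFun w₀ d = x'⁻¹ := by
    rw [hw₀, autFun_mul, autFun_mul, hs_z d hd.1, hu_d, hsmap.map_mul (P.inv_mem hx'P) hdP,
      hsmap.map_inv hx'P, hs_x, hs_z d hd.1]
    group
  have hw_x : autFun w₀ x' = d := by
    rw [hw₀, autFun_mul, autFun_mul, hs_x, humap.map_mul hdP hx'P, hu_d, hu_x, hcomm (P.inv_mem hx'P) hdP,
      inv_mul_cancel_right, hs_z d hd.1]
  set t := w₀ * w₀ with ht
  have htm : t ∈ F.autGroup P := mul_mem hw₀m hw₀m
  have htmap := isMap_of_mem_autGroup hPS htm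
  have hwmap := isMap_of_mem_autGroup hPS hw₀m
  have ht_d : autFun t d = d⁻¹ := by
    rw [ht, autFun_mul, hw_d, hwmap.map_inv hx'P, hw_x]
  have ht_x : autFun t x' = x'⁻¹ := by rw [ht, autFun_mul, hw_x, hw_d]
  have ht_e : ∀ e ∈ mv S, autFun t e = e⁻¹ := by
    intro e he
    obtain ⟨i, rfl⟩ := hgen e he
    have h1 : autFun t (d ^ i) = autFun t d ^ i := by
      show autFun t (((⟨d, hdP⟩ : P) ^ i : P) : Ω) = autFun t ((⟨d, hdP⟩ : P) : Ω) ^ i
      rw [autFun_apply, autFun_apply, map_zpow, Subgroup.coe_zpow]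
    rw [h1, ht_d, inv_zpow]
  set W := zc S ⊓ img (autFun β) (zc S)
  have ht_w : ∀ w ∈ W, autFun t w = w := fun w hw => by
    rw [ht, autFun_mul, hw₀]
    simp only [autFun_mul, hs_z w hw.1, hu_w w hw.2]
  -- the centre decomposes
  have hdec : zc S ≤ Subgroup.zpowers d ⊔ W := by
    haveI : Finite (zc S) := finite_of_le (zc_le (S := S))
    set B := Subgroup.zpowers d ⊔ W
    have hB : B ≤ zc S := sup_le (Subgroup.zpowers_le.mpr hd.1) inf_le_left
    have hdW : d ∉ W := fun e => by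
      obtain ⟨z, hz, he⟩ := (hm.restrict hZP).mem_img.mp e.2
      exact hd1' (mv_avoid h hF hP hab hβ hβZ hd ⟨z, hz, he⟩)
    have h1 : W.relIndex (zc S) ≤ p := by
      have hZ' : (img (autFun β) (zc S)).relIndex P = p := by
        haveI : Finite (img (autFun β) (zc S)) := finite_of_le (img_le fun z hz => autFun_mem β (hZP hz))
        have hc1 : Nat.card (img (autFun β) (zc S)) = Nat.card (zc S) := (hm.restrict hZP).card_img
        have e1 := Subgroup.card_mul_index ((img (autFun β) (zc S)).subgroupOf P)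
        have e2 := Subgroup.card_mul_index ((zc S).subgroupOf P)
        rw [Nat.card_congr (Subgroup.subgroupOfEquivOfLe (img_le fun z hz => autFun_mem β (hZP hz))).toEquiv, hc1] at e1
        rw [Nat.card_congr (Subgroup.subgroupOfEquivOfLe hZP).toEquiv] at e2
        have e3 : (zc S).relIndex P = p := by rw [← hab]; exact inter_index h hP hx hxA
        rw [← e3]
        exact Nat.eq_of_mul_eq_mul_left Nat.card_pos (e1.trans e2.symm)
      calc W.relIndex (zc S) = (img (autFun β) (zc S)).relIndex (zc S) := Subgroup.inf_relIndex_left _ _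
        _ ≤ (img (autFun β) (zc S)).relIndex P := Subgroup.relIndex_le_of_le_right hZP (by rw [hZ']; exact hp.out.ne_zero)
        _ = p := hZ'
    have h2 : W.relIndex B * B.relIndex (zc S) = W.relIndex (zc S) :=
      Subgroup.relIndex_mul_relIndex _ _ _ le_sup_right hB
    refine Subgroup.relIndex_eq_one.mp ?_
    haveI : Finite B := finite_of_le hB
    obtain ⟨k, hk⟩ := (h.pgrp.to_le (hB.trans zc_le) : IsPGroup p B).index (W.subgroupOf B)
    have hk0 : k ≠ 0 := fun e => hdW ((Subgroup.relIndex_eq_one.mp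
      (show W.relIndex B = 1 by rw [Subgroup.relIndex, hk, e, pow_zero])) (Subgroup.mem_sup_left (Subgroup.mem_zpowers d)))
    have hge : p ≤ W.relIndex B := by rw [Subgroup.relIndex, hk]; exact Nat.le_self_pow hk0 p
    have hne : B.relIndex (zc S) ≠ 0 := Subgroup.index_ne_zero_of_finite (H := B.subgroupOf (zc S))
    nlinarith [hp.out.two_le, h1, h2, hge, Nat.pos_of_ne_zero hne]
  have hdec' : ∀ z ∈ zc S, ∃ e ∈ mv S, ∃ w ∈ W, z = e * w := by
    intro z hz
    have h1 : z ∈ ((Subgroup.zpowers d ⊔ W : Subgroup Ω) : Set Ω) := hdec hz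
    rw [Subgroup.coe_mul_of_left_le_normalizer_right _ _ (fun v hv => by
      refine Subgroup.centralizer_le_normalizer _ fun w hw => ?_
      exact zc_comm (Subgroup.zpowers_le.mpr hd.1 hv) hw.1.1)] at h1
    obtain ⟨e, he, w, hw, rfl⟩ := h1
    exact ⟨e, Subgroup.zpowers_le.mpr hd he, w, hw, rfl⟩
  have ht_z : ∀ z ∈ zc S, autFun t z ∈ zc S ∧ z⁻¹ * autFun t z ∈ mv S := by
    intro z hz
    obtain ⟨e, he, w, hw, rfl⟩ := hdec' z hz
    rw [htmap.map_mul (hZP he.1) (hZP hw.1), ht_e e he, ht_w w hw]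
    refine ⟨(zc S).mul_mem ((zc S).inv_mem he.1) hw.1, ?_⟩
    have e1 : (e * w)⁻¹ * (e⁻¹ * w) = w⁻¹ * (e⁻¹ * e⁻¹) * w := by group
    rw [e1, zc_comm ((zc S).mul_mem ((zc S).inv_mem he.1) ((zc S).inv_mem he.1)) (S.inv_mem hw.1.1), inv_mul_cancel_right]
    exact (mv S).mul_mem ((mv S).inv_mem he) ((mv S).inv_mem he)
  -- `t` commutes with the action of the normalizer, hence extends
  have hN : normalizerIn S P ≤ nSub S P (autFun t) := by
    intro g hg
    refine mem_nSub.mpr ⟨hg.1, hg.2, g, hg.1, ?_⟩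
    let K : Subgroup Ω :=
      { carrier := {v | v ∈ P ∧ autFun t (g * v * g⁻¹) = g * autFun t v * g⁻¹}
        one_mem' := ⟨P.one_mem, by simp [htmap.map_one]⟩
        mul_mem' := by
          rintro v v' ⟨hv, hve⟩ ⟨hv', hve'⟩
          refine ⟨P.mul_mem hv hv', ?_⟩
          have e : g * (v * v') * g⁻¹ = (g * v * g⁻¹) * (g * v' * g⁻¹) := by group
          rw [e, htmap.map_mul ((Subgroup.mem_normalizer_iff.mp hg.2 v).mp hv)
            ((Subgroup.mem_normalizer_iff.mp hg.2 v').mp hv'), hve, hve', htmap.map_mul hv hv']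
          group
        inv_mem' := by
          rintro v ⟨hv, hve⟩
          refine ⟨P.inv_mem hv, ?_⟩
          have e : g * v⁻¹ * g⁻¹ = (g * v * g⁻¹)⁻¹ := by group
          rw [e, htmap.map_inv ((Subgroup.mem_normalizer_iff.mp hg.2 v).mp hv), hve, htmap.map_inv hv]
          group }
    suffices P ≤ K from fun v hv => (this hv).2
    rw [← sup_eq_of_notMem h hF hP hab hx'P hx'Z]
    refine sup_le (fun z hz => ⟨hZP hz, ?_⟩) (Subgroup.zpowers_le.mpr ⟨hx'P, ?_⟩)
    · rw [zc_comm hz hg.1, mul_inv_cancel_right, zc_comm (ht_z z hz).1 hg.1, mul_inv_cancel_right]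
    · obtain ⟨i, b, hb, rfl⟩ := h.decomp (hPS hx'P) hx'A hg.1
      have hbN : b ∈ normalizerIn S P := ⟨h.le hb, by
        simpa using Subgroup.mul_mem _ (Subgroup.le_normalizer (P.inv_mem (P.zpow_mem hx'P i))) hg.2⟩
      have hbs := del_sec_of_normalizer h hP hab hx'P hx'A hb hbN
      have he : del x' b ∈ mv S := (h.mem_mv (hPS hx'P) hx'A).mpr ⟨b, hbs, rfl⟩
      have e1 : x' ^ i * b * x' * (x' ^ i * b)⁻¹ = del x' b * x' := by
        have : x' ^ i * b * x' * (x' ^ i * b)⁻¹ = (x' ^ i * del x' b * (x' ^ i)⁻¹) * x' := by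
          simp only [del]; group
        rw [this, zc_comm he.1 (S.zpow_mem (hPS hx'P) i), mul_inv_cancel_right]
      rw [e1, htmap.map_mul (hZP he.1) hx'P, ht_e _ he, ht_x]
      have e2 : x' ^ i * b * x'⁻¹ * (x' ^ i * b)⁻¹ = (del x' b * x')⁻¹ := by rw [← e1]; group
      rw [e2, mul_inv_rev, hcomm (P.inv_mem hx'P) (P.inv_mem (hZP he.1))]
  obtain ⟨θ, hθ, hθe⟩ := exists_extension h.pgrp hF htmap
    (by rw [autFun_img]; exact fullyNormalized_fullyCentralized h.pgrp hF hP.2.1)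
  have hθN := hθ.restrict hN
  have hnab : Nab (normalizerIn S P) := ⟨a, haN, x', le_normalizerIn hPS hx'P, fun e => hd1' (by
    rw [← hae]; simp only [del]; rw [e, mul_inv_cancel_right, mul_inv_cancel])⟩
  obtain ⟨α, hα, hαe⟩ := exists_on_center h hF hθN (hZP.trans (le_normalizerIn hPS)) hnab
  have hval : ∀ z ∈ zc S, autFun α z = autFun t z := fun z hz => by rw [← hαe z hz, hθe z (hZP hz)]
  refine ⟨α, ⟨hα, fun e he => (hval e he.1).trans (ht_e e he), fun z hz => hval z hz ▸ (ht_z z hz).2⟩,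
    fun z hz => ⟨fun hfix => ?_, fun hw => (hval z hz).trans (ht_w z ⟨hz, hw⟩)⟩⟩
  obtain ⟨e, he, w, hw, rfl⟩ := hdec' z hz
  rw [hval _ hz, htmap.map_mul (hZP he.1) (hZP hw.1), ht_e e he, ht_w w hw, mul_left_inj] at hfix
  have h2 : e ^ 2 = 1 := by rw [pow_two]; nth_rewrite 1 [← hfix]; exact inv_mul_cancel e
  have h1 : e = 1 := by
    have hd : orderOf e ∣ Nat.gcd 2 p := Nat.dvd_gcd (orderOf_dvd_of_pow_eq_one h2) (orderOf_dvd_of_pow_eq_one (h.mv_pow he))
    have hg : Nat.gcd 2 p = 1 := (Nat.coprime_primes Nat.prime_two hp.out).mpr hp2.symm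
    rw [hg, Nat.dvd_one, orderOf_eq_one_iff] at hd
    exact hd
  rw [h1, one_mul]
  exact hw.2

end

end Cfsg.Agent.CharP.AbelianIndex
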