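import Cfsg.Agent.Lib.CharP.CharP
import Cfsg.Agent.Lib.CharP.PReduced
import Cfsg.Agent.Lib.CharP.SubnormalResidual
import Cfsg.Agent.Lib.Coprime.Generation

/-!
A variant of the `A × B` lemma, and subgroups normalized by `O_p(G)` in characteristic `p`.
-/

set_option autoImplicit false

namespace Cfsg.Agent.CharP

open Subgroup
open scoped commutatorElement

variable {G : Type*} [Group G] [Finite G] {p : ℕ} [hp : Fact p.Prime]

omit hp in
theorem coprime_card_of_not_dvd [Fact p.Prime] {B : Subgroup G} (hB : ¬ p ∣ Nat.card ↥B) :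
    (Nat.card ↥B).Coprime p :=
  ((Fact.out : p.Prime).coprime_iff_not_dvd.2 hB).symm

/-- If `A × B` acts on the `p`-group `P` (`A` a `p`-group, `B` a `p'`-group) and
`[P,B] ≤ [P,A]` then `[P,B] = 1`. -/
theorem commutator_eq_bot_of_le_commutator {P A B : Subgroup G} (hP : IsPGroup p ↥P)
    (hA : IsPGroup p ↥A) (hB : (Nat.card ↥B).Coprime p) (hnA : A ≤ normalizer (P : Set G))
    (hnB : B ≤ normalizer (P : Set G)) (hAB : A ≤ centralizer (B : Set G))
    (hcomm : ⁅P, B⁆ ≤ ⁅P, A⁆) : ⁅P, B⁆ = ⊥ := by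
  by_contra hne
  set V := ⁅P, B⁆
  have hVP : V ≤ P := Coprime.commutator_le_of_le_normalizer hnB
  have hPV : P ≤ normalizer (V : Set G) := normalizer_commutator_ge_left P B
  have hBV : B ≤ normalizer (V : Set G) := normalizer_commutator_ge_right P B
  have hAV : A ≤ normalizer (V : Set G) := fun a ha => by
    rw [mem_normalizer_iff_map_conj_eq, map_commutator,
      mem_normalizer_iff_map_conj_eq.1 (hnA ha),
      mem_normalizer_iff_map_conj_eq.1 (centralizer_le_normalizer _ (hAB ha))]
  have hAJ : (A : Subgroup G) ≤ P ⊔ A := le_sup_right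
  haveI hJn : Group.IsNilpotent ↥(P ⊔ A) := by
    rw [sup_comm]
    exact (IsPGroup.to_sup_of_normal_right' hA hP hnA).isNilpotent
  have hVJ : V ≤ P ⊔ A := hVP.trans le_sup_left
  have hlt : ⁅V, P ⊔ A⁆ < V :=
    Coprime.commutator_lt_of_isNilpotent hVJ hne (sup_le hPV hAV)
  set U := ⁅V, P ⊔ A⁆
  have hPU : P ≤ normalizer (U : Set G) :=
    le_sup_left.trans (normalizer_commutator_ge_right V (P ⊔ A))
  have hAU : A ≤ normalizer (U : Set G) :=
    le_sup_right.trans (normalizer_commutator_ge_right V (P ⊔ A))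
  -- elements of `P` whose commutators with `B` lie in `U`
  have key : ∀ b ∈ B, ∀ v ∈ V, ⁅v, b⁆ ∈ U := by
    intro b hb
    let S : Subgroup G :=
      { carrier := {x | x ∈ P ∧ ⁅x, b⁆ ∈ U}
        one_mem' := ⟨one_mem _, by simp⟩
        mul_mem' := fun {x y} hx hy => ⟨mul_mem hx.1 hy.1, by
          rw [commutatorElement_mul_left_eq_conj_mul]
          exact mul_mem ((mem_normalizer_iff.1 (hPU hx.1) _).1 hy.2) hx.2⟩
        inv_mem' := fun {x} hx => ⟨inv_mem hx.1, by
          have e : ⁅x⁻¹, b⁆ = x⁻¹ * ⁅x, b⁆⁻¹ * x⁻¹⁻¹ := by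
            simp only [commutatorElement_def]; group
          rw [e]
          exact (mem_normalizer_iff.1 (hPU (inv_mem hx.1)) _).1 (inv_mem hx.2)⟩ }
    have hS : ⁅P, A⁆ ≤ S := commutator_le.2 fun x hx a ha => by
      refine ⟨Coprime.commutator_le_of_le_normalizer hnA (commutator_mem_commutator hx ha), ?_⟩
      have hab : a * b = b * a := (mem_centralizer_iff.1 (hAB ha) b hb).symm
      have hab' : b * a⁻¹ = a⁻¹ * b :=
        (Commute.inv_left (show Commute a b from hab)).eq.symm
      have hab'' : a⁻¹ * b⁻¹ = b⁻¹ * a⁻¹ := by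
        rw [← mul_inv_rev, ← mul_inv_rev, hab]
      have hw : ⁅x, b⁆ ∈ V := commutator_mem_commutator hx hb
      have hg : x * a * x⁻¹ ∈ P ⊔ A :=
        mul_mem (mul_mem (mem_sup_left hx) (mem_sup_right ha)) (inv_mem (mem_sup_left hx))
      have h1 : ⁅⁅x, b⁆⁻¹, x * a * x⁻¹⁆ ∈ U := commutator_mem_commutator (inv_mem hw) hg
      have e : ⁅⁅x, a⁆, b⁆ = ⁅⁅x, b⁆⁻¹, x * a * x⁻¹⁆⁻¹ := by
        have e1 : a⁻¹ * b * a = b := by
          rw [mul_assoc, ← hab, inv_mul_cancel_left]
        have e2 : b⁻¹ * a⁻¹ * b = a⁻¹ := by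
          rw [← mul_inv_rev, inv_mul_eq_iff_eq_mul, hab, mul_inv_cancel_right]
        have h3 : ⁅⁅x, a⁆, b⁆ = x * a * x⁻¹ * (a⁻¹ * b * a) * x * a⁻¹ * x⁻¹ * b⁻¹ := by
          simp only [commutatorElement_def]; group
        have h4 : ⁅⁅x, b⁆⁻¹, x * a * x⁻¹⁆⁻¹ =
            x * a * x⁻¹ * b * x * (b⁻¹ * a⁻¹ * b) * x⁻¹ * b⁻¹ := by
          simp only [commutatorElement_def]; group
        rw [h3, h4, e1, e2]
      rw [e]
      exact inv_mem h1
    exact fun v hv => (hS (hcomm hv)).2
  have hcop : (Nat.card B).Coprime (Nat.card P) := by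
    obtain ⟨n, hn⟩ := IsPGroup.iff_card.1 hP
    rw [hn]
    exact hB.pow_right n
  have hVB : ⁅V, B⁆ = V :=
    Coprime.commutator_commutator_eq hnB hcop (Or.inr (by
      haveI := hP.isNilpotent; infer_instance))
  exact hlt.not_ge (hVB.ge.trans (commutator_le.2 fun v hv b hb => key b hb v hv))

/-- A noncyclic abelian `U` acting coprimely: subgroups centralized by `C_R(u)`. -/
theorem le_centralizer_of_forall_fixed {U R E : Subgroup G} [IsMulCommutative U]
    (hnc : ¬ IsCyclic ↥U) (hRU : U ≤ normalizer (R : Set G))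
    (hcop : (Nat.card U).Coprime (Nat.card R))
    (h : ∀ u ∈ U, u ≠ 1 → R ⊓ centralizer {u} ≤ centralizer (E : Set G)) :
    R ≤ centralizer (E : Set G) := by
  rw [← Coprime.fixedGen_eq hnc hRU hcop]
  exact iSup₂_le fun u hu => h u hu.1 hu.2

theorem le_of_fixedGen {U R N : Subgroup G} [IsMulCommutative U]
    (hnc : ¬ IsCyclic ↥U) (hRU : U ≤ normalizer (R : Set G))
    (hcop : (Nat.card U).Coprime (Nat.card R))
    (h : ∀ u ∈ U, u ≠ 1 → R ⊓ centralizer {u} ≤ N) : R ≤ N := by
  rw [← Coprime.fixedGen_eq hnc hRU hcop]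
  exact iSup₂_le fun u hu => h u hu.1 hu.2

omit hp in
theorem centralizer_zpowers' (u : G) :
    centralizer ((zpowers u : Subgroup G) : Set G) = centralizer ({u} : Set G) := by
  refine le_antisymm (centralizer_le (Set.singleton_subset_iff.2 (mem_zpowers u))) ?_
  intro c hc
  rintro _ ⟨i, rfl⟩
  exact ((Commute.zpow_right (show Commute c u from
    mem_centralizer_singleton_iff.1 hc) i).eq).symm

/-- A subgroup containing `O_p(G)` has characteristic `p`. -/
theorem isCharP_of_pCore_le (hG : centralizer (Cfsg.pCore p G : Set G) ≤ Cfsg.pCore p G)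
    {H : Subgroup G} (hH : Cfsg.pCore p G ≤ H) : IsCharP p H := by
  have h : Cfsg.pCore p G ≤ Cfsg.pCoreOf p H :=
    le_pCoreOf hH le_normalizer_of_normal (isPGroup_pCore p G)
  exact (inf_le_right.trans (centralizer_le (SetLike.coe_subset_coe.2 h))).trans (hG.trans h)

/-- A subgroup normalized by `O_p(G)` has characteristic `p`. -/
theorem isCharP_of_le_normalizer (hG : centralizer (Cfsg.pCore p G : Set G) ≤ Cfsg.pCore p G)
    {L : Subgroup G} (hL : Cfsg.pCore p G ≤ normalizer (L : Set G)) : IsCharP p L :=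
  isCharP_of_normal (isCharP_of_pCore_le hG (le_sup_right : Cfsg.pCore p G ≤ L ⊔ Cfsg.pCore p G))
    le_sup_left (sup_le le_normalizer hL)

/-- `C_T(Q) ≤ Q ⊴ T` gives `C_G(Q) ≤ Q`. -/
theorem centralizer_le_of_inf_le (hG : centralizer (Cfsg.pCore p G : Set G) ≤ Cfsg.pCore p G)
    (T : Sylow p G) {Q : Subgroup G} (hQT : Q ≤ (T : Subgroup G))
    (hQn : (T : Subgroup G) ≤ normalizer (Q : Set G))
    (hC : (T : Subgroup G) ⊓ centralizer (Q : Set G) ≤ Q) :
    centralizer (Q : Set G) ≤ Q := by
  set O := Cfsg.pCore p G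
  have hOT : O ≤ (T : Subgroup G) := Cores.pCore_le_sylow T
  have hp' : IsPGroup p ↥(centralizer (Q : Set G)) :=
    isPGroup_of_forall_coprime fun y hy hcop => by
      have hyO : zpowers y ≤ centralizer (O : Set G) := by
        refine Coprime.le_centralizer_of_pxq (T.2.to_le hQT) (Q := zpowers y)
          (by rwa [Nat.card_zpowers]) (isPGroup_pCore p G)
          (le_centralizer_iff.1 (zpowers_le.2 hy)) le_normalizer_of_normal
          le_normalizer_of_normal ?_
        exact ((inf_le_inf_right _ hOT).trans hC).trans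
          (le_centralizer_iff.1 (zpowers_le.2 hy))
      exact eq_one_of_mem_pgroup (isPGroup_pCore p G) (hG (hyO (mem_zpowers y))) hcop
  refine le_trans ?_ hC
  exact le_inf (le_sylow_of_le_normalizer T hp'
    (hQn.trans (normalizer_le_normalizer_centralizer Q))) le_rfl

/-- Every overgroup of a self-centralizing normal subgroup of a Sylow subgroup has characteristic
`p`. -/
theorem isCharP_of_ge (hG : centralizer (Cfsg.pCore p G : Set G) ≤ Cfsg.pCore p G)
    (T : Sylow p G) {Q : Subgroup G} (hQT : Q ≤ (T : Subgroup G))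
    (hQn : (T : Subgroup G) ≤ normalizer (Q : Set G))
    (hC : (T : Subgroup G) ⊓ centralizer (Q : Set G) ≤ Q) {L : Subgroup G} (hQL : Q ≤ L) :
    IsCharP p L := by
  set O := Cfsg.pCore p G
  have hOT : O ≤ (T : Subgroup G) := Cores.pCore_le_sylow T
  set O1 := O ⊓ L
  have hO1n : L ≤ normalizer (O1 : Set G) :=
    (le_inf le_normalizer_of_normal le_normalizer).trans inf_normalizer_le_normalizer_inf
  set R := Cfsg.pCoreOf p L
  have hO1R : O1 ≤ R := le_pCoreOf inf_le_right hO1n ((isPGroup_pCore p G).to_le inf_le_left)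
  have hOmem : ∀ g x : G, x ∈ O → g * x * g⁻¹ ∈ O := fun g x hx =>
    (inferInstance : O.Normal).conj_mem x hx g
  let L1 : Subgroup G :=
    { carrier := {l | l ∈ L ∧ ∀ x ∈ O, l * x * l⁻¹ * x⁻¹ ∈ O1}
      one_mem' := ⟨one_mem _, fun x _ => by simp⟩
      mul_mem' := fun {a b} ha hb => ⟨mul_mem ha.1 hb.1, fun x hx => by
        have h := mul_mem (ha.2 _ (hOmem b x hx)) (hb.2 x hx)
        convert h using 1
        group⟩
      inv_mem' := fun {a} ha => ⟨inv_mem ha.1, fun x hx => by
        have h := inv_mem (ha.2 _ (hOmem a⁻¹ x hx))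
        convert h using 1
        group⟩ }
  have hL1n : L ≤ normalizer (L1 : Set G) := le_normalizer_iff.2 fun g hg l hl =>
    ⟨mul_mem (mul_mem hg hl.1) (inv_mem hg), fun x hx => by
      have h := (mem_normalizer_iff.1 (hO1n hg) _).1 (hl.2 _ (hOmem g⁻¹ x hx))
      convert h using 1
      group⟩
  have hQL1 : Q ≤ L1 := fun q hq => ⟨hQL hq, fun x hx => by
    refine ⟨O.mul_mem (hOmem q x hx) (O.inv_mem hx), ?_⟩
    have h1 : x * q⁻¹ * x⁻¹ ∈ Q := (mem_normalizer_iff.1 (hQn (hOT hx)) _).1 (inv_mem hq)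
    have := mul_mem hq h1
    simpa [mul_assoc] using hQL this⟩
  set D := L ⊓ centralizer (R : Set G)
  have hDn : L ≤ normalizer (D : Set G) :=
    (le_inf le_normalizer ((le_normalizer_pCoreOf p L).trans
      (normalizer_le_normalizer_centralizer R))).trans inf_normalizer_le_normalizer_inf
  have hD1 : D ⊓ L1 ≤ R := by
    refine le_pCoreOf (inf_le_left.trans inf_le_left)
      ((le_inf hDn hL1n).trans inf_normalizer_le_normalizer_inf)
      (isPGroup_of_forall_coprime fun z hz hcop => ?_)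
    have hzc : z ∈ centralizer (O : Set G) := by
      refine Coprime.le_centralizer_of_commutator_commutator_eq_bot (A := zpowers z)
        le_normalizer_of_normal (coprime_zpowers_of_isPGroup (isPGroup_pCore p G) hcop)
        (Or.inl inferInstance) ?_ (mem_zpowers z)
      rw [Coprime.commutator_eq_bot_iff_le_centralizer']
      refine le_trans ?_ (centralizer_le (s := ((⁅O, zpowers z⁆ : Subgroup G) : Set G))
        (t := (O1 : Set G)) (SetLike.coe_subset_coe.2 ?_))
      · exact zpowers_le.2 (centralizer_le (SetLike.coe_subset_coe.2 hO1R) hz.1.2)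
      · refine commutator_le.2 fun x hx w hw => ?_
        obtain ⟨i, rfl⟩ := hw
        rw [← commutatorElement_inv]
        refine inv_mem ?_
        rw [commutatorElement_def]
        exact (L1.zpow_mem hz.2 i).2 x hx
    exact eq_one_of_mem_pgroup (isPGroup_pCore p G) (hG hzc) hcop
  refine le_pCoreOf inf_le_left hDn (isPGroup_of_forall_coprime fun y hy hcop => ?_)
  have hyQ : y ∈ centralizer (Q : Set G) := fun q hq => by
    set c := ⁅y, q⁆ with hc
    have hcR : c ∈ R := hD1 ⟨by
        rw [hc, commutatorElement_def, mul_assoc, mul_assoc]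
        refine mul_mem hy ?_
        rw [← mul_assoc]
        exact (mem_normalizer_iff.1 (hDn (hQL hq)) _).1 (inv_mem hy),
      L1.mul_mem ((mem_normalizer_iff.1 (hL1n hy.1) q).1 (hQL1 hq)) (L1.inv_mem (hQL1 hq))⟩
    have hcy : c * y = y * c := mem_centralizer_iff.1 hy.2 c hcR
    have hyq : y * q = c * q * y := by rw [hc, commutatorElement_def]; group
    have hn : ∀ n : ℕ, y ^ n * q = c ^ n * q * y ^ n := by
      intro n
      induction n with
      | zero => simp
      | succ n ih =>
        calc y ^ (n + 1) * q = y * (y ^ n * q) := by rw [pow_succ', mul_assoc]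
          _ = y * c ^ n * q * y ^ n := by rw [ih]; simp only [mul_assoc]
          _ = c ^ n * (y * q) * y ^ n := by
            rw [← ((Commute.pow_left (show Commute c y from hcy) n).eq)]; simp only [mul_assoc]
          _ = c ^ (n + 1) * q * y ^ (n + 1) := by
            rw [hyq, pow_succ c, pow_succ' y]; simp only [mul_assoc]
    have h1 : c ^ orderOf y = 1 := by
      have := hn (orderOf y)
      rw [pow_orderOf_eq_one, one_mul, mul_one] at this
      exact mul_eq_right.1 this.symm
    have h2 : c = 1 := eq_one_of_mem_pgroup (isPGroup_pCoreOf p L) hcR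
      (hcop.coprime_dvd_left (orderOf_dvd_of_pow_eq_one h1))
    rw [h2, one_mul] at hyq
    exact hyq.symm
  exact eq_one_of_mem_pgroup (T.2.to_le hQT) (centralizer_le_of_inf_le hG T hQT hQn hC hyQ) hcop

end Cfsg.Agent.CharP
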