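import Mathlib
import Cfsg.Prelude.Def_Amalgam
import Cfsg.Agent.Lib.CharP.Sylow

/-!
The coset graph of two subgroups: connectivity, stabilisers, the basic lemmas on amalgam pairs.
-/

set_option autoImplicit false

namespace Cfsg.Agent.CharP

open Subgroup

variable {X : Type*} [Group X] {M₁ M₂ : Subgroup X}

theorem cg_adj_iff {a b : Cfsg.CosetVertex M₁ M₂} :
    (Cfsg.cosetGraph M₁ M₂).Adj a b ↔
      (∃ x : X, a = Sum.inl (x : X ⧸ M₁) ∧ b = Sum.inr (x : X ⧸ M₂)) ∨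
        (∃ x : X, b = Sum.inl (x : X ⧸ M₁) ∧ a = Sum.inr (x : X ⧸ M₂)) := by
  constructor
  · rintro ⟨_, h⟩
    exact h
  · intro h
    refine ⟨?_, h⟩
    rcases h with ⟨x, rfl, rfl⟩ | ⟨x, rfl, rfl⟩ <;> simp

theorem cg_adj_lr (x : X) :
    (Cfsg.cosetGraph M₁ M₂).Adj (Sum.inl (x : X ⧸ M₁)) (Sum.inr (x : X ⧸ M₂)) :=
  cg_adj_iff.2 (Or.inl ⟨x, rfl, rfl⟩)

theorem cg_adj_smul {a b : Cfsg.CosetVertex M₁ M₂} (g : X)
    (h : (Cfsg.cosetGraph M₁ M₂).Adj a b) : (Cfsg.cosetGraph M₁ M₂).Adj (g • a) (g • b) := by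
  rcases cg_adj_iff.1 h with ⟨x, rfl, rfl⟩ | ⟨x, rfl, rfl⟩
  · exact cg_adj_lr (g * x)
  · exact (cg_adj_lr (g * x)).symm

/-- Translation by a group element, as a graph homomorphism. -/
def cgSmulHom (g : X) : Cfsg.cosetGraph M₁ M₂ →g Cfsg.cosetGraph M₁ M₂ :=
  ⟨fun a => g • a, fun h => cg_adj_smul g h⟩

theorem cg_reachable_smul {a b : Cfsg.CosetVertex M₁ M₂} (g : X)
    (h : (Cfsg.cosetGraph M₁ M₂).Reachable a b) :
    (Cfsg.cosetGraph M₁ M₂).Reachable (g • a) (g • b) :=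
  h.map (cgSmulHom g)

theorem cg_connected (hgen : M₁ ⊔ M₂ = ⊤) : (Cfsg.cosetGraph M₁ M₂).Connected := by
  let o : Cfsg.CosetVertex M₁ M₂ := Sum.inl ((1 : X) : X ⧸ M₁)
  let H : Subgroup X :=
    { carrier := {g | (Cfsg.cosetGraph M₁ M₂).Reachable o (g • o)}
      one_mem' := by
        show (Cfsg.cosetGraph M₁ M₂).Reachable o ((1 : X) • o)
        rw [one_smul]
      mul_mem' := by
        intro g h hg hh
        show (Cfsg.cosetGraph M₁ M₂).Reachable o ((g * h) • o)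
        rw [mul_smul]
        exact SimpleGraph.Reachable.trans hg (cg_reachable_smul g hh)
      inv_mem' := by
        intro g hg
        show (Cfsg.cosetGraph M₁ M₂).Reachable o (g⁻¹ • o)
        have := cg_reachable_smul g⁻¹ hg
        rw [inv_smul_smul] at this
        exact this.symm }
  have h1 : M₁ ≤ H := by
    intro m hm
    show (Cfsg.cosetGraph M₁ M₂).Reachable o (m • o)
    have : m • o = o := congrArg Sum.inl (QuotientGroup.eq.2 (by simpa using inv_mem hm))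
    rw [this]
  have h2 : M₂ ≤ H := by
    intro m hm
    show (Cfsg.cosetGraph M₁ M₂).Reachable o (m • o)
    have e1 := (cg_adj_lr (M₁ := M₁) (M₂ := M₂) (1 : X)).reachable
    have e2 := (cg_adj_lr (M₁ := M₁) (M₂ := M₂) m).reachable
    have : ((m : X) : X ⧸ M₂) = ((1 : X) : X ⧸ M₂) :=
      QuotientGroup.eq.2 (by simpa using inv_mem hm)
    rw [this] at e2
    have e3 : m • o = Sum.inl ((m : X) : X ⧸ M₁) :=
      congrArg Sum.inl (congrArg (QuotientGroup.mk (s := M₁)) (mul_one m))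
    rw [e3]
    exact e1.trans e2.symm
  have hall : ∀ g : X, (Cfsg.cosetGraph M₁ M₂).Reachable o (Sum.inl (g : X ⧸ M₁)) := fun g => by
    have hg : g ∈ H := (hgen ▸ sup_le h1 h2 : (⊤ : Subgroup X) ≤ H) (mem_top g)
    have e3 : g • o = Sum.inl ((g : X) : X ⧸ M₁) :=
      congrArg Sum.inl (congrArg (QuotientGroup.mk (s := M₁)) (mul_one g))
    rw [← e3]
    exact hg
  have hv : ∀ v : Cfsg.CosetVertex M₁ M₂, (Cfsg.cosetGraph M₁ M₂).Reachable o v := by
    rintro (a | b)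
    · obtain ⟨g, rfl⟩ := QuotientGroup.mk_surjective a
      exact hall g
    · obtain ⟨g, rfl⟩ := QuotientGroup.mk_surjective b
      exact (hall g).trans (cg_adj_lr g).reachable
  have : Nonempty (Cfsg.CosetVertex M₁ M₂) := ⟨o⟩
  exact ⟨fun u v => (hv u).symm.trans (hv v)⟩

theorem mem_conj_map_iff {H : Subgroup X} {x g : X} :
    g ∈ H.map (MulAut.conj x).toMonoidHom ↔ x⁻¹ * g * x ∈ H := by
  constructor
  · rintro ⟨y, hy, rfl⟩
    simpa [mul_assoc] using hy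
  · intro h
    exact ⟨_, h, by simp [mul_assoc]⟩

theorem cg_stab_inl (x : X) :
    MulAction.stabilizer X (Sum.inl (x : X ⧸ M₁) : Cfsg.CosetVertex M₁ M₂) =
      M₁.map (MulAut.conj x).toMonoidHom := by
  ext g
  rw [MulAction.mem_stabilizer_iff, mem_conj_map_iff]
  show (Sum.inl (((g * x : X)) : X ⧸ M₁) : Cfsg.CosetVertex M₁ M₂) = _ ↔ _
  rw [Sum.inl.injEq, eq_comm, QuotientGroup.eq, ← mul_assoc]

theorem cg_stab_inr (x : X) :
    MulAction.stabilizer X (Sum.inr (x : X ⧸ M₂) : Cfsg.CosetVertex M₁ M₂) =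
      M₂.map (MulAut.conj x).toMonoidHom := by
  ext g
  rw [MulAction.mem_stabilizer_iff, mem_conj_map_iff]
  show (Sum.inr (((g * x : X)) : X ⧸ M₂) : Cfsg.CosetVertex M₁ M₂) = _ ↔ _
  rw [Sum.inr.injEq, eq_comm, QuotientGroup.eq, ← mul_assoc]

theorem cg_edge (x : X) :
    Cfsg.edgeStabilizer (Sum.inl (x : X ⧸ M₁) : Cfsg.CosetVertex M₁ M₂) (Sum.inr (x : X ⧸ M₂)) =
      (M₁ ⊓ M₂).map (MulAut.conj x).toMonoidHom := by
  rw [Cfsg.edgeStabilizer, cg_stab_inl, cg_stab_inr]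
  exact (map_inf M₁ M₂ _ (MulAut.conj x).injective).symm

theorem cg_exists_neighbour (δ : Cfsg.CosetVertex M₁ M₂) :
    ∃ μ, (Cfsg.cosetGraph M₁ M₂).Adj δ μ := by
  rcases δ with a | b
  · obtain ⟨x, rfl⟩ := QuotientGroup.mk_surjective a
    exact ⟨_, cg_adj_lr x⟩
  · obtain ⟨x, rfl⟩ := QuotientGroup.mk_surjective b
    exact ⟨_, (cg_adj_lr x).symm⟩

theorem cg_transitive {δ μ μ' : Cfsg.CosetVertex M₁ M₂}
    (h : (Cfsg.cosetGraph M₁ M₂).Adj δ μ) (h' : (Cfsg.cosetGraph M₁ M₂).Adj δ μ') :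
    ∃ g ∈ MulAction.stabilizer X δ, g • μ = μ' := by
  rcases cg_adj_iff.1 h with ⟨x, rfl, rfl⟩ | ⟨x, rfl, rfl⟩ <;>
    rcases cg_adj_iff.1 h' with ⟨y, hy, hy'⟩ | ⟨y, hy, hy'⟩
  · subst hy'
    refine ⟨y * x⁻¹, MulAction.mem_stabilizer_iff.2 ?_, congrArg Sum.inr ?_⟩
    · show (Sum.inl (((y * x⁻¹ * x : X)) : X ⧸ M₁) : Cfsg.CosetVertex M₁ M₂) = _
      rw [inv_mul_cancel_right]
      exact hy.symm
    · show (((y * x⁻¹ * x : X)) : X ⧸ M₂) = _
      rw [inv_mul_cancel_right]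
  · exact absurd hy' (by simp)
  · exact absurd hy (by simp)
  · subst hy
    refine ⟨y * x⁻¹, MulAction.mem_stabilizer_iff.2 ?_, congrArg Sum.inl ?_⟩
    · show (Sum.inr (((y * x⁻¹ * x : X)) : X ⧸ M₂) : Cfsg.CosetVertex M₁ M₂) = _
      rw [inv_mul_cancel_right]
      exact hy'.symm
    · show (((y * x⁻¹ * x : X)) : X ⧸ M₁) = _
      rw [inv_mul_cancel_right]

theorem cg_faithful (h : ∀ N : Subgroup X, N ≤ M₁ ⊓ M₂ → N.Normal → N = ⊥) :
    Function.Injective (MulAction.toPermHom X (Cfsg.CosetVertex M₁ M₂)) := by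
  rw [← MonoidHom.ker_eq_bot_iff]
  refine h _ (fun g hg => ?_) inferInstance
  rw [MonoidHom.mem_ker] at hg
  have hfix : ∀ v : Cfsg.CosetVertex M₁ M₂, g • v = v := fun v =>
    congrArg (fun σ : Equiv.Perm (Cfsg.CosetVertex M₁ M₂) => σ v) hg
  constructor
  · have := MulAction.mem_stabilizer_iff.2 (hfix (Sum.inl ((1 : X) : X ⧸ M₁)))
    rwa [cg_stab_inl, conj_map_one] at this
  · have := MulAction.mem_stabilizer_iff.2 (hfix (Sum.inr ((1 : X) : X ⧸ M₂)))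
    rwa [cg_stab_inr, conj_map_one] at this

/-- A subgroup fixing an edge whose normaliser is transitive at both ends is trivial. -/
theorem eq_bot_of_transitive (h : Cfsg.IsAmalgamPair M₁ M₂) {δ μ : Cfsg.CosetVertex M₁ M₂}
    (hμ : (Cfsg.cosetGraph M₁ M₂).Adj δ μ) {T : Subgroup X}
    (hT : T ≤ Cfsg.edgeStabilizer δ μ)
    (hδ : ∀ ν, (Cfsg.cosetGraph M₁ M₂).Adj δ ν →
      ∃ g ∈ normalizer (T : Set X) ⊓ MulAction.stabilizer X δ, g • μ = ν)
    (hμ' : ∀ ν, (Cfsg.cosetGraph M₁ M₂).Adj μ ν →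
      ∃ g ∈ normalizer (T : Set X) ⊓ MulAction.stabilizer X μ, g • δ = ν) : T = ⊥ := by
  let Good : Cfsg.CosetVertex M₁ M₂ → Prop :=
    fun v => ∃ g ∈ normalizer (T : Set X), g • δ = v ∨ g • μ = v
  have hclosed : ∀ v w, Good v → (Cfsg.cosetGraph M₁ M₂).Adj v w → Good w := by
    rintro v w ⟨g, hg, hv | hv⟩ hvw <;> subst hv <;> have h1 := cg_adj_smul g⁻¹ hvw <;>
      rw [inv_smul_smul] at h1
    · obtain ⟨k, ⟨hk, -⟩, hkν⟩ := hδ _ h1
      refine ⟨g * k, mul_mem hg hk, Or.inr ?_⟩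
      rw [mul_smul, hkν, smul_inv_smul]
    · obtain ⟨k, ⟨hk, -⟩, hkν⟩ := hμ' _ h1
      refine ⟨g * k, mul_mem hg hk, Or.inl ?_⟩
      rw [mul_smul, hkν, smul_inv_smul]
  have hwalk : ∀ {a b : Cfsg.CosetVertex M₁ M₂}, (Cfsg.cosetGraph M₁ M₂).Walk a b →
      Good a → Good b := by
    intro a b w
    induction w with
    | nil => exact id
    | cons hadj _ ih => exact fun ha => ih (hclosed _ _ ha hadj)
  have hall : ∀ v, Good v := fun v => by
    obtain ⟨w⟩ := (cg_connected h.1).preconnected δ v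
    exact hwalk w ⟨1, one_mem _, Or.inl (one_smul X δ)⟩
  rw [eq_bot_iff]
  intro t ht
  have hfix : MulAction.toPermHom X (Cfsg.CosetVertex M₁ M₂) t = 1 := by
    refine Equiv.ext fun v => ?_
    show t • v = v
    obtain ⟨g, hg, hv⟩ := hall v
    have hgt : g⁻¹ * t * g ∈ T := (mem_normalizer_iff''.1 hg t).1 ht
    rcases hv with rfl | rfl
    · have := MulAction.mem_stabilizer_iff.1 (hT hgt).1
      rwa [mul_smul, mul_smul, inv_smul_eq_iff] at this
    · have := MulAction.mem_stabilizer_iff.1 (hT hgt).2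
      rwa [mul_smul, mul_smul, inv_smul_eq_iff] at this
  exact mem_bot.2 (cg_faithful h.2.2.2 (hfix.trans (map_one _).symm))

theorem finite_stab (h₁ : Finite M₁) (h₂ : Finite M₂) (δ : Cfsg.CosetVertex M₁ M₂) :
    Finite (MulAction.stabilizer X δ) := by
  rcases δ with a | b
  · obtain ⟨x, rfl⟩ := QuotientGroup.mk_surjective a
    rw [cg_stab_inl]
    exact Finite.of_equiv _ (M₁.equivMapOfInjective (MulAut.conj x).toMonoidHom (MulAut.conj x).injective).toEquiv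
  · obtain ⟨x, rfl⟩ := QuotientGroup.mk_surjective b
    rw [cg_stab_inr]
    exact Finite.of_equiv _ (M₂.equivMapOfInjective (MulAut.conj x).toMonoidHom (MulAut.conj x).injective).toEquiv

theorem charP_map {G G' : Type*} [Group G] [Group G'] {p : ℕ} {f : G →* G'}
    (hf : Function.Injective f) {M : Subgroup G}
    (h : M ⊓ centralizer (Cfsg.pCoreOf p M : Set G) ≤ Cfsg.pCoreOf p M) :
    M.map f ⊓ centralizer (Cfsg.pCoreOf p (M.map f) : Set G') ≤ Cfsg.pCoreOf p (M.map f) := by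
  rw [pCoreOf_map hf]
  rintro _ ⟨⟨m, hm, rfl⟩, hmc⟩
  refine mem_map_of_mem f (h ⟨hm, fun z hz => hf ?_⟩)
  rw [map_mul, map_mul]
  exact hmc _ (mem_map_of_mem f hz)

theorem charP_stab {p : ℕ} (h : Cfsg.IsCharPAmalgamPair p M₁ M₂)
    (δ : Cfsg.CosetVertex M₁ M₂) :
    MulAction.stabilizer X δ ⊓ centralizer (Cfsg.vertexQ p δ : Set X) ≤ Cfsg.vertexQ p δ := by
  rcases δ with a | b
  · obtain ⟨x, rfl⟩ := QuotientGroup.mk_surjective a
    show _ ⊓ centralizer ((Cfsg.pCoreOf p _ : Subgroup X) : Set X) ≤ Cfsg.pCoreOf p _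
    rw [cg_stab_inl]
    exact charP_map (MulAut.conj x).injective ((charP_iff p M₁).1 h.2.2.2.2.2.2.1)
  · obtain ⟨x, rfl⟩ := QuotientGroup.mk_surjective b
    show _ ⊓ centralizer ((Cfsg.pCoreOf p _ : Subgroup X) : Set X) ≤ Cfsg.pCoreOf p _
    rw [cg_stab_inr]
    exact charP_map (MulAut.conj x).injective ((charP_iff p M₂).1 h.2.2.2.2.2.2.2)

theorem not_dvd_relIndex_of_card {p : ℕ} [Fact p.Prime] {E M : Subgroup X} [Finite M]
    (hEM : E ≤ M) (S : Sylow p ↥E) (P : Sylow p ↥M) (hc : Nat.card S = Nat.card P) :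
    ¬ p ∣ E.relIndex M := by
  have : Finite E := Finite.of_injective _ (inclusion_injective hEM)
  have hS : IsSylIn p ((S : Subgroup ↥E).map E.subtype) E := ⟨S, rfl⟩
  have hP : IsSylIn p ((P : Subgroup ↥M).map M.subtype) M := ⟨P, rfl⟩
  obtain ⟨T, hT, hle⟩ := exists_isSylIn_ge hS.isPGroup (hS.le.trans hEM)
  obtain ⟨g, -, hg⟩ := hT.exists_conj hP
  have hcard : Nat.card T = Nat.card ((S : Subgroup ↥E).map E.subtype) := by
    rw [Nat.card_congr (T.equivMapOfInjective (MulAut.conj g).toMonoidHom (MulAut.conj g).injective).toEquiv, hg,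
      card_subtype, card_subtype]
    exact hc.symm
  have : Finite T := Finite.of_injective _ (inclusion_injective hT.le)
  have heq : T = (S : Subgroup ↥E).map E.subtype :=
    (eq_of_le_of_card_ge hle hcard.le).symm
  intro hd
  apply hT.not_dvd
  rw [heq, ← relIndex_mul_relIndex _ E M hS.le hEM]
  exact hd.mul_left _

theorem edge_not_dvd {p : ℕ} [Fact p.Prime] (h : Cfsg.IsCharPAmalgamPair p M₁ M₂)
    {δ μ : Cfsg.CosetVertex M₁ M₂} (hμ : (Cfsg.cosetGraph M₁ M₂).Adj δ μ) :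
    ¬ p ∣ (Cfsg.edgeStabilizer δ μ).relIndex (MulAction.stabilizer X δ) := by
  obtain ⟨-, h₁, h₂, -, -, hcard, -⟩ := h
  have hc := hcard (Classical.arbitrary _) (Classical.arbitrary _) (Classical.arbitrary _)
  rcases cg_adj_iff.1 hμ with ⟨x, rfl, rfl⟩ | ⟨x, rfl, rfl⟩
  · rw [cg_edge, cg_stab_inl, relIndex_map_map_of_injective _ _ (MulAut.conj x).injective]
    exact not_dvd_relIndex_of_card inf_le_left _ _ hc.1
  · rw [Cfsg.edgeStabilizer, inf_comm, ← Cfsg.edgeStabilizer, cg_edge, cg_stab_inr,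
      relIndex_map_map_of_injective _ _ (MulAut.conj x).injective]
    exact not_dvd_relIndex_of_card inf_le_right _ _ hc.2

theorem isSylIn_of_edge {p : ℕ} [Fact p.Prime] (h : Cfsg.IsCharPAmalgamPair p M₁ M₂)
    {δ μ : Cfsg.CosetVertex M₁ M₂} (hμ : (Cfsg.cosetGraph M₁ M₂).Adj δ μ) {T : Subgroup X}
    (hT : IsSylIn p T (Cfsg.edgeStabilizer δ μ)) :
    IsSylIn p T (MulAction.stabilizer X δ) ∧ IsSylIn p T (MulAction.stabilizer X μ) := by
  have hfd := finite_stab h.2.1 h.2.2.1 δ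
  have hfm := finite_stab h.2.1 h.2.2.1 μ
  refine ⟨hT.of_not_dvd inf_le_left (edge_not_dvd h hμ), hT.of_not_dvd inf_le_right ?_⟩
  have := edge_not_dvd h hμ.symm
  rwa [Cfsg.edgeStabilizer, inf_comm] at this

theorem vertexQ_le_neighbourKernel {p : ℕ} [Fact p.Prime]
    (h : Cfsg.IsCharPAmalgamPair p M₁ M₂) (δ : Cfsg.CosetVertex M₁ M₂) :
    Cfsg.vertexQ p δ ≤ Cfsg.neighbourKernel δ := by
  refine le_inf (pCoreOf_le p _) (le_iInf₂ fun μ hμ => ?_)
  obtain ⟨T, hT⟩ := exists_isSylIn p (Cfsg.edgeStabilizer δ μ)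
  exact (pCoreOf_le_of_isSylIn (isSylIn_of_edge h hμ hT).1).trans (hT.le.trans inf_le_right)

theorem vertexZ_le_neighbourKernel_self {p : ℕ} [Fact p.Prime]
    (h : Cfsg.IsCharPAmalgamPair p M₁ M₂) (δ : Cfsg.CosetVertex M₁ M₂) :
    Cfsg.vertexZ p δ ≤ Cfsg.neighbourKernel δ :=
  (sylowCenterClosure_le_pCoreOf (charP_stab h δ)).trans (vertexQ_le_neighbourKernel h δ)

theorem neighbourKernel_le {δ μ : Cfsg.CosetVertex M₁ M₂}
    (hμ : (Cfsg.cosetGraph M₁ M₂).Adj δ μ) :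
    Cfsg.neighbourKernel δ ≤ MulAction.stabilizer X μ :=
  inf_le_right.trans (iInf₂_le μ hμ)

theorem criticalDistance_le {p : ℕ} {δ μ : Cfsg.CosetVertex M₁ M₂}
    (h : ¬ Cfsg.vertexZ p δ ≤ Cfsg.neighbourKernel μ) :
    Cfsg.criticalDistance p M₁ M₂ ≤ (Cfsg.cosetGraph M₁ M₂).dist δ μ :=
  Nat.sInf_le ⟨δ, μ, rfl, h⟩

theorem vertexZ_le_of_dist_lt {p : ℕ} {δ μ : Cfsg.CosetVertex M₁ M₂}
    (h : (Cfsg.cosetGraph M₁ M₂).dist δ μ < Cfsg.criticalDistance p M₁ M₂) :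
    Cfsg.vertexZ p δ ≤ Cfsg.neighbourKernel μ :=
  by_contra fun hn => (criticalDistance_le hn).not_gt h

/-- A critical pair has a neighbour of its first vertex towards the second. -/
theorem critical_neighbour {p : ℕ} [Fact p.Prime] (h : Cfsg.IsCharPAmalgamPair p M₁ M₂)
    {α α' : Cfsg.CosetVertex M₁ M₂} (hc : Cfsg.IsCriticalPair p α α') :
    ∃ β, (Cfsg.cosetGraph M₁ M₂).Adj α β ∧
      (Cfsg.cosetGraph M₁ M₂).dist β α' < Cfsg.criticalDistance p M₁ M₂ := by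
  obtain ⟨w, hw⟩ := ((cg_connected h.1.1).preconnected α α').exists_walk_length_eq_dist
  cases w with
  | nil => exact absurd (vertexZ_le_neighbourKernel_self h α) hc.1
  | cons hadj w' =>
    refine ⟨_, hadj, ?_⟩
    rw [SimpleGraph.Walk.length_cons, hc.2] at hw
    have := SimpleGraph.dist_le w'
    omega

/-- The dual neighbour: a neighbour of `α'` towards `α`. -/
theorem critical_neighbour' {p : ℕ} [Fact p.Prime] (h : Cfsg.IsCharPAmalgamPair p M₁ M₂)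
    {α α' : Cfsg.CosetVertex M₁ M₂} (hc : Cfsg.IsCriticalPair p α α') :
    ∃ β, (Cfsg.cosetGraph M₁ M₂).Adj α' β ∧
      (Cfsg.cosetGraph M₁ M₂).dist α β < Cfsg.criticalDistance p M₁ M₂ := by
  obtain ⟨w, hw⟩ := ((cg_connected h.1.1).preconnected α' α).exists_walk_length_eq_dist
  cases w with
  | nil => exact absurd (vertexZ_le_neighbourKernel_self h α) hc.1
  | cons hadj w' =>
    refine ⟨_, hadj, ?_⟩
    rw [SimpleGraph.Walk.length_cons, SimpleGraph.dist_comm, hc.2] at hw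
    have := SimpleGraph.dist_le w'
    rw [SimpleGraph.dist_comm] at this
    omega

end Cfsg.Agent.CharP
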