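import Cfsg.Prelude.Def_LocalStructure
import Cfsg.Agent.Lib.CharP.CosetGraph
import Cfsg.Agent.Lib.Transfer.NormalPComplement
import Cfsg.Agent.S2750

/-!
The subgroups `V_λ^{(n)}` of the amalgam method: equivariance, and the non-triviality of the
action of `O^p(L_λ)` on them modulo a small invariant subgroup.
-/

set_option autoImplicit false
set_option linter.unusedSectionVars false

namespace Cfsg.Agent.CharP.AmalgamVIter

open Subgroup Cfsg.Agent.CharP
open scoped commutatorElement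

variable {X : Type*} [Group X]

theorem mem_closure_commutator {Q : Subgroup X} {U A : Subgroup X} {v : X}
    (hA : ⁅A, Q⁆ ≤ U) (hv : v ∈ A) {q : X} (hq : q ∈ Q) : ⁅v, q⁆ ∈ U :=
  hA (commutator_mem_commutator hv hq)

theorem commutator_sup_le {A B Q U : Subgroup X} (hAU : A ≤ normalizer (U : Set X))
    (hBU : B ≤ normalizer (U : Set X)) (hA : ⁅A, Q⁆ ≤ U) (hB : ⁅B, Q⁆ ≤ U) :
    ⁅A ⊔ B, Q⁆ ≤ U := by
  refine commutator_le.2 fun v hv q hq => ?_
  suffices h : v ∈ normalizer (U : Set X) ∧ ⁅v, q⁆ ∈ U from h.2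
  rw [sup_eq_closure] at hv
  induction hv using closure_induction with
  | mem x hx =>
    rcases hx with hx | hx
    · exact ⟨hAU hx, hA (commutator_mem_commutator hx hq)⟩
    · exact ⟨hBU hx, hB (commutator_mem_commutator hx hq)⟩
  | one => exact ⟨one_mem _, by rw [commutatorElement_one_left]; exact one_mem _⟩
  | mul x y _ _ hx hy =>
    refine ⟨mul_mem hx.1 hy.1, ?_⟩
    have : ⁅x * y, q⁆ = x * ⁅y, q⁆ * x⁻¹ * ⁅x, q⁆ := by
      simp only [commutatorElement_def]; group
    rw [this]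
    exact mul_mem ((mem_normalizer_iff.1 hx.1 _).1 hy.2) hx.2
  | inv x _ hx =>
    refine ⟨inv_mem hx.1, ?_⟩
    have : ⁅x⁻¹, q⁆ = x⁻¹ * ⁅x, q⁆⁻¹ * x := by
      simp only [commutatorElement_def]; group
    rw [this]
    exact (mem_normalizer_iff''.1 hx.1 _).1 (inv_mem hx.2)

/-- A subgroup `A` invariant under a nilpotent group `Q` that covers `V` modulo `[V, Q]` covers
`V`. -/
theorem le_of_le_sup_commutator {A V Q : Subgroup X} [Group.IsNilpotent ↥Q]
    (hA : A ≤ Q) (hV : V ≤ Q) (hQA : Q ≤ normalizer (A : Set X)) (h : V ≤ A ⊔ ⁅V, Q⁆) :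
    V ≤ A := by
  have hbot : ∃ n, Q.lowerCentralSeries n = ⊥ :=
    (Subgroup.isNilpotent_iff_lowerCentralSeries (S := Q)).1 inferInstance
  have key : ∀ k, V ≤ A ⊔ Q.lowerCentralSeries k := by
    intro k
    induction k with
    | zero => rw [Subgroup.lowerCentralSeries_zero]; exact hV.trans le_sup_right
    | succ k ih =>
      have hk : Q.lowerCentralSeries k ≤ Q := by
        simpa [Subgroup.lowerCentralSeries_zero] using Q.lowerCentralSeries_antitone (Nat.zero_le k)
      have hn : Q ≤ normalizer ((A ⊔ Q.lowerCentralSeries (k + 1) : Subgroup X) : Set X) := by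
        refine le_normalizer_iff_commutator_le_left.2 ?_
        refine commutator_sup_le (le_normalizer.trans' le_sup_left)
          (le_normalizer.trans' le_sup_right) ?_ ?_
        · exact (le_normalizer_iff_commutator_le_left.1 hQA).trans le_sup_left
        · exact (le_normalizer_iff_commutator_le_left.1
            (Q.self_le_normalizer_lowerCentralSeries (k + 1))).trans le_sup_right
      refine h.trans (sup_le le_sup_left ?_)
      refine (commutator_mono ih le_rfl).trans (commutator_sup_le (hA.trans hn) (hk.trans hn) ?_ ?_)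
      · exact (le_normalizer_iff_commutator_le_left.1 hQA).trans le_sup_left
      · rw [Subgroup.lowerCentralSeries_succ]
        exact le_sup_right
  obtain ⟨n, hn⟩ := hbot
  simpa [hn] using key n

variable {M₁ M₂ : Subgroup X} {p : ℕ} [Fact p.Prime]

theorem stab_smul (g : X) (v : Cfsg.CosetVertex M₁ M₂) :
    MulAction.stabilizer X (g • v) =
      (MulAction.stabilizer X v).map (MulAut.conj g).toMonoidHom := by
  ext x
  rw [mem_conj_map_iff, MulAction.mem_stabilizer_iff, MulAction.mem_stabilizer_iff, mul_smul,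
    mul_smul, inv_smul_eq_iff]

theorem dist_smul (hc : (Cfsg.cosetGraph M₁ M₂).Connected) (g : X)
    (a b : Cfsg.CosetVertex M₁ M₂) :
    (Cfsg.cosetGraph M₁ M₂).dist (g • a) (g • b) = (Cfsg.cosetGraph M₁ M₂).dist a b := by
  have h : ∀ (g : X) (a b : Cfsg.CosetVertex M₁ M₂),
      (Cfsg.cosetGraph M₁ M₂).dist (g • a) (g • b) ≤ (Cfsg.cosetGraph M₁ M₂).dist a b := by
    intro g a b
    obtain ⟨w, hw⟩ := (hc.preconnected a b).exists_walk_length_eq_dist
    rw [← hw, ← SimpleGraph.Walk.length_map (cgSmulHom g) w]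
    exact SimpleGraph.dist_le _
  refine le_antisymm (h g a b) ?_
  simpa using h g⁻¹ (g • a) (g • b)

theorem vertexZ_smul (h : Cfsg.IsCharPAmalgamPair p M₁ M₂) (g : X)
    (v : Cfsg.CosetVertex M₁ M₂) :
    (Cfsg.vertexZ p v).map (MulAut.conj g).toMonoidHom ≤ Cfsg.vertexZ p (g • v) := by
  have := finite_stab h.2.1 h.2.2.1 v
  show (Cfsg.sylowCenterClosure p _).map _ ≤ Cfsg.sylowCenterClosure p _
  rw [sylowCenterClosure_eq, Subgroup.map_iSup, stab_smul]
  refine iSup_le fun T => ?_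
  rw [omegaCentre_map (MulAut.conj g).injective]
  exact omegaCentre_le_sylowCenterClosure (T.2.conj g)

theorem vertexZ_le_vertexVIter {n : ℕ} {δ v : Cfsg.CosetVertex M₁ M₂}
    (hv : (Cfsg.cosetGraph M₁ M₂).dist δ v ≤ n) :
    Cfsg.vertexZ p v ≤ Cfsg.vertexVIter p M₁ M₂ n δ :=
  le_iSup (fun μ : {μ : Cfsg.CosetVertex M₁ M₂ // (Cfsg.cosetGraph M₁ M₂).dist δ μ ≤ n} =>
    Cfsg.vertexZ p (μ : Cfsg.CosetVertex M₁ M₂)) ⟨v, hv⟩

theorem vertexVIter_smul (h : Cfsg.IsCharPAmalgamPair p M₁ M₂) (g : X) (n : ℕ)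
    (v : Cfsg.CosetVertex M₁ M₂) :
    (Cfsg.vertexVIter p M₁ M₂ n v).map (MulAut.conj g).toMonoidHom =
      Cfsg.vertexVIter p M₁ M₂ n (g • v) := by
  have hle : ∀ (g : X) (v : Cfsg.CosetVertex M₁ M₂),
      (Cfsg.vertexVIter p M₁ M₂ n v).map (MulAut.conj g).toMonoidHom ≤
        Cfsg.vertexVIter p M₁ M₂ n (g • v) := by
    intro g v
    rw [Cfsg.vertexVIter, Subgroup.map_iSup]
    refine iSup_le fun μ => (vertexZ_smul h g μ.1).trans (vertexZ_le_vertexVIter ?_)
    rw [dist_smul (cg_connected h.1.1)]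
    exact μ.2
  refine le_antisymm (hle g v) ?_
  have := Subgroup.map_mono (f := (MulAut.conj g).toMonoidHom) (hle g⁻¹ (g • v))
  rwa [inv_smul_smul, conj_map_map, mul_inv_cancel, conj_map_one] at this

theorem stab_le_normalizer_vertexVIter (h : Cfsg.IsCharPAmalgamPair p M₁ M₂) (n : ℕ)
    (v : Cfsg.CosetVertex M₁ M₂) :
    MulAction.stabilizer X v ≤ normalizer (Cfsg.vertexVIter p M₁ M₂ n v : Set X) := fun g hg =>
  mem_normalizer_of_conj_map (by rw [vertexVIter_smul h, MulAction.mem_stabilizer_iff.1 hg])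

theorem vertexVIter_mono {m n : ℕ} (hmn : m ≤ n) (v : Cfsg.CosetVertex M₁ M₂) :
    Cfsg.vertexVIter p M₁ M₂ m v ≤ Cfsg.vertexVIter p M₁ M₂ n v :=
  iSup_le fun μ => vertexZ_le_vertexVIter (μ.2.trans hmn)

theorem vertexVIter_le_of_dist {m n : ℕ} (hc : (Cfsg.cosetGraph M₁ M₂).Connected)
    {v w : Cfsg.CosetVertex M₁ M₂} (hmn : (Cfsg.cosetGraph M₁ M₂).dist v w + m ≤ n) :
    Cfsg.vertexVIter p M₁ M₂ m w ≤ Cfsg.vertexVIter p M₁ M₂ n v :=
  iSup_le fun μ => vertexZ_le_vertexVIter <| by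
    have := hc.dist_triangle (u := v) (v := w) (w := (μ : Cfsg.CosetVertex M₁ M₂))
    have := μ.2
    omega

/-- The core of the argument: the chief factor lemma. -/
theorem le_neighbour (h : Cfsg.IsSpeAmalgamPair p M₁ M₂) {δ μ : Cfsg.CosetVertex M₁ M₂}
    (hμ : (Cfsg.cosetGraph M₁ M₂).Adj δ μ) {n : ℕ} (hn : 1 ≤ n) {W : Subgroup X}
    (hW : MulAction.stabilizer X δ ≤ normalizer (W : Set X))
    (hO : ⁅Cfsg.vertexVIter p M₁ M₂ n δ,
      (Cfsg.pResidual p ↥(Cfsg.pElementClosure p (MulAction.stabilizer X δ))).map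
        (Cfsg.pElementClosure p (MulAction.stabilizer X δ)).subtype⁆ ≤ W) :
    Cfsg.vertexVIter p M₁ M₂ n δ ≤ Cfsg.vertexVIter p M₁ M₂ (n - 1) μ ⊔ W := by
  have hc := cg_connected h.1.1.1
  have hfd := finite_stab h.1.2.1 h.1.2.2.1 δ
  set Gd := MulAction.stabilizer X δ with hGd
  set L := Cfsg.pElementClosure p Gd with hL
  have hfL : Finite ↥L := Finite.of_injective _ (inclusion_injective (pElementClosure_le p Gd))
  set A := Cfsg.vertexVIter p M₁ M₂ (n - 1) μ with hA
  set U := A ⊔ W with hU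
  obtain ⟨T, hT⟩ := exists_isSylIn p (Cfsg.edgeStabilizer δ μ)
  have hTd := (isSylIn_of_edge h.1 hμ hT).1
  have hTL : T ≤ L := le_pElementClosure hT.isPGroup hTd.le
  have hAV : A ≤ Cfsg.vertexVIter p M₁ M₂ n δ :=
    vertexVIter_le_of_dist hc (by rw [SimpleGraph.dist_eq_one_iff_adj.2 hμ]; omega)
  -- `L` normalizes `U`
  have hLU : L ≤ normalizer (U : Set X) := by
    have hTU : T ≤ normalizer (U : Set X) :=
      le_trans (le_inf ((hT.le.trans inf_le_right).trans (stab_le_normalizer_vertexVIter h.1 _ μ))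
        (hTd.le.trans hW)) (normalizer_inf_normalizer_le_normalizer_sup A W)
    have hOU : (Cfsg.pResidual p ↥L).map L.subtype ≤ normalizer (U : Set X) := by
      refine le_normalizer_iff_commutator_le_left.2 ?_
      have h1 : W ≤ normalizer (U : Set X) := le_normalizer.trans' le_sup_right
      have h2 : A ≤ normalizer (U : Set X) := le_normalizer.trans' le_sup_left
      have hOW : (Cfsg.pResidual p ↥L).map L.subtype ≤ normalizer (W : Set X) :=
        (map_subtype_le _).trans ((pElementClosure_le p Gd).trans hW)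
      exact commutator_sup_le h2 h1
        (((commutator_mono hAV le_rfl).trans hO).trans le_sup_right)
        ((le_normalizer_iff_commutator_le_left.1 hOW).trans le_sup_right)
    obtain ⟨S, hS⟩ := hTd.mono hTL (pElementClosure_le p Gd)
    have := congrArg (Subgroup.map L.subtype)
      (Cfsg.Agent.Transfer.NormalPComplement.pResidual_sup_sylow (p := p) S)
    rw [Subgroup.map_sup, hS, ← MonoidHom.range_eq_map, range_subtype] at this
    exact this.ge.trans (sup_le hOU hTU)
  -- the neighbour groups all lie in `U`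
  have hN : ∀ ν, (Cfsg.cosetGraph M₁ M₂).Adj δ ν →
      Cfsg.vertexVIter p M₁ M₂ (n - 1) ν ≤ U := by
    intro ν hν
    obtain ⟨g, hg, rfl⟩ := cg_transitive hμ hν
    obtain ⟨a, ha, k, hk, rfl⟩ := exists_mul_normalizer_of_le hTd hTL (pElementClosure_le p Gd)
      (le_normalizer_pElementClosure p Gd) hg
    have hkμ : k • μ = μ := MulAction.mem_stabilizer_iff.1 ((S2750.norm_edge h hμ hT).1 hk).2
    rw [mul_smul, hkμ, ← vertexVIter_smul h.1, ← conj_map_of_mem (hLU ha)]
    exact map_mono le_sup_left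
  refine iSup_le ?_
  rintro ⟨ν, hνd⟩
  rcases Nat.eq_zero_or_pos ((Cfsg.cosetGraph M₁ M₂).dist δ ν) with h0 | hpos
  · have e : δ = ν := hc.dist_eq_zero_iff.1 h0
    subst e
    show Cfsg.sylowCenterClosure p _ ≤ _
    rw [sylowCenterClosure_eq]
    refine iSup_le fun S => ?_
    obtain ⟨g, hg, hgS⟩ := hTd.exists_conj S.2
    have hgd : g • δ = δ := MulAction.mem_stabilizer_iff.1 hg
    have hS' : IsSylIn p S.1 (Cfsg.edgeStabilizer δ (g • μ)) := by
      have hfe : Finite ↥(Cfsg.edgeStabilizer δ μ) :=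
        Finite.of_injective _ (inclusion_injective (inf_le_left : Cfsg.edgeStabilizer δ μ ≤ Gd))
      have := hT.conj g
      rwa [hgS, Cfsg.edgeStabilizer, Subgroup.map_inf _ _ _ (MulAut.conj g).injective, ← stab_smul,
        ← stab_smul, hgd] at this
    have hadj : (Cfsg.cosetGraph M₁ M₂).Adj δ (g • μ) := by
      have := cg_adj_smul g hμ
      rwa [hgd] at this
    refine (omegaCentre_le_sylowCenterClosure (isSylIn_of_edge h.1 hadj hS').2).trans ?_
    exact (vertexZ_le_vertexVIter (by rw [SimpleGraph.dist_self]; omega)).trans (hN _ hadj)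
  · obtain ⟨w, hw⟩ := (hc.preconnected δ ν).exists_walk_length_eq_dist
    cases w with
    | nil => simp at hpos
    | cons hadj w' =>
      show Cfsg.vertexZ p ν ≤ _
      refine (vertexZ_le_vertexVIter ?_).trans (hN _ hadj)
      have := SimpleGraph.dist_le w'
      rw [SimpleGraph.Walk.length_cons] at hw
      omega

/-- `V_δ^{(n)} ≤ Q_δ` cannot equal `V_μ^{(n-1)}` for a neighbour `μ`. -/
theorem not_le_neighbour (h : Cfsg.IsSpeAmalgamPair p M₁ M₂) {δ μ : Cfsg.CosetVertex M₁ M₂}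
    (hμ : (Cfsg.cosetGraph M₁ M₂).Adj δ μ) {n : ℕ} (hn : 1 ≤ n)
    (hVQ : Cfsg.vertexVIter p M₁ M₂ n δ ≤ Cfsg.vertexQ p δ) :
    ¬ Cfsg.vertexVIter p M₁ M₂ n δ ≤ Cfsg.vertexVIter p M₁ M₂ (n - 1) μ := by
  intro hle
  have hc := cg_connected h.1.1.1
  have hfd := finite_stab h.1.2.1 h.1.2.2.1 δ
  obtain ⟨T, hT⟩ := exists_isSylIn p (Cfsg.edgeStabilizer δ μ)
  have hTd := (isSylIn_of_edge h.1 hμ hT).1
  have heq : Cfsg.vertexVIter p M₁ M₂ n δ = Cfsg.vertexVIter p M₁ M₂ (n - 1) μ :=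
    le_antisymm hle
      (vertexVIter_le_of_dist hc (by rw [SimpleGraph.dist_eq_one_iff_adj.2 hμ]; omega))
  obtain ⟨S, hS⟩ := hT
  have hbot := S2750.result M₁ M₂ h δ μ hμ S T hS.symm (Cfsg.vertexVIter p M₁ M₂ n δ)
    (hVQ.trans (pCoreOf_le_of_isSylIn hTd))
    ((pElementClosure_le p _).trans (stab_le_normalizer_vertexVIter h.1 n δ))
    (heq ▸ (pElementClosure_le p _).trans (stab_le_normalizer_vertexVIter h.1 (n - 1) μ))
  have hZ : omegaCentre p T = ⊥ := le_bot_iff.1 (hbot ▸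
    (omegaCentre_le_sylowCenterClosure hTd).trans
      (vertexZ_le_vertexVIter (by rw [SimpleGraph.dist_self]; omega)))
  -- but `T` is a nontrivial `p`-group
  have hT1 : T ≠ ⊥ := by
    intro hb
    have hd : p ∣ Nat.card ↥(MulAction.stabilizer X δ) := by
      rcases δ with a | b
      · obtain ⟨x, rfl⟩ := QuotientGroup.mk_surjective a
        rw [cg_stab_inl, Subgroup.card_map_of_injective (MulAut.conj x).injective]
        exact h.1.2.2.2.1
      · obtain ⟨x, rfl⟩ := QuotientGroup.mk_surjective b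
        rw [cg_stab_inr, Subgroup.card_map_of_injective (MulAut.conj x).injective]
        exact h.1.2.2.2.2.1
    exact hTd.not_dvd (by rw [hb, relIndex_bot_left]; exact hd)
  have : Nontrivial ↥T := (nontrivial_iff_ne_bot T).2 hT1
  have hfT : Finite ↥T := Finite.of_injective _ (inclusion_injective hTd.le)
  have := hTd.isPGroup.center_nontrivial
  obtain ⟨k, hk⟩ : ∃ k, Nat.card ↥(Subgroup.center ↥T) = p ^ k :=
    IsPGroup.iff_card.1 (hTd.isPGroup.to_subgroup _)
  have hk1 : k ≠ 0 := fun e => by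
    have := Finite.one_lt_card (α := ↥(Subgroup.center ↥T))
    rw [hk, e] at this
    simp at this
  obtain ⟨z, hz⟩ := exists_prime_orderOf_dvd_card' (G := ↥(Subgroup.center ↥T)) p
    (hk ▸ dvd_pow_self p hk1)
  have hzT : ((z : ↥T) : X) ∈ omegaCentre p T := by
    refine subset_closure ⟨⟨(z : ↥T).2, fun t ht => ?_⟩, ?_⟩
    · exact congrArg Subtype.val (Subgroup.mem_center_iff.1 z.2 ⟨t, ht⟩)
    · rw [← SubgroupClass.coe_pow, ← SubgroupClass.coe_pow, ← hz, pow_orderOf_eq_one]
      rfl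
  rw [hZ, mem_bot] at hzT
  have : z = 1 := Subtype.ext (Subtype.ext hzT)
  rw [this, orderOf_one] at hz
  exact (Fact.out : p.Prime).one_lt.ne hz

end Cfsg.Agent.CharP.AmalgamVIter
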