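import Cfsg.Agent.Lib.CharP.Coprime
import Cfsg.Agent.Lib.CharP.CharP
import Cfsg.Agent.Lib.CharP.PReduced
import Cfsg.Agent.Lib.CharP.StronglyEmbedded
import Cfsg.Prelude.Def_LocalStructure
import Cfsg.Agent.Lib.Coprime.PGroup

/-!
Weakly closed and large `p`-subgroups, and the weak closure `L°`.
-/

set_option autoImplicit false

namespace Cfsg.Agent.CharP

open Subgroup

variable {G : Type*} [Group G] [Finite G] {p : ℕ} [Fact p.Prime]

/-- `A^g = g A g⁻¹`. -/
local notation:90 A:90 " ⊛ " g:91 => Subgroup.map (MulEquiv.toMonoidHom (MulAut.conj g)) A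

omit [Finite G] in
theorem map_conj_le_normalizer {A R : Subgroup G} (g : G) (h : R ≤ normalizer (A : Set G)) :
    R ⊛ g ≤ normalizer ((A ⊛ g : Subgroup G) : Set G) := by
  rintro _ ⟨x, hx, rfl⟩
  exact conj_mem_normalizer_map g (h hx)

omit [Finite G] in
theorem conj_map_inv_cancel (g : G) (A : Subgroup G) : (A ⊛ g) ⊛ g⁻¹ = A := by
  rw [conj_map_map, inv_mul_cancel, conj_map_one]

omit [Finite G] in
theorem conj_map_cancel_inv (g : G) (A : Subgroup G) : (A ⊛ g⁻¹) ⊛ g = A := by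
  rw [conj_map_map, mul_inv_cancel, conj_map_one]

omit [Finite G] in
theorem mem_normalizer_of_conj_map_eq {A : Subgroup G} {a b : G} (h : A ⊛ a = A ⊛ b) :
    b⁻¹ * a ∈ normalizer (A : Set G) := by
  refine mem_normalizer_of_conj_map ?_
  rw [← conj_map_map, h, conj_map_inv_cancel]

omit [Finite G] [Fact p.Prime] in
theorem isPGroup_conj {A : Subgroup G} (h : IsPGroup p ↥A) (g : G) : IsPGroup p ↥(A ⊛ g) :=
  h.map _

omit [Finite G] [Fact p.Prime] in
theorem commutator_le_left_iff {A B : Subgroup G} :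
    ⁅A, B⁆ ≤ A ↔ B ≤ normalizer (A : Set G) := by
  refine ⟨fun h b hb => ?_, Coprime.commutator_le_of_le_normalizer⟩
  have key : ∀ b ∈ B, ∀ a ∈ A, b * a * b⁻¹ ∈ A := fun b hb a ha => by
    have h1 := h (commutator_mem_commutator ha hb)
    rw [commutatorElement_def] at h1
    have := inv_mem (mul_mem (inv_mem ha) h1)
    simpa [mul_assoc] using this
  rw [mem_normalizer_iff]
  refine fun a => ⟨key b hb a, fun ha => ?_⟩
  have := key b⁻¹ (inv_mem hb) _ ha
  simpa [mul_assoc] using this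

/-- Every `p`-subgroup has a conjugate in a given Sylow subgroup. -/
theorem exists_conj_le_sylow {R : Subgroup G} (hR : IsPGroup p ↥R) (T : Sylow p G) :
    ∃ g : G, R ⊛ g ≤ (T : Subgroup G) := by
  obtain ⟨S, hS⟩ := hR.exists_le_sylow
  obtain ⟨g, hg⟩ := MulAction.exists_smul_eq G S T
  refine ⟨g, ?_⟩
  rw [← hg, Sylow.coe_subgroup_smul]
  rintro _ ⟨x, hx, rfl⟩
  exact ⟨x, hS hx, rfl⟩

/-- A weakly closed subgroup has at most one conjugate in each `p`-subgroup. -/
theorem wc_eq {Q : Subgroup G} (hW : Cfsg.IsWeaklyClosedSubgroup p Q) {R : Subgroup G}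
    (hR : IsPGroup p ↥R) {a b : G} (ha : Q ⊛ a ≤ R) (hb : Q ⊛ b ≤ R) : Q ⊛ a = Q ⊛ b := by
  obtain ⟨T, _, hT⟩ := hW
  obtain ⟨c, hc⟩ := exists_conj_le_sylow hR T
  have h : ∀ x : G, Q ⊛ x ≤ R → Q ⊛ (c * x) = Q := fun x hx => hT _ (by
    rw [← conj_map_map]
    exact (map_mono hx).trans hc)
  have := (h a ha).trans (h b hb).symm
  rw [← conj_map_map, ← conj_map_map] at this
  exact map_injective (MulAut.conj c).injective this

theorem wc_eq_self {Q : Subgroup G} (hW : Cfsg.IsWeaklyClosedSubgroup p Q) {R : Subgroup G}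
    (hR : IsPGroup p ↥R) (hQR : Q ≤ R) {g : G} (hg : Q ⊛ g ≤ R) : Q ⊛ g = Q := by
  have := wc_eq hW hR hg (b := 1) (by rwa [conj_map_one])
  rwa [conj_map_one] at this

theorem wc_normalizer_le {Q : Subgroup G} (hW : Cfsg.IsWeaklyClosedSubgroup p Q) {R : Subgroup G}
    (hR : IsPGroup p ↥R) (hQR : Q ≤ R) : normalizer (R : Set G) ≤ normalizer (Q : Set G) := by
  intro n hn
  refine mem_normalizer_of_conj_map (wc_eq_self hW hR hQR ?_)
  exact (map_mono hQR).trans (conj_map_of_mem hn).le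

theorem wc_le_normalizer {Q : Subgroup G} (hW : Cfsg.IsWeaklyClosedSubgroup p Q) {R : Subgroup G}
    (hR : IsPGroup p ↥R) (hQR : Q ≤ R) : R ≤ normalizer (Q : Set G) :=
  le_normalizer.trans (wc_normalizer_le hW hR hQR)

theorem wc_eq_of_normalizes {Q : Subgroup G} (hW : Cfsg.IsWeaklyClosedSubgroup p Q)
    (hQ : IsPGroup p ↥Q) {g : G} (h : Q ≤ normalizer ((Q ⊛ g : Subgroup G) : Set G)) :
    Q ⊛ g = Q :=
  wc_eq_self hW ((isPGroup_conj hQ g).to_sup_of_normal_left' hQ h) le_sup_right le_sup_left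

/-- The normalizer criterion for weak closure. -/
theorem wc_of_normalizer_le {Q : Subgroup G} (hQ : IsPGroup p ↥Q)
    (h : ∀ R : Subgroup G, IsPGroup p ↥R → Q ≤ R →
      normalizer (R : Set G) ≤ normalizer (Q : Set G)) :
    Cfsg.IsWeaklyClosedSubgroup p Q := by
  obtain ⟨T, hT⟩ := hQ.exists_le_sylow
  refine ⟨T, hT, fun g hg => ?_⟩
  -- both `Q` and `Q^g` are normal in `T`
  have h1 : (T : Subgroup G) ≤ normalizer (Q : Set G) := le_normalizer.trans (h _ T.isPGroup' hT)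
  have h2 : (T : Subgroup G) ⊛ g ≤ normalizer ((Q ⊛ g : Subgroup G) : Set G) :=
    map_conj_le_normalizer g h1
  have h3 : (T : Subgroup G) ≤ normalizer ((Q ⊛ g : Subgroup G) : Set G) := by
    have hp : IsPGroup p ↥((T : Subgroup G) ⊛ g⁻¹) := isPGroup_conj T.isPGroup' _
    have hQT : Q ≤ (T : Subgroup G) ⊛ g⁻¹ := by
      rw [← conj_map_inv_cancel g Q]
      exact map_mono hg
    have := map_conj_le_normalizer g (le_normalizer.trans (h _ hp hQT))
    rwa [conj_map_cancel_inv] at this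
  have hT' : IsSylIn p (T : Subgroup G) ⊤ := isSylIn_top_iff.2 ⟨T, rfl⟩
  have hT2 : IsSylIn p ((T : Subgroup G) ⊛ g) (normalizer ((Q ⊛ g : Subgroup G) : Set G)) :=
    IsSylIn.mono (H := ⊤) (by
      have := hT'.conj g
      rwa [map_top_of_surjective _ (MulAut.conj g).surjective] at this) h2 le_top
  obtain ⟨c, hc, hce⟩ := hT2.exists_conj (hT'.mono h3 le_top)
  rw [conj_map_map] at hce
  have h4 : c * g ∈ normalizer (Q : Set G) :=
    h _ T.isPGroup' hT (mem_normalizer_of_conj_map hce)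
  have h5 : Q ⊛ (c * g) = Q ⊛ g := by
    rw [← conj_map_map]
    exact conj_map_of_mem hc
  rw [← h5]
  exact conj_map_of_mem h4

/-- The commutator criterion for weak closure. -/
theorem wc_of_commutator {Q : Subgroup G} (hQ : IsPGroup p ↥Q)
    (h : ∀ g : G, ⁅Q, Q ⊛ g⁆ ≤ Q ⊓ Q ⊛ g → Q ⊛ g = Q) :
    Cfsg.IsWeaklyClosedSubgroup p Q := by
  have hmut : ∀ g : G, Q ≤ normalizer ((Q ⊛ g : Subgroup G) : Set G) →
      Q ⊛ g ≤ normalizer (Q : Set G) → Q ⊛ g = Q := fun g h1 h2 => h g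
    (le_inf (commutator_le_left_iff.2 h2) (by
      rw [commutator_comm]; exact commutator_le_left_iff.2 h1))
  have hnorm : ∀ R : Subgroup G, IsPGroup p ↥R → Q ≤ R → R ≤ normalizer (Q : Set G) := by
    intro R hR hQR
    by_contra hnot
    haveI := hR.isNilpotent
    set K := (normalizer (Q : Set G)).subgroupOf R
    have hK : K < ⊤ := lt_top_iff_ne_top.2 fun he => hnot (subgroupOf_eq_top.1 he)
    obtain ⟨r, hr, hr'⟩ := SetLike.exists_of_lt (Group.normalizerCondition_of_isNilpotent K hK)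
    refine hr' (mem_subgroupOf.2 ?_)
    have hin : ∀ x : G, x ∈ R → x ∈ normalizer (Q : Set G) →
        (r : G) * x * (r : G)⁻¹ ∈ normalizer (Q : Set G) := fun x hxR hxN =>
      ((mem_normalizer_iff.1 hr ⟨x, hxR⟩).1 hxN :)
    have hin' : ∀ x : G, x ∈ R → x ∈ normalizer (Q : Set G) →
        (r : G)⁻¹ * x * (r : G) ∈ normalizer (Q : Set G) := fun x hxR hxN => by
      have := (mem_normalizer_iff.1 (inv_mem hr) ⟨x, hxR⟩).1 hxN
      simpa [K, mem_subgroupOf] using this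
    refine mem_normalizer_of_conj_map (hmut r ?_ ?_)
    · intro q hq
      have := conj_mem_normalizer_map (r : G) (hin' q (hQR hq) (le_normalizer hq))
      simpa [mul_assoc] using this
    · rintro _ ⟨q, hq, rfl⟩
      exact hin q (hQR hq) (le_normalizer hq)
  obtain ⟨T, hT⟩ := hQ.exists_le_sylow
  refine ⟨T, hT, fun g hg => hmut g ?_ (hg.trans (hnorm _ T.isPGroup' hT))⟩
  have hQT : Q ≤ (T : Subgroup G) ⊛ g⁻¹ := by
    rw [← conj_map_inv_cancel g Q]
    exact map_mono hg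
  have := map_conj_le_normalizer g (hnorm _ (isPGroup_conj T.isPGroup' _) hQT)
  rw [conj_map_cancel_inv] at this
  exact hT.trans this

/-! ### The weak closure -/

omit [Finite G] in
theorem conj_le_weakClosure {Q L : Subgroup G} {g : G} (h : Q ⊛ g ≤ L) :
    Q ⊛ g ≤ Cfsg.weakClosure Q L :=
  le_iSup (fun g : {g : G // Q ⊛ g ≤ L} => Q ⊛ (g : G)) ⟨g, h⟩

omit [Finite G] in
theorem weakClosure_le_iff {Q L X : Subgroup G} :
    Cfsg.weakClosure Q L ≤ X ↔ ∀ g : G, Q ⊛ g ≤ L → Q ⊛ g ≤ X :=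
  ⟨fun h _ hg => (conj_le_weakClosure hg).trans h, fun h => iSup_le fun g => h g g.2⟩

omit [Finite G] in
theorem weakClosure_le_self (Q L : Subgroup G) : Cfsg.weakClosure Q L ≤ L :=
  weakClosure_le_iff.2 fun _ h => h

omit [Finite G] in
theorem le_weakClosure {Q L : Subgroup G} (h : Q ≤ L) : Q ≤ Cfsg.weakClosure Q L := by
  have h1 := conj_le_weakClosure (Q := Q) (L := L) (g := 1) (by rwa [conj_map_one])
  rwa [conj_map_one] at h1

omit [Finite G] in
theorem weakClosure_mono {Q L M : Subgroup G} (h : L ≤ M) :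
    Cfsg.weakClosure Q L ≤ Cfsg.weakClosure Q M :=
  weakClosure_le_iff.2 fun _ hg => conj_le_weakClosure (hg.trans h)

omit [Finite G] in
theorem normalizer_le_normalizer_weakClosure (Q L : Subgroup G) :
    normalizer (L : Set G) ≤ normalizer (Cfsg.weakClosure Q L : Set G) := by
  have key : ∀ n ∈ normalizer (L : Set G),
      (Cfsg.weakClosure Q L) ⊛ n ≤ Cfsg.weakClosure Q L := by
    intro n hn
    rw [map_le_iff_le_comap, weakClosure_le_iff]
    intro g hg
    rw [← map_le_iff_le_comap, conj_map_map]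
    exact conj_le_weakClosure (by rw [← conj_map_map]; exact (map_mono hg).trans (conj_map_of_mem hn).le)
  intro n hn
  refine mem_normalizer_of_conj_map (le_antisymm (key n hn) ?_)
  have := map_mono (f := (MulAut.conj n).toMonoidHom) (key n⁻¹ (inv_mem hn))
  rwa [conj_map_cancel_inv] at this

/-- A conjugate of `Q` inside an overgroup `K` is a `K`-conjugate. -/
theorem wc_exists_conj {Q K : Subgroup G} (hW : Cfsg.IsWeaklyClosedSubgroup p Q)
    (hQ : IsPGroup p ↥Q) (hQK : Q ≤ K) {g : G} (hg : Q ⊛ g ≤ K) :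
    ∃ k ∈ K, Q ⊛ g = Q ⊛ k := by
  obtain ⟨T₁, h₁, hQ1⟩ := exists_isSylIn_ge hQ hQK
  obtain ⟨T₂, h₂, hQ2⟩ := exists_isSylIn_ge (isPGroup_conj hQ g) hg
  obtain ⟨k, hk, hke⟩ := h₁.exists_conj h₂
  exact ⟨k, hk, wc_eq hW h₂.isPGroup hQ2 (hke ▸ map_mono hQ1)⟩

theorem weakClosure_eq_iSup {Q K : Subgroup G} (hW : Cfsg.IsWeaklyClosedSubgroup p Q)
    (hQ : IsPGroup p ↥Q) (hQK : Q ≤ K) :
    Cfsg.weakClosure Q K = ⨆ k : ↥K, Q ⊛ (k : G) := by
  refine le_antisymm (weakClosure_le_iff.2 fun g hg => ?_) (iSup_le fun k => ?_)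
  · obtain ⟨k, hk, hke⟩ := wc_exists_conj hW hQ hQK hg
    rw [hke]
    exact le_iSup (fun k : ↥K => Q ⊛ (k : G)) ⟨k, hk⟩
  · refine conj_le_weakClosure ((map_mono hQK).trans (conj_map_of_mem ?_).le)
    exact le_normalizer k.2

/-! ### Large subgroups -/

omit [Fact p.Prime] in
theorem exists_fixed_ne_one [Fact p.Prime] {Y Q : Subgroup G} (hY : IsPGroup p ↥Y) (hY1 : Y ≠ ⊥)
    (hQ : IsPGroup p ↥Q) (hn : Q ≤ normalizer (Y : Set G)) :
    Y ⊓ centralizer (Q : Set G) ≠ ⊥ := by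
  haveI := (hY.to_sup_of_normal_left' hQ hn).isNilpotent
  set J := Y ⊔ Q
  haveI : (Y.subgroupOf J).Normal :=
    (normal_subgroupOf_iff_le_normalizer le_sup_left).2 (sup_le le_normalizer hn)
  have hne : Y.subgroupOf J ≠ ⊥ := fun h => hY1 (by
    rw [← map_subgroupOf_eq_of_le (le_sup_left : Y ≤ J), h, Subgroup.map_bot])
  intro h
  refine Cores.inf_center_ne_bot hne (eq_bot_iff.2 fun x hx => ?_)
  have hx1 : (x : G) ∈ Y ⊓ centralizer (Q : Set G) := mem_inf.2 ⟨(mem_inf.1 hx).1, fun q hq =>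
    congrArg Subtype.val (mem_center_iff.1 (mem_inf.1 hx).2 ⟨q, (le_sup_right : Q ≤ J) hq⟩)⟩
  rw [h, mem_bot] at hx1
  exact mem_bot.2 (Subtype.ext hx1)

theorem isLarge_wc {Q : Subgroup G} (hQ : IsPGroup p ↥Q) (hQ1 : Q ≠ ⊥) (hL : Cfsg.IsLarge Q) :
    Cfsg.IsWeaklyClosedSubgroup p Q := by
  refine wc_of_normalizer_le hQ fun R hR hQR => ?_
  have h1 : R ⊓ centralizer (R : Set G) ≠ ⊥ :=
    exists_fixed_ne_one hR (fun h => hQ1 (le_bot_iff.1 (h ▸ hQR))) hR le_normalizer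
  refine le_trans ?_ (hL.2 _ (inf_le_right.trans (centralizer_le hQR)) h1)
  refine le_trans ?_ inf_normalizer_le_normalizer_inf
  exact le_inf le_rfl (normalizer_le_normalizer_centralizer R)

/-- If `Q` is large and normalizes the nontrivial `p`-group `Y`, then `C(Y)` normalizes `Q`. -/
theorem isLarge_centralizer_le {Q Y : Subgroup G} (hQ : IsPGroup p ↥Q) (hL : Cfsg.IsLarge Q)
    (hY : IsPGroup p ↥Y) (hY1 : Y ≠ ⊥) (hn : Q ≤ normalizer (Y : Set G)) :
    centralizer (Y : Set G) ≤ normalizer (Q : Set G) :=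
  ((centralizer_le inf_le_left).trans (centralizer_le_normalizer _)).trans
    (hL.2 _ inf_le_right (exists_fixed_ne_one hY hY1 hQ hn))

omit [Finite G] [Fact p.Prime] in
theorem isLarge_conj {Q : Subgroup G} (hL : Cfsg.IsLarge Q) (g : G) : Cfsg.IsLarge (Q ⊛ g) := by
  have hc : ∀ A : Subgroup G, centralizer ((A ⊛ g : Subgroup G) : Set G) =
      (centralizer (A : Set G)) ⊛ g := by
    intro A
    refine le_antisymm ?_ ?_
    · intro x hx
      refine ⟨g⁻¹ * x * g, fun a ha => ?_, by simp [mul_assoc]⟩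
      have h := congrArg (fun z => g⁻¹ * z * g) (hx _ ⟨a, ha, rfl⟩)
      simpa [mul_assoc] using h
    · rintro _ ⟨x, hx, rfl⟩ _ ⟨a, ha, rfl⟩
      show (MulAut.conj g) a * (MulAut.conj g) x = (MulAut.conj g) x * (MulAut.conj g) a
      rw [← map_mul, ← map_mul, hx a ha]
  refine ⟨(hc Q).le.trans (map_mono hL.1), fun U hU hU1 => ?_⟩
  have h := hL.2 (U ⊛ g⁻¹) (by
      have := map_mono (f := (MulAut.conj g⁻¹).toMonoidHom) (hU.trans (hc Q).le)
      rwa [conj_map_inv_cancel] at this)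
    (fun h => hU1 (by rw [← conj_map_cancel_inv g U, h, Subgroup.map_bot]))
  intro n hn
  have h1 : g⁻¹ * n * g ∈ normalizer ((U ⊛ g⁻¹ : Subgroup G) : Set G) := by
    have := conj_mem_normalizer_map g⁻¹ hn
    simpa using this
  have := conj_mem_normalizer_map g (h h1)
  simpa [mul_assoc] using this

/-! ### Weakly closed subgroups with `C(Q) ≤ Q` -/

omit [Fact p.Prime] in
theorem normalizer_le_normalizer_pCoreOf (p : ℕ) (C : Subgroup G) :
    normalizer (C : Set G) ≤ normalizer (Cfsg.pCoreOf p C : Set G) := fun g hg =>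
  mem_normalizer_of_conj_map (by rw [← pCoreOf_conj, conj_map_of_mem hg])

/-- Characteristic `p` passes to centralizers of larger `p`-subgroups. -/
theorem isCharP_centralizer_of_le {H X P : Subgroup G} (hH : IsCharP p H)
    (hP : IsPGroup p ↥P) (hXP : X ≤ P) (hXH : X ≤ H) (hCH : centralizer (X : Set G) ≤ H) :
    IsCharP p (centralizer (P : Set G)) := by
  induction hn : Nat.card P - Nat.card X using Nat.strongRecOn generalizing H X with
  | ind n ih =>
    have hNX : IsCharP p (normalizer (X : Set G)) :=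
      isCharP_normalizer hH (hP.to_le hXP) hXH hCH
    by_cases hlt : X = P
    · subst hlt
      exact isCharP_of_normal hNX (centralizer_le_normalizer _)
        (normalizer_le_normalizer_centralizer X)
    · haveI := hP.isNilpotent
      have hlt' : X.subgroupOf P < ⊤ :=
        lt_top_iff_ne_top.2 fun h => hlt (le_antisymm hXP (subgroupOf_eq_top.1 h))
      obtain ⟨g, hg, hg'⟩ :=
        SetLike.exists_of_lt (Group.normalizerCondition_of_isNilpotent _ hlt')
      rw [← subgroupOf_normalizer_eq hXP, mem_subgroupOf] at hg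
      have hXX : X ≤ P ⊓ normalizer (X : Set G) := le_inf hXP le_normalizer
      have hc : Nat.card X < Nat.card ↥(P ⊓ normalizer (X : Set G)) := by
        refine lt_of_le_of_ne (card_le_of_le hXX) fun h => hg' (mem_subgroupOf.2 ?_)
        rw [eq_of_le_of_card_ge hXX h.ge]
        exact ⟨g.2, hg⟩
      have hc2 : Nat.card ↥(P ⊓ normalizer (X : Set G)) ≤ Nat.card P := card_le_of_le inf_le_left
      refine ih _ (by omega) hNX inf_le_left inf_le_right ?_ rfl
      exact (centralizer_le hXX).trans (centralizer_le_normalizer _)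

/-- If `C(O_p(L))` has characteristic `p` it normalizes a self-centralizing weakly closed
`Q ≤ L`. -/
theorem centralizer_pCoreOf_le_normalizer {Q L : Subgroup G} (hQ : IsPGroup p ↥Q)
    (hW : Cfsg.IsWeaklyClosedSubgroup p Q) (hQL : Q ≤ L)
    (hC : IsCharP p (centralizer (Cfsg.pCoreOf p L : Set G))) :
    centralizer (Cfsg.pCoreOf p L : Set G) ≤ normalizer (Q : Set G) := by
  set C := centralizer (Cfsg.pCoreOf p L : Set G)
  set R := Cfsg.pCoreOf p C
  set Z := R ⊓ L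
  have hLC : L ≤ normalizer (C : Set G) :=
    (le_normalizer_pCoreOf p L).trans (normalizer_le_normalizer_centralizer _)
  have hLR : L ≤ normalizer (R : Set G) := hLC.trans (normalizer_le_normalizer_pCoreOf p C)
  have hRp : IsPGroup p ↥R := isPGroup_pCoreOf p C
  have hLZ : L ≤ normalizer (Z : Set G) :=
    (le_inf hLR le_normalizer).trans inf_normalizer_le_normalizer_inf
  have hZP : Z ≤ Cfsg.pCoreOf p L := le_pCoreOf inf_le_right hLZ (hRp.to_le inf_le_left)
  have hRQ : R ≤ normalizer (Q : Set G) :=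
    le_sup_left.trans (wc_le_normalizer hW (hRp.to_sup_of_normal_left' hQ (hQL.trans hLR))
      le_sup_right)
  have hCZ : ∀ c ∈ C, ∀ z ∈ Z, c * z * c⁻¹ = z := fun c hc z hz => by
    rw [← hc z (hZP hz), mul_inv_cancel_right]
  have hCR : C ≤ normalizer (R : Set G) := le_normalizer_pCoreOf p C
  let E : Subgroup G :=
    { carrier := {g | g ∈ C ∧ ∀ r ∈ R, g * r * g⁻¹ * r⁻¹ ∈ Z}
      one_mem' := ⟨one_mem C, fun r _ => by simp⟩
      mul_mem' := by
        rintro a b ⟨ha, ha'⟩ ⟨hb, hb'⟩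
        refine ⟨mul_mem ha hb, fun r hr => ?_⟩
        have e : a * b * r * (a * b)⁻¹ * r⁻¹
            = (a * (b * r * b⁻¹ * r⁻¹) * a⁻¹) * (a * r * a⁻¹ * r⁻¹) := by group
        rw [e, hCZ a ha _ (hb' r hr)]
        exact mul_mem (hb' r hr) (ha' r hr)
      inv_mem' := by
        rintro a ⟨ha, ha'⟩
        refine ⟨inv_mem ha, fun r hr => ?_⟩
        have h1 := inv_mem (ha' _ ((mem_normalizer_iff.1 (hCR (inv_mem ha)) r).1 hr))
        simpa [mul_assoc] using h1 }
  have hQC : Q ≤ normalizer (C : Set G) := hQL.trans hLC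
  have hDE : ⁅C, Q⁆ ≤ E := by
    rw [commutator_le]
    intro c hc q hq
    have hcC : c * q * c⁻¹ * q⁻¹ ∈ C := by
      have h1 := mul_mem hc ((mem_normalizer_iff.1 (hQC hq) c⁻¹).1 (inv_mem hc))
      simpa [mul_assoc] using h1
    refine ⟨by rw [commutatorElement_def]; exact hcC, fun r hr => ?_⟩
    rw [commutatorElement_def]
    -- `Q` is trivial on `R / Z`
    have hqr : ∀ q ∈ Q, ∀ r ∈ R, q * r * q⁻¹ * r⁻¹ ∈ Z := fun q hq r hr =>
      mem_inf.2 ⟨mul_mem ((mem_normalizer_iff.1 (hLR (hQL hq)) r).1 hr) (inv_mem hr), hQL (by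
        have h1 := mul_mem hq ((mem_normalizer_iff.1 (hRQ hr) q⁻¹).1 (inv_mem hq))
        simpa [mul_assoc] using h1)⟩
    set r₁ := q⁻¹ * r * q
    set z₁ := r₁ * r⁻¹
    have hz1 : z₁ ∈ Z := by simpa [z₁, r₁, mul_assoc] using hqr q⁻¹ (inv_mem hq) r hr
    set r₂ := c⁻¹ * r * c
    have hr2 : r₂ ∈ R := by
      simpa [r₂] using (mem_normalizer_iff.1 (hCR (inv_mem hc)) r).1 hr
    have hz2 : q * r₂ * q⁻¹ * r₂⁻¹ ∈ Z := hqr q hq r₂ hr2
    have hz1' : q * z₁ * q⁻¹ ∈ Z := (mem_normalizer_iff.1 (hLZ (hQL hq)) z₁).1 hz1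
    have e : c * q * c⁻¹ * q⁻¹ * r * (c * q * c⁻¹ * q⁻¹)⁻¹ * r⁻¹
        = c * (q * (c⁻¹ * z₁ * c) * q⁻¹ * (q * r₂ * q⁻¹ * r₂⁻¹)) * c⁻¹ := by
      simp only [z₁, r₁, r₂]; group
    rw [e]
    have h3 := hCZ c⁻¹ (inv_mem hc) z₁ hz1
    rw [inv_inv] at h3
    rw [h3, hCZ c hc _ (mul_mem hz1' hz2)]
    exact mul_mem hz1' hz2
  have hDp : IsPGroup p ↥⁅C, Q⁆ := by
    refine isPGroup_of_forall_coprime fun x hx hcop => ?_
    obtain ⟨hxC, hx'⟩ := hDE hx
    refine eq_one_of_mem_pgroup hRp (hC ⟨hxC, ?_⟩) hcop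
    have hxn : zpowers x ≤ normalizer (R : Set G) := zpowers_le.2 (hCR hxC)
    refine Coprime.le_centralizer_of_series (N := Z) hxn (coprime_zpowers_of_isPGroup hRp hcop)
      (Or.inl inferInstance) ?_ ?_ (mem_zpowers x)
    · rw [zpowers_le]
      intro z hz
      exact hxC z (hZP hz)
    · rw [commutator_le]
      intro r hr y hy
      have hxE : zpowers x ≤ E := zpowers_le.2 (hDE hx)
      have h1 := inv_mem ((hxE hy).2 r hr)
      rw [commutatorElement_def]
      simpa [mul_assoc] using h1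
  have hQD : Q ≤ normalizer ((⁅C, Q⁆ : Subgroup G) : Set G) := normalizer_commutator_ge_right C Q
  have hp := hDp.to_sup_of_normal_left' hQ hQD
  intro c hc
  refine mem_normalizer_of_conj_map (wc_eq_self hW hp le_sup_right ?_)
  rintro _ ⟨q, hq, rfl⟩
  have h1 := mul_mem ((le_sup_left : ⁅C, Q⁆ ≤ ⁅C, Q⁆ ⊔ Q) (commutator_mem_commutator hc hq))
    ((le_sup_right : Q ≤ ⁅C, Q⁆ ⊔ Q) hq)
  simpa [commutatorElement_def, mul_assoc] using h1

/-- Consequences of `C(O_p(L)) ≤ N(Q)` for a self-centralizing `p`-group `Q ≤ L`. -/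
theorem centralizer_pCoreOf_of_le_normalizer {Q L : Subgroup G} (hQ : IsPGroup p ↥Q)
    (hCQ : centralizer (Q : Set G) ≤ Q) (hQL : Q ≤ L)
    (hCN : centralizer (Cfsg.pCoreOf p L : Set G) ≤ normalizer (Q : Set G)) :
    ⁅Q, centralizer (Cfsg.pCoreOf p L : Set G)⁆ ≤ Q ⊓ Cfsg.pCoreOf p L ∧
      IsPGroup p ↥(centralizer (Cfsg.pCoreOf p L : Set G)) ∧ IsCharP p L := by
  set C := centralizer (Cfsg.pCoreOf p L : Set G)
  have hLC : L ≤ normalizer (C : Set G) :=
    (le_normalizer_pCoreOf p L).trans (normalizer_le_normalizer_centralizer _)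
  have hQC : Q ≤ normalizer (C : Set G) := hQL.trans hLC
  have h1 : ⁅Q, C⁆ ≤ Q ⊓ C :=
    le_inf (commutator_le_left_iff.2 hCN) (by rw [commutator_comm]; exact commutator_le_left_iff.2 hQC)
  have h2 : Q ⊓ C ≤ Cfsg.pCoreOf p L := by
    have h3 : Q ⊓ C ≤ Cfsg.pCoreOf p C := le_pCoreOf inf_le_right
      ((le_inf hCN le_normalizer).trans inf_normalizer_le_normalizer_inf) (hQ.to_le inf_le_left)
    refine (le_inf h3 (inf_le_left.trans hQL)).trans (le_pCoreOf inf_le_right ?_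
      ((isPGroup_pCoreOf p C).to_le inf_le_left))
    exact (le_inf (hLC.trans (normalizer_le_normalizer_pCoreOf p C)) le_normalizer).trans
      inf_normalizer_le_normalizer_inf
  have hCp : IsPGroup p ↥C := by
    refine isPGroup_of_forall_coprime fun x hx hcop => eq_one_of_mem_pgroup hQ (hCQ ?_) hcop
    refine Coprime.le_centralizer_of_commutator_commutator_eq_bot
      (zpowers_le.2 (hCN hx)) (coprime_zpowers_of_isPGroup hQ hcop) (Or.inl inferInstance) ?_
      (mem_zpowers x)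
    rw [eq_bot_iff]
    refine (commutator_mono (((commutator_mono le_rfl (zpowers_le.2 hx)).trans h1).trans h2)
      le_rfl).trans (le_of_eq ?_)
    rw [commutator_eq_bot_iff_le_centralizer, le_centralizer_iff, zpowers_le]
    exact hx
  refine ⟨le_inf (h1.trans inf_le_left) (h1.trans h2), hCp, ?_⟩
  exact le_pCoreOf inf_le_left
    ((le_inf le_normalizer hLC).trans inf_normalizer_le_normalizer_inf) (hCp.to_le inf_le_right)

/-- `Q`, `Q^g` (`g ∉ N(Q)`, `Q` large) have centralizers meeting trivially. -/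
theorem isLarge_inf_centralizer_eq_bot {Q : Subgroup G} (hQ : IsPGroup p ↥Q) (hQ1 : Q ≠ ⊥)
    (hL : Cfsg.IsLarge Q) {g : G} (hg : g ∉ normalizer (Q : Set G)) :
    centralizer (Q : Set G) ⊓ centralizer ((Q ⊛ g : Subgroup G) : Set G) = ⊥ := by
  by_contra hne
  set U := centralizer (Q : Set G) ⊓ centralizer ((Q ⊛ g : Subgroup G) : Set G)
  have hQU : Q ≤ normalizer (U : Set G) :=
    (le_centralizer_iff.1 inf_le_left).trans (centralizer_le_normalizer _)
  have h2 := (isLarge_conj hL g).2 U inf_le_right hne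
  exact hg (mem_normalizer_of_conj_map
    (wc_eq_of_normalizes (isLarge_wc hQ hQ1 hL) hQ (hQU.trans h2)))

/-- Every element of `M` (normalized by a weakly closed `Q`) is in `N_M(Q) [M, Q]`. -/
theorem wc_frattini {Q M : Subgroup G} (hW : Cfsg.IsWeaklyClosedSubgroup p Q)
    (hQ : IsPGroup p ↥Q) (hQM : Q ≤ normalizer (M : Set G)) {m : G} (hm : m ∈ M) :
    ∃ a ∈ M ⊓ normalizer (Q : Set G), ∃ b ∈ ⁅M, Q⁆, m = a * b := by
  have hQD : Q ≤ normalizer ((⁅M, Q⁆ : Subgroup G) : Set G) := normalizer_commutator_ge_right M Q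
  have hle : Q ⊛ m ≤ ⁅M, Q⁆ ⊔ Q := by
    rintro _ ⟨q, hq, rfl⟩
    have h1 := mul_mem ((le_sup_left : ⁅M, Q⁆ ≤ ⁅M, Q⁆ ⊔ Q) (commutator_mem_commutator hm hq))
      ((le_sup_right : Q ≤ ⁅M, Q⁆ ⊔ Q) hq)
    simpa [commutatorElement_def, mul_assoc] using h1
  obtain ⟨k, hk, hke⟩ := wc_exists_conj hW hQ le_sup_right hle
  rw [← SetLike.mem_coe, coe_mul_of_right_le_normalizer_left _ _ hQD] at hk
  obtain ⟨d, hd, q, hq, rfl⟩ := hk
  rw [← conj_map_map d q, conj_map_of_mem (le_normalizer hq)] at hke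
  have haN : d⁻¹ * m ∈ normalizer (Q : Set G) := mem_normalizer_of_conj_map_eq hke
  have hDM : ⁅M, Q⁆ ≤ M := Coprime.commutator_le_of_le_normalizer hQM
  refine ⟨d⁻¹ * m, mem_inf.2 ⟨mul_mem (inv_mem (hDM hd)) hm, haN⟩,
    (d⁻¹ * m)⁻¹ * d * (d⁻¹ * m), ?_, by group⟩
  have h := (mem_normalizer_iff.1 (normalizer_commutator_ge_left M Q
    (inv_mem (mul_mem (inv_mem (hDM hd)) hm))) d).1 hd
  simpa [mul_assoc] using h

end Cfsg.Agent.CharP
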