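import Cfsg.Agent.Lib.CharP.Parabolic
import Cfsg.Agent.S2845

/-!
The consequences of asymmetry of `Y_M` for a large subgroup.
-/

set_option autoImplicit false

namespace Cfsg.Agent.CharP.Asym

open Subgroup

variable {G : Type*} [Group G]

local notation:70 A:70 " ⊛ " g:71 => Subgroup.map (MulEquiv.toMonoidHom (MulAut.conj g)) A

/-- The words of length `n` in a double coset chain. -/
def reach (M N : Subgroup G) : ℕ → Set G
  | 0 => (M : Set G)
  | n + 1 => {g | ∃ m ∈ M, ∃ x ∈ N, ∃ k ∈ reach M N n, g = m * (x * k)}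

variable {M N : Subgroup G}

theorem reach_left {n : ℕ} {g m : G} (hm : m ∈ M) (hg : g ∈ reach M N n) : m * g ∈ reach M N n := by
  cases n with
  | zero => exact M.mul_mem hm hg
  | succ n =>
    obtain ⟨m', hm', x, hx, k, hk, rfl⟩ := hg
    exact ⟨m * m', M.mul_mem hm hm', x, hx, k, hk, by simp [mul_assoc]⟩

theorem reach_right : ∀ {n : ℕ} {g x m : G}, g ∈ reach M N n → x ∈ N → m ∈ M →
    g * (x * m) ∈ reach M N (n + 1)
  | 0, g, x, m, hg, hx, hm => ⟨g, hg, x, hx, m, hm, rfl⟩
  | n + 1, g, x, m, hg, hx, hm => by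
    obtain ⟨m', hm', x', hx', k, hk, rfl⟩ := hg
    exact ⟨m', hm', x', hx', k * (x * m), reach_right hk hx hm, by simp [mul_assoc]⟩

theorem reach_inv : ∀ {n : ℕ} {g : G}, g ∈ reach M N n → g⁻¹ ∈ reach M N n
  | 0, g, hg => M.inv_mem hg
  | n + 1, g, hg => by
    obtain ⟨m, hm, x, hx, k, hk, rfl⟩ := hg
    have := reach_right (reach_inv hk) (N.inv_mem hx) (M.inv_mem hm)
    rwa [show (m * (x * k))⁻¹ = k⁻¹ * (x⁻¹ * m⁻¹) by simp [mul_assoc]]

theorem exists_reach {g : G} (hg : g ∈ M ⊔ N) : ∃ n, g ∈ reach M N n := by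
  rw [sup_eq_closure] at hg
  induction hg using closure_induction_left with
  | one => exact ⟨0, M.one_mem⟩
  | mul_left x hx y _ ih =>
    obtain ⟨n, hn⟩ := ih
    rcases hx with hx | hx
    · exact ⟨n, reach_left hx hn⟩
    · exact ⟨n + 1, 1, M.one_mem, x, hx, y, hn, by simp⟩
  | inv_mul_cancel x hx y _ ih =>
    obtain ⟨n, hn⟩ := ih
    rcases hx with hx | hx
    · exact ⟨n, reach_left (M.inv_mem hx) hn⟩
    · exact ⟨n + 1, 1, M.one_mem, x⁻¹, N.inv_mem hx, y, hn, by simp⟩

variable [Finite G] {p : ℕ} [Fact p.Prime]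

theorem le_max {X : Subgroup G} (hX : X ∈ Cfsg.charPSubgroups p G) {M Md : Subgroup G}
    (hMX : M ≤ X) (hu : ∀ Z ∈ Cfsg.maxCharPSubgroups p G, M ≤ Z → Z = Md) : X ≤ Md := by
  obtain ⟨Z, hXZ, hZ⟩ := (Set.toFinite (Cfsg.charPSubgroups p G)).exists_le_maximal hX
  have hZm : Z ∈ Cfsg.maxCharPSubgroups p G :=
    ⟨hZ.1, fun L hL hle => le_antisymm (hZ.2 hL hle) hle⟩
  exact hXZ.trans (hu Z hZm (hMX.trans hXZ)).le

/-- The basic data. -/
structure Data (p : ℕ) (S : Sylow p G) (M : Subgroup G) : Prop where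
  hSM : (S : Subgroup G) ≤ M
  frakM : Cfsg.IsInFrakM p M
  par : Cfsg.IsOfParabolicCharacteristic p G
  asym : ¬ Cfsg.IsSymmetricIn (Cfsg.largestPReducedOf p M)

variable {S : Sylow p G} {M : Subgroup G}

theorem dagger_eq (d : Data p S M) :
    M ⊔ centralizer (Cfsg.largestPReducedOf p M : Set G) =
      normalizer (Cfsg.largestPReducedOf p M : Set G) := by
  refine le_antisymm (sup_le (le_normalizer_largestPReducedOf p M) (centralizer_le_normalizer _)) ?_
  exact le_max (mem_charPSubgroups_of_parabolic d.par S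
    (isPGroup_of_isElementaryAbelian (isElementaryAbelian_largestPReducedOf p M))
    (largestPReducedOf_ne_bot S d.hSM d.frakM.1)
    (d.hSM.trans (le_normalizer_largestPReducedOf p M)) le_rfl)
    (le_normalizer_largestPReducedOf p M) d.frakM.2.2.1

theorem core_eq (d : Data p S M) :
    (S : Subgroup G) ⊓ centralizer (Cfsg.largestPReducedOf p M : Set G) = Cfsg.pCoreOf p M := by
  set Y := Cfsg.largestPReducedOf p M
  have hS : IsSylIn p (S : Subgroup G) M :=
    IsSylIn.mono (H := ⊤) (isSylIn_top_iff.2 ⟨S, rfl⟩) d.hSM le_top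
  have hMY : M ≤ normalizer (Y : Set G) := le_normalizer_largestPReducedOf p M
  refine le_antisymm ?_ (le_inf (pCoreOf_le_of_isSylIn hS) (pCoreOf_le_centralizer_largestPReducedOf p M))
  have h := (isPClosed_subgroup_iff.1 d.frakM.2.2.2.2.1) _
    (inf_le_inf_right _ d.hSM) (S.2.to_le inf_le_left)
  refine h.trans (le_pCoreOf ((pCoreOf_le p _).trans inf_le_left) ?_ (isPGroup_pCoreOf p _))
  exact ((le_inf le_normalizer (hMY.trans (normalizer_le_normalizer_centralizer Y))).trans
    inf_normalizer_le_normalizer_inf).trans (normalizer_le_normalizer_pCoreOf p _)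

theorem core_sylow (d : Data p S M) :
    IsSylIn p (Cfsg.pCoreOf p M) (centralizer (Cfsg.largestPReducedOf p M : Set G)) := by
  set Y := Cfsg.largestPReducedOf p M
  have hS : IsSylIn p (S : Subgroup G) (normalizer (Y : Set G)) :=
    IsSylIn.mono (H := ⊤) (isSylIn_top_iff.2 ⟨S, rfl⟩)
      (d.hSM.trans (le_normalizer_largestPReducedOf p M)) le_top
  have h := hS.inf_normal (centralizer_le_normalizer _) (normalizer_le_normalizer_centralizer Y)
  rwa [core_eq d] at h

theorem inf_centralizer_eq (d : Data p S M) {L : Subgroup G} (hL : IsPGroup p ↥L)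
    (hPL : Cfsg.pCoreOf p M ≤ L) :
    L ⊓ centralizer (Cfsg.largestPReducedOf p M : Set G) = Cfsg.pCoreOf p M :=
  (core_sylow d).eq_of_le (hL.to_le inf_le_left) inf_le_right
    (le_inf hPL (core_sylow d).le)

/-- Normalizers of `p`-subgroups over `O_p(M)` inside `N(Y_M)`. -/
theorem normalizer_le_of_le (d : Data p S M) {L : Subgroup G} (hL : IsPGroup p ↥L)
    (hPL : Cfsg.pCoreOf p M ≤ L) (hLN : L ≤ normalizer (Cfsg.largestPReducedOf p M : Set G)) :
    normalizer (L : Set G) ≤ normalizer (Cfsg.largestPReducedOf p M : Set G) := by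
  set Y := Cfsg.largestPReducedOf p M
  set P := Cfsg.pCoreOf p M
  have hYP : Y ≤ P := largestPReducedOf_le_pCoreOf p M
  have hMY : M ≤ normalizer (Y : Set G) := le_normalizer_largestPReducedOf p M
  have claim : ∀ n, ∀ g ∈ reach M (normalizer (L : Set G)) n, Y ⊛ g ≤ P := by
    intro n
    induction n with
    | zero => exact fun g hg => (conj_map_of_mem (hMY hg)).le.trans hYP
    | succ n ih =>
      have step : ∀ g ∈ reach M (normalizer (L : Set G)) (n + 1), ∃ m ∈ M, ∃ x ∈ normalizer (L : Set G),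
          ∃ k ∈ reach M (normalizer (L : Set G)) n, g = m * (x * k) ∧ Y ⊛ (x * k) ≤ L ∧
            Y ⊛ g ≤ normalizer (Y : Set G) := by
        intro g hg
        obtain ⟨m, hm, x, hx, k, hk, rfl⟩ := hg
        have h1 : Y ⊛ (x * k) ≤ L := by
          rw [← conj_map_map]
          exact (map_mono ((ih k hk).trans hPL)).trans (conj_map_of_mem hx).le
        refine ⟨m, hm, x, hx, k, hk, rfl, h1, ?_⟩
        rw [← conj_map_map m]
        exact (map_mono (h1.trans hLN)).trans
          (conj_map_of_mem (le_normalizer (hMY hm))).le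
      intro g hg
      obtain ⟨m, hm, x, hx, k, hk, rfl, h1, -⟩ := step g hg
      set h := x * k with hh
      have hr : h ∈ reach M (normalizer (L : Set G)) (n + 1) :=
        ⟨1, M.one_mem, x, hx, k, hk, (one_mul _).symm⟩
      obtain ⟨-, -, -, -, -, -, -, -, h2⟩ := step h⁻¹ (reach_inv hr)
      have h3 : Y ≤ normalizer ((Y ⊛ h : Subgroup G) : Set G) := by
        have := map_conj_le_normalizer h h2
        rwa [conj_map_map, mul_inv_cancel, conj_map_one] at this
      have hc : ⁅Y, Y ⊛ h⁆ = ⊥ := by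
        by_contra hne
        refine d.asym ⟨h, hne, le_inf (commutator_le_left_iff.2 (h1.trans hLN)) ?_⟩
        rw [Subgroup.commutator_comm]
        exact commutator_le_left_iff.2 h3
      have h4 : Y ⊛ h ≤ P := by
        refine le_trans ?_ (inf_centralizer_eq d hL hPL).le
        refine le_inf h1 (le_centralizer_iff.1 ?_)
        exact commutator_eq_bot_iff_le_centralizer.1 hc
      rw [← conj_map_map]
      exact (map_mono h4).trans (conj_map_of_mem (le_normalizer_pCoreOf p M hm)).le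
  set H := M ⊔ normalizer (L : Set G) with hH
  set D : Subgroup G := ⨆ g : H, Y ⊛ (g : G) with hD
  have hDP : D ≤ P := iSup_le fun g => by
    obtain ⟨n, hn⟩ := exists_reach g.2
    exact claim n g hn
  have hYD : Y ≤ D := by
    refine le_trans (le_of_eq ?_) (le_iSup (fun g : H => Y ⊛ (g : G)) 1)
    rw [OneMemClass.coe_one, conj_map_one]
  have hDn : H ≤ normalizer (D : Set G) := fun g hg => mem_normalizer_of_conj_map (by
    refine le_antisymm ?_ ?_
    · rw [hD, Subgroup.map_iSup]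
      refine iSup_le fun a => le_trans (le_of_eq ?_) (le_iSup _ (⟨g, hg⟩ * a : H))
      rw [conj_map_map]; rfl
    · rw [hD, Subgroup.map_iSup]
      refine iSup_le fun a => le_trans (le_of_eq ?_) (le_iSup _ (⟨g, hg⟩⁻¹ * a : H))
      rw [conj_map_map]
      simp)
  have hD1 : D ≠ ⊥ := fun h => largestPReducedOf_ne_bot S d.hSM d.frakM.1 (le_bot_iff.1 (h ▸ hYD))
  have hHc : H ∈ Cfsg.charPSubgroups p G :=
    mem_charPSubgroups_of_parabolic d.par S ((isPGroup_pCoreOf p M).to_le hDP) hD1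
      (d.hSM.trans le_sup_left) hDn
  refine le_trans le_sup_right ((le_max hHc le_sup_left d.frakM.2.2.1).trans ?_)
  rw [dagger_eq d]

/-- Every `p`-subgroup over `O_p(M)` lies in `N(Y_M)`. -/
theorem le_normalizer_Y (d : Data p S M) {L : Subgroup G} (hL : IsPGroup p ↥L)
    (hPL : Cfsg.pCoreOf p M ≤ L) : L ≤ normalizer (Cfsg.largestPReducedOf p M : Set G) := by
  set N := normalizer (Cfsg.largestPReducedOf p M : Set G) with hN
  by_contra hle
  haveI : Group.IsNilpotent ↥L := hL.isNilpotent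
  have hlt : N.subgroupOf L < ⊤ := lt_top_iff_ne_top.2 fun h => hle (subgroupOf_eq_top.1 h)
  obtain ⟨t, ht, htn⟩ := SetLike.exists_of_lt (Group.normalizerCondition_of_isNilpotent _ hlt)
  apply htn
  rw [mem_subgroupOf]
  refine normalizer_le_of_le d (L := L ⊓ N) (hL.to_le inf_le_left)
    (le_inf hPL ((pCoreOf_le p M).trans (le_normalizer_largestPReducedOf p M))) inf_le_right ?_
  rw [mem_normalizer_iff]
  intro z
  constructor
  · intro hz
    exact ⟨mul_mem (mul_mem t.2 hz.1) (L.inv_mem t.2),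
      ((mem_normalizer_iff.1 ht) ⟨z, hz.1⟩).1 hz.2⟩
  · intro hz
    have hzL : z ∈ L := by
      have := mul_mem (mul_mem (L.inv_mem t.2) hz.1) t.2
      simpa [mul_assoc] using this
    exact ⟨hzL, ((mem_normalizer_iff.1 ht) ⟨z, hzL⟩).2 hz.2⟩

theorem normalizer_le (d : Data p S M) {L : Subgroup G} (hL : IsPGroup p ↥L)
    (hPL : Cfsg.pCoreOf p M ≤ L) :
    normalizer (L : Set G) ≤ normalizer (Cfsg.pCoreOf p M : Set G) := by
  have h1 := normalizer_le_of_le d hL hPL (le_normalizer_Y d hL hPL)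
  refine le_trans ?_ (le_of_eq (congrArg (fun K : Subgroup G => normalizer (K : Set G))
    (inf_centralizer_eq d hL hPL)))
  exact (le_inf le_rfl (h1.trans (normalizer_le_normalizer_centralizer _))).trans
    inf_normalizer_le_normalizer_inf

theorem normalizer_core_le (d : Data p S M) :
    normalizer (Cfsg.pCoreOf p M : Set G) ≤
      M ⊔ centralizer (Cfsg.largestPReducedOf p M : Set G) := by
  rw [dagger_eq d]
  exact normalizer_le_of_le d (isPGroup_pCoreOf p M) le_rfl
    (le_normalizer_Y d (isPGroup_pCoreOf p M) le_rfl)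

theorem weakly_closed (d : Data p S M) : Cfsg.IsWeaklyClosedSubgroup p (Cfsg.pCoreOf p M) :=
  wc_of_normalizer_le (isPGroup_pCoreOf p M) fun _ hR hPR => normalizer_le d hR hPR

theorem parabolic (d : Data p S M) {L : Subgroup G} (hPL : Cfsg.pCoreOf p M ≤ L) :
    Cfsg.IsParabolic p
      ((L ⊓ (M ⊔ centralizer (Cfsg.largestPReducedOf p M : Set G))).subgroupOf L) := by
  obtain ⟨T, hT⟩ := ((isPGroup_pCoreOf p M).comap_subtype (K := L)).exists_le_sylow
  refine ⟨T, fun x hx => mem_subgroupOf.2 ⟨x.2, ?_⟩⟩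
  rw [dagger_eq d]
  refine le_normalizer_Y d (T.2.map L.subtype) (fun y hy => ⟨⟨y, hPL hy⟩, hT hy, rfl⟩) ⟨x, hx, rfl⟩

theorem fusion (d : Data p S M) :
    ∀ x ∈ Cfsg.largestPReducedOf p M, ∀ g : G, g * x * g⁻¹ ∈ Cfsg.largestPReducedOf p M →
      ∃ m ∈ M, m * x * m⁻¹ = g * x * g⁻¹ := by
  intro x hx g hgx
  set Y := Cfsg.largestPReducedOf p M
  set P := Cfsg.pCoreOf p M
  set C := centralizer ({x} : Set G)
  have hPC : P ≤ centralizer (Y : Set G) := pCoreOf_le_centralizer_largestPReducedOf p M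
  have h1 : P ≤ C := hPC.trans (centralizer_le (Set.singleton_subset_iff.2 hx))
  have h2 : P ⊛ g⁻¹ ≤ C := by
    rintro _ ⟨q, hq, rfl⟩
    rw [mem_centralizer_singleton_iff]
    have := (mem_centralizer_iff.1 (hPC hq)) _ hgx
    calc (MulAut.conj g⁻¹).toMonoidHom q * x = g⁻¹ * (q * (g * x * g⁻¹)) * g := by
          simp [mul_assoc]
      _ = g⁻¹ * ((g * x * g⁻¹) * q) * g := by rw [this]
      _ = x * (MulAut.conj g⁻¹).toMonoidHom q := by simp [mul_assoc]
  obtain ⟨T, hT, hPT⟩ := exists_isSylIn_ge (isPGroup_pCoreOf p M) h1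
  obtain ⟨T', hT', hPT'⟩ := exists_isSylIn_ge (isPGroup_conj (isPGroup_pCoreOf p M) g⁻¹) h2
  obtain ⟨c, hc, hce⟩ := hT'.exists_conj hT
  have h3 : (P ⊛ g⁻¹) ⊛ c ≤ T := (map_mono hPT').trans hce.le
  rw [conj_map_map] at h3
  have h4 := wc_eq_self (weakly_closed d) hT.isPGroup hPT h3
  have h5 : c * g⁻¹ ∈ normalizer (P : Set G) := mem_normalizer_of_conj_map h4
  have h6 : g * c⁻¹ ∈ M ⊔ centralizer (Y : Set G) := by
    have := normalizer_core_le d (inv_mem h5)
    rwa [mul_inv_rev, inv_inv] at this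
  rw [← SetLike.mem_coe, coe_mul_of_left_le_normalizer_right _ _
    ((le_normalizer_largestPReducedOf p M).trans (normalizer_le_normalizer_centralizer _))] at h6
  obtain ⟨m, hm, c', hc', he⟩ := h6
  refine ⟨m, hm, ?_⟩
  have hcx : c * x = x * c := mem_centralizer_singleton_iff.1 hc
  have hc'x : c' * x = x * c' := (mem_centralizer_iff.1 hc' x hx).symm
  have hg : g = m * c' * c := by
    have he' : m * c' = g * c⁻¹ := he
    rw [he', inv_mul_cancel_right]
  calc m * x * m⁻¹ = m * (c' * (c * x * c⁻¹) * c'⁻¹) * m⁻¹ := by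
        rw [hcx, mul_inv_cancel_right, hc'x, mul_inv_cancel_right]
    _ = g * x * g⁻¹ := by rw [hg]; simp [mul_assoc]

end Cfsg.Agent.CharP.Asym
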