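import Cfsg.Agent.Lib.CharP.Asymmetric
import Cfsg.Agent.Lib.CharP.SubnormalResidual
import Cfsg.Agent.Lib.CharP.PClosed
import Cfsg.Agent.Lib.CharP.CharP

/-!
Members of `ℌ_G(O_p(M))` for asymmetric `Y_M`.
-/

set_option autoImplicit false

namespace Cfsg.Agent.CharP.FrakH

open Subgroup
open scoped commutatorElement

variable {G : Type*} [Group G]

/-- The normal closure of `A` in `H`, in the ambient group. -/
def ncl (A H : Subgroup G) : Subgroup G :=
  (normalClosure ((A.subgroupOf H : Subgroup ↥H) : Set ↥H)).map H.subtype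

theorem ncl_le (A H : Subgroup G) : ncl A H ≤ H := map_subtype_le _

theorem le_normalizer_ncl (A H : Subgroup G) : H ≤ normalizer (ncl A H : Set G) := by
  refine (normal_subgroupOf_iff_le_normalizer (ncl_le A H)).1 ?_
  rw [ncl, subgroupOf, comap_map_eq_self_of_injective H.subtype_injective]
  exact normalClosure_normal

theorem le_ncl {A H : Subgroup G} (h : A ≤ H) : A ≤ ncl A H := fun x hx =>
  ⟨⟨x, h hx⟩, subset_normalClosure hx, rfl⟩

theorem ncl_le_of {A H N : Subgroup G} (hA : ∀ h ∈ H, ∀ a ∈ A, a ∈ H → h * a * h⁻¹ ∈ N) :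
    ncl A H ≤ N := by
  rw [ncl, map_le_iff_le_comap, normalClosure, closure_le]
  intro x hx
  obtain ⟨a, ha, hc⟩ := Group.mem_conjugatesOfSet_iff.1 hx
  obtain ⟨h, rfl⟩ := isConj_iff.1 hc
  exact hA h h.2 a ha a.2

theorem ncl_le_of_normal {A H N : Subgroup G} (hAN : A ≤ N) (hn : H ≤ normalizer (N : Set G)) :
    ncl A H ≤ N :=
  ncl_le_of fun _ hh _ ha _ => (mem_normalizer_iff.1 (hn hh) _).1 (hAN ha)

variable [Finite G] {p : ℕ} [Fact p.Prime]

/-- A normal subgroup with `p`-quotient together with a subgroup of full normal closure is everything. -/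
theorem sup_eq {R P H : Subgroup G} (hR : R ≤ H) (hn : H ≤ normalizer (R : Set G))
    (hq : ∀ x ∈ H, ∃ k : ℕ, x ^ p ^ k ∈ R) (hP : P ≤ H) (hgen : H ≤ ncl P H) : R ⊔ P = H := by
  refine le_antisymm (sup_le hR hP) ?_
  by_contra hne
  haveI hRn : (R.subgroupOf H).Normal := (normal_subgroupOf_iff_le_normalizer hR).2 hn
  set Q := ↥H ⧸ R.subgroupOf H
  set π : ↥H →* Q := QuotientGroup.mk' _
  have hQ : IsPGroup p Q := fun q => by
    obtain ⟨x, rfl⟩ := QuotientGroup.mk'_surjective _ q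
    obtain ⟨k, hk⟩ := hq x x.2
    exact ⟨k, by rw [← map_pow]; exact (QuotientGroup.eq_one_iff _).2 hk⟩
  haveI : Group.IsNilpotent Q := hQ.isNilpotent
  set W := ((R ⊔ P).subgroupOf H).map π
  have hW : W ≠ ⊤ := by
    intro h
    apply hne
    intro x hx
    obtain ⟨y, hy, hyx⟩ := (h.ge (mem_top (π ⟨x, hx⟩)) : π ⟨x, hx⟩ ∈ W)
    have h1 : y⁻¹ * (⟨x, hx⟩ : ↥H) ∈ R.subgroupOf H :=
      (QuotientGroup.eq_one_iff _).1 (show π (y⁻¹ * (⟨x, hx⟩ : ↥H)) = 1 by
        rw [map_mul, map_inv, hyx, inv_mul_cancel])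
    have h2 := (R ⊔ P).mul_mem hy ((le_sup_left : R ≤ R ⊔ P) h1)
    simpa using h2
  obtain ⟨C, hC, hWC⟩ := (eq_top_or_exists_le_coatom W).resolve_left hW
  haveI hCn : C.Normal :=
    Subgroup.NormalizerCondition.normal_of_coatom _ Group.normalizerCondition_of_isNilpotent hC
  have h1 : P.subgroupOf H ≤ C.comap π := fun x hx =>
    hWC ⟨x, mem_subgroupOf.2 ((le_sup_right : P ≤ R ⊔ P) hx), rfl⟩
  have h2 : normalClosure ((P.subgroupOf H : Subgroup ↥H) : Set ↥H) ≤ C.comap π :=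
    normalClosure_le_normal h1
  apply hC.1
  rw [eq_top_iff]
  intro q _
  obtain ⟨x, rfl⟩ := QuotientGroup.mk'_surjective (R.subgroupOf H) q
  obtain ⟨y, hy, hyx⟩ := hgen x.2
  have : y = x := Subtype.ext hyx
  exact h2 (this ▸ hy)

variable {S : Sylow p G} {M H : Subgroup G}

local notation "Y" => Cfsg.largestPReducedOf p M
local notation "P" => Cfsg.pCoreOf p M

/-- `O_p(H)` normalizes `O_p(M)`. -/
theorem core_le_normalizer (d : Asym.Data p S M) (hPH : P ≤ H) :
    Cfsg.pCoreOf p H ≤ normalizer ((P : Subgroup G) : Set G) := by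
  have hn : P ≤ normalizer (Cfsg.pCoreOf p H : Set G) := hPH.trans (le_normalizer_pCoreOf p H)
  have hp : IsPGroup p ↥(P ⊔ Cfsg.pCoreOf p H : Subgroup G) :=
    (isPGroup_pCoreOf p M).to_sup_of_normal_right' (isPGroup_pCoreOf p H) hn
  exact le_sup_right.trans (le_normalizer.trans (Asym.normalizer_le d hp le_sup_left))

theorem pCoreOf_le_of_normal {K H : Subgroup G} (hKH : K ≤ H) (hn : H ≤ normalizer (K : Set G)) :
    Cfsg.pCoreOf p K ≤ Cfsg.pCoreOf p H :=
  le_pCoreOf ((pCoreOf_le p K).trans hKH) (hn.trans (normalizer_le_normalizer_pCoreOf p K))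
    (isPGroup_pCoreOf p K)

theorem ncl_eq (d : Asym.Data p S M) (hH : Cfsg.IsInFrakH p M H) : ncl P H = H := by
  by_contra hne
  have hlt : ncl P H < H := lt_of_le_of_ne (ncl_le _ _) hne
  exact hH.2.2.1 ((hH.2.2.2 _ (le_ncl hH.2.1) hlt).trans
    (pCoreOf_le_of_normal hlt.le (le_normalizer_ncl _ _)))

theorem resOf_sup (d : Asym.Data p S M) (hH : Cfsg.IsInFrakH p M H) : resOf p H ⊔ P = H :=
  sup_eq (resOf_le p H) (le_normalizer.trans (le_normalizer_resOf p H))
    (fun _ hx => exists_pow_mem_resOf hx) hH.2.1 (ncl_eq d hH).ge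

theorem commutator_resOf (d : Asym.Data p S M) (hH : Cfsg.IsInFrakH p M H) :
    ⁅resOf p H, Y⁆ = resOf p H := by
  set R := resOf p H with hR
  have hYP : Y ≤ P := largestPReducedOf_le_pCoreOf p M
  have hYH : Y ≤ H := hYP.trans hH.2.1
  have hRH : R ≤ H := resOf_le p H
  have hHR : H ≤ normalizer (R : Set G) := le_normalizer.trans (le_normalizer_resOf p H)
  have hR0 : ⁅R, Y⁆ ≤ R := commutator_le_left_iff.2 (hYH.trans hHR)
  refine le_antisymm hR0 ?_
  set R0 := ⁅R, Y⁆
  have hn0 : H ≤ normalizer (R0 : Set G) := by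
    refine (resOf_sup d hH).ge.trans (sup_le (normalizer_commutator_ge_left _ _) ?_)
    intro x hx
    refine mem_normalizer_of_conj_map ?_
    show R0.map (MulAut.conj x).toMonoidHom = R0
    rw [Subgroup.map_commutator, conj_map_of_mem (hHR (hH.2.1 hx)),
      conj_map_of_mem (le_normalizer_largestPReducedOf p M (pCoreOf_le p M hx))]
  by_cases hU : R0 ⊔ P = H
  · refine resOf_le_of_isPGroup_quotient (hR0.trans hRH) hn0 fun x hx => ?_
    rw [← hU, sup_comm, ← SetLike.mem_coe,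
      coe_mul_of_left_le_normalizer_right _ _ (hH.2.1.trans hn0)] at hx
    obtain ⟨o, ho, c, hc, rfl⟩ := hx
    obtain ⟨k, hk⟩ := isPGroup_pCoreOf p M ⟨o, ho⟩
    refine ⟨k, ?_⟩
    have h1 := inv_pow_mul_mul_pow_mem (hn0 (hH.2.1 ho)) hc (p ^ k)
    rwa [show o ^ p ^ k = 1 from congrArg Subtype.val hk, inv_one, one_mul] at h1
  · exfalso
    have hlt : R0 ⊔ P < H := lt_of_le_of_ne (sup_le (hR0.trans hRH) hH.2.1) hU
    have hYU := hH.2.2.2 _ le_sup_right hlt
    set N := R0 ⊔ Y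
    have hNn : H ≤ normalizer (N : Set G) := by
      refine (resOf_sup d hH).ge.trans (sup_le ?_ ?_)
      · refine Subgroup.le_normalizer_iff.2 fun r hr z hz => ?_
        have hsub : N ≤ N.comap (MulAut.conj r).toMonoidHom := sup_le
          (fun a ha => mem_sup_left ((mem_normalizer_iff.1 (hn0 (hRH hr)) a).1 ha))
          (fun a ha => by
            have h2 := mul_mem (mem_sup_left (T := Y) (commutator_mem_commutator hr ha))
              (mem_sup_right (S := R0) ha)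
            show r * a * r⁻¹ ∈ N
            simpa [commutatorElement_def] using h2)
        exact hsub hz
      · intro x hx
        rw [mem_normalizer_iff_map_conj_eq, Subgroup.map_sup]
        exact congrArg₂ (· ⊔ ·) (conj_map_of_mem (hn0 (hH.2.1 hx)))
          (conj_map_of_mem (le_normalizer_largestPReducedOf p M (pCoreOf_le p M hx)))
    have hNU : N ≤ R0 ⊔ P := sup_le le_sup_left (hYP.trans le_sup_right)
    have h1 : Y ≤ Cfsg.pCoreOf p N :=
      (le_inf hYU le_sup_right).trans (le_pCoreOf inf_le_right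
        ((le_inf (hNU.trans (le_normalizer_pCoreOf p _)) le_normalizer).trans
          inf_normalizer_le_normalizer_inf)
        ((isPGroup_pCoreOf p _).to_le inf_le_left))
    exact hH.2.2.1 (h1.trans (pCoreOf_le_of_normal (hNU.trans hlt.le) hNn))

theorem ncl_Y (d : Asym.Data p S M) (hH : Cfsg.IsInFrakH p M H) :
    resOf p H ⊔ Y = ncl Y H := by
  have hYP : Y ≤ P := largestPReducedOf_le_pCoreOf p M
  have hYH : Y ≤ H := hYP.trans hH.2.1
  have hHR : H ≤ normalizer (resOf p H : Set G) := le_normalizer.trans (le_normalizer_resOf p H)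
  refine le_antisymm (sup_le ?_ (le_ncl hYH)) (ncl_le_of_normal le_sup_right ?_)
  · rw [← commutator_resOf d hH]
    exact (commutator_mono (resOf_le p H) (le_ncl hYH)).trans
      (Subgroup.commutator_comm H (ncl Y H) ▸ commutator_le_left_iff.2 (le_normalizer_ncl _ _))
  · refine (resOf_sup d hH).ge.trans (sup_le (le_sup_left.trans le_normalizer) ?_)
    intro x hx
    rw [mem_normalizer_iff_map_conj_eq, Subgroup.map_sup]
    exact congrArg₂ (· ⊔ ·) (conj_map_of_mem (hHR (hH.2.1 hx)))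
      (conj_map_of_mem (le_normalizer_largestPReducedOf p M (pCoreOf_le p M hx)))

theorem sylow_inf (d : Asym.Data p S M) (hPH : P ≤ H)
    (T : Sylow p ↥(H ⊓ (M ⊔ centralizer ((Y : Subgroup G) : Set G)))) :
    ∃ T' : Sylow p ↥H, ((T' : Subgroup ↥H).map H.subtype) =
      (T : Subgroup ↥(H ⊓ (M ⊔ centralizer ((Y : Subgroup G) : Set G)))).map
        (H ⊓ (M ⊔ centralizer ((Y : Subgroup G) : Set G))).subtype := by
  obtain ⟨T0, hT0⟩ := Asym.parabolic d hPH
  have h0 : IsSylIn p ((T0 : Subgroup ↥H).map H.subtype) H := ⟨T0, rfl⟩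
  have h1 : IsSylIn p ((T0 : Subgroup ↥H).map H.subtype)
      (H ⊓ (M ⊔ centralizer ((Y : Subgroup G) : Set G))) := by
    refine h0.mono ?_ inf_le_left
    rintro _ ⟨x, hx, rfl⟩
    exact mem_subgroupOf.1 (hT0 hx)
  obtain ⟨g, hg, hge⟩ := h1.exists_conj ⟨T, rfl⟩
  have h2 := h0.conj g
  rw [hge, conj_map_of_mem (le_normalizer (inf_le_left (a := H) hg))] at h2
  exact h2

/-- Existence of members of `ℌ_G(O_p(M))`. -/
theorem exists_frakH (d : Asym.Data p S M) (htall : Cfsg.IsCharPTall p Y) :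
    ∃ H : Subgroup G, Cfsg.IsInFrakH p M H := by
  obtain ⟨T, L0, hTL, hL0, hYL0⟩ := htall
  obtain ⟨c, hc, hce⟩ := IsSylIn.exists_conj (H := centralizer ((Y : Subgroup G) : Set G))
    ⟨T, rfl⟩ (Asym.core_sylow d)
  set L := L0.map (MulAut.conj c).toMonoidHom
  have hcY : (Y).map (MulAut.conj c).toMonoidHom = Y :=
    conj_map_of_mem (centralizer_le_normalizer _ hc)
  have hL : IsCharP p L := by
    refine isCharP_of_conj c⁻¹ ?_
    rw [conj_map_map, inv_mul_cancel, conj_map_one]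
    exact (isCharP_iff L0).2 hL0
  have hPL : P ≤ L := hce ▸ map_mono hTL
  have hYL : ¬ Y ≤ Cfsg.pCoreOf p L := by
    intro h
    apply hYL0
    rw [pCoreOf_conj, ← hcY] at h
    exact (map_le_map_iff_of_injective (MulAut.conj c).injective).1 h
  obtain ⟨H, ⟨hHc, hPH, hYH⟩, hmin⟩ := (Set.toFinite
    {H : Subgroup G | IsCharP p H ∧ P ≤ H ∧ ¬ Y ≤ Cfsg.pCoreOf p H}).exists_minimal ⟨L, hL, hPL, hYL⟩
  refine ⟨H, (isCharP_iff H).1 hHc, hPH, hYH, fun P' hPP' hlt => ?_⟩
  by_contra hY'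
  set O := Cfsg.pCoreOf p H
  have hOn : P' ≤ normalizer (O : Set G) := hlt.le.trans (le_normalizer_pCoreOf p H)
  set P'' := P' ⊔ O
  have hP''H : P'' ≤ H := sup_le hlt.le (pCoreOf_le p H)
  have hOP : O ≤ Cfsg.pCoreOf p P'' :=
    le_pCoreOf le_sup_right (sup_le hOn le_normalizer) (isPGroup_pCoreOf p H)
  by_cases heq : P'' = H
  · have hcl : ncl P H ≤ P' := ncl_le_of fun h hh a ha _ => by
      rw [← heq, ← SetLike.mem_coe, coe_mul_of_left_le_normalizer_right _ _ hOn] at hh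
      obtain ⟨k, hk, o, ho, rfl⟩ := hh
      have h1 : o * a * o⁻¹ ∈ P :=
        (mem_normalizer_iff.1 (core_le_normalizer d hPH ho) a).1 ha
      have := mul_mem (mul_mem hk (hPP' h1)) (inv_mem hk)
      simpa [mul_assoc] using this
    have hK : IsCharP p (ncl P H) :=
      isCharP_of_normal hHc (ncl_le _ _) (le_normalizer_ncl _ _)
    have hKY : ¬ Y ≤ Cfsg.pCoreOf p (ncl P H) := fun h =>
      hYH (h.trans (pCoreOf_le_of_normal (ncl_le _ _) (le_normalizer_ncl _ _)))
    exact hlt.not_ge ((hmin ⟨hK, le_ncl hPH, hKY⟩ (ncl_le _ _)).trans hcl)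
  · have hc'' : IsCharP p P'' := by
      refine le_trans ?_ hOP
      exact (inf_le_inf hP''H (centralizer_le (SetLike.coe_subset_coe.2 hOP))).trans hHc
    have hY'' : Y ≤ Cfsg.pCoreOf p P'' := by
      by_contra h
      exact heq (le_antisymm hP''H (hmin ⟨hc'', hPP'.trans le_sup_left, h⟩ hP''H))
    exact hY' ((le_inf hY'' ((largestPReducedOf_le_pCoreOf p M).trans hPP')).trans
      (le_pCoreOf inf_le_right
        ((le_inf ((le_sup_left : P' ≤ P'').trans (le_normalizer_pCoreOf p _)) le_normalizer).trans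
          inf_normalizer_le_normalizer_inf)
        ((isPGroup_pCoreOf p _).to_le inf_le_left)))

/-- The commutator trick: if `R` is generated by `p'`-elements with `R = [R,A]` for a `p`-group
`A`, then an element fixed by `A` modulo `O` lies in `R' O`. -/
theorem mem_kernel_of_fixed {R A O : Subgroup G} (hA : IsPGroup p ↥A)
    (hres : resOf p R = R) (hcomm : ⁅R, A⁆ = R) (hAR : A ≤ normalizer (R : Set G))
    (hOn : R ≤ normalizer (O : Set G)) (hAO : A ≤ normalizer (O : Set G))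
    {Q : Type*} [Group Q] (φ ψ : ↥R →* Q) (hcommEq : ∀ r s : ↥R, φ ⁅r, s⁆ = ψ ⁅r, s⁆)
    (hOeq : ∀ o : ↥R, (o : G) ∈ O → φ o = ψ o) {a : G} (haR : a ∈ R)
    (ha : ∀ y ∈ A, y * a * y⁻¹ * a⁻¹ ∈ O) : φ ⟨a, haR⟩ = ψ ⟨a, haR⟩ := by
  classical
  let _ := Fintype.ofFinite ↥A
  haveI hOR : (O.subgroupOf R).Normal := ⟨fun o ho g => (mem_normalizer_iff.1 (hOn g.2) _).1 ho⟩
  set ab : ↥R →* Abelianization ↥R := Abelianization.of
  set Ob := (O.subgroupOf R).map ab
  set f : ↥R →* Abelianization ↥R ⧸ Ob := (QuotientGroup.mk' Ob).comp ab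
  let conjA : ↥A → ↥R →* ↥R := fun y =>
    { toFun := fun r => ⟨(y : G) * r * (y : G)⁻¹, (mem_normalizer_iff.1 (hAR y.2) _).1 r.2⟩
      map_one' := Subtype.ext (by simp)
      map_mul' := fun r s => Subtype.ext (by simp [mul_assoc]) }
  let τ : ↥R →* Abelianization ↥R ⧸ Ob :=
    { toFun := fun r => ∏ y : ↥A, f (conjA y r)
      map_one' := by simp
      map_mul' := fun r s => by simp only [map_mul, Finset.prod_mul_distrib] }
  have hτA : ∀ (r : ↥R) (z : ↥A), τ (conjA z r) = τ r := by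
    intro r z
    show ∏ y : ↥A, f (conjA y (conjA z r)) = ∏ y : ↥A, f (conjA y r)
    refine Fintype.prod_equiv (Equiv.mulRight z) _ _ fun y => congrArg f (Subtype.ext ?_)
    show (y : G) * ((z : G) * r * (z : G)⁻¹) * (y : G)⁻¹ = ((y * z : ↥A) : G) * r * ((y * z : ↥A) : G)⁻¹
    simp [mul_assoc]
  have hτ1 : ∀ r : ↥R, τ r = 1 := by
    intro r
    have hle : R ≤ τ.ker.map R.subtype := by
      conv_lhs => rw [← hcomm]
      rw [commutator_le]
      intro x hx y hy
      refine ⟨⟨x, hx⟩ * (conjA ⟨y, hy⟩ ⟨x, hx⟩)⁻¹, ?_, ?_⟩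
      · rw [SetLike.mem_coe, MonoidHom.mem_ker, map_mul, map_inv, hτA, mul_inv_cancel]
      · show x * (y * x * y⁻¹)⁻¹ = ⁅x, y⁆
        simp [commutatorElement_def, mul_assoc]
    obtain ⟨s, hs, hsr⟩ := hle r.2
    exact (Subtype.ext hsr : s = r) ▸ hs
  have hfa : ∀ y : ↥A, f (conjA y ⟨a, haR⟩) = f ⟨a, haR⟩ := by
    intro y
    have hm : conjA y ⟨a, haR⟩ * (⟨a, haR⟩ : ↥R)⁻¹ ∈ O.subgroupOf R := ha y y.2
    rw [← mul_inv_eq_one, ← map_inv, ← map_mul]
    exact (QuotientGroup.eq_one_iff _).2 (mem_map_of_mem _ hm)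
  have hpow : f ⟨a, haR⟩ ^ Nat.card A = 1 := by
    rw [← hτ1 ⟨a, haR⟩]
    show _ = ∏ y : ↥A, f (conjA y ⟨a, haR⟩)
    simp only [hfa, Finset.prod_const, Finset.card_univ, Nat.card_eq_fintype_card]
  have hcop : ∀ r : ↥R, (orderOf (f r)).Coprime p := by
    intro r
    obtain ⟨x, hx, hxr⟩ := (hres.ge r.2 : (r : G) ∈ resOf p R)
    have hxr' : x = r := Subtype.ext hxr
    subst hxr'
    induction hx using closure_induction with
    | mem y hy => exact Nat.Coprime.coprime_dvd_left (orderOf_map_dvd f y) hy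
    | one => simp
    | mul x y _ _ ihx ihy =>
      rw [map_mul]
      exact Nat.Coprime.coprime_dvd_left ((Commute.all (f x) (f y)).orderOf_mul_dvd_mul_orderOf)
        (Nat.Coprime.mul_left (ihx rfl) (ihy rfl))
    | inv x _ ihx => rw [map_inv, orderOf_inv]; exact ihx rfl
  have hfa1 : f ⟨a, haR⟩ = 1 := by
    obtain ⟨k, hk⟩ := IsPGroup.iff_card.1 hA
    rw [hk] at hpow
    exact orderOf_eq_one_iff.1 (Nat.eq_one_of_dvd_coprimes ((hcop ⟨a, haR⟩).pow_right k) dvd_rfl
      (orderOf_dvd_of_pow_eq_one hpow))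
  obtain ⟨o, ho, hoa⟩ := (QuotientGroup.eq_one_iff _).1 hfa1
  have hmem : (⟨a, haR⟩ : ↥R) * o⁻¹ ∈ commutator ↥R := by
    rw [← Abelianization.ker_of, MonoidHom.mem_ker, map_mul, map_inv, ← hoa, mul_inv_cancel]
  have hle : commutator ↥R ≤ MonoidHom.eqLocus φ ψ := by
    rw [_root_.commutator_def, commutator_le]
    exact fun r _ s _ => hcommEq r s
  have h1 : φ ((⟨a, haR⟩ : ↥R) * o⁻¹) = ψ ((⟨a, haR⟩ : ↥R) * o⁻¹) := hle hmem
  have h2 := hOeq o ho
  rw [map_mul, map_mul, map_inv, map_inv, h2] at h1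
  exact mul_right_cancel h1

theorem isPIrreducible_sup (d : Asym.Data p S M) (hH : Cfsg.IsInFrakH p M H) {Q' : Subgroup G}
    (hQ' : IsPGroup p ↥Q') (hHQ : H ≤ normalizer (Q' : Set G)) :
    Q' ≤ Cfsg.pCoreOf p (H ⊔ Q') ∧ Cfsg.pCoreOf p (H ⊔ Q') ≤ normalizer ((P : Subgroup G) : Set G) ∧
      H ⊔ Q' ≤ normalizer (H : Set G) ∧ resOf p H = resOf p (H ⊔ Q') ∧
      Cfsg.IsPIrreducible p ↥(H ⊔ Q') := by
  set E := H ⊔ Q' with hE
  have hQO : Q' ≤ Cfsg.pCoreOf p E := le_pCoreOf le_sup_right (sup_le hHQ le_normalizer) hQ'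
  have hON : Cfsg.pCoreOf p E ≤ normalizer ((P : Subgroup G) : Set G) :=
    core_le_normalizer d (hH.2.1.trans le_sup_left)
  have hQN : Q' ≤ normalizer ((P : Subgroup G) : Set G) := hQO.trans hON
  have hEH : E ≤ normalizer (H : Set G) := by
    refine sup_le le_normalizer fun q hq => ?_
    refine mem_normalizer_of_conj_map (eq_of_le_of_card_ge ?_
      (card_map_of_injective (MulAut.conj q).injective).ge)
    conv_lhs => rw [← ncl_eq d hH]
    rw [map_le_iff_le_comap]
    refine ncl_le_of fun h hh a ha _ => ?_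
    show q * (h * a * h⁻¹) * q⁻¹ ∈ H
    have hq' : h⁻¹ * q * h ∈ Q' := by
      have := (mem_normalizer_iff.1 (hHQ (inv_mem hh)) q).1 hq
      simpa using this
    have h1 := (mem_normalizer_iff.1 (hQN hq') a).1 ha
    have h2 := mul_mem (mul_mem hh (hH.2.1 h1)) (inv_mem hh)
    simpa [mul_assoc] using h2
  set R := resOf p H with hRdef
  have hRH : R ≤ H := resOf_le p H
  have hER : E ≤ normalizer (R : Set G) := hEH.trans (le_normalizer_resOf p H)
  have hREq : R = resOf p E := by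
    refine le_antisymm (resOf_mono p le_sup_left) (resOf_le_of_isPGroup_quotient (hRH.trans le_sup_left) hER ?_)
    intro x hx
    rw [hE, sup_comm, ← SetLike.mem_coe,
      coe_mul_of_left_le_normalizer_right _ _ ((le_sup_right : Q' ≤ E).trans hEH)] at hx
    obtain ⟨q, hq, h, hh, rfl⟩ := hx
    obtain ⟨k, hk⟩ := hQ' ⟨q, hq⟩
    have h1 : (q * h) ^ p ^ k ∈ H := by
      have h1 := inv_pow_mul_mul_pow_mem (hEH ((le_sup_right : Q' ≤ E) hq)) hh (p ^ k)
      rwa [show q ^ p ^ k = 1 from congrArg Subtype.val hk, inv_one, one_mul] at h1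
    obtain ⟨j, hj⟩ := exists_pow_mem_resOf (p := p) h1
    exact ⟨k + j, by rw [pow_add, pow_mul]; exact hj⟩
  have hHc : IsCharP p H := (isCharP_iff H).2 hH.1
  have hYP : Y ≤ P := largestPReducedOf_le_pCoreOf p M
  refine ⟨hQO, hON, hEH, hREq, ?_, ?_⟩
  · intro hcl
    rw [isPClosed_subgroup_iff] at hcl
    have h1 := hcl _ (hH.2.1.trans le_sup_left) (isPGroup_pCoreOf p M)
    exact hH.2.2.1 ((le_inf (hYP.trans h1) (hYP.trans hH.2.1)).trans (le_pCoreOf inf_le_right
      ((le_inf ((le_sup_left : H ≤ E).trans (le_normalizer_pCoreOf p E)) le_normalizer).trans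
        inf_normalizer_le_normalizer_inf)
      ((isPGroup_pCoreOf p E).to_le inf_le_left)))
  intro N hN hNcl
  set N' := N.map E.subtype with hN'
  have hN'E : N' ≤ E := map_subtype_le _
  have hEN' : E ≤ normalizer (N' : Set G) := by
    refine (normal_subgroupOf_iff_le_normalizer hN'E).1 ?_
    rwa [hN', subgroupOf, comap_map_eq_self_of_injective E.subtype_injective]
  by_contra hnle
  have hnR : ¬ R ≤ N' := by
    intro h
    apply hnle
    intro x hx
    have hm : (x : G) ∈ resOf p E := mem_map_of_mem _ hx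
    obtain ⟨y, hy, hyx⟩ := h (hREq ▸ hm)
    exact (Subtype.ext hyx : y = x) ▸ hy
  -- it suffices that `N'` is `p`-closed
  apply hNcl
  refine (isPClosed_map_iff (f := E.subtype)
    (IsPGroup.of_card (n := 0) (by rw [E.ker_subtype, card_bot, pow_zero]))).1 ?_
  show Cfsg.IsPClosed p ↥N'
  set O := Cfsg.pCoreOf p H with hO
  have hEO : E ≤ normalizer (O : Set G) := hEH.trans (normalizer_le_normalizer_pCoreOf p H)
  set K := N' ⊓ H with hK
  have hKn : H ≤ normalizer (K : Set G) :=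
    (le_inf ((le_sup_left : H ≤ E).trans hEN') le_normalizer).trans inf_normalizer_le_normalizer_inf
  have hU : K ⊔ P < H := by
    refine lt_of_le_of_ne (sup_le inf_le_right hH.2.1) fun heq => hnR ?_
    refine (resOf_le_of_isPGroup_quotient inf_le_right hKn fun x hx => ?_).trans inf_le_left
    rw [← heq, sup_comm, ← SetLike.mem_coe,
      coe_mul_of_left_le_normalizer_right _ _ (hH.2.1.trans hKn)] at hx
    obtain ⟨o, ho, c, hc, rfl⟩ := hx
    obtain ⟨k, hk⟩ := isPGroup_pCoreOf p M ⟨o, ho⟩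
    refine ⟨k, ?_⟩
    have h1 := inv_pow_mul_mul_pow_mem (hKn (hH.2.1 ho)) hc (p ^ k)
    rwa [show o ^ p ^ k = 1 from congrArg Subtype.val hk, inv_one, one_mul] at h1
  have hYU := hH.2.2.2 _ le_sup_right hU
  have hYH : Y ≤ H := hYP.trans hH.2.1
  have hKY : ⁅K, Y⁆ ≤ O := by
    have h1 : ⁅K, Y⁆ ≤ K := commutator_le_left_iff.2 (hYH.trans hKn)
    have h2 : ⁅K, Y⁆ ≤ Cfsg.pCoreOf p (K ⊔ P) := by
      refine (commutator_mono (le_sup_left : K ≤ K ⊔ P) hYU).trans ?_
      rw [Subgroup.commutator_comm]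
      exact commutator_le_left_iff.2 (le_normalizer_pCoreOf p _)
    refine (le_inf h1 h2).trans ((le_pCoreOf inf_le_left ?_ ((isPGroup_pCoreOf p _).to_le inf_le_right)).trans
      (pCoreOf_le_of_normal inf_le_right hKn))
    exact (le_inf le_normalizer ((le_sup_left : K ≤ K ⊔ P).trans (le_normalizer_pCoreOf p _))).trans
      inf_normalizer_le_normalizer_inf
  have hconj : ∀ k ∈ K, ∀ a b : G, a ∈ H → ⁅k, a⁆ ∈ O → ⁅k, b⁆ ∈ O → ⁅k, a * b⁆ ∈ O := by
    intro k _ a b ha h1 h2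
    rw [show ⁅k, a * b⁆ = ⁅k, a⁆ * (a * ⁅k, b⁆ * a⁻¹) by simp [commutatorElement_def, mul_assoc]]
    exact mul_mem h1 ((mem_normalizer_iff.1 (hEO ((le_sup_left : H ≤ E) ha)) _).1 h2)
  -- the elements of `H` centralizing `K` modulo `O`
  let Z : Subgroup G :=
    { carrier := {a | a ∈ H ∧ ∀ k ∈ K, ⁅k, a⁆ ∈ O}
      one_mem' := ⟨one_mem H, fun k _ => by rw [commutatorElement_one_right]; exact one_mem O⟩
      mul_mem' := fun {a b} ha hb =>
        ⟨mul_mem ha.1 hb.1, fun k hk => hconj k hk a b ha.1 (ha.2 k hk) (hb.2 k hk)⟩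
      inv_mem' := fun {a} ha => ⟨inv_mem ha.1, fun k hk => by
        rw [show ⁅k, a⁻¹⁆ = a⁻¹ * ⁅k, a⁆⁻¹ * a by simp [commutatorElement_def, mul_assoc]]
        have := (mem_normalizer_iff.1 (hEO ((le_sup_left : H ≤ E) (inv_mem ha.1))) _).1
          (inv_mem (ha.2 k hk))
        simpa using this⟩ }
  have hKR : ∀ k ∈ K, ∀ r ∈ R, ⁅k, r⁆ ∈ O := by
    have hle : R ≤ Z := by
      refine ((le_sup_left : R ≤ R ⊔ Y).trans (ncl_Y d hH).le).trans (ncl_le_of fun h hh a ha haH => ?_)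
      refine ⟨mul_mem (mul_mem hh haH) (inv_mem hh), fun k hk => ?_⟩
      have hk' : h⁻¹ * k * h ∈ K := by
        have := (mem_normalizer_iff.1 (hKn (inv_mem hh)) k).1 hk
        simpa using this
      have h1 := (mem_normalizer_iff.1 (hEO ((le_sup_left : H ≤ E) hh)) _).1
        (hKY (commutator_mem_commutator hk' ha))
      simpa [commutatorElement_def, mul_assoc] using h1
    exact fun k hk r hr => (hle hr).2 k hk
  set A := N' ⊓ R with hA
  have hAK : A ≤ K := inf_le_inf_left _ hRH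
  have hA_EN : N' ≤ normalizer (A : Set G) :=
    (le_inf le_normalizer (hN'E.trans hER)).trans inf_normalizer_le_normalizer_inf
  obtain ⟨T, hT⟩ := exists_isSylIn p N'
  have hTE : T ≤ E := hT.le.trans hN'E
  have hRc : resOf p R = R := resOf_resOf p H
  have hYR : Y ≤ normalizer (R : Set G) := hYH.trans ((le_sup_left : H ≤ E).trans hER)
  have hTA : ∀ t ∈ T, ∀ a ∈ A, t * a * t⁻¹ * a⁻¹ ∈ O := by
    intro t ht a ha
    haveI hOR : (O.subgroupOf R).Normal :=
      ⟨fun o ho g => (mem_normalizer_iff.1 (hEO ((hRH.trans le_sup_left) g.2)) _).1 ho⟩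
    let cj : ↥R →* ↥R :=
      { toFun := fun r => ⟨t * r * t⁻¹, (mem_normalizer_iff.1 (hER (hTE ht)) _).1 r.2⟩
        map_one' := Subtype.ext (by simp)
        map_mul' := fun r s => Subtype.ext (by simp [mul_assoc]) }
    set π := QuotientGroup.mk' (O.subgroupOf R)
    have hcen : ∀ r s : ↥R, (r : G) ∈ A → π r * π s = π s * π r := by
      intro r s hr
      rw [← commutatorElement_eq_one_iff_mul_comm, ← map_commutatorElement]
      refine (QuotientGroup.eq_one_iff _).2 ?_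
      show ((⁅r, s⁆ : ↥R) : G) ∈ O
      exact hKR r (hAK hr) s s.2
    have hfac : ∀ r : ↥R, ∃ c : ↥R, (c : G) ∈ A ∧ cj r = c * r := by
      intro r
      refine ⟨cj r * r⁻¹, ⟨?_, (cj r * r⁻¹).2⟩, by rw [inv_mul_cancel_right]⟩
      show t * (r : G) * t⁻¹ * (r : G)⁻¹ ∈ N'
      rw [show t * (r : G) * t⁻¹ * (r : G)⁻¹ = t * ((r : G) * t⁻¹ * (r : G)⁻¹) by simp [mul_assoc]]
      exact mul_mem (hT.le ht)
        ((mem_normalizer_iff.1 (hEN' ((hRH.trans le_sup_left) r.2)) _).1 (inv_mem (hT.le ht)))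
    have h := mem_kernel_of_fixed
      (isPGroup_of_isElementaryAbelian (isElementaryAbelian_largestPReducedOf p M)) hRc
      (commutator_resOf d hH) hYR ((hRH.trans le_sup_left).trans hEO)
      (hYH.trans ((le_sup_left : H ≤ E).trans hEO))
      (π.comp cj) π (fun r s => by
        obtain ⟨c, hc, hce⟩ := hfac r
        obtain ⟨c', hc', hce'⟩ := hfac s
        simp only [MonoidHom.comp_apply, map_commutatorElement, hce, hce', map_mul]
        have e1 : ∀ x y : ↥R ⧸ O.subgroupOf R, (∀ z, π c * z = z * π c) → (∀ z, π c' * z = z * π c') →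
            ⁅π c * x, π c' * y⁆ = ⁅x, y⁆ := by
          intro x y h1 h2
          have h1' : ∀ z, z * π c = π c * z := fun z => (h1 z).symm
          calc ⁅π c * x, π c' * y⁆ = π c * (x * π c') * y * x⁻¹ * (π c)⁻¹ * (y⁻¹ * (π c')⁻¹) := by
                simp [commutatorElement_def, mul_assoc]
            _ = π c * π c' * (⁅x, y⁆ * y) * (π c)⁻¹ * (y⁻¹ * (π c')⁻¹) := by
                rw [← h2 x]; simp [commutatorElement_def, mul_assoc]
            _ = π c' * (⁅x, y⁆ * y) * (π c * (π c)⁻¹) * (y⁻¹ * (π c')⁻¹) := by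
                rw [h1 (π c')]
                rw [show π c' * π c * (⁅x, y⁆ * y) = π c' * (π c * (⁅x, y⁆ * y)) by group,
                  h1 (⁅x, y⁆ * y)]
                group
            _ = π c' * ⁅x, y⁆ * (π c')⁻¹ := by group
            _ = ⁅x, y⁆ := by rw [h2, mul_inv_cancel_right]
        have hall : ∀ u : ↥R, (u : G) ∈ A → ∀ z, π u * z = z * π u := fun u hu z => by
          obtain ⟨w, rfl⟩ := QuotientGroup.mk'_surjective (O.subgroupOf R) z
          exact hcen u w hu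
        exact e1 _ _ (hall c hc) (hall c' hc'))
      (fun o ho => by
        have h1 : π o = 1 := (QuotientGroup.eq_one_iff _).2 ho
        rw [MonoidHom.comp_apply, h1]
        exact (QuotientGroup.eq_one_iff _).2 ((mem_normalizer_iff.1 (hEO (hTE ht)) _).1 ho))
      ha.2 (fun y hy => by
        have h1 := inv_mem (hKY (commutator_mem_commutator (hAK ha) hy))
        rwa [commutatorElement_inv, commutatorElement_def] at h1)
    rw [MonoidHom.comp_apply, ← mul_inv_eq_one, ← map_inv, ← map_mul] at h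
    exact mem_subgroupOf.1 ((QuotientGroup.eq_one_iff (cj ⟨a, ha.2⟩ * (⟨a, ha.2⟩ : ↥R)⁻¹)).1 h)
  -- assemble
  have hsup : A ⊔ T = N' := by
    refine le_antisymm (sup_le inf_le_left hT.le) (relIndex_eq_one.1 ?_)
    have hq : ∀ x ∈ N', ∃ k : ℕ, x ^ p ^ k ∈ A := fun x hx => by
      obtain ⟨k, hk⟩ := exists_pow_mem_resOf (p := p) (hN'E hx)
      exact ⟨k, pow_mem hx _, hREq ▸ hk⟩
    haveI hAn : (A.subgroupOf N').Normal :=
      (normal_subgroupOf_iff_le_normalizer inf_le_left).2 hA_EN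
    have hpq : IsPGroup p (↥N' ⧸ A.subgroupOf N') := fun q => by
      obtain ⟨x, rfl⟩ := QuotientGroup.mk'_surjective _ q
      obtain ⟨k, hk⟩ := hq x x.2
      exact ⟨k, by rw [← map_pow]; exact (QuotientGroup.eq_one_iff _).2 hk⟩
    obtain ⟨k, hk⟩ := IsPGroup.iff_card.1 hpq
    rw [← index_eq_card] at hk
    have h1 : (A ⊔ T).relIndex N' ∣ p ^ k := hk ▸ relIndex_dvd_of_le_left N' le_sup_left
    have h2 : ¬ p ∣ (A ⊔ T).relIndex N' := fun hd => by
      obtain ⟨Ts, rfl⟩ := hT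
      refine Ts.not_dvd_index (hd.trans ?_)
      refine (relIndex_dvd_of_le_left N' le_sup_right).trans (dvd_of_eq ?_)
      rw [relIndex, subgroupOf, comap_map_eq_self_of_injective N'.subtype_injective]
    obtain ⟨i, -, hi⟩ := (Nat.dvd_prime_pow Fact.out).1 h1
    rcases i with _ | i
    · simpa using hi
    · exact absurd (hi ▸ dvd_pow_self p (Nat.succ_ne_zero i)) h2
  rw [isPClosed_subgroup_iff]
  intro W hWN hW
  set O' := O ⊓ N'
  have hTO : IsPGroup p ↥(T ⊔ O' : Subgroup G) :=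
    hT.isPGroup.to_sup_of_normal_right' ((isPGroup_pCoreOf p H).to_le inf_le_left)
      ((le_inf (hTE.trans hEO) (hT.le.trans le_normalizer)).trans inf_normalizer_le_normalizer_inf)
  have hTn : N' ≤ normalizer ((T ⊔ O' : Subgroup G) : Set G) := by
    rw [← hsup]
    refine sup_le (Subgroup.le_normalizer_iff.2 fun a ha z hz => ?_) (le_sup_left.trans le_normalizer)
    have hsub : (T ⊔ O') ≤ (T ⊔ O').comap (MulAut.conj a).toMonoidHom := sup_le
      (fun t ht => by
        show a * t * a⁻¹ ∈ T ⊔ O'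
        have h1 : t * a⁻¹ * t⁻¹ * a ∈ O' := by
          refine ⟨by simpa using hTA t ht a⁻¹ (inv_mem ha), ?_⟩
          exact mul_mem (mul_mem (mul_mem (hT.le ht) (N'.inv_mem ha.1)) (N'.inv_mem (hT.le ht))) ha.1
        have h2 : a * (t * a⁻¹ * t⁻¹ * a) * a⁻¹ ∈ O' :=
          ⟨(mem_normalizer_iff.1 (hEO ((hRH.trans le_sup_left) ha.2)) _).1 h1.1,
            mul_mem (mul_mem ha.1 h1.2) (N'.inv_mem ha.1)⟩
        rw [show a * t * a⁻¹ = (a * (t * a⁻¹ * t⁻¹ * a) * a⁻¹) * t by group]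
        exact mul_mem (mem_sup_right h2) (mem_sup_left ht))
      (fun o ho => mem_sup_right ⟨(mem_normalizer_iff.1 (hEO ((hRH.trans le_sup_left) ha.2)) _).1 ho.1,
        mul_mem (mul_mem ha.1 ho.2) (N'.inv_mem ha.1)⟩)
    exact hsub hz
  have h1 : T ⊔ O' ≤ Cfsg.pCoreOf p N' := le_pCoreOf (sup_le hT.le inf_le_right) hTn hTO
  obtain ⟨T', hT', hWT'⟩ := exists_isSylIn_ge hW hWN
  obtain ⟨g, hg, hge⟩ := hT.exists_conj hT'
  refine hWT'.trans (hge ▸ (map_mono (le_sup_left.trans h1)).trans ?_)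
  exact (conj_map_of_mem (le_normalizer_pCoreOf p N' hg)).le

end Cfsg.Agent.CharP.FrakH
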