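import Cfsg.Agent.Lib.CharP.AsymmetricLModule
import Cfsg.Agent.Lib.CharP.FrakH
import Cfsg.Agent.Lib.Subnormal.Join

/-!
Minimal subgroups `L` of a member of `ℌ_G(O_p(M))` with `Y_M ≰ O_p(L)`, for asymmetric `Y_M`.
-/

set_option autoImplicit false
set_option linter.style.haveILetI false
set_option linter.unusedSectionVars false

namespace Cfsg.Agent.CharP.AsymL

open Subgroup
open scoped commutatorElement
open Cfsg.Agent.CharP.LModule (stab)

universe u

variable {G : Type u} [Group G]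

local notation:70 A:70 " ⊛ " g:71 => Subgroup.map (MulEquiv.toMonoidHom (MulAut.conj g)) A

theorem isSubnormal_of_isNilpotent {N : Type*} [Group N] [Finite N] [Group.IsNilpotent N]
    (A : Subgroup N) : A.IsSubnormal := by
  induction A using WellFoundedGT.induction with
  | ind A ih =>
    by_cases h : A = ⊤
    · exact h ▸ Subgroup.IsSubnormal.top
    · have hlt := Group.normalizerCondition_of_isNilpotent A (lt_top_iff_ne_top.2 h)
      exact Subgroup.IsSubnormal.step _ _ hlt.le (ih _ hlt)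
        ((normal_subgroupOf_iff_le_normalizer hlt.le).2 le_rfl)

section image

variable {Γ : Type*} [Group Γ] {H : Subgroup G} (f : ↥H →* Γ)

/-- The image of a subgroup under a homomorphism defined on `H`. -/
def im (X : Subgroup G) : Subgroup Γ := (X.subgroupOf H).map f

theorem mem_im {X : Subgroup G} {x : G} (h : x ∈ H) (hx : x ∈ X) : f ⟨x, h⟩ ∈ im f X :=
  ⟨⟨x, h⟩, hx, rfl⟩

theorem im_mono {X X' : Subgroup G} (h : X ≤ X') : im f X ≤ im f X' :=
  map_mono (comap_mono h)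

theorem im_sup {X X' : Subgroup G} (h : X ≤ H) (h' : X' ≤ H) :
    im f (X ⊔ X') = im f X ⊔ im f X' := by rw [im, im, im, subgroupOf_sup h h', Subgroup.map_sup]

theorem im_self (hf : Function.Surjective f) : im f H = ⊤ := by
  rw [im, subgroupOf_self, map_top_of_surjective f hf]

theorem im_conj {X : Subgroup G} {g : G} (hg : g ∈ H) (hX : X ≤ H) :
    im f (X ⊛ g) = (im f X) ⊛ (f ⟨g, hg⟩) := by
  refine le_antisymm ?_ ?_
  · rintro _ ⟨⟨x, hxH⟩, ⟨y, hy, hyx⟩, rfl⟩
    refine ⟨f ⟨y, hX hy⟩, mem_im f _ hy, ?_⟩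
    have h : (⟨g, hg⟩ : ↥H) * ⟨y, hX hy⟩ * ⟨g, hg⟩⁻¹ = ⟨x, hxH⟩ := Subtype.ext hyx
    rw [← h]; simp only [map_mul, map_inv]; rfl
  · rintro _ ⟨_, ⟨⟨y, hyH⟩, hy, rfl⟩, rfl⟩
    refine ⟨⟨g, hg⟩ * ⟨y, hyH⟩ * ⟨g, hg⟩⁻¹, ⟨y, hy, rfl⟩, by simp only [map_mul, map_inv]; rfl⟩

theorem isPGroup_im {p : ℕ} {X : Subgroup G} (hX : IsPGroup p ↥X) : IsPGroup p ↥(im f X) :=
  (hX.comap_subtype (K := H)).map f

theorem im_le_centralizer {X X' : Subgroup G} (h : X ≤ centralizer (X' : Set G)) :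
    im f X ≤ centralizer (im f X' : Set Γ) := by
  rintro _ ⟨x, hx, rfl⟩
  rw [mem_centralizer_iff]
  rintro _ ⟨y, hy, rfl⟩
  rw [← map_mul, ← map_mul]
  exact congrArg f (Subtype.ext (mem_centralizer_iff.1 (h hx) _ hy))

theorem im_normalizer {X X' : Subgroup G} (h : X ≤ normalizer (X' : Set G)) :
    im f X ≤ normalizer (im f X' : Set Γ) := by
  refine Subgroup.le_normalizer_iff.2 ?_
  rintro _ ⟨x, hx, rfl⟩ _ ⟨y, hy, rfl⟩
  exact ⟨x * y * x⁻¹, (mem_normalizer_iff.1 (h hx) (y : G)).1 hy, by simp⟩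

end image

variable [Finite G] {p : ℕ} [Fact p.Prime]

/-- An `H`-chief pair below `O`. -/
structure IsPair (H O V W : Subgroup G) : Prop where
  le : V ≤ O
  normV : H ≤ normalizer (V : Set G)
  normW : H ≤ normalizer (W : Set G)
  lt : W < V
  minimal : ∀ Z : Subgroup G, H ≤ normalizer (Z : Set G) → W ≤ Z → Z ≤ V → Z = W ∨ Z = V

/-- The stabilizer of all chief factors below `O`. -/
def chiefStab (H O : Subgroup G) : Subgroup G :=
  H ⊓ ⨅ q : {q : Subgroup G × Subgroup G // IsPair H O q.1 q.2}, stab q.1.1 q.1.2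

theorem mem_chiefStab {H O : Subgroup G} {x : G} :
    x ∈ chiefStab H O ↔ x ∈ H ∧ ∀ V W, IsPair H O V W → x ∈ stab V W := by
  rw [chiefStab, mem_inf, mem_iInf]
  exact and_congr_right fun _ => ⟨fun h V W hq => h ⟨(V, W), hq⟩, fun h q => h _ _ q.2⟩

theorem chiefStab_le {H : Subgroup G} (hH : IsCharP p H) :
    chiefStab H (Cfsg.pCoreOf p H) ≤ Cfsg.pCoreOf p H := by
  set O := Cfsg.pCoreOf p H with hO
  set K := chiefStab H O
  have hKH : K ≤ H := inf_le_left
  have hn : H ≤ normalizer (K : Set G) := by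
    refine Subgroup.le_normalizer_iff.2 fun h hh x hx => ?_
    rw [mem_chiefStab] at hx ⊢
    exact ⟨mul_mem (mul_mem hh hx.1) (inv_mem hh), fun V W hq =>
      (mem_normalizer_iff.1 (LModule.normalizer_inf_le_stab V W ⟨hq.normV hh, hq.normW hh⟩) x).1
        (hx.2 V W hq)⟩
  refine le_pCoreOf hKH hn (isPGroup_of_forall_coprime fun x hx hcop => ?_)
  have key : ∀ N : Subgroup G, N ≤ O → H ≤ normalizer (N : Set G) →
      x ∈ centralizer (N : Set G) := by
    intro N
    induction N using WellFoundedLT.induction with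
    | ind N ih =>
      intro hNO hNn
      by_cases hN : N = ⊥
      · rw [hN, mem_centralizer_iff]
        intro y hy
        rw [mem_bot.1 hy, one_mul, mul_one]
      obtain ⟨W, ⟨hWN, hWn⟩, hmax⟩ := (Set.toFinite
        {W : Subgroup G | W < N ∧ H ≤ normalizer (W : Set G)}).exists_maximal
        ⟨⊥, bot_lt_iff_ne_bot.2 hN, fun h _ => by
          rw [mem_normalizer_iff]; intro y; simp⟩
      have hq : IsPair H O N W := ⟨hNO, hNn, hWn, hWN, fun Z hZn hWZ hZN => by
        by_cases h : Z = N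
        · exact Or.inr h
        · exact Or.inl (le_antisymm (hmax ⟨lt_of_le_of_ne hZN h, hZn⟩ hWZ) hWZ)⟩
      exact LModule.centralizes_of_stab ((isPGroup_pCoreOf p H).to_le (hWN.le.trans hNO)) hcop
        ((mem_chiefStab.1 hx).2 N W hq) (ih W hWN (hWN.le.trans hNO) hWn)
  exact eq_one_of_mem_pgroup (isPGroup_pCoreOf p H)
    (hH ⟨hKH hx, key O le_rfl (le_normalizer_pCoreOf p H)⟩) hcop

variable {S : Sylow p G} {M H L : Subgroup G}

local notation "Y" => Cfsg.largestPReducedOf p M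
local notation "P" => Cfsg.pCoreOf p M

/-- The data of the situation. -/
structure LData (p : ℕ) (M H L : Subgroup G) : Prop where
  frakH : Cfsg.IsInFrakH p M H
  le : L ≤ H
  Yle : Cfsg.largestPReducedOf p M ≤ L
  notCore : ¬ Cfsg.largestPReducedOf p M ≤ Cfsg.pCoreOf p L
  minimal : ∀ L' : Subgroup G, L' ≤ L → Cfsg.largestPReducedOf p M ≤ L' →
    ¬ Cfsg.largestPReducedOf p M ≤ Cfsg.pCoreOf p L' → L' = L

variable (l : LData p M H L)
include l

theorem Y_le_core {X : Subgroup G} (hYX : Y ≤ X) (hX : X < L) : Y ≤ Cfsg.pCoreOf p X :=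
  by_contra fun h => hX.ne (l.minimal X hX.le hYX h)

theorem sup_P : L ⊔ P = H := by
  refine (sup_le l.le l.frakH.2.1).eq_of_not_lt fun hlt => l.notCore ?_
  refine (le_inf (l.frakH.2.2.2 _ le_sup_right hlt) l.Yle).trans
    (le_pCoreOf inf_le_right ?_ ((isPGroup_pCoreOf p _).to_le inf_le_left))
  exact (le_inf ((le_sup_left : L ≤ L ⊔ P).trans (le_normalizer_pCoreOf p _)) le_normalizer).trans
    inf_normalizer_le_normalizer_inf

theorem ncl_self : FrakH.ncl (Y : Subgroup G) L = L := by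
  by_contra h
  have hlt : FrakH.ncl (Y : Subgroup G) L < L := lt_of_le_of_ne (FrakH.ncl_le _ _) h
  exact l.notCore ((Y_le_core l (FrakH.le_ncl l.Yle) hlt).trans
    (FrakH.pCoreOf_le_of_normal hlt.le (FrakH.le_normalizer_ncl _ _)))

theorem not_subnormal : ¬ ((Y : Subgroup G).subgroupOf L).IsSubnormal := by
  intro h
  apply l.notCore
  have h1 := map_mono (f := L.subtype) (le_pCore_of_isSubnormal h
    ((isPGroup_of_isElementaryAbelian (isElementaryAbelian_largestPReducedOf p M)).comap_subtype))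
  rwa [subgroupOf_map_subtype, inf_eq_left.2 l.Yle] at h1

theorem unique_coatom : ∃! M₁ : Subgroup ↥L, IsCoatom M₁ ∧ (Y : Subgroup G).subgroupOf L ≤ M₁ := by
  set A := (Y : Subgroup G).subgroupOf L
  have hA : A ≠ ⊤ := fun h => not_subnormal l (by
    rw [show (Y : Subgroup G).subgroupOf L = ⊤ from h]; exact Subgroup.IsSubnormal.top)
  obtain ⟨M₁, hM₁, hAM⟩ := (eq_top_or_exists_le_coatom A).resolve_left hA
  refine ⟨M₁, ⟨hM₁, hAM⟩, fun K hK => ?_⟩
  refine Cfsg.Agent.Subnormal.Join.zipper A (not_subnormal l) (fun L' hAL' hL' => ?_) K M₁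
    hK.1 hM₁ hK.2 hAM
  have hX : L'.map L.subtype < L := lt_of_le_of_ne (map_subtype_le _) fun h => hL' (by
    apply map_injective L.subtype_injective
    rw [h, ← MonoidHom.range_eq_map, range_subtype])
  have hYX : Y ≤ L'.map L.subtype := by
    have := map_mono (f := L.subtype) hAL'
    rwa [subgroupOf_map_subtype, inf_eq_left.2 l.Yle] at this
  have h2 := Y_le_core l hYX hX
  rw [pCoreOf_map L.subtype_injective] at h2
  have h3 : A ≤ Cfsg.pCoreOf p L' := fun a ha => by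
    obtain ⟨b, hb, hba⟩ := h2 (mem_subgroupOf.1 ha)
    exact L.subtype_injective hba ▸ hb
  have h4 : A.subgroupOf L' ≤ Cfsg.pCore p ↥L' := fun a ha => by
    obtain ⟨b, hb, hba⟩ := h3 (mem_subgroupOf.1 ha)
    exact L'.subtype_injective hba ▸ hb
  haveI : Group.IsNilpotent ↥(Cfsg.pCore p ↥L') := (isPGroup_pCore p ↥L').isNilpotent
  exact Subgroup.IsSubnormal.trans h4 (isSubnormal_of_isNilpotent _)
    (Cfsg.Agent.Cores.pCore_normal (G := ↥L') p).isSubnormal

theorem minimalOver : Cfsg.IsMinimalOver ((Y : Subgroup G).subgroupOf L) := by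
  refine ⟨?_, unique_coatom l⟩
  apply map_injective L.subtype_injective
  rw [← MonoidHom.range_eq_map, range_subtype]
  exact ncl_self l

theorem exists_max : ∃ M₀ : Subgroup G, M₀ < L ∧ Y ≤ M₀ ∧
    ∀ X : Subgroup G, Y ≤ X → X < L → X ≤ M₀ := by
  obtain ⟨M₁, ⟨hM₁, hAM⟩, huniq⟩ := unique_coatom l
  refine ⟨M₁.map L.subtype, lt_of_le_of_ne (map_subtype_le _) fun h => hM₁.1 (by
    apply map_injective L.subtype_injective
    rw [h, ← MonoidHom.range_eq_map, range_subtype]), ?_, fun X hYX hX => ?_⟩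
  · have := map_mono (f := L.subtype) hAM
    rwa [subgroupOf_map_subtype, inf_eq_left.2 l.Yle] at this
  · have hne : X.subgroupOf L ≠ ⊤ := fun h => hX.ne (le_antisymm hX.le (subgroupOf_eq_top.1 h))
    obtain ⟨K, hK, hXK⟩ := (eq_top_or_exists_le_coatom _).resolve_left hne
    obtain rfl := huniq K ⟨hK, (comap_mono hYX).trans hXK⟩
    exact fun x hx => ⟨⟨x, hX.le hx⟩, hXK hx, rfl⟩

theorem eq_resOf_sup : resOf p L ⊔ Y = L :=
  FrakH.sup_eq (resOf_le p L) (le_normalizer.trans (le_normalizer_resOf p L))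
    (fun _ hx => exists_pow_mem_resOf hx) l.Yle (ncl_self l).ge

theorem exists_noncentral :
    ∃ V W, IsPair H (Cfsg.pCoreOf p H) V W ∧ ¬ ⁅V, H⁆ ≤ W := by
  by_contra hne
  push Not at hne
  refine l.frakH.2.2.1 ((l.Yle.trans l.le).trans (le_trans (fun x hx => ?_)
    (chiefStab_le ((isCharP_iff H).2 l.frakH.1))))
  refine mem_chiefStab.2 ⟨hx, fun V W hq => ⟨hq.normV hx, hq.normW hx, fun v hv => hne V W hq ?_⟩⟩
  rw [Subgroup.commutator_comm]
  exact commutator_mem_commutator hx hv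

variable (d : Asym.Data p S M)
include d

theorem core_le_normalizer_Y : Cfsg.pCoreOf p H ≤ normalizer ((Y : Subgroup G) : Set G) :=
  (FrakH.core_le_normalizer d l.frakH.2.1).trans
    ((Asym.normalizer_core_le d).trans_eq (Asym.dagger_eq d))

/-- The configuration on a noncentral chief factor. -/
theorem exists_cfg {V W : Subgroup G} (hq : IsPair H (Cfsg.pCoreOf p H) V W) (hnc : ¬ ⁅V, H⁆ ≤ W) :
    ∃ (Γ : Type u) (_ : Group Γ) (_ : Finite Γ) (f : ↥H →* Γ), Function.Surjective f ∧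
      (∀ x : ↥H, f x = 1 ↔ (x : G) ∈ W) ∧
      LModule.Cfg p (im f V) (im f (Y : Subgroup G)) (im f (P : Subgroup G)) := by
  set O := Cfsg.pCoreOf p H with hO
  have hVH : V ≤ H := hq.le.trans (pCoreOf_le p H)
  have hWH : W ≤ H := hq.lt.le.trans hVH
  haveI : (W.subgroupOf H).Normal := (normal_subgroupOf_iff_le_normalizer hWH).2 hq.normW
  have hker : ∀ x : ↥H, QuotientGroup.mk' (W.subgroupOf H) x = 1 ↔ (x : G) ∈ W := fun x =>
    (QuotientGroup.eq_one_iff x).trans mem_subgroupOf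
  have hsurj := QuotientGroup.mk'_surjective (W.subgroupOf H)
  refine ⟨↥H ⧸ W.subgroupOf H, inferInstance, inferInstance, QuotientGroup.mk' _, hsurj, hker, ?_⟩
  set f := QuotientGroup.mk' (W.subgroupOf H) with hf
  refine ⟨?_, isPGroup_im f ((isPGroup_pCoreOf p H).to_le hq.le), fun N hN hNV => ?_, fun h => ?_,
    isPGroup_im f (isPGroup_pCoreOf p M), im_mono f (largestPReducedOf_le_pCoreOf p M),
    im_le_centralizer f (pCoreOf_le_centralizer_largestPReducedOf p M), ?_⟩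
  · refine normalizer_eq_top_iff.1 (top_le_iff.1 ?_)
    exact (im_self f hsurj).ge.trans (im_normalizer f hq.normV)
  · set Z := (N.comap f).map H.subtype with hZ
    have hZn : H ≤ normalizer (Z : Set G) := by
      refine (normal_subgroupOf_iff_le_normalizer (map_subtype_le _)).1 ?_
      have e : Z.subgroupOf H = N.comap f := comap_map_eq_self_of_injective H.subtype_injective _
      rw [e]
      exact hN.comap f
    have hWZ : W ≤ Z := fun w hw => ⟨⟨w, hWH hw⟩, show f _ ∈ N by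
      rw [(hker ⟨w, hWH hw⟩).2 hw]; exact one_mem N, rfl⟩
    have hZV : Z ≤ V := by
      rintro _ ⟨x, hx, rfl⟩
      obtain ⟨v, hv, hvx⟩ := hNV hx
      have h1 : ((v⁻¹ * x : ↥H) : G) ∈ W := (hker _).1 (by
        rw [map_mul, map_inv, hvx, inv_mul_cancel])
      have h2 := mul_mem (show (v : G) ∈ V from hv) (hq.lt.le h1)
      simpa using h2
    have hNZ : N = im f Z := by
      have e : Z.subgroupOf H = N.comap f := comap_map_eq_self_of_injective H.subtype_injective _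
      rw [im, e, map_comap_eq_self_of_surjective hsurj]
    rcases hq.minimal Z hZn hWZ hZV with h | h
    · left
      rw [hNZ, h, im, eq_bot_iff]
      rintro _ ⟨x, hx, rfl⟩
      exact mem_bot.2 ((hker x).2 hx)
    · exact Or.inr (hNZ.trans (congrArg (im f) h))
  · refine hnc (commutator_le.2 fun v hv x hx => ?_)
    refine (hker ⁅(⟨v, hVH hv⟩ : ↥H), ⟨x, hx⟩⁆).1 ?_
    rw [map_commutatorElement]
    exact commutatorElement_eq_one_iff_mul_comm.2
      (mem_center_iff.1 (h (mem_im f _ hv)) _).symm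
  · refine commutator_le.2 ?_
    rintro _ ⟨v, hv, rfl⟩ _ ⟨y, hy, rfl⟩
    rw [← map_commutatorElement]
    refine mem_map_of_mem f ?_
    exact (Subgroup.le_normalizer_iff_commutator_le_right.1 (core_le_normalizer_Y l d))
      (commutator_mem_commutator (hq.le hv) hy)

section
variable {M₀ : Subgroup G} (hlt : M₀ < L) (hY0 : Cfsg.largestPReducedOf p M ≤ M₀)
  (hmax : ∀ X : Subgroup G, Cfsg.largestPReducedOf p M ≤ X → X < L → X ≤ M₀)
include hlt hY0 hmax

theorem conj_not_le {g : G} (hg : g ∈ L) (hgM : g ∉ M₀) : ¬ Y ⊛ g ≤ M₀ := by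
  intro h
  have hYX : Y ≤ M₀ ⊛ g⁻¹ := by
    have := map_mono (f := (MulAut.conj g⁻¹).toMonoidHom) h
    rwa [conj_map_map, inv_mul_cancel, conj_map_one] at this
  have hgn : g⁻¹ ∈ normalizer (L : Set G) := le_normalizer (inv_mem hg)
  have hX : M₀ ⊛ g⁻¹ < L := lt_of_le_of_ne ((map_mono hlt.le).trans (conj_map_of_mem hgn).le)
    fun he => hlt.ne (map_injective (MulAut.conj g⁻¹).injective (he.trans (conj_map_of_mem hgn).symm))
  have h1 : g⁻¹ ∈ L ⊓ normalizer (M₀ : Set G) := ⟨L.inv_mem hg, mem_normalizer_of_conj_map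
    (eq_of_le_of_card_ge (hmax _ hYX hX) (card_map_of_injective (MulAut.conj g⁻¹).injective).ge)⟩
  refine hgM (inv_mem_iff.1 (hmax _ (le_inf l.Yle (hY0.trans le_normalizer))
    (lt_of_le_of_ne inf_le_left fun he => ?_) h1))
  refine hlt.not_ge ((ncl_self l).ge.trans (FrakH.ncl_le_of_normal hY0 ?_))
  exact inf_eq_left.1 he

theorem gen {g : G} (hg : g ∈ L) (hgM : g ∉ M₀) : Y ⊔ Y ⊛ g = L := by
  have hle : Y ⊔ Y ⊛ g ≤ L :=
    sup_le l.Yle ((map_mono l.Yle).trans (conj_map_of_mem (le_normalizer hg)).le)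
  refine hle.eq_of_not_lt fun h => conj_not_le l d hlt hY0 hmax hg hgM ?_
  exact le_sup_right.trans (hmax _ le_sup_left h)

theorem gen_P {g : G} (hg : g ∈ L) (hgM : g ∉ M₀) : Y ⊛ g ⊔ P = H := by
  refine le_antisymm (sup_le ?_ l.frakH.2.1) ((sup_P l).ge.trans (sup_le ?_ le_sup_right))
  · exact ((map_mono l.Yle).trans (conj_map_of_mem (le_normalizer hg)).le).trans l.le
  · exact (gen l d hlt hY0 hmax hg hgM).ge.trans
      (sup_le ((largestPReducedOf_le_pCoreOf p M).trans le_sup_right) le_sup_left)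

theorem gen_P' {g : G} (hg : g ∈ L) (hgM : g ∉ M₀) : Y ⊔ P ⊛ g = H := by
  have h := congrArg (Subgroup.map (MulAut.conj g).toMonoidHom)
    (gen_P l d hlt hY0 hmax (inv_mem hg) (fun h => hgM (inv_mem_iff.1 h)))
  rwa [Subgroup.map_sup, conj_map_map, mul_inv_cancel, conj_map_one,
    conj_map_of_mem (le_normalizer (l.le hg))] at h

/-- The whole configuration on a noncentral chief factor. -/
theorem exists_pairs {g : G} (hg : g ∈ L) (hgM : g ∉ M₀) {V W : Subgroup G}
    (hq : IsPair H (Cfsg.pCoreOf p H) V W) (hnc : ¬ ⁅V, H⁆ ≤ W) :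
    ∃ (Γ : Type u) (_ : Group Γ) (_ : Finite Γ) (f : ↥H →* Γ), Function.Surjective f ∧
      (∀ x : ↥H, f x = 1 ↔ (x : G) ∈ W) ∧
      LModule.Cfg p (im f V) (im f (Y : Subgroup G)) (im f (P : Subgroup G)) ∧
      LModule.Cfg p (im f V) (im f (Y ⊛ g)) (im f (P ⊛ g)) ∧
      im f (Y ⊛ g) ⊔ im f (P : Subgroup G) = ⊤ ∧ im f (Y : Subgroup G) ⊔ im f (P ⊛ g) = ⊤ ∧
      im f (Y : Subgroup G) ⊔ im f (Y ⊛ g) = im f L := by
  obtain ⟨Γ, _, _, f, hs, hker, c⟩ := exists_cfg l d hq hnc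
  have hgH : g ∈ H := l.le hg
  have hYH : Y ≤ H := l.Yle.trans l.le
  have hYgH : Y ⊛ g ≤ H := (map_mono hYH).trans (conj_map_of_mem (le_normalizer hgH)).le
  have hPgH : P ⊛ g ≤ H := (map_mono l.frakH.2.1).trans (conj_map_of_mem (le_normalizer hgH)).le
  refine ⟨Γ, inferInstance, inferInstance, f, hs, hker, c, ?_, ?_, ?_, ?_⟩
  · rw [im_conj f hgH hYH, im_conj f hgH l.frakH.2.1]
    exact c.conj _
  · rw [← im_sup f hYgH l.frakH.2.1, gen_P l d hlt hY0 hmax hg hgM, im_self f hs]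
  · rw [← im_sup f hYH hPgH, gen_P' l d hlt hY0 hmax hg hgM, im_self f hs]
  · rw [← im_sup f hYH hYgH, gen l d hlt hY0 hmax hg hgM]

theorem not_top : M₀ ⊔ P < H := by
  have hle : M₀ ⊔ P ≤ H := sup_le (hlt.le.trans l.le) l.frakH.2.1
  refine lt_of_le_of_ne hle fun he => ?_
  obtain ⟨g, hg, hgM⟩ := SetLike.exists_of_lt hlt
  obtain ⟨V, W, hq, hnc⟩ := exists_noncentral l
  obtain ⟨Γ, _, _, f, hs, -, c, c', h₁, h₂, h₃⟩ := exists_pairs l d hlt hY0 hmax hg hgM hq hnc
  refine LModule.sup_ne_top c c' h₁ h₂ (A₀ := im f (Cfsg.pCoreOf p M₀)) (M₀ := im f M₀)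
    (isPGroup_im f (isPGroup_pCoreOf p M₀)) (im_mono f (Y_le_core l hY0 hlt)) ?_ ?_ ?_ ?_
  · rw [h₃]; exact im_mono f ((pCoreOf_le p M₀).trans hlt.le)
  · rw [h₃]; exact im_mono f hlt.le
  · exact im_normalizer f (le_normalizer_pCoreOf p M₀)
  · rw [← im_sup f (hlt.le.trans l.le) l.frakH.2.1, he, im_self f hs]

theorem le_normalizer_Y : M₀ ≤ normalizer ((Y : Subgroup G) : Set G) := by
  set P' := M₀ ⊔ (P : Subgroup G) with hP'
  have hP'H : P' < H := not_top l d hlt hY0 hmax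
  set F := Cfsg.pCoreOf p P' with hF
  have hYF : Y ≤ F := l.frakH.2.2.2 _ le_sup_right hP'H
  have hM₀F : M₀ ≤ normalizer (F : Set G) := le_sup_left.trans (le_normalizer_pCoreOf p P')
  set T := F ⊔ (P : Subgroup G) with hT
  have hTp : IsPGroup p ↥T := (isPGroup_pCoreOf p P').to_sup_of_normal_left'
    (isPGroup_pCoreOf p M) ((le_sup_right : (P : Subgroup G) ≤ P').trans (le_normalizer_pCoreOf p P'))
  have hTN : T ≤ normalizer ((Y : Subgroup G) : Set G) := Asym.le_normalizer_Y d hTp le_sup_right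
  have hYF' : ∀ m ∈ M₀, Y ⊛ m ≤ F := fun m hm =>
    (map_mono hYF).trans (conj_map_of_mem (hM₀F hm)).le
  have hconj : ∀ m ∈ M₀, Y ⊛ m ≤ P := by
    intro m hm
    have h1 : Y ⊛ m ≤ T := (hYF' m hm).trans le_sup_left
    have h2 : Y ≤ normalizer ((Y ⊛ m : Subgroup G) : Set G) := by
      have := map_conj_le_normalizer m (((hYF' m⁻¹ (inv_mem hm)).trans le_sup_left).trans hTN)
      rwa [conj_map_map, mul_inv_cancel, conj_map_one] at this
    have hc : ⁅(Y : Subgroup G), Y ⊛ m⁆ = ⊥ := by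
      by_contra hne
      refine d.asym ⟨m, hne, le_inf (commutator_le_left_iff.2 (h1.trans hTN)) ?_⟩
      rw [Subgroup.commutator_comm]
      exact commutator_le_left_iff.2 h2
    refine le_trans ?_ (Asym.inf_centralizer_eq d hTp le_sup_right).le
    exact le_inf h1 (le_centralizer_iff.1 (commutator_eq_bot_iff_le_centralizer.1 hc))
  obtain ⟨g, hg, hgM⟩ := SetLike.exists_of_lt hlt
  set O := Cfsg.pCoreOf p H with hO
  have hP'le : P' ≤ H := hP'H.le
  -- elements whose `p'`-parts centralize every noncentral factor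
  have hex : ∀ q : {q : Subgroup G × Subgroup G // IsPair H O q.1 q.2 ∧ ¬ ⁅q.1, H⁆ ≤ q.2},
      ∃ K : Subgroup G, P ≤ K ∧ P' ≤ normalizer (K : Set G) ∧
        ∀ x ∈ K, x ∈ P' → (orderOf x).Coprime p → ∀ v ∈ q.1.1, ⁅x, v⁆ ∈ q.1.2 := by
    rintro ⟨⟨V, W⟩, hq, hnc⟩
    obtain ⟨Γ, _, _, f, hs, hker, c, c', h₁, h₂, h₃⟩ := exists_pairs l d hlt hY0 hmax hg hgM hq hnc
    have hPH : (P : Subgroup G) ≤ H := l.frakH.2.1
    have hM₀H : M₀ ≤ H := hlt.le.trans l.le
    obtain ⟨K₁, hK1, hK2, hK3⟩ := LModule.exists_stab c c' h₁ h₂ (M₀ := im f M₀)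
      (h₃ ▸ im_mono f hlt.le) (by
        rintro _ ⟨m, hm, rfl⟩
        rw [← im_conj f m.2 (l.Yle.trans l.le)]
        exact im_mono f (hconj m hm))
    refine ⟨(K₁.comap f).map H.subtype, fun x hx => ⟨⟨x, hPH hx⟩, hK1 (mem_im f _ hx), rfl⟩, ?_, ?_⟩
    · refine Subgroup.le_normalizer_iff.2 fun a ha => ?_
      rintro _ ⟨z, hz, rfl⟩
      refine ⟨⟨a, hP'le ha⟩ * z * ⟨a, hP'le ha⟩⁻¹, ?_, rfl⟩
      rw [SetLike.mem_coe, mem_comap, map_mul, map_mul, map_inv]
      refine (mem_normalizer_iff.1 (hK2 ?_) _).1 hz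
      rw [← im_sup f hM₀H hPH]
      exact mem_im f _ ha
    · rintro _ ⟨x, hx, rfl⟩ hxP hcop v hv
      have hVH : V ≤ H := hq.le.trans (pCoreOf_le p H)
      have hc := hK3 (f x) hx (by rw [← im_sup f hM₀H hPH]; exact mem_im f _ hxP)
        (Nat.Coprime.coprime_dvd_left
          ((orderOf_map_dvd f x).trans (Subgroup.orderOf_coe x).symm.dvd) hcop)
      refine (hker ⁅x, ⟨v, hVH hv⟩⁆).1 ?_
      rw [map_commutatorElement]
      exact commutatorElement_eq_one_iff_mul_comm.2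
        (mem_centralizer_iff.1 hc _ (mem_im f _ hv)).symm
  choose K hK1 hK2 hK3 using hex
  set K' := P' ⊓ ⨅ q, K q with hK'
  have hPK : (P : Subgroup G) ≤ K' := le_inf le_sup_right (le_iInf hK1)
  have hK'n : P' ≤ normalizer (K' : Set G) := by
    refine Subgroup.le_normalizer_iff.2 fun a ha x hx => ?_
    refine mem_inf.2 ⟨mul_mem (mul_mem ha (mem_inf.1 hx).1) (inv_mem ha), mem_iInf.2 fun q => ?_⟩
    exact (mem_normalizer_iff.1 (hK2 q ha) x).1 (mem_iInf.1 (mem_inf.1 hx).2 q)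
  have hPF : (P : Subgroup G) ≤ F := hPK.trans (le_pCoreOf inf_le_left hK'n
    (isPGroup_of_forall_coprime fun x hx hcop => eq_one_of_mem_pgroup (isPGroup_pCoreOf p H)
      (chiefStab_le ((isCharP_iff H).2 l.frakH.1) (mem_chiefStab.2
        ⟨hP'le (mem_inf.1 hx).1, fun V W hq => ⟨hq.normV (hP'le (mem_inf.1 hx).1),
          hq.normW (hP'le (mem_inf.1 hx).1), fun v hv => by
            by_cases hnc : ⁅V, H⁆ ≤ W
            · refine hnc ?_
              rw [Subgroup.commutator_comm]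
              exact commutator_mem_commutator (hP'le (mem_inf.1 hx).1) hv
            · exact hK3 ⟨(V, W), hq, hnc⟩ x (mem_iInf.1 (mem_inf.1 hx).2 _) (mem_inf.1 hx).1
                hcop v hv⟩⟩)) hcop))
  intro m hm
  have h1 : (P : Subgroup G) ⊛ m ≤ F := (map_mono hPF).trans (conj_map_of_mem (hM₀F hm)).le
  have h2 := wc_eq_self (Asym.weakly_closed d) (isPGroup_pCoreOf p P') hPF h1
  exact ((Asym.normalizer_core_le d).trans_eq (Asym.dagger_eq d)) (mem_normalizer_of_conj_map h2)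

end

theorem inf_normalizer_lt : L ⊓ normalizer ((Y : Subgroup G) : Set G) < L :=
  lt_of_le_of_ne inf_le_left fun h => not_subnormal l
    ((normal_subgroupOf_iff_le_normalizer l.Yle).2 (inf_eq_left.1 h)).isSubnormal

theorem le_inf_normalizer {X : Subgroup G} (hYX : Y ≤ X) (hX : X < L) :
    X ≤ L ⊓ normalizer ((Y : Subgroup G) : Set G) := by
  obtain ⟨M₀, hlt, hY0, hmax⟩ := exists_max l
  exact (hmax X hYX hX).trans (le_inf hlt.le (le_normalizer_Y l d hlt hY0 hmax))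

theorem conj_sup_P {h : G} (hh : h ∈ L) (hn : h ∉ normalizer ((Y : Subgroup G) : Set G)) :
    Y ⊛ h ⊔ P = H := by
  obtain ⟨M₀, hlt, hY0, hmax⟩ := exists_max l
  exact gen_P l d hlt hY0 hmax hh fun h' => hn (le_normalizer_Y l d hlt hY0 hmax h')

theorem core_le_normalizer : Cfsg.pCoreOf p L ≤ normalizer ((Y : Subgroup G) : Set G) := by
  have hp : IsPGroup p ↥(Cfsg.pCoreOf p L ⊔ Y : Subgroup G) :=
    (isPGroup_pCoreOf p L).to_sup_of_normal_left'
      (isPGroup_of_isElementaryAbelian (isElementaryAbelian_largestPReducedOf p M))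
      (l.Yle.trans (le_normalizer_pCoreOf p L))
  have hlt : Cfsg.pCoreOf p L ⊔ Y < L := lt_of_le_of_ne (sup_le (pCoreOf_le p L) l.Yle) fun h =>
    l.notCore (l.Yle.trans (le_pCoreOf le_rfl le_normalizer (h ▸ hp)))
  exact le_sup_left.trans ((le_inf_normalizer l d le_sup_right hlt).trans inf_le_right)

/-- The normal closure of `O_p(L) ∩ Y_M` in `L` lies in `O_p(H)`. -/
theorem ncl_le_core : FrakH.ncl (Cfsg.pCoreOf p L ⊓ Y) L ≤ Cfsg.pCoreOf p H := by
  refine FrakH.ncl_le_of_normal ?_ (l.le.trans (le_normalizer_pCoreOf p H))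
  obtain ⟨M₀, hlt, hY0, hmax⟩ := exists_max l
  obtain ⟨g, hg, hgM⟩ := SetLike.exists_of_lt hlt
  intro b hb
  have hbH : b ∈ H := l.le (l.Yle (mem_inf.1 hb).2)
  refine chiefStab_le ((isCharP_iff H).2 l.frakH.1) (mem_chiefStab.2 ⟨hbH, fun V W hq =>
    ⟨hq.normV hbH, hq.normW hbH, fun v hv => ?_⟩⟩)
  by_cases hnc : ⁅V, H⁆ ≤ W
  · refine hnc ?_
    rw [Subgroup.commutator_comm]
    exact commutator_mem_commutator hbH hv
  obtain ⟨Γ, _, _, f, hs, hker, c, c', h₁, h₂, h₃⟩ := exists_pairs l d hlt hY0 hmax hg hgM hq hnc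
  have hVH : V ≤ H := hq.le.trans (pCoreOf_le p H)
  have hbn : b ∈ normalizer ((Y ⊛ g : Subgroup G) : Set G) := by
    have h1 := map_conj_le_normalizer g (core_le_normalizer l d)
    rw [← pCoreOf_conj, conj_map_of_mem (le_normalizer hg)] at h1
    exact h1 (mem_inf.1 hb).1
  have hc := LModule.centralizes c c' h₁ h₂ (mem_im f hbH (mem_inf.1 hb).2)
    ((im_normalizer f (X := zpowers b) (zpowers_le.2 hbn)) (mem_im f hbH (mem_zpowers b)))
  refine (hker ⁅(⟨b, hbH⟩ : ↥H), ⟨v, hVH hv⟩⁆).1 ?_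
  rw [map_commutatorElement]
  exact commutatorElement_eq_one_iff_mul_comm.2
    (mem_centralizer_iff.1 hc _ (mem_im f _ hv)).symm

theorem not_commutator_resOf_le {V W : Subgroup G} (hq : IsPair H (Cfsg.pCoreOf p H) V W)
    (hnc : ¬ ⁅V, H⁆ ≤ W) : ¬ ⁅V, resOf p L⁆ ≤ W := by
  intro hle
  obtain ⟨Γ, _, _, f, hs, hker, c⟩ := exists_cfg l d hq hnc
  have hVH : V ≤ H := hq.le.trans (pCoreOf_le p H)
  have hRH : resOf p L ≤ H := (resOf_le p L).trans l.le
  have hgen : im f (resOf p L) ⊔ im f (P : Subgroup G) = ⊤ := by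
    rw [← im_sup f hRH l.frakH.2.1, ← im_self f hs]
    congr 1
    refine le_antisymm (sup_le hRH l.frakH.2.1) ((sup_P l).ge.trans (sup_le ?_ le_sup_right))
    exact (eq_resOf_sup l).ge.trans
      (sup_le le_sup_left ((largestPReducedOf_le_pCoreOf p M).trans le_sup_right))
  refine c.ne_bot hgen (eq_bot_iff.2 (commutator_le.2 ?_))
  rintro _ ⟨v, hv, rfl⟩ _ ⟨r, hr, rfl⟩
  rw [← map_commutatorElement]
  exact mem_bot.2 ((hker _).2 (hle (commutator_mem_commutator hv hr)))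

theorem charP : centralizer (Cfsg.pCore p ↥L : Set ↥L) ≤ Cfsg.pCore p ↥L := by
  rw [← isCharP_iff]
  set O := Cfsg.pCoreOf p H with hO
  set A := Cfsg.pCoreOf p L with hA
  obtain ⟨M₀, hlt, hY0, hmax⟩ := exists_max l
  obtain ⟨g, hg, hgM⟩ := SetLike.exists_of_lt hlt
  have hOY : O ≤ normalizer ((Y : Subgroup G) : Set G) := core_le_normalizer_Y l d
  have hLO : L ≤ normalizer (O : Set G) := l.le.trans (le_normalizer_pCoreOf p H)
  have hOYg : O ≤ normalizer ((Y ⊛ g : Subgroup G) : Set G) := by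
    have h1 := map_conj_le_normalizer g hOY
    rwa [conj_map_of_mem (hLO hg)] at h1
  have hOL : O ≤ normalizer (L : Set G) := by
    rw [← gen l d hlt hY0 hmax hg hgM]
    exact (le_inf hOY hOYg).trans (normalizer_inf_normalizer_le_normalizer_sup _ _)
  have hOA : L ⊓ O ≤ A := le_pCoreOf inf_le_left
    ((le_inf le_normalizer hLO).trans inf_normalizer_le_normalizer_inf)
    ((isPGroup_pCoreOf p H).to_le inf_le_right)
  refine le_pCoreOf inf_le_left ((le_inf le_normalizer ((le_normalizer_pCoreOf p L).trans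
    (normalizer_le_normalizer_centralizer _))).trans inf_normalizer_le_normalizer_inf)
    (isPGroup_of_forall_coprime fun x hx hcop => ?_)
  obtain ⟨hxL, hxA⟩ := mem_inf.1 hx
  have hxO : x ∈ centralizer (O : Set G) := mem_centralizer_iff.2 fun o ho => by
    have hc : ⁅x, o⁆ ∈ L ⊓ O := by
      refine ⟨?_, ?_⟩
      · rw [commutatorElement_def, mul_assoc, mul_assoc, ← mul_assoc o]
        exact L.mul_mem hxL ((mem_normalizer_iff.1 (hOL ho) _).1 (L.inv_mem hxL))
      · rw [commutatorElement_def]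
        exact O.mul_mem ((mem_normalizer_iff.1 (hLO hxL) o).1 ho) (O.inv_mem ho)
    obtain ⟨k, hk⟩ := ((isPGroup_pCoreOf p H).to_le inf_le_right) ⟨_, hc⟩
    exact (commutatorElement_eq_one_iff_mul_comm.1 (LModule.commutator_eq_one hcop
      ((mem_centralizer_iff.1 hxA _ (hOA hc)).symm) (congrArg Subtype.val hk))).symm
  exact eq_one_of_mem_pgroup (isPGroup_pCoreOf p H)
    (((isCharP_iff H).2 l.frakH.1) ⟨l.le hxL, hxO⟩) hcop

end Cfsg.Agent.CharP.AsymL
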