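import Cfsg.Agent.Lib.CharP.Sylow
import Cfsg.Agent.Lib.CharP.Coprime
import Cfsg.Agent.Lib.CharP.Parabolic
import Cfsg.Agent.Lib.Cores.Nilpotent

/-!
The action on a chief factor of a group generated by two conjugates of a small subgroup.
-/

set_option autoImplicit false
set_option linter.style.haveILetI false
set_option linter.unusedSectionVars false

namespace Cfsg.Agent.CharP.LModule

open Subgroup
open scoped commutatorElement

variable {Γ : Type*} [Group Γ]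

local notation:70 A:70 " ⊛ " g:71 => Subgroup.map (MulEquiv.toMonoidHom (MulAut.conj g)) A

/-- Elements normalising `V` and `W` and centralising `V` modulo `W`. -/
def stab (V W : Subgroup Γ) : Subgroup Γ where
  carrier := {x | x ∈ normalizer (V : Set Γ) ∧ x ∈ normalizer (W : Set Γ) ∧ ∀ v ∈ V, ⁅x, v⁆ ∈ W}
  one_mem' := ⟨one_mem _, one_mem _, fun v _ => by rw [commutatorElement_one_left]; exact one_mem W⟩
  mul_mem' := fun {x y} hx hy => ⟨mul_mem hx.1 hy.1, mul_mem hx.2.1 hy.2.1, fun v hv => by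
    rw [show ⁅x * y, v⁆ = x * ⁅y, v⁆ * x⁻¹ * ⁅x, v⁆ by simp [commutatorElement_def, mul_assoc]]
    exact mul_mem ((mem_normalizer_iff.1 hx.2.1 _).1 (hy.2.2 v hv)) (hx.2.2 v hv)⟩
  inv_mem' := fun {x} hx => ⟨inv_mem hx.1, inv_mem hx.2.1, fun v hv => by
    rw [show ⁅x⁻¹, v⁆ = x⁻¹ * ⁅x, v⁆⁻¹ * x⁻¹⁻¹ by simp [commutatorElement_def, mul_assoc]]
    exact (mem_normalizer_iff.1 (inv_mem hx.2.1) _).1 (inv_mem (hx.2.2 v hv))⟩

theorem mem_stab {V W : Subgroup Γ} {x : Γ} : x ∈ stab V W ↔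
    x ∈ normalizer (V : Set Γ) ∧ x ∈ normalizer (W : Set Γ) ∧ ∀ v ∈ V, ⁅x, v⁆ ∈ W := Iff.rfl

theorem normalizer_inf_le_stab (V W : Subgroup Γ) :
    normalizer (V : Set Γ) ⊓ normalizer (W : Set Γ) ≤ normalizer (stab V W : Set Γ) := by
  refine Subgroup.le_normalizer_iff.2 fun h hh x hx =>
    ⟨mul_mem (mul_mem hh.1 hx.1) (inv_mem hh.1), mul_mem (mul_mem hh.2 hx.2.1) (inv_mem hh.2),
      fun v hv => ?_⟩
  have h1 : h⁻¹ * v * h ∈ V := by
    have := (mem_normalizer_iff.1 (inv_mem hh.1) v).1 hv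
    simpa using this
  rw [show ⁅h * x * h⁻¹, v⁆ = h * ⁅x, h⁻¹ * v * h⁆ * h⁻¹ by simp [commutatorElement_def, mul_assoc]]
  exact (mem_normalizer_iff.1 hh.2 _).1 (hx.2.2 _ h1)

variable {p : ℕ} [Fact p.Prime]

/-- A fixed commutator of `p`-power order with an element of order prime to `p` is trivial. -/
theorem commutator_eq_one {x v : Γ} (hx : (orderOf x).Coprime p)
    (hfix : x * ⁅x, v⁆ = ⁅x, v⁆ * x) {k : ℕ} (hc : ⁅x, v⁆ ^ p ^ k = 1) : ⁅x, v⁆ = 1 := by
  set c := ⁅x, v⁆ with hcdef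
  have key : ∀ n : ℕ, x ^ n * v = c ^ n * v * x ^ n := by
    intro n
    induction n with
    | zero => simp
    | succ n ih =>
      calc x ^ (n + 1) * v = x * (x ^ n * v) := by rw [pow_succ', mul_assoc]
        _ = x * c ^ n * v * x ^ n := by rw [ih]; simp only [mul_assoc]
        _ = c ^ n * (x * v) * x ^ n := by
            rw [((show Commute x c from hfix).pow_right n).eq]; simp only [mul_assoc]
        _ = c ^ n * (c * v * x) * x ^ n := by
            rw [hcdef, commutatorElement_def]; simp [mul_assoc]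
        _ = c ^ (n + 1) * v * x ^ (n + 1) := by
            rw [pow_succ, pow_succ']; simp only [mul_assoc]
  have h := key (orderOf x)
  rw [pow_orderOf_eq_one, one_mul, mul_one] at h
  have h1 : c ^ orderOf x = 1 := mul_eq_right.1 h.symm
  exact orderOf_eq_one_iff.1 (Nat.eq_one_of_dvd_coprimes (hx.symm.pow_left k)
    (orderOf_dvd_of_pow_eq_one hc) (orderOf_dvd_of_pow_eq_one h1))

/-- An element of order prime to `p` centralising a `p`-group `V` modulo a centralised `W` centralises `V`. -/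
theorem centralizes_of_stab {V W : Subgroup Γ} (hW : IsPGroup p ↥W) {x : Γ}
    (hx : (orderOf x).Coprime p) (hst : x ∈ stab V W) (hxW : x ∈ centralizer (W : Set Γ)) :
    x ∈ centralizer (V : Set Γ) := by
  rw [mem_centralizer_iff]
  intro v hv
  have hc := hst.2.2 v hv
  obtain ⟨k, hk⟩ := hW ⟨_, hc⟩
  exact (commutatorElement_eq_one_iff_mul_comm.1 (commutator_eq_one hx
    ((mem_centralizer_iff.1 hxW _ hc).symm) (congrArg Subtype.val hk))).symm

variable [Finite Γ]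

/-- A `p`-group fixes a nontrivial element of a `p`-group it normalises. -/
theorem fixed_ne_bot {N X : Subgroup Γ} (hN : IsPGroup p ↥N) (hX : IsPGroup p ↥X)
    (hn : X ≤ normalizer (N : Set Γ)) (hne : N ≠ ⊥) : N ⊓ centralizer (X : Set Γ) ≠ ⊥ := by
  set E := X ⊔ N
  haveI : Group.IsNilpotent ↥E := (hX.to_sup_of_normal_right' hN hn).isNilpotent
  haveI : (N.subgroupOf E).Normal :=
    (normal_subgroupOf_iff_le_normalizer le_sup_right).2 (sup_le hn le_normalizer)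
  intro h
  refine Cfsg.Agent.Cores.inf_center_ne_bot (N := N.subgroupOf E) (fun hb => hne ?_)
    (eq_bot_iff.2 fun z hz => ?_)
  · exact (subgroupOf_eq_bot.1 hb).eq_bot_of_le le_sup_right
  · refine mem_bot.2 (Subtype.ext ((eq_bot_iff_forall _).1 h _ ⟨hz.1, ?_⟩))
    exact mem_centralizer_iff.2 fun x hx =>
      congrArg Subtype.val (mem_center_iff.1 hz.2 ⟨x, (le_sup_left : X ≤ E) hx⟩)

/-- The configuration: an irreducible noncentral `p`-module `V`, with `Y ≤ P`. -/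
structure Cfg (p : ℕ) (V Y P : Subgroup Γ) : Prop where
  normal : V.Normal
  pgroupV : IsPGroup p ↥V
  minimal : ∀ N : Subgroup Γ, N.Normal → N ≤ V → N = ⊥ ∨ N = V
  noncentral : ¬ V ≤ center Γ
  pgroupP : IsPGroup p ↥P
  le : Y ≤ P
  cent : P ≤ centralizer (Y : Set Γ)
  comm : ⁅V, Y⁆ ≤ Y

variable {V Y P Z R : Subgroup Γ}

omit [Fact p.Prime] [Finite Γ] in
theorem Cfg.conj (c : Cfg p V Y P) (g : Γ) : Cfg p V (Y ⊛ g) (P ⊛ g) where
  normal := c.normal
  pgroupV := c.pgroupV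
  minimal := c.minimal
  noncentral := c.noncentral
  pgroupP := isPGroup_conj c.pgroupP g
  le := map_mono c.le
  cent := (map_mono c.cent).trans (by
    rintro _ ⟨x, hx, rfl⟩
    rw [mem_centralizer_iff]
    rintro _ ⟨y, hy, rfl⟩
    rw [← map_mul, ← map_mul, mem_centralizer_iff.1 hx y hy])
  comm := by
    have hV : V ⊛ g = V := by
      haveI := c.normal
      exact conj_map_of_mem (normalizer_eq_top (H := V) ▸ mem_top g)
    conv_lhs => rw [← hV]
    rw [← Subgroup.map_commutator]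
    exact map_mono c.comm

omit [Finite Γ] in
theorem Cfg.center_bot (c : Cfg p V Y P) : V ⊓ center Γ = ⊥ := by
  haveI := c.normal
  refine (c.minimal _ inferInstance inf_le_left).resolve_right fun h => c.noncentral ?_
  exact h.ge.trans inf_le_right

omit [Fact p.Prime] [Finite Γ] in
theorem Cfg.normal_of (c : Cfg p V Y P) {X : Subgroup Γ} : X ≤ normalizer (V : Set Γ) := by
  haveI := c.normal
  rw [normalizer_eq_top (H := V)]
  exact le_top

omit [Fact p.Prime] [Finite Γ] in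
/-- A subgroup between `⁅V, X⁆` and `V` is normalised by `X`. -/
theorem le_normalizer_of_commutator_le {N X : Subgroup Γ} (hNV : N ≤ V) (h : ⁅V, X⁆ ≤ N) :
    X ≤ normalizer (N : Set Γ) :=
  le_normalizer_iff_commutator_le_left.2 ((commutator_mono hNV le_rfl).trans h)

omit [Fact p.Prime] [Finite Γ] in
theorem Cfg.commutator_le_self (c : Cfg p V Y P) (X : Subgroup Γ) : ⁅V, X⁆ ≤ V :=
  le_normalizer_iff_commutator_le_left.1 c.normal_of

omit [Fact p.Prime] [Finite Γ] in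
theorem Cfg.commutator_le_centralizer (c : Cfg p V Y P) : ⁅V, Y⁆ ≤ centralizer (P : Set Γ) :=
  c.comm.trans (le_centralizer_iff.1 c.cent)

omit [Fact p.Prime] [Finite Γ] in
theorem Cfg.commutator_le_centralizer' (c : Cfg p V Y P) : ⁅V, Y⁆ ≤ centralizer (Y : Set Γ) :=
  c.commutator_le_centralizer.trans (centralizer_le c.le)

omit [Fact p.Prime] [Finite Γ] in
theorem Cfg.three (c : Cfg p V Y P) : ⁅V, P⁆ ≤ centralizer (Y : Set Γ) := by
  refine commutator_eq_bot_iff_le_centralizer.1 (commutator_commutator_eq_bot_of_rotate ?_ ?_)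
  · rw [show ⁅P, Y⁆ = ⊥ from commutator_eq_bot_iff_le_centralizer.2 c.cent, commutator_bot_left]
  · rw [Subgroup.commutator_comm Y V]
    exact commutator_eq_bot_iff_le_centralizer.2 c.commutator_le_centralizer

theorem Cfg.ne_bot (c : Cfg p V Y P) (hgen : Z ⊔ P = ⊤) : ⁅V, Z⁆ ≠ ⊥ := by
  intro h
  have hV : V ≠ ⊥ := fun h => c.noncentral (h ▸ bot_le)
  obtain ⟨z, hz, hz1⟩ := (bot_or_exists_ne_one _).resolve_left
    (fixed_ne_bot c.pgroupV c.pgroupP c.normal_of hV)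
  refine hz1 ((eq_bot_iff_forall _).1 c.center_bot z ⟨hz.1, mem_center_iff.2 fun x => ?_⟩)
  have hle : Z ⊔ P ≤ centralizer ({z} : Set Γ) := by
    refine sup_le (fun y hy => ?_) (fun y hy => ?_) <;> rw [mem_centralizer_singleton_iff]
    · exact mem_centralizer_iff.1 (commutator_eq_bot_iff_le_centralizer.1 h hz.1) y hy
    · exact mem_centralizer_iff.1 hz.2 y hy
  exact mem_centralizer_singleton_iff.1 (hle (hgen ▸ mem_top x))

theorem Cfg.eq_sup (c : Cfg p V Y P) (hgen : Z ⊔ P = ⊤) {v : Γ} (hv : v ∈ V) :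
    ∃ w ∈ ⁅V, Z⁆, ∃ u ∈ V ⊓ centralizer (Y : Set Γ), v = w * u := by
  set N := ⁅V, Z⁆ ⊔ ⁅V, P⁆
  have hNV : N ≤ V := sup_le (c.commutator_le_self Z) (c.commutator_le_self P)
  have hn : N.Normal := normalizer_eq_top_iff.1 (top_le_iff.1 (hgen.ge.trans (sup_le
    (le_normalizer_of_commutator_le hNV le_sup_left)
    (le_normalizer_of_commutator_le hNV le_sup_right))))
  have hN : N = V := (c.minimal N hn hNV).resolve_left fun h =>
    c.ne_bot hgen (le_bot_iff.1 (h ▸ le_sup_left))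
  have hv' : v ∈ ⁅V, Z⁆ ⊔ ⁅V, P⁆ := hN.ge hv
  have hnorm : ⁅V, P⁆ ≤ normalizer ((⁅V, Z⁆ : Subgroup Γ) : Set Γ) :=
    (c.commutator_le_self P).trans (normalizer_commutator_ge_left V Z)
  rw [sup_comm, ← SetLike.mem_coe, coe_mul_of_left_le_normalizer_right _ _ hnorm] at hv'
  obtain ⟨u, hu, w, hw, rfl⟩ := hv'
  refine ⟨u * w * u⁻¹, (mem_normalizer_iff.1 (hnorm hu) w).1 hw, u,
    ⟨c.commutator_le_self P hu, c.three hu⟩, by simp⟩

theorem Cfg.inf_eq_bot (c : Cfg p V Y P) (c' : Cfg p V Z R) (hgen : Y ⊔ R = ⊤) :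
    ⁅V, Z⁆ ⊓ centralizer (Y : Set Γ) = ⊥ := by
  refine eq_bot_iff.2 fun z hz => c.center_bot.le ⟨c.commutator_le_self Z hz.1,
    mem_center_iff.2 fun x => ?_⟩
  have hle : Y ⊔ R ≤ centralizer ({z} : Set Γ) := by
    refine sup_le (fun y hy => ?_) (fun y hy => ?_) <;> rw [mem_centralizer_singleton_iff]
    · exact mem_centralizer_iff.1 hz.2 y hy
    · exact mem_centralizer_iff.1 (c'.commutator_le_centralizer hz.1) y hy
  exact mem_centralizer_singleton_iff.1 (hle (hgen ▸ mem_top x))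

section
variable (c : Cfg p V Y P) (c' : Cfg p V Z R) (h₁ : Z ⊔ P = ⊤) (h₂ : Y ⊔ R = ⊤)
include c c' h₁ h₂

/-- `V` is the product of `⁅V, Z⁆`, `⁅V, Y⁆` and the fixed points of `Y ⊔ Z`. -/
theorem split {v : Γ} (hv : v ∈ V) : ∃ w₂ ∈ ⁅V, Z⁆, ∃ w₁ ∈ ⁅V, Y⁆,
    ∃ u ∈ V ⊓ centralizer ((Y ⊔ Z : Subgroup Γ) : Set Γ), v = w₂ * w₁ * u := by
  obtain ⟨w₂, hw₂, u, hu, rfl⟩ := c.eq_sup h₁ hv
  obtain ⟨w₁, hw₁, u', hu', rfl⟩ := c'.eq_sup h₂ hu.1
  have h : u' ∈ centralizer (Y : Set Γ) := by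
    have := mul_mem (inv_mem (c.commutator_le_centralizer' hw₁)) hu.2
    rwa [inv_mul_cancel_left] at this
  refine ⟨w₂, hw₂, w₁, hw₁, u', ⟨hu'.1, ?_⟩, by rw [mul_assoc]⟩
  have hle : Y ⊔ Z ≤ centralizer ({u'} : Set Γ) := sup_le
    (fun y hy => mem_centralizer_singleton_iff.2 (mem_centralizer_iff.1 h y hy))
    (fun y hy => mem_centralizer_singleton_iff.2 (mem_centralizer_iff.1 hu'.2 y hy))
  exact mem_centralizer_iff.2 fun x hx => mem_centralizer_singleton_iff.1 (hle hx)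

theorem centralizer_inf {v : Γ} (hv : v ∈ V ⊓ centralizer (Y : Set Γ)) :
    ∃ w₁ ∈ ⁅V, Y⁆, ∃ u ∈ V ⊓ centralizer ((Y ⊔ Z : Subgroup Γ) : Set Γ), v = w₁ * u := by
  obtain ⟨w₂, hw₂, w₁, hw₁, u, hu, rfl⟩ := split c c' h₁ h₂ hv.1
  refine ⟨w₁, hw₁, u, hu, ?_⟩
  have h : w₂ ∈ ⁅V, Z⁆ ⊓ centralizer (Y : Set Γ) := by
    refine ⟨hw₂, ?_⟩
    have := (centralizer (Y : Set Γ)).mul_mem ((centralizer (Y : Set Γ)).mul_mem hv.2 ((centralizer (Y : Set Γ)).inv_mem (centralizer_le (SetLike.coe_subset_coe.2 (le_sup_left : Y ≤ Y ⊔ Z)) hu.2)))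
      ((centralizer (Y : Set Γ)).inv_mem (c.commutator_le_centralizer' hw₁))
    simpa using this
  rw [c.inf_eq_bot c' h₂, mem_bot] at h
  rw [h, one_mul]

theorem sup_inf_centralizer {v : Γ} (hv : v ∈ ⁅V, Y⁆ ⊔ ⁅V, Z⁆)
    (hvY : v ∈ centralizer (Y : Set Γ)) : v ∈ ⁅V, Y⁆ := by
  rw [← SetLike.mem_coe, coe_mul_of_left_le_normalizer_right _ _
    ((c.commutator_le_self Y).trans (normalizer_commutator_ge_left V Z))] at hv
  obtain ⟨w₁, hw₁, w₂, hw₂, rfl⟩ := hv
  have h : w₂ ∈ ⁅V, Z⁆ ⊓ centralizer (Y : Set Γ) := by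
    refine ⟨hw₂, ?_⟩
    have := mul_mem (inv_mem (c.commutator_le_centralizer' hw₁)) hvY
    rwa [inv_mul_cancel_left] at this
  rw [c.inf_eq_bot c' h₂, mem_bot] at h
  rw [h]
  simpa using hw₁

theorem centralizes {b : Γ} (hb : b ∈ Y) (hbZ : b ∈ normalizer (Z : Set Γ)) :
    b ∈ centralizer (V : Set Γ) := by
  rw [mem_centralizer_iff]
  intro v hv
  obtain ⟨w₂, hw₂, w₁, hw₁, u, hu, rfl⟩ := split c c' h₁ h₂ hv
  have e1 : b * w₂ = w₂ * b := by
    refine commutatorElement_eq_one_iff_mul_comm.1 ((eq_bot_iff_forall _).1 (c.inf_eq_bot c' h₂) _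
      ⟨?_, c.commutator_le_centralizer' ?_⟩)
    · have hn : b ∈ normalizer ((⁅V, Z⁆ : Subgroup Γ) : Set Γ) := by
        refine mem_normalizer_of_conj_map ?_
        rw [Subgroup.map_commutator]
        exact congrArg₂ (⁅·, ·⁆) (conj_map_of_mem (c.normal_of (X := Y) hb)) (conj_map_of_mem hbZ)
      rw [commutatorElement_def]
      exact (⁅V, Z⁆ : Subgroup Γ).mul_mem ((mem_normalizer_iff.1 hn w₂).1 hw₂) ((⁅V, Z⁆ : Subgroup Γ).inv_mem hw₂)
    · rw [Subgroup.commutator_comm]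
      exact commutator_mem_commutator hb (c.commutator_le_self Z hw₂)
  have e2 : b * w₁ = w₁ * b := mem_centralizer_iff.1 (c.commutator_le_centralizer' hw₁) b hb
  have e3 : b * u = u * b := mem_centralizer_iff.1 (centralizer_le (SetLike.coe_subset_coe.2 (le_sup_left : Y ≤ Y ⊔ Z)) hu.2) b hb
  simp only [mul_assoc]
  rw [← e3, ← mul_assoc w₁ b, ← e2, mul_assoc b, ← mul_assoc w₂ b, ← e1, mul_assoc]

theorem sup_ne_top {M₀ A₀ : Subgroup Γ} (hA : IsPGroup p ↥A₀) (hYA : Y ≤ A₀)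
    (hAL : A₀ ≤ Y ⊔ Z) (hM : M₀ ≤ Y ⊔ Z) (hMA : M₀ ≤ normalizer (A₀ : Set Γ)) :
    M₀ ⊔ P ≠ ⊤ := by
  intro htop
  set U := ⁅V, Y⁆ ⊔ ⁅V, Z⁆ with hU
  have hUV : U ≤ V := sup_le (c.commutator_le_self Y) (c.commutator_le_self Z)
  have hLU : Y ⊔ Z ≤ normalizer (U : Set Γ) := sup_le
    (le_normalizer_of_commutator_le hUV le_sup_left) (le_normalizer_of_commutator_le hUV le_sup_right)
  have hUne : U ≠ ⊥ := fun h => c'.ne_bot h₂ (le_bot_iff.1 (h ▸ le_sup_left))
  set N := U ⊓ centralizer (A₀ : Set Γ)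
  have hN1 : N ≤ ⁅V, Y⁆ := fun z hz =>
    sup_inf_centralizer c c' h₁ h₂ hz.1 (centralizer_le hYA hz.2)
  have hnN : N.Normal := normalizer_eq_top_iff.1 (top_le_iff.1 (htop.ge.trans (sup_le
    ((le_inf (hM.trans hLU) (hMA.trans (normalizer_le_normalizer_centralizer A₀))).trans
      inf_normalizer_le_normalizer_inf)
    ((le_centralizer_iff.1 (hN1.trans c.commutator_le_centralizer)).trans
      (centralizer_le_normalizer _)))))
  rcases c.minimal N hnN (inf_le_left.trans hUV) with h | h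
  · exact fixed_ne_bot (c.pgroupV.to_le hUV) hA (hAL.trans hLU) hUne h
  · apply c'.ne_bot h₂
    refine commutator_eq_bot_iff_le_centralizer.2 ?_
    exact (h.ge.trans hN1).trans c.commutator_le_centralizer'

theorem exists_stab {M₀ : Subgroup Γ} (hM : M₀ ≤ Y ⊔ Z) (hconj : ∀ m ∈ M₀, Y ⊛ m ≤ P) :
    ∃ K : Subgroup Γ, P ≤ K ∧ M₀ ⊔ P ≤ normalizer (K : Set Γ) ∧
      ∀ x ∈ K, x ∈ M₀ ⊔ P → (orderOf x).Coprime p → x ∈ centralizer (V : Set Γ) := by
  set W₁ := ⁅V, Y⁆ with hW₁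
  set U := ⁅V, Y⁆ ⊔ ⁅V, Z⁆ with hU
  set CY := V ⊓ centralizer (Y : Set Γ) with hCY
  have hW₁V : W₁ ≤ V := c.commutator_le_self Y
  have hW₁CY : W₁ ≤ CY := le_inf hW₁V c.commutator_le_centralizer'
  have hUV : U ≤ V := sup_le hW₁V (c.commutator_le_self Z)
  have hLU : Y ⊔ Z ≤ normalizer (U : Set Γ) := sup_le
    (le_normalizer_of_commutator_le hUV le_sup_left) (le_normalizer_of_commutator_le hUV le_sup_right)
  have hPW : P ≤ centralizer (W₁ : Set Γ) := le_centralizer_iff.1 c.commutator_le_centralizer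
  have hMW : M₀ ≤ normalizer (W₁ : Set Γ) := fun m hm => by
    refine mem_normalizer_of_conj_map (eq_of_le_of_card_ge ?_
      (card_map_of_injective (MulAut.conj m).injective).le).symm
    intro w hw
    refine ⟨m⁻¹ * w * m, sup_inf_centralizer c c' h₁ h₂ ?_ ?_, by simp [mul_assoc]⟩
    · simpa using (mem_normalizer_iff.1 (inv_mem (hLU (hM hm))) w).1 (mem_sup_left hw)
    · rw [mem_centralizer_iff]
      intro y hy
      have h := mem_centralizer_iff.1 (c.commutator_le_centralizer hw) _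
        (hconj m hm (mem_map_of_mem _ hy))
      have h' : m * y * m⁻¹ * w = w * (m * y * m⁻¹) := h
      calc y * (m⁻¹ * w * m) = m⁻¹ * (m * y * m⁻¹ * w) * m := by simp [mul_assoc]
        _ = m⁻¹ * (w * (m * y * m⁻¹)) * m := by rw [h']
        _ = m⁻¹ * w * m * y := by simp [mul_assoc]
  have hPC : P ≤ normalizer (CY : Set Γ) :=
    (le_inf c.normal_of ((c.cent.trans (centralizer_le_normalizer _)).trans
      (normalizer_le_normalizer_centralizer Y))).trans inf_normalizer_le_normalizer_inf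
  have hMstab : ∀ m ∈ M₀, ∀ v ∈ CY, ⁅m, v⁆ ∈ W₁ := by
    intro m hm v hv
    obtain ⟨w, hw, u, hu, rfl⟩ := centralizer_inf c c' h₁ h₂ hv
    have hmu : m * u = u * m := mem_centralizer_iff.1 hu.2 m (hM hm)
    rw [show ⁅m, w * u⁆ = m * w * (u * m⁻¹ * u⁻¹) * w⁻¹ by simp [commutatorElement_def, mul_assoc],
      ((show Commute u m from hmu.symm).inv_right).eq, mul_inv_cancel_right]
    exact mul_mem ((mem_normalizer_iff.1 (hMW hm) w).1 hw) (inv_mem hw)
  have hMC : M₀ ≤ normalizer (CY : Set Γ) := by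
    refine Subgroup.le_normalizer_iff.2 fun m hm v hv => ?_
    have := mul_mem (hW₁CY (hMstab m hm v hv)) hv
    rwa [commutatorElement_def, inv_mul_cancel_right] at this
  set P' := M₀ ⊔ P with hP'
  have hP'W : P' ≤ normalizer (W₁ : Set Γ) := sup_le hMW (hPW.trans (centralizer_le_normalizer _))
  have hP'C : P' ≤ normalizer (CY : Set Γ) := sup_le hMC hPC
  refine ⟨centralizer (W₁ : Set Γ) ⊓ stab V CY, le_inf hPW fun x hx =>
      ⟨c.normal_of (X := P) hx, hPC hx, fun v hv => ⟨?_, c.three ?_⟩⟩,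
    (le_inf (hP'W.trans (normalizer_le_normalizer_centralizer W₁))
      ((le_inf c.normal_of hP'C).trans (normalizer_inf_le_stab V CY))).trans
      inf_normalizer_le_normalizer_inf, fun x hx hxP' hcop => ?_⟩
  · rw [commutatorElement_def]
    exact V.mul_mem ((mem_normalizer_iff.1 (c.normal_of (X := P) hx) v).1 hv) (V.inv_mem hv)
  · rw [Subgroup.commutator_comm]
    exact commutator_mem_commutator hx hv
  obtain ⟨hxW, hxs⟩ := hx
  set N₁ := stab CY W₁ ⊓ P'
  have hMN : M₀ ≤ N₁ := le_inf (fun m hm => ⟨hMC hm, hMW hm, hMstab m hm⟩) le_sup_left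
  have hPN : P ≤ normalizer (N₁ : Set Γ) :=
    (le_inf (((le_sup_right : P ≤ P').trans (le_inf hP'C hP'W)).trans (normalizer_inf_le_stab CY W₁))
      ((le_sup_right : P ≤ P').trans le_normalizer)).trans inf_normalizer_le_normalizer_inf
  have hx1 : x ∈ P ⊔ N₁ := by
    refine (sup_le ?_ le_sup_left : P' ≤ P ⊔ N₁) hxP'
    exact hMN.trans le_sup_right
  rw [← SetLike.mem_coe, coe_mul_of_left_le_normalizer_right _ _ hPN] at hx1
  obtain ⟨q, hq, n, hn, rfl⟩ := hx1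
  obtain ⟨k, hk⟩ := c.pgroupP ⟨q, hq⟩
  have hpow : (q * n) ^ p ^ k ∈ N₁ := by
    have h := inv_pow_mul_mul_pow_mem (hPN hq) hn (p ^ k)
    rwa [show q ^ p ^ k = 1 from congrArg Subtype.val hk, inv_one, one_mul] at h
  have hxN : q * n ∈ N₁ := by
    obtain ⟨j, hj⟩ := exists_pow_eq_self_of_coprime (hcop.symm.pow_left k)
    simp only at hj
    rw [← hj]
    exact pow_mem hpow j
  exact centralizes_of_stab (c.pgroupV.to_le inf_le_left) hcop hxs
    (centralizes_of_stab (c.pgroupV.to_le hW₁V) hcop hxN.1 hxW)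

end

end Cfsg.Agent.CharP.LModule
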