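import Cfsg.Agent.Lib.CharP.Parabolic

/-!
Reduced modules and subnormal subgroups: a subgroup `V` normalized by `K` is reduced for `K` if
every normal subgroup of `K` that is a `p`-group modulo `C(V)` centralizes `V`.
-/

set_option autoImplicit false

namespace Cfsg.Agent.CharP

open Subgroup
open scoped commutatorElement

variable {G : Type*} [Group G] {p : ℕ}

/-- `N ⊴ K` is a `p`-group modulo `C(V)`. -/
def IsGoodFor (p : ℕ) (K V N : Subgroup G) : Prop :=
  N ≤ K ∧ K ≤ normalizer (N : Set G) ∧ ∀ x ∈ N, ∃ k : ℕ, x ^ p ^ k ∈ centralizer (V : Set G)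

/-- `O_p(K / C_K(V)) = 1`, in ambient terms. -/
def IsRed (p : ℕ) (K V : Subgroup G) : Prop :=
  ∀ N : Subgroup G, IsGoodFor p K V N → N ≤ centralizer (V : Set G)

theorem isRed_largest (p : ℕ) (K : Subgroup G) : IsRed p K (Cfsg.largestPReducedOf p K) :=
  fun _ h => largestPReducedOf_reduced h.1 h.2.1 h.2.2

theorem le_largestPReducedOf_of_isRed {K V : Subgroup G} (hVK : V ≤ K)
    (hn : K ≤ normalizer (V : Set G)) (he : Cfsg.IsElementaryAbelian p V) (hr : IsRed p K V) :
    V ≤ Cfsg.largestPReducedOf p K :=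
  le_largestPReducedOf hVK hn he fun N h1 h2 h3 => hr N ⟨h1, h2, h3⟩

theorem IsGoodFor.sup {L V N₁ N₂ : Subgroup G} (hLV : L ≤ normalizer (V : Set G))
    (h₁ : IsGoodFor p L V N₁) (h₂ : IsGoodFor p L V N₂) : IsGoodFor p L V (N₁ ⊔ N₂) := by
  refine ⟨sup_le h₁.1 h₂.1, fun g hg => ?_, fun x hx => ?_⟩
  · rw [mem_normalizer_iff_map_conj_eq, Subgroup.map_sup]
    exact congrArg₂ (· ⊔ ·) (conj_map_of_mem (h₁.2.1 hg)) (conj_map_of_mem (h₂.2.1 hg))
  have hn : N₁ ≤ normalizer (N₂ : Set G) := h₁.1.trans h₂.2.1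
  rw [← SetLike.mem_coe, coe_mul_of_left_le_normalizer_right _ _ hn] at hx
  obtain ⟨o, ho, c, hc, rfl⟩ := hx
  obtain ⟨a, ha⟩ := h₁.2.2 o ho
  have h := inv_pow_mul_mul_pow_mem (hn ho) hc (p ^ a)
  set n := (o ^ p ^ a)⁻¹ * (o * c) ^ p ^ a
  obtain ⟨b, hb⟩ := h₂.2.2 n h
  refine ⟨a + b, ?_⟩
  have hCn : n ∈ normalizer (centralizer (V : Set G) : Set G) :=
    normalizer_le_normalizer_centralizer V (hLV (h₂.1 h))
  have hc' : n⁻¹ * o ^ p ^ a * n ∈ centralizer (V : Set G) := by
    simpa using (mem_normalizer_iff.1 (inv_mem hCn) _).1 ha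
  have h2 := inv_pow_mul_mul_pow_mem hCn hc' (p ^ b)
  have e : n * (n⁻¹ * o ^ p ^ a * n) = (o * c) ^ p ^ a := by simp only [n]; group
  rw [e, ← pow_mul, ← pow_add] at h2
  have h3 := mul_mem hb h2
  rwa [mul_inv_cancel_left] at h3

variable [Finite G]

theorem exists_largest_good {L V : Subgroup G} (hLV : L ≤ normalizer (V : Set G)) :
    ∃ N : Subgroup G, IsGoodFor p L V N ∧ ∀ M, IsGoodFor p L V M → M ≤ N := by
  obtain ⟨N, hN, hmax⟩ := (Set.toFinite {N : Subgroup G | IsGoodFor p L V N}).exists_maximal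
    ⟨⊥, bot_le, fun x _ => by
      rw [mem_normalizer_iff]; intro y; simp [conj_eq_one_iff],
      fun x hx => ⟨0, by rw [mem_bot] at hx; rw [hx, one_pow]; exact one_mem _⟩⟩
  exact ⟨N, hN, fun M hM => le_trans le_sup_right (hmax (IsGoodFor.sup hLV hN hM) le_sup_left)⟩

variable [Fact p.Prime]

/-- For `L ⊴ K` and `V ≤ K` reduced for `K`: `C_L(V ⊓ L) = C_L(V)` and `V ⊓ L` is reduced for `L`. -/
theorem isRed_inf_of_normal {L K V : Subgroup G} (hLK : L ≤ K) (hKL : K ≤ normalizer (L : Set G))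
    (hVK : V ≤ K) (hKV : K ≤ normalizer (V : Set G)) (hVe : Cfsg.IsElementaryAbelian p V)
    (hr : IsRed p K V) :
    IsRed p L (V ⊓ L) ∧
      L ⊓ centralizer ((V ⊓ L : Subgroup G) : Set G) ≤ centralizer (V : Set G) := by
  set C := L ⊓ centralizer ((V ⊓ L : Subgroup G) : Set G)
  have hKVL : K ≤ normalizer ((V ⊓ L : Subgroup G) : Set G) :=
    (le_inf hKV hKL).trans inf_normalizer_le_normalizer_inf
  have hC : C ≤ centralizer (V : Set G) := by
    refine hr C ⟨inf_le_left.trans hLK,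
      (le_inf hKL (hKVL.trans (normalizer_le_normalizer_centralizer _))).trans
        inf_normalizer_le_normalizer_inf, fun x hx => ⟨1, fun v hv => ?_⟩⟩
    obtain ⟨hxL, hxC⟩ := mem_inf.1 hx
    have hz : x * v * x⁻¹ * v⁻¹ ∈ V ⊓ L := by
      refine mem_inf.2 ⟨mul_mem ((mem_normalizer_iff.1 (hKV (hLK hxL)) v).1 hv) (inv_mem hv), ?_⟩
      have h1 := mul_mem hxL ((mem_normalizer_iff.1 (hKL (hVK hv)) x⁻¹).1 (inv_mem hxL))
      simpa [mul_assoc] using h1
    set z := x * v * x⁻¹ * v⁻¹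
    have hzx : x * z = z * x := (hxC z hz).symm
    have key : ∀ n : ℕ, x ^ n * v = z ^ n * v * x ^ n := by
      intro n
      induction n with
      | zero => simp
      | succ n ih =>
        calc x ^ (n + 1) * v = x * (x ^ n * v) := by rw [pow_succ', mul_assoc]
          _ = x * (z ^ n * v * x ^ n) := by rw [ih]
          _ = x * z ^ n * v * x ^ n := by simp only [mul_assoc]
          _ = z ^ n * x * v * x ^ n := by rw [((show Commute x z from hzx).pow_right n).eq]
          _ = z ^ n * (z * v * x) * x ^ n := by simp only [z]; group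
          _ = z ^ (n + 1) * v * x ^ (n + 1) := by rw [pow_succ, pow_succ']; simp only [mul_assoc]
    have h := key p
    rw [hVe.2 z (mem_inf.1 hz).1, one_mul] at h
    rw [pow_one]
    exact h.symm
  refine ⟨fun N hN => ?_, hC⟩
  have hgood : IsGoodFor p L V N := by
    refine ⟨hN.1, hN.2.1, fun x hx => ?_⟩
    obtain ⟨k, hk⟩ := hN.2.2 x hx
    exact ⟨k, hC (mem_inf.2 ⟨pow_mem (hN.1 hx) _, hk⟩)⟩
  obtain ⟨M, hM, hMmax⟩ := exists_largest_good (p := p) (hLK.trans hKV)
  have hKM : K ≤ normalizer (M : Set G) := by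
    intro g hg
    refine mem_normalizer_of_conj_map (eq_of_le_of_card_ge (hMmax _ ⟨?_, ?_, ?_⟩)
      (card_map_of_injective (MulAut.conj g).injective).ge)
    · exact (map_mono hM.1).trans (conj_map_of_mem (hKL hg)).le
    · have h := map_conj_le_normalizer g hM.2.1
      rwa [conj_map_of_mem (hKL hg)] at h
    · rintro _ ⟨x, hx, rfl⟩
      obtain ⟨k, hk⟩ := hM.2.2 x hx
      refine ⟨k, ?_⟩
      rw [← map_pow]
      exact (mem_normalizer_iff.1 (normalizer_le_normalizer_centralizer V (hKV hg)) _).1 hk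
  exact ((hMmax N hgood).trans (hr M ⟨hM.1.trans hLK, hKM, hM.2.2⟩)).trans
    (centralizer_le (SetLike.coe_subset_coe.2 inf_le_left))

/-- For `L ⊴ K`, a module reduced for `L` contains one reduced for `K` with the same centralizer
in `L`. -/
theorem exists_isRed_le {L K : Subgroup G} (hLK : L ≤ K) (hKL : K ≤ normalizer (L : Set G)) :
    ∀ (n : ℕ) (V : Subgroup G), Nat.card V = n → K ≤ normalizer (V : Set G) →
      Cfsg.IsElementaryAbelian p V → IsRed p L V →
      ∃ V' ≤ V, K ≤ normalizer (V' : Set G) ∧ IsRed p K V' ∧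
        L ⊓ centralizer (V' : Set G) ≤ centralizer (V : Set G) := by
  intro n
  induction n using Nat.strongRecOn with | ind n ih => ?_
  intro V hn hKV hVe hrL
  by_cases hrK : IsRed p K V
  · exact ⟨V, le_rfl, hKV, hrK, inf_le_right⟩
  simp only [IsRed, not_forall] at hrK
  obtain ⟨N, ⟨hNK, hKN, hNp⟩, hNV⟩ := hrK
  set V₁ := V ⊓ centralizer (N : Set G)
  have hKV₁ : K ≤ normalizer (V₁ : Set G) :=
    (le_inf hKV (hKN.trans (normalizer_le_normalizer_centralizer N))).trans
      inf_normalizer_le_normalizer_inf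
  have hlt : Nat.card V₁ < n := hn ▸ lt_of_le_of_ne (card_le_of_le inf_le_left) fun h => hNV (by
    have := eq_of_le_of_card_ge (inf_le_left : V₁ ≤ V) h.ge
    exact le_centralizer_iff.1 (this ▸ (inf_le_right : V₁ ≤ centralizer (N : Set G))))
  -- `N` and `L` commute modulo `C(V)`
  have hNL : N ⊓ L ≤ centralizer (V : Set G) := hrL _ ⟨inf_le_right,
    (le_inf (hLK.trans hKN) le_normalizer).trans inf_normalizer_le_normalizer_inf,
    fun x hx => hNp x (mem_inf.1 hx).1⟩
  -- a Sylow subgroup of `N` covers `N` modulo `C(V)`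
  obtain ⟨P, hP⟩ := exists_isSylIn p N
  have hPN : N ≤ P ⊔ (N ⊓ centralizer (V : Set G)) := by
    obtain ⟨S, rfl⟩ := hP
    haveI : ((centralizer (V : Set G)).subgroupOf N).Normal := normal_subgroupOf_of_le_normalizer
      ((hNK.trans hKV).trans (normalizer_le_normalizer_centralizer V))
    have h := le_of_sylow_inf_le S (N := (⊤ : Subgroup ↥N))
      (C := (centralizer (V : Set G)).subgroupOf N)
      (K := (S : Subgroup ↥N) ⊔ (centralizer (V : Set G)).subgroupOf N)
      (fun x _ => hNp x x.2) le_sup_right (inf_le_left.trans le_sup_left)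
    intro x hx
    have h1 := mem_map_of_mem N.subtype (h (mem_top (⟨x, hx⟩ : ↥N)))
    rw [Subgroup.map_sup, subgroupOf_map_subtype, inf_comm] at h1
    exact h1
  -- `p'`-elements of `L` centralizing `V₁` centralize `V`
  have hM : L ⊓ centralizer (V₁ : Set G) ≤ centralizer (V : Set G) := by
    refine hrL _ ⟨inf_le_left, (le_inf le_normalizer ((hLK.trans hKV₁).trans
      (normalizer_le_normalizer_centralizer _))).trans inf_normalizer_le_normalizer_inf, fun x hx => ?_⟩
    obtain ⟨k, hk⟩ := Transfer.NormalPComplement.exists_pow_coprime (p := p) (orderOf_pos x).ne'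
    refine ⟨k, ?_⟩
    set y := x ^ p ^ k
    have hyL : y ∈ L := pow_mem (mem_inf.1 hx).1 _
    have hy1 : y ∈ centralizer (V₁ : Set G) := pow_mem (mem_inf.1 hx).2 _
    by_contra hy
    set U := V ⊓ centralizer ({y} : Set G)
    have hcm : ∀ a ∈ N, y * a * y⁻¹ * a⁻¹ ∈ centralizer (V : Set G) := by
      intro a ha
      refine hNL (mem_inf.2 ⟨mul_mem ((mem_normalizer_iff.1 (hKN (hLK hyL)) a).1 ha) (inv_mem ha), ?_⟩)
      have h1 := mul_mem hyL ((mem_normalizer_iff.1 (hKL (hNK ha)) y⁻¹).1 (inv_mem hyL))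
      simpa [mul_assoc] using h1
    -- `y` commutes with the action of `N` on `V`
    have hswap : ∀ a ∈ N, ∀ v ∈ V, y * (a * v * a⁻¹) * y⁻¹ = a * (y * v * y⁻¹) * a⁻¹ := by
      intro a ha v hv
      have hv' : a * (y * v * y⁻¹) * a⁻¹ ∈ V := (mem_normalizer_iff.1 (hKV (hNK ha)) _).1
        ((mem_normalizer_iff.1 (hKV (hLK hyL)) v).1 hv)
      have h1 := hcm a ha _ hv'
      calc y * (a * v * a⁻¹) * y⁻¹
          = (y * a * y⁻¹ * a⁻¹) * (a * (y * v * y⁻¹) * a⁻¹) * (y * a * y⁻¹ * a⁻¹)⁻¹ := by group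
        _ = _ := by rw [← h1, mul_inv_cancel_right]
    have hUP : P ≤ normalizer (U : Set G) := by
      refine le_trans ?_ (le_refl _)
      have key : ∀ a ∈ N, ∀ u ∈ U, a * u * a⁻¹ ∈ U := by
        intro a ha u hu
        obtain ⟨huV, huy⟩ := mem_inf.1 hu
        refine mem_inf.2 ⟨(mem_normalizer_iff.1 (hKV (hNK ha)) u).1 huV, ?_⟩
        rw [mem_centralizer_singleton_iff] at huy ⊢
        have h2 := hswap a ha u huV
        rw [← huy, mul_inv_cancel_right] at h2
        calc a * u * a⁻¹ * y = y * (a * u * a⁻¹) * y⁻¹ * y := by rw [h2]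
          _ = y * (a * u * a⁻¹) := by group
      intro a ha
      rw [mem_normalizer_iff]
      refine fun u => ⟨key a (hP.le ha) u, fun hu => ?_⟩
      have h3 := key a⁻¹ (inv_mem (hP.le ha)) _ hu
      simpa [mul_assoc] using h3
    have hVp : IsPGroup p ↥V := isPGroup_of_isElementaryAbelian hVe
    have hPV : P ≤ normalizer (V : Set G) := hP.le.trans (hNK.trans hKV)
    haveI := (hVp.to_sup_of_normal_left' hP.isPGroup hPV).isNilpotent
    have hne : ¬ V ≤ U := fun h => hy fun v hv =>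
      mem_centralizer_singleton_iff.1 (mem_inf.1 (h hv)).2
    obtain ⟨X, ⟨hXV, hXP, hXU⟩, hXmin⟩ := (Set.toFinite {X : Subgroup G |
      X ≤ V ∧ P ≤ normalizer (X : Set G) ∧ ¬ X ≤ U}).exists_minimal ⟨V, le_rfl, hPV, hne⟩
    have hXlt : ⁅X, P⁆ < X := by
      refine lt_of_le_of_lt (commutator_mono le_rfl (le_sup_right : P ≤ V ⊔ P))
        (Coprime.commutator_lt_of_isNilpotent (hXV.trans le_sup_left)
          (fun h => hXU (h ▸ bot_le)) (sup_le ?_ hXP))
      exact fun v hv => centralizer_le_normalizer _ fun z hz => mul_comm_of_mem hVe.1 (hXV hz) hv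
    have hXPU : ⁅X, P⁆ ≤ U := by
      by_contra h
      exact hXlt.not_ge (hXmin ⟨hXlt.le.trans hXV, normalizer_commutator_ge_right X P, h⟩ hXlt.le)
    obtain ⟨v, hvX, hvU⟩ := SetLike.not_le_iff_exists.1 hXU
    have hvV : v ∈ V := hXV hvX
    set w := y * v * y⁻¹ * v⁻¹
    have hwV : w ∈ V := mul_mem ((mem_normalizer_iff.1 (hKV (hLK hyL)) v).1 hvV) (inv_mem hvV)
    have hwP : ∀ a ∈ P, a * w * a⁻¹ = w := by
      intro a ha
      have hu : ⁅v, a⁆ ∈ U := hXPU (commutator_mem_commutator hvX ha)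
      rw [commutatorElement_def] at hu
      obtain ⟨huV, huy⟩ := mem_inf.1 hu
      rw [mem_centralizer_singleton_iff] at huy
      set u := v * a * v⁻¹ * a⁻¹
      have e1 : a * v * a⁻¹ = u⁻¹ * v := by simp only [u]; group
      have e2 : a * (y * v * y⁻¹) * a⁻¹ = u⁻¹ * (y * v * y⁻¹) := by
        rw [← hswap a (hP.le ha) v hvV, e1]
        have : y * u⁻¹ = u⁻¹ * y := ((show Commute u y from huy).inv_left).symm.eq
        rw [← mul_assoc, this]; group
      calc a * w * a⁻¹ = a * (y * v * y⁻¹) * a⁻¹ * (a * v * a⁻¹)⁻¹ := by simp only [w]; group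
        _ = u⁻¹ * w * u := by rw [e1, e2]; simp only [w]; group
        _ = w := by rw [mul_comm_of_mem hVe.1 (inv_mem huV) hwV, inv_mul_cancel_right]
    have hw1 : w ∈ V₁ := by
      refine mem_inf.2 ⟨hwV, fun n hn => ?_⟩
      have h1 : P ⊔ (N ⊓ centralizer (V : Set G)) ≤ centralizer ({w} : Set G) := by
        refine sup_le (fun a ha => ?_) (fun a ha => ?_) <;> rw [mem_centralizer_singleton_iff]
        · have := hwP a ha
          calc a * w = a * w * a⁻¹ * a := by group
            _ = w * a := by rw [this]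
        · exact ((mem_inf.1 ha).2 w hwV).symm
      exact mem_centralizer_singleton_iff.1 (h1 (hPN hn))
    have hwy : Commute y w := (hy1 w hw1).symm
    have key : ∀ m : ℕ, y ^ m * v = w ^ m * v * y ^ m := by
      intro m
      induction m with
      | zero => simp
      | succ m ih =>
        calc y ^ (m + 1) * v = y * (y ^ m * v) := by rw [pow_succ', mul_assoc]
          _ = y * (w ^ m * v * y ^ m) := by rw [ih]
          _ = y * w ^ m * v * y ^ m := by simp only [mul_assoc]
          _ = w ^ m * y * v * y ^ m := by rw [(hwy.pow_right m).eq]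
          _ = w ^ m * (w * v * y) * y ^ m := by simp only [w]; group
          _ = w ^ (m + 1) * v * y ^ (m + 1) := by rw [pow_succ, pow_succ']; simp only [mul_assoc]
    have h1 := key (orderOf y)
    rw [pow_orderOf_eq_one, one_mul, mul_one] at h1
    have h2 : w ^ orderOf y = 1 := by
      calc w ^ orderOf y = w ^ orderOf y * v * v⁻¹ := by group
        _ = 1 := by rw [← h1, mul_inv_cancel]
    have h3 : w = 1 := by
      have := pow_gcd_eq_one.2 ⟨h2, hVe.2 w hwV⟩
      rwa [show Nat.gcd (orderOf y) p = 1 from hk, pow_one] at this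
    refine hvU (mem_inf.2 ⟨hvV, ?_⟩)
    rw [mem_centralizer_singleton_iff]
    calc v * y = w⁻¹ * (y * v) := by simp only [w]; group
      _ = y * v := by rw [h3, inv_one, one_mul]
  have hrL₁ : IsRed p L V₁ := fun M hM' => (hrL M ⟨hM'.1, hM'.2.1, fun x hx => by
      obtain ⟨k, hk⟩ := hM'.2.2 x hx
      exact ⟨k, hM (mem_inf.2 ⟨pow_mem (hM'.1 hx) _, hk⟩)⟩⟩).trans
    (centralizer_le (SetLike.coe_subset_coe.2 inf_le_left))
  obtain ⟨V', hV'le, hV'n, hV'r, hV'C⟩ := ih _ hlt V₁ rfl hKV₁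
    (isElementaryAbelian_of_le hVe inf_le_left) hrL₁
  exact ⟨V', hV'le.trans inf_le_left, hV'n, hV'r,
    (le_inf inf_le_left hV'C).trans hM⟩

theorem normalizer_le_normalizer_largestPReducedOf (L : Subgroup G) :
    normalizer (L : Set G) ≤ normalizer (Cfsg.largestPReducedOf p L : Set G) := by
  intro g hg
  have hLn := le_normalizer_largestPReducedOf p L
  refine mem_normalizer_of_conj_map (eq_of_le_of_card_ge
    (le_largestPReducedOf_of_isRed ?_ ?_
      (isElementaryAbelian_map _ (isElementaryAbelian_largestPReducedOf p L)) ?_)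
    (card_map_of_injective (MulAut.conj g).injective).ge)
  · exact (map_mono (largestPReducedOf_le p L)).trans (conj_map_of_mem hg).le
  · have h := map_conj_le_normalizer g hLn
    rwa [conj_map_of_mem hg] at h
  · intro N hN
    have h1 : N.map (MulAut.conj g⁻¹).toMonoidHom ≤
        centralizer (Cfsg.largestPReducedOf p L : Set G) := by
      refine isRed_largest p L _ ⟨(map_mono hN.1).trans (conj_map_of_mem (inv_mem hg)).le, ?_, ?_⟩
      · have h := map_conj_le_normalizer g⁻¹ hN.2.1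
        rwa [conj_map_of_mem (inv_mem hg)] at h
      · rintro _ ⟨x, hx, rfl⟩
        obtain ⟨k, hk⟩ := hN.2.2 x hx
        refine ⟨k, fun v hv => ?_⟩
        rw [← map_pow]
        have h3 := congrArg (fun z => g⁻¹ * z * g) (hk _ ⟨v, hv, rfl⟩)
        simpa [mul_assoc] using h3
    intro n hn
    rintro _ ⟨v, hv, rfl⟩
    have h3 := congrArg (fun z => g * z * g⁻¹) (h1 ⟨n, hn, rfl⟩ v hv)
    simpa [mul_assoc] using h3

/-- `Y_K ⊓ L` is reduced for subnormal `L`, and `C_L(Y_K ⊓ L) = C_L(Y_K) = C_L(Y_L)`. -/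
theorem isRed_inf_of_isSubnormal {L : Subgroup G} (hL : L.IsSubnormal) :
    IsRed p L (Cfsg.largestPReduced p G ⊓ L) ∧
    L ⊓ centralizer ((Cfsg.largestPReduced p G ⊓ L : Subgroup G) : Set G) ≤
      centralizer (Cfsg.largestPReduced p G : Set G) ∧
    L ⊓ centralizer (Cfsg.largestPReduced p G : Set G) ≤
      centralizer (Cfsg.largestPReducedOf p L : Set G) := by
  induction hL with
  | top =>
    rw [inf_top_eq, top_inf_eq, ← largestPReducedOf_top]
    exact ⟨isRed_largest p ⊤, le_rfl, le_rfl⟩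
  | step L K hLK _ hn ih =>
    obtain ⟨ih1, ih2, ih3⟩ := ih
    have hKL : K ≤ normalizer (L : Set G) := (normal_subgroupOf_iff_le_normalizer hLK).1 hn
    obtain ⟨hYn, hYe, -⟩ := isPReducedNormal_largest p G
    have hKY : K ≤ normalizer ((Cfsg.largestPReduced p G ⊓ K : Subgroup G) : Set G) :=
      (le_inf (fun x _ => normalizer_eq_top_iff.2 hYn ▸ mem_top x) le_normalizer).trans
        inf_normalizer_le_normalizer_inf
    obtain ⟨h1, h2⟩ := isRed_inf_of_normal hLK hKL inf_le_right hKY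
      (isElementaryAbelian_of_le hYe inf_le_left) ih1
    rw [inf_assoc, inf_eq_right.2 hLK] at h1 h2
    refine ⟨h1, fun x hx => ih2 (mem_inf.2 ⟨hLK (mem_inf.1 hx).1, h2 hx⟩), ?_⟩
    obtain ⟨V', hV'le, hV'n, hV'r, hV'C⟩ := exists_isRed_le (p := p) hLK hKL _ _ rfl
      (hKL.trans (normalizer_le_normalizer_largestPReducedOf L))
      (isElementaryAbelian_largestPReducedOf p L) (isRed_largest p L)
    have hV'Y : V' ≤ Cfsg.largestPReducedOf p K :=
      le_largestPReducedOf_of_isRed ((hV'le.trans (largestPReducedOf_le p L)).trans hLK) hV'n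
        (isElementaryAbelian_of_le (isElementaryAbelian_largestPReducedOf p L) hV'le) hV'r
    intro x hx
    obtain ⟨hxL, hxC⟩ := mem_inf.1 hx
    exact hV'C (mem_inf.2 ⟨hxL,
      centralizer_le (SetLike.coe_subset_coe.2 hV'Y) (ih3 (mem_inf.2 ⟨hLK hxL, hxC⟩))⟩)

end Cfsg.Agent.CharP
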