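import Cfsg.Agent.Lib.CharP.FrakH
import Cfsg.Agent.Lib.CharP.Reduced

/-!
`Y_M ≤ Y_H` for asymmetric `Y_M` and `H` of characteristic `p` containing the preimage of `F*(M†/C(Y_M))`.
-/

set_option autoImplicit false
set_option linter.style.haveILetI false
set_option linter.unusedSectionVars false

namespace Cfsg.Agent.CharP.AsymRed

open Subgroup

variable {G : Type*} [Group G] [Finite G] {p : ℕ} [Fact p.Prime]

/-- In a group with trivial `O_p`, a `p`-group normalised by `F*` is trivial. -/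
theorem eq_bot_of_genFitting_le {Γ : Type*} [Group Γ] [Finite Γ]
    (h0 : Cfsg.pCore p Γ = ⊥) {X : Subgroup Γ} (hX : IsPGroup p ↥X)
    (hn : Cfsg.generalizedFittingSubgroup Γ ≤ normalizer (X : Set Γ)) : X = ⊥ := by
  set Fs := Cfsg.generalizedFittingSubgroup Γ
  have hFn : (⊤ : Subgroup Γ) ≤ normalizer (Fs : Set Γ) := (normalizer_eq_top (H := Fs)).ge
  have h1 : X ⊓ Fs = ⊥ := by
    refine eq_bot_iff.2 (le_trans ?_ h0.le)
    rw [← pCoreOf_top]
    exact (le_pCoreOf inf_le_right ((le_inf hn le_normalizer).trans inf_normalizer_le_normalizer_inf)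
      (hX.to_le inf_le_left)).trans (FrakH.pCoreOf_le_of_normal le_top hFn)
  have h2 : X ≤ centralizer (Fs : Set Γ) := by
    refine commutator_eq_bot_iff_le_centralizer.1 (eq_bot_iff.2 (le_trans (le_inf ?_ ?_) h1.le))
    · exact commutator_le_left_iff.2 hn
    · rw [Subgroup.commutator_comm]
      exact commutator_le_left_iff.2 (le_top.trans hFn)
  exact h1 ▸ (inf_eq_left.2 (h2.trans Cfsg.Agent.Components.Fitting.centralizer_genFitting_le)).symm

variable {S : Sylow p G} {M : Subgroup G}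

theorem le_largest (d : Asym.Data p S M)
    [((centralizer (Cfsg.largestPReducedOf p M : Set G)).subgroupOf
      (M ⊔ centralizer (Cfsg.largestPReducedOf p M : Set G))).Normal]
    {F H : Subgroup G}
    (hF : F = ((Cfsg.generalizedFittingSubgroup
      (↥(M ⊔ centralizer (Cfsg.largestPReducedOf p M : Set G)) ⧸
        (centralizer (Cfsg.largestPReducedOf p M : Set G)).subgroupOf
          (M ⊔ centralizer (Cfsg.largestPReducedOf p M : Set G)))).comap
      (QuotientGroup.mk' ((centralizer (Cfsg.largestPReducedOf p M : Set G)).subgroupOf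
          (M ⊔ centralizer (Cfsg.largestPReducedOf p M : Set G))))).map
      (M ⊔ centralizer (Cfsg.largestPReducedOf p M : Set G)).subtype)
    (hFH : F ≤ H) (hH : IsCharP p H) :
    Cfsg.largestPReducedOf p M ≤ Cfsg.largestPReducedOf p H := by
  set Y := Cfsg.largestPReducedOf p M with hY
  set C := centralizer (Y : Set G) with hC
  set Md := M ⊔ C with hMd
  have hMdN : Md = normalizer (Y : Set G) := Asym.dagger_eq d
  set π := QuotientGroup.mk' (C.subgroupOf Md) with hπ
  have hker : ∀ x : ↥Md, π x = 1 ↔ (x : G) ∈ C := fun x =>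
    (QuotientGroup.eq_one_iff x).trans mem_subgroupOf
  have hCF : C ≤ F := fun x hx => by
    rw [hF]
    refine ⟨⟨x, (le_sup_right : C ≤ Md) hx⟩, ?_, rfl⟩
    rw [SetLike.mem_coe, mem_comap, (hker _).2 hx]
    exact one_mem _
  have hPC : Cfsg.pCoreOf p M ≤ C := pCoreOf_le_centralizer_largestPReducedOf p M
  have hYP : Y ≤ Cfsg.pCoreOf p M := largestPReducedOf_le_pCoreOf p M
  have hPH : Cfsg.pCoreOf p M ≤ H := hPC.trans (hCF.trans hFH)
  -- `M†/C(Y)` has trivial `p`-core
  have h0 : Cfsg.pCore p (↥Md ⧸ C.subgroupOf Md) = ⊥ := by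
    have hred : IsRed p Md Y := by
      have h := isRed_largest p Md
      rwa [show Cfsg.largestPReducedOf p Md = Y from d.frakM.2.2.2.1.symm] at h
    set N := ((Cfsg.pCore p (↥Md ⧸ C.subgroupOf Md)).comap π).map Md.subtype
    have hN : IsGoodFor p Md Y N := by
      refine ⟨map_subtype_le _, ?_, ?_⟩
      · refine (normal_subgroupOf_iff_le_normalizer (map_subtype_le _)).1 ?_
        have e : N.subgroupOf Md = (Cfsg.pCore p (↥Md ⧸ C.subgroupOf Md)).comap π :=
          comap_map_eq_self_of_injective Md.subtype_injective _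
        rw [e]
        exact (Cfsg.Agent.Cores.pCore_normal p).comap π
      · rintro _ ⟨x, hx, rfl⟩
        obtain ⟨k, hk⟩ := isPGroup_pCore p _ ⟨π x, hx⟩
        exact ⟨k, (hker (x ^ p ^ k)).1 (by rw [map_pow]; exact congrArg Subtype.val hk)⟩
    refine eq_bot_iff.2 fun q hq => ?_
    obtain ⟨x, rfl⟩ := QuotientGroup.mk'_surjective _ q
    exact mem_bot.2 ((hker x).2 (hred N hN ⟨x, hq, rfl⟩))
  -- a subgroup of `M†` normalised by `F`, with `p`-image, centralizes `Y`
  have key : ∀ X : Subgroup G, X ≤ Md → F ≤ normalizer (X : Set G) →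
      (∀ x ∈ X, ∃ k : ℕ, x ^ p ^ k ∈ C) → X ≤ C := by
    intro X hX hn hp
    have hXb : (X.subgroupOf Md).map π = ⊥ := by
      refine eq_bot_of_genFitting_le h0 ?_ fun q hq => ?_
      · rintro ⟨_, x, hx, rfl⟩
        obtain ⟨k, hk⟩ := hp x hx
        exact ⟨k, Subtype.ext (by
          rw [SubgroupClass.coe_pow, OneMemClass.coe_one, ← map_pow]; exact (hker _).2 hk)⟩
      · obtain ⟨a, rfl⟩ := QuotientGroup.mk'_surjective _ q
        have ha : (a : G) ∈ F := by rw [hF]; exact ⟨a, hq, rfl⟩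
        refine le_normalizer_map π (mem_map_of_mem π ?_)
        rw [mem_normalizer_iff]
        exact fun z => mem_normalizer_iff.1 (hn ha) (z : G)
    exact fun x hx => (hker ⟨x, hX hx⟩).1
      ((eq_bot_iff_forall _).1 hXb _ (mem_map_of_mem π (show (⟨x, hX hx⟩ : ↥Md) ∈ X.subgroupOf Md from hx)))
  set O := Cfsg.pCoreOf p H with hO
  have hOMd : O ≤ Md := by
    rw [hMdN]
    exact (FrakH.core_le_normalizer d hPH).trans
      ((Asym.normalizer_core_le d).trans_eq (Asym.dagger_eq d))
  have hOC : O ≤ C := key O hOMd (hFH.trans (le_normalizer_pCoreOf p H)) fun x hx => by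
    obtain ⟨k, hk⟩ := isPGroup_pCoreOf p H ⟨x, hx⟩
    refine ⟨k, ?_⟩
    rw [show x ^ p ^ k = 1 from congrArg Subtype.val hk]
    exact one_mem C
  have hYH : Y ≤ H := hYP.trans hPH
  have hYO : Y ≤ O ⊓ centralizer (O : Set G) :=
    le_inf (fun y hy => hH ⟨hYH hy, le_centralizer_iff.1 hOC hy⟩) (le_centralizer_iff.1 hOC)
  set W := FrakH.ncl Y H with hW
  have hHW : H ≤ normalizer (W : Set G) := FrakH.le_normalizer_ncl _ _
  have hWle : W ≤ O ⊓ centralizer (O : Set G) := FrakH.ncl_le_of_normal hYO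
    ((le_inf (le_normalizer_pCoreOf p H) ((le_normalizer_pCoreOf p H).trans
      (normalizer_le_normalizer_centralizer _))).trans inf_normalizer_le_normalizer_inf)
  have hYW : Y ≤ W := FrakH.le_ncl hYH
  have hWab : ∀ a ∈ W, ∀ b ∈ W, a * b = b * a := fun a ha b hb =>
    (mem_centralizer_iff.1 (hWle hb).2 a (hWle ha).1)
  have hWe : Cfsg.IsElementaryAbelian p W := by
    refine ⟨⟨⟨fun a b => Subtype.ext (hWab a a.2 b b.2)⟩⟩, ?_⟩
    let Z : Subgroup G :=
      { carrier := {z | z ∈ W ∧ z ^ p = 1}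
        one_mem' := ⟨one_mem W, one_pow p⟩
        mul_mem' := fun {a b} ha hb => ⟨mul_mem ha.1 hb.1, by
          rw [(show Commute a b from hWab a ha.1 b hb.1).mul_pow, ha.2, hb.2, one_mul]⟩
        inv_mem' := fun {a} ha => ⟨inv_mem ha.1, by rw [inv_pow, ha.2, inv_one]⟩ }
    have hle : W ≤ Z := FrakH.ncl_le_of fun h hh a ha haH => by
      refine ⟨(mem_normalizer_iff.1 (hHW hh) a).1 (hYW ha), ?_⟩
      rw [conj_pow, (isElementaryAbelian_largestPReducedOf p M).2 a ha, mul_one, mul_inv_cancel]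
    exact fun a ha => (hle ha).2
  refine hYW.trans (le_largestPReducedOf_of_isRed (FrakH.ncl_le _ _) hHW hWe ?_)
  intro N hN
  obtain ⟨hNH, hHN, hNp⟩ := hN
  have hCWC : centralizer (W : Set G) ≤ C := centralizer_le hYW
  have hPN : Cfsg.pCoreOf p M ≤ normalizer (N : Set G) := hPH.trans hHN
  -- `N ≤ M†`
  have hNMd : N ≤ Md := by
    obtain ⟨T, hT, hPT⟩ := exists_isSylIn_ge (isPGroup_pCoreOf p M)
      (le_sup_right : Cfsg.pCoreOf p M ≤ N ⊔ Cfsg.pCoreOf p M)
    have hTN : T ≤ Md := by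
      rw [hMdN]; exact Asym.le_normalizer_Y d hT.isPGroup hPT
    have hT' : IsSylIn p (T ⊓ N) N := hT.inf_normal le_sup_left (sup_le le_normalizer hPN)
    obtain ⟨T', hT'eq⟩ := hT'
    have hgen : resOf p N ⊔ (T ⊓ N) = N := by
      have h := congrArg (Subgroup.map N.subtype)
        (Cfsg.Agent.Transfer.NormalPComplement.pResidual_sup_sylow (p := p) T')
      rw [Subgroup.map_sup, hT'eq, ← MonoidHom.range_eq_map, range_subtype] at h
      exact h
    rw [← hgen]
    refine sup_le ?_ (inf_le_left.trans hTN)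
    refine (resOf_le_of_isPGroup_quotient (N := N ⊓ centralizer (W : Set G)) inf_le_left
      ((le_inf le_normalizer ((hNH.trans hHW).trans (normalizer_le_normalizer_centralizer W))).trans
        inf_normalizer_le_normalizer_inf) fun x hx => ?_).trans
      (inf_le_right.trans (hCWC.trans le_sup_right))
    obtain ⟨k, hk⟩ := hNp x hx
    exact ⟨k, pow_mem hx _, hk⟩
  have hNC : N ≤ C := key N hNMd (hFH.trans hHN) fun x hx => by
    obtain ⟨k, hk⟩ := hNp x hx
    exact ⟨k, hCWC hk⟩
  refine le_centralizer_iff.1 (FrakH.ncl_le_of_normal (le_centralizer_iff.1 hNC) ?_)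
  exact hHN.trans (normalizer_le_normalizer_centralizer N)

end Cfsg.Agent.CharP.AsymRed
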