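import Mathlib

/-!
Automorphism groups in which every elementary abelian 2-subgroup has an inverted element of large
order for `2`.
-/

set_option autoImplicit false

namespace Cfsg.Agent.CharP.AutSplit

universe w

/-- For every elementary abelian 2-group `A` of automorphisms in which no member inverts an element of
order three there are `B ≤ A`, `a ∈ A` and an element `x` of odd prime order `p` centralised by `B` and
inverted by `a`, with `|A : B| ^ 2 ≤ 2 ^ j` whenever `p` divides `4 ^ j - 1`. -/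
def AutSplit (K : Type w) [Group K] : Prop :=
  ∀ A : Subgroup (MulAut K), A ≠ ⊥ → (∀ a ∈ A, a * a = 1) →
    (∀ a ∈ A, ∀ u : K, orderOf u = 3 → a u ≠ u⁻¹) →
    ∃ B ≤ A, ∃ a ∈ A, ∃ x : K, ∃ p : ℕ, p.Prime ∧ p ≠ 2 ∧ orderOf x = p ∧ a x = x⁻¹ ∧
      (∀ b ∈ B, b x = x) ∧ ∀ j : ℕ, 0 < j → p ∣ 4 ^ j - 1 → Nat.card A ^ 2 ≤ 2 ^ j * Nat.card B ^ 2

theorem two_le_of_dvd {p j : ℕ} (hp : p.Prime) (h3 : p ≠ 3) (hj : 0 < j) (h : p ∣ 4 ^ j - 1) :
    2 ≤ j := by
  rcases Nat.lt_or_ge j 2 with h1 | h1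
  · obtain rfl : j = 1 := by omega
    exact absurd ((Nat.prime_dvd_prime_iff_eq hp Nat.prime_three).1 (by simpa using h)) h3
  · exact h1

end Cfsg.Agent.CharP.AutSplit
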