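import Mathlib
import Cfsg.Agent.Lib.CharP.PReduced

/-!
Averaging over the cosets of a Sylow subgroup in a normal elementary abelian subgroup.
-/

set_option autoImplicit false

namespace Cfsg.Agent.CharP

open Subgroup

variable {G : Type*} [Group G] {p : ℕ}

/-- Gaschütz: a fixed point of a Sylow subgroup is a fixed point of the group modulo `[Z, G]`. -/
theorem mem_center_sup_commutator [Finite G] [hp : Fact p.Prime] (T : Sylow p G) {Z : Subgroup G}
    [Z.Normal] (hZ : Cfsg.IsElementaryAbelian p Z) {z : G} (hz : z ∈ Z)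
    (hzT : ∀ t ∈ (T : Subgroup G), t * z = z * t) :
    z ∈ (Z ⊓ center G) ⊔ ⁅Z, (⊤ : Subgroup G)⁆ := by
  classical
  have : IsMulCommutative ↥Z := hZ.1
  letI : CommGroup ↥Z := { (inferInstance : Group ↥Z) with
    mul_comm := fun a b => Subtype.ext (mul_comm_of_mem hZ.1 a.2 b.2) }
  let Ω := G ⧸ (T : Subgroup G)
  letI : Fintype Ω := Fintype.ofFinite _
  let f : Ω → ↥Z := fun q => ⟨q.out * z * q.out⁻¹, Normal.conj_mem inferInstance z hz _⟩
  set c : ↥Z := ∏ q, f q with hc
  have hcen : (c : G) ∈ center G := by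
    refine mem_center_iff.2 fun g => ?_
    let e : ↥Z →* ↥Z :=
      ((MulAut.conj g).toMonoidHom.comp Z.subtype).codRestrict Z fun x =>
        Normal.conj_mem inferInstance (x : G) x.2 g
    have he : e c = c := by
      rw [hc, map_prod]
      refine Fintype.prod_equiv (MulAction.toPerm g) _ _ fun q => ?_
      have h1 : ((g • q).out)⁻¹ * (g * q.out) ∈ (T : Subgroup G) := by
        rw [← QuotientGroup.eq, QuotientGroup.out_eq']
        conv_lhs => rw [← QuotientGroup.out_eq' q]
        rfl
      refine Subtype.ext ?_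
      show g * (q.out * z * q.out⁻¹) * g⁻¹ = (g • q).out * z * ((g • q).out)⁻¹
      have h2 := hzT _ h1
      calc g * (q.out * z * q.out⁻¹) * g⁻¹
          = (g • q).out * ((((g • q).out)⁻¹ * (g * q.out)) * z) * (g * q.out)⁻¹ := by group
        _ = (g • q).out * (z * (((g • q).out)⁻¹ * (g * q.out))) * (g * q.out)⁻¹ := by rw [h2]
        _ = (g • q).out * z * ((g • q).out)⁻¹ := by group
    have he' : g * (c : G) * g⁻¹ = c := congrArg Subtype.val he
    exact mul_inv_eq_iff_eq_mul.1 he'
  set M := ⁅Z, (⊤ : Subgroup G)⁆ with hM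
  have hMn : M.Normal := by rw [hM]; infer_instance
  let π : ↥Z →* G ⧸ M := (QuotientGroup.mk' M).comp Z.subtype
  have hf : ∀ q, π (f q) = π ⟨z, hz⟩ := by
    intro q
    show ((q.out * z * q.out⁻¹ : G) : G ⧸ M) = (z : G ⧸ M)
    rw [QuotientGroup.eq]
    have h1 := commutator_mem_commutator (Normal.conj_mem (inferInstance : Z.Normal) z⁻¹
      (inv_mem hz) q.out) (mem_top q.out⁻¹)
    rw [commutatorElement_def] at h1
    convert h1 using 1
    group
  have hπc : π c = π (⟨z, hz⟩ ^ (T : Subgroup G).index) := by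
    have hmap : ∀ s : Finset Ω, π (∏ q ∈ s, f q) = π (⟨z, hz⟩ ^ s.card) := by
      intro s
      induction s using Finset.induction with
      | empty => simp
      | insert q s hq ih =>
        rw [Finset.prod_insert hq, map_mul, hf, ih, ← map_mul, Finset.card_insert_of_notMem hq,
          pow_succ']
    rw [hc, hmap, Finset.card_univ, ← Nat.card_eq_fintype_card]
    rfl
  have hmem : z ^ (T : Subgroup G).index ∈ (Z ⊓ center G) ⊔ M := by
    have h1 : ((c : G) : G ⧸ M) = ((z ^ (T : Subgroup G).index : G) : G ⧸ M) := hπc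
    rw [QuotientGroup.eq] at h1
    have e : z ^ (T : Subgroup G).index = (c : G) * ((c : G)⁻¹ * z ^ (T : Subgroup G).index) := by
      group
    rw [e]
    exact mul_mem ((le_sup_left : Z ⊓ center G ≤ _) ⟨c.2, hcen⟩)
      ((le_sup_right : M ≤ (Z ⊓ center G) ⊔ M) h1)
  have hord : (orderOf z).Coprime (T : Subgroup G).index :=
    Nat.Coprime.coprime_dvd_left (orderOf_dvd_of_pow_eq_one (hZ.2 z hz))
      ((Nat.Prime.coprime_iff_not_dvd Fact.out).2 T.not_dvd_index)
  obtain ⟨a, ha⟩ := exists_pow_eq_self_of_coprime (hord.symm)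
  rw [← ha]
  exact pow_mem hmem a

end Cfsg.Agent.CharP
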