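import Mathlib
import Cfsg.Prelude.Def_Characters
import Cfsg.Agent.Lib.Characters.Kernel
import Cfsg.Agent.Lib.Characters.Counting
import Cfsg.Agent.Lib.Characters.Integrality
import Cfsg.Agent.Lib.Characters.Monomial
import Cfsg.Agent.OddChar.PowTwist

/-!
# Linear groups: the abelian Hall subgroup for large primes, Sylow subgroups for small ones

With a faithful character of degree `n`, subgroups with all prime divisors above `n` are abelian,
there is an abelian Hall subgroup for the primes above `n + 1`, and a nilpotent group has an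
abelian subgroup of index dividing `n!`.
-/

set_option autoImplicit false
set_option linter.unusedSectionVars false
set_option linter.style.haveILetI false

namespace Cfsg.Agent.CharP.Blichfeldt

open Cfsg.Agent.Characters
open scoped ComplexConjugate commutatorElement

universe u

/-- `G` has a faithful character of degree `n`. -/
def HasFaithful (G : Type u) [Group G] (n : ℕ) : Prop :=
  ∃ χ : G → ℂ, Cfsg.IsCharacter G χ ∧ χ 1 = (n : ℂ) ∧ ∀ g : G, χ g = χ 1 → g = 1

theorem hasFaithful_subgroup {G : Type u} [Group G] {n : ℕ} (h : HasFaithful G n)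
    (H : Subgroup G) : HasFaithful H n := by
  obtain ⟨χ, hχ, h1, hf⟩ := h
  exact ⟨_, isCharacter_restrict H hχ, h1, fun g hg => Subtype.ext (hf _ hg)⟩

variable {G : Type u} [Group G] [Finite G]

/-- The constituents of a faithful character. -/
theorem exists_constituents {n : ℕ} (h : HasFaithful G n) :
    ∃ (S : Finset (Cfsg.IrrCharacter G)) (d : Cfsg.IrrCharacter G → ℕ),
      (∀ ψ : Cfsg.IrrCharacter G, (ψ : G → ℂ) 1 = (d ψ : ℂ)) ∧ (∀ ψ, 0 < d ψ) ∧ ∑ ψ ∈ S, d ψ ≤ n ∧
      ∀ g : G, (∀ ψ ∈ S, (ψ : G → ℂ) g = (ψ : G → ℂ) 1) → g = 1 := by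
  classical
  haveI := Fintype.ofFinite (Cfsg.IrrCharacter G)
  obtain ⟨χ, hχ, h1, hf⟩ := h
  obtain ⟨m, hm⟩ := char_eq_sum_nat hχ
  choose d hd0 hd using fun ψ : Cfsg.IrrCharacter G => irr_one_pos ψ.2
  refine ⟨Finset.univ.filter (fun ψ => m ψ ≠ 0), d, hd, hd0, ?_, fun g hg => hf g ?_⟩
  · have h2 : (n : ℂ) = ((∑ ψ, m ψ * d ψ : ℕ) : ℂ) := by
      rw [← h1, hm]
      simp [Finset.sum_apply, hd]
    rw [Nat.cast_inj.1 h2]
    refine le_trans (Finset.sum_le_sum fun ψ hψ => ?_) (Finset.sum_le_sum_of_subset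
      (Finset.filter_subset _ _))
    exact Nat.le_mul_of_pos_left _ (Nat.pos_of_ne_zero (Finset.mem_filter.1 hψ).2)
  · rw [hm]
    simp only [Finset.sum_apply, Pi.smul_apply, smul_eq_mul]
    refine Finset.sum_congr rfl fun ψ _ => ?_
    by_cases hψ : m ψ = 0
    · simp [hψ]
    · rw [hg ψ (Finset.mem_filter.2 ⟨Finset.mem_univ _, hψ⟩)]

/-- A linear group of degree `n` without prime divisors `≤ n` is abelian. -/
theorem comm_of_primes {n : ℕ} (h : HasFaithful G n)
    (hp : ∀ q : ℕ, q.Prime → q ∣ Nat.card G → n < q) (x y : G) : x * y = y * x := by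
  obtain ⟨S, d, hd, hd0, hsum, hf⟩ := exists_constituents h
  have hone : ∀ ψ ∈ S, (ψ : G → ℂ) 1 = 1 := by
    intro ψ hψ
    obtain ⟨k, hk, -, hdvd⟩ := irr_degree_dvd_card ψ.2
    have hk' : k = d ψ := Nat.cast_inj.1 (hk.symm.trans (hd ψ))
    rw [hd ψ]
    by_contra hne
    have hne1 : d ψ ≠ 1 := fun h1 => hne (by rw [h1, Nat.cast_one])
    obtain ⟨q, hq, hqd⟩ := Nat.exists_prime_and_dvd hne1
    have h1 := hp q hq (hqd.trans (hk' ▸ hdvd))
    have h2 := Nat.le_of_dvd (hd0 ψ) hqd
    have h3 := Finset.single_le_sum (f := d) (fun _ _ => Nat.zero_le _) hψ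
    omega
  have h4 : x * y * x⁻¹ * y⁻¹ = 1 := hf _ fun ψ hψ => by
    have hc := irr_isCharacter ψ
    have hx : (ψ : G → ℂ) x * (ψ : G → ℂ) x⁻¹ = 1 := by
      rw [← char_mul_of_degree_one hc (hone ψ hψ), mul_inv_cancel, hone ψ hψ]
    have hy : (ψ : G → ℂ) y * (ψ : G → ℂ) y⁻¹ = 1 := by
      rw [← char_mul_of_degree_one hc (hone ψ hψ), mul_inv_cancel, hone ψ hψ]
    simp only [char_mul_of_degree_one hc (hone ψ hψ), hone ψ hψ]
    calc (ψ : G → ℂ) x * (ψ : G → ℂ) y * (ψ : G → ℂ) x⁻¹ * (ψ : G → ℂ) y⁻¹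
        = ((ψ : G → ℂ) x * (ψ : G → ℂ) x⁻¹) * ((ψ : G → ℂ) y * (ψ : G → ℂ) y⁻¹) := by ring
      _ = 1 := by rw [hx, hy, one_mul]
  rwa [mul_inv_eq_one, mul_inv_eq_iff_eq_mul] at h4

theorem comm_of_isPGroup {n p : ℕ} [hp : Fact p.Prime] (h : HasFaithful G n) (hn : n < p)
    {P : Subgroup G} (hP : IsPGroup p P) : ∀ x ∈ P, ∀ y ∈ P, x * y = y * x := by
  intro x hx y hy
  refine congrArg Subtype.val (comm_of_primes (hasFaithful_subgroup h P) (fun q hq hqd => ?_)
    (⟨x, hx⟩ : P) ⟨y, hy⟩)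
  obtain ⟨k, hk⟩ := IsPGroup.iff_card.1 hP
  rwa [(Nat.prime_dvd_prime_iff_eq hq hp.out).1 (hq.dvd_of_dvd_pow (hk ▸ hqd))]

/-- A root-of-unity orbit argument: a character of degree below `q - 1` which is nontrivial on a
`q`-element is moved by a suitable power map fixing the `q'`-elements. -/
theorem exists_twist {ψ : G → ℂ} (hψ : Cfsg.IsCharacter G ψ) {d q : ℕ} [hq : Fact q.Prime]
    (hd : ψ 1 = (d : ℂ)) (hdq : d + 1 < q) {y : G} (hy : ∃ e, orderOf y = q ^ e)
    (hne : ψ y ≠ ψ 1) :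
    ∃ k : ℕ, k.Coprime (Nat.card G) ∧ (∀ g : G, ¬ q ∣ orderOf g → g ^ k = g) ∧
      (fun g => ψ (g ^ k)) ≠ ψ := by
  classical
  -- a power `u` of `y` outside the kernel whose `q`-th power is inside
  obtain ⟨e, he⟩ := hy
  have hex : ∃ j, ψ (y ^ q ^ j) = ψ 1 := ⟨e, by rw [← he, pow_orderOf_eq_one]⟩
  obtain ⟨j, hj⟩ : ∃ j, Nat.find hex = j + 1 := by
    refine Nat.exists_eq_add_one.2 (Nat.pos_of_ne_zero fun h0 => hne ?_)
    have := Nat.find_spec hex
    rwa [h0, pow_zero, pow_one] at this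
  set u := y ^ q ^ j with hu
  have hu1 : ψ u ≠ ψ 1 := Nat.find_min hex (by omega)
  have hu2 : ψ (u ^ q) = ψ 1 := by
    rw [hu, ← pow_mul, ← pow_succ, ← hj]; exact Nat.find_spec hex
  have hucard : orderOf u ∣ q ^ (Nat.card G).factorization q := by
    have h1 : orderOf u ∣ q ^ e := he ▸ orderOf_pow_dvd _
    obtain ⟨i, -, hi⟩ := (Nat.dvd_prime_pow hq.out).1 h1
    rw [hi]
    refine pow_dvd_pow q ?_
    rw [← hq.out.pow_dvd_iff_le_factorization Nat.card_pos.ne', ← hi]
    exact orderOf_dvd_natCard u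
  set Q := q ^ (Nat.card G).factorization q with hQ
  set m := Nat.card G / Q with hm
  have hmq : ¬ q ∣ m := Nat.not_dvd_ordCompl hq.out Nat.card_pos.ne'
  have hcop : Q.Coprime m := (Nat.Coprime.pow_left _ ((Nat.Prime.coprime_iff_not_dvd hq.out).2 hmq))
  have hQm : Q * m = Nat.card G := Nat.ordProj_mul_ordCompl_eq_self _ _
  by_contra! hcon
  -- all `s` prime to `q` give the same value
  have hconst : ∀ s : ℕ, ¬ q ∣ s → ψ (u ^ s) = ψ u := by
    intro s hs
    obtain ⟨k, hk1, hk2⟩ := Nat.chineseRemainder hcop s 1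
    have hk : k.Coprime (Nat.card G) := by
      rw [← hQm]
      refine Nat.Coprime.mul_right ?_ ?_
      · refine Nat.Coprime.pow_right _ (((Nat.Prime.coprime_iff_not_dvd hq.out).2 ?_).symm)
        intro hqk
        by_cases hb : (Nat.card G).factorization q = 0
        · refine hne ?_
          have : orderOf y ∣ 1 := by
            have h1 := orderOf_dvd_natCard y
            rw [he] at h1
            have h2 := (hq.out.pow_dvd_iff_le_factorization Nat.card_pos.ne').1 h1
            rw [hb, Nat.le_zero] at h2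
            rw [he, h2, pow_zero]
          rw [orderOf_eq_one_iff.1 (Nat.dvd_one.1 this)]
        · have hqQ : q ∣ Q := dvd_pow_self q hb
          exact hs ((hk1.of_dvd hqQ).dvd_iff dvd_rfl |>.1 hqk)
      · rw [Nat.Coprime, Nat.ModEq.gcd_eq hk2, Nat.gcd_one_left]
    have hfix : ∀ g : G, ¬ q ∣ orderOf g → g ^ k = g := by
      intro g hg
      have h1 : orderOf g ∣ m := Nat.Coprime.dvd_of_dvd_mul_left
        (Nat.Coprime.pow_right _ ((Nat.Prime.coprime_iff_not_dvd hq.out).2 hg).symm)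
        (by rw [hQm]; exact orderOf_dvd_natCard g)
      conv_rhs => rw [← pow_one g]
      exact pow_eq_pow_iff_modEq.2 (hk2.of_dvd h1)
    have h2 : ψ (u ^ k) = ψ u := congrFun (hcon k hk hfix) u
    rw [← h2, pow_eq_pow_iff_modEq.2 (hk1.of_dvd hucard)]
  -- eigenvalues of `u`
  obtain ⟨N, ρ, rfl⟩ := hψ
  obtain ⟨b, w, -, hv⟩ := exists_eigenbasis ρ u
  have hw : ∀ k : ℕ, ρ.character (u ^ k) = ∑ i, w i ^ k := fun k =>
    trace_of_eigenbasis b _ (apply_pow_eigenbasis ρ b w hv k)
  have hwq : ∀ i, w i ^ q = 1 := fun i => by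
    have h3 := apply_pow_eigenbasis ρ b w hv q i
    rw [(Characters.rep_apply_eq_id_iff ρ _).2 hu2, LinearMap.id_apply] at h3
    by_contra h4
    exact b.ne_zero i ((smul_eq_zero.1 (show (w i ^ q - 1) • b i = 0 by
      rw [sub_smul, one_smul, ← h3, sub_self])).resolve_left (sub_ne_zero.2 h4))
  set c := ρ.character u with hc
  have hgeom : ∀ x : ℂ, x ^ q = 1 → x ≠ 1 → ∑ s ∈ Finset.range q, x ^ s = 0 := fun x hx hx1 => by
    rw [geom_sum_eq hx1, hx, sub_self, zero_div]
  -- the multiplicity formula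
  have hmult : ∀ w0 : ℂ, w0 ^ q = 1 → w0 ≠ 0 →
      (q : ℂ) * ((Finset.univ.filter fun i => w i = w0).card : ℂ) =
        (d : ℂ) + c * (∑ s ∈ Finset.range q, w0⁻¹ ^ s - 1) := by
    intro w0 hw0 hw00
    have h1 : ∑ s ∈ Finset.range q, w0⁻¹ ^ s * ρ.character (u ^ s) =
        (q : ℂ) * ((Finset.univ.filter fun i => w i = w0).card : ℂ) := by
      simp only [hw, Finset.mul_sum, ← mul_pow]
      rw [Finset.sum_comm, Finset.card_filter, Nat.cast_sum, Finset.mul_sum]
      refine Finset.sum_congr rfl fun i _ => ?_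
      split
      · next h => simp [h, inv_mul_cancel₀ hw00]
      · next h =>
        rw [Nat.cast_zero, mul_zero]
        refine hgeom _ (by rw [mul_pow, inv_pow, hw0, hwq, inv_one, one_mul]) fun h1 => h ?_
        rw [inv_mul_eq_one₀ hw00] at h1
        exact h1.symm
    rw [← h1]
    obtain ⟨q', hq'⟩ := Nat.exists_eq_add_one.2 hq.out.pos
    rw [hq', Finset.sum_range_succ', Finset.sum_range_succ', pow_zero, pow_zero, one_mul, hd,
      add_sub_cancel_right, Finset.mul_sum, add_comm]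
    congr 1
    refine Finset.sum_congr rfl fun t ht => ?_
    rw [hconst (t + 1) (fun h => by
      have := Nat.le_of_dvd (Nat.succ_pos t) h
      have := Finset.mem_range.1 ht
      omega), mul_comm]
  obtain ⟨i0, hi0⟩ : ∃ i, w i ≠ 1 := by
    by_contra! h
    refine hu1 ?_
    have h1 := hw 1
    have h0 := hw 0
    simp only [pow_one, pow_zero, h] at h1 h0
    rw [hc, h1, ← h0]
  have hw00 : w i0 ≠ 0 := fun h => by
    simpa [h, hq.out.ne_zero] using hwq i0
  have e1 := hmult 1 (one_pow q) one_ne_zero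
  have e2 := hmult (w i0) (hwq i0) hw00
  simp only [inv_one, one_pow, Finset.sum_const, Finset.card_range, nsmul_one] at e1
  rw [hgeom _ (by rw [inv_pow, hwq, inv_one]) (fun h => hi0 (inv_eq_one.1 h))] at e2
  set a := (Finset.univ.filter fun i => w i = 1).card
  set m' := (Finset.univ.filter fun i => w i = w i0).card with hm'
  have hm1 : 1 ≤ m' := Finset.card_pos.2 ⟨i0, by simp⟩
  have hqc : (q : ℂ) * c = (q : ℂ) * ((a : ℂ) - (m' : ℂ)) := by linear_combination e2 - e1
  have hc' : c = (a : ℂ) - (m' : ℂ) :=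
    mul_left_cancel₀ (Nat.cast_ne_zero.2 hq.out.ne_zero) hqc
  have key : ((q * m' + a : ℕ) : ℂ) = ((d + m' : ℕ) : ℂ) := by
    push_cast
    linear_combination e2 - hc'
  have key' := Nat.cast_inj.1 key
  have h5 : (d + 2) * m' ≤ q * m' := Nat.mul_le_mul_right _ hdq
  nlinarith

/-! ## The abelian Hall subgroup -/

/-- An abelian Hall subgroup for the primes above `n + 1`. -/
def HasHall (G : Type u) [Group G] (n : ℕ) : Prop :=
  ∃ A : Subgroup G, (∀ x ∈ A, ∀ y ∈ A, x * y = y * x) ∧
    (∀ q : ℕ, q.Prime → q ∣ Nat.card A → n + 1 < q) ∧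
    ∀ q : ℕ, q.Prime → q ∣ A.index → q ≤ n + 1

/-- The `p`-part of the order of `G`. -/
noncomputable abbrev pFull (G : Type u) [Group G] (p : ℕ) : ℕ :=
  p ^ (Nat.card G).factorization p

/-- A commuting pair of Sylow subgroups. -/
def HasPair (G : Type u) [Group G] (p q : ℕ) : Prop :=
  ∃ P Q : Subgroup G, Nat.card P = pFull G p ∧ Nat.card Q = pFull G q ∧
    ∀ x ∈ P, ∀ y ∈ Q, Commute x y

theorem hasPair_symm {p q : ℕ} (h : HasPair G p q) : HasPair G q p := by
  obtain ⟨P, Q, hP, hQ, hc⟩ := h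
  exact ⟨Q, P, hQ, hP, fun x hx y hy => (hc y hy x hx).symm⟩

/-- The order of a subgroup of index prime to `p` is divisible by the full `p`-part. -/
theorem pFull_dvd {p : ℕ} [hp : Fact p.Prime] (H : Subgroup G) (h : ¬ p ∣ H.index) :
    pFull G p ∣ Nat.card H := by
  refine Nat.Coprime.dvd_of_dvd_mul_right (Nat.Coprime.pow_left _
    ((Nat.Prime.coprime_iff_not_dvd hp.out).2 h)) ?_
  rw [Subgroup.card_mul_index]
  exact Nat.ordProj_dvd _ _

theorem factorization_eq_of_dvd {p : ℕ} [hp : Fact p.Prime] {H : Subgroup G}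
    (h : pFull G p ∣ Nat.card H) : pFull H p = pFull G p := by
  refine Nat.dvd_antisymm ?_ ?_
  · exact pow_dvd_pow p (Nat.factorization_le_factorization_of_dvd_right H.card_subgroup_dvd_card
        Nat.card_pos.ne' Nat.card_pos.ne')
  · exact (Nat.pow_dvd_pow_iff_le_right hp.out.one_lt).2
      ((hp.out.pow_dvd_iff_le_factorization Nat.card_pos.ne').1 h)

theorem pFull_dvd_centralizer {n p : ℕ} [hp : Fact p.Prime] (h : HasFaithful G n) (hn : n < p)
    {x : G} (hx : IsPGroup p (Subgroup.zpowers x)) :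
    pFull G p ∣ Nat.card (Subgroup.centralizer ({x} : Set G)) := by
  obtain ⟨P, hP⟩ := hx.exists_le_sylow
  rw [pFull, ← P.card_eq_multiplicity]
  refine Subgroup.card_dvd_of_le fun y hy => Subgroup.mem_centralizer_iff.2 ?_
  rintro z rfl
  exact comm_of_isPGroup h hn P.2 z (hP (Subgroup.mem_zpowers z)) y hy

theorem centralizer_lt {x : G} (hx : x ∉ Subgroup.center G) :
    Nat.card (Subgroup.centralizer ({x} : Set G)) < Nat.card G := by
  refine lt_of_le_of_ne (Nat.le_of_dvd Nat.card_pos (Subgroup.card_subgroup_dvd_card _)) fun h => ?_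
  have h1 := Subgroup.eq_top_of_card_eq _ h
  rw [Subgroup.centralizer_eq_top_iff_subset, Set.singleton_subset_iff] at h1
  exact hx h1

/-- Inside a proper subgroup with full `p`- and `q`-parts there is a commuting pair. -/
theorem hasPair_of_subgroup {n p q : ℕ} [hp : Fact p.Prime] [hq : Fact q.Prime]
    (hpn : n + 1 < p) (hqn : n + 1 < q) {H : Subgroup G} (hH : HasHall H n)
    (h1 : pFull G p ∣ Nat.card H) (h2 : pFull G q ∣ Nat.card H) : HasPair G p q := by
  obtain ⟨A, hAc, -, hAi⟩ := hH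
  have key : ∀ r : ℕ, [Fact r.Prime] → n + 1 < r → pFull G r ∣ Nat.card H →
      ∃ R : Subgroup G, Nat.card R = pFull G r ∧ R ≤ A.map H.subtype := by
    intro r hr hrn hrd
    have hAr := pFull_dvd (p := r) A fun h => by have := hAi r hr.out h; omega
    have e1 := factorization_eq_of_dvd hrd
    have e2 := factorization_eq_of_dvd hAr
    obtain ⟨R⟩ : Nonempty (Sylow r A) := inferInstance
    refine ⟨((R : Subgroup A).map A.subtype).map H.subtype, ?_,
      Subgroup.map_mono (Subgroup.map_subtype_le _)⟩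
    rw [Subgroup.card_map_of_injective H.subtype_injective,
      Subgroup.card_map_of_injective A.subtype_injective, R.card_eq_multiplicity]
    exact e2.trans e1
  obtain ⟨P, hP, hPA⟩ := key p hpn h1
  obtain ⟨Q, hQ, hQA⟩ := key q hqn h2
  refine ⟨P, Q, hP, hQ, fun x hx y hy => ?_⟩
  obtain ⟨a, ha, rfl⟩ := hPA hx
  obtain ⟨b, hb, rfl⟩ := hQA hy
  exact (show Commute a b from hAc a ha b hb).map H.subtype

/-- A normal subgroup containing a full `q`-part, with the Frattini argument. -/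
theorem hasPair_of_normal {n p q : ℕ} [hp : Fact p.Prime] [hq : Fact q.Prime]
    (h : HasFaithful G n) (hpn : n + 1 < p) (hqn : n + 1 < q) (_hpq : p ≠ q)
    {M : Subgroup G} [M.Normal] (hMH : HasHall M n) (hqM : pFull G q ∣ Nat.card M) :
    HasPair G p q := by
  obtain ⟨A, hAc, -, hAi⟩ := hMH
  have hAp := pFull_dvd (p := p) A fun h => by have := hAi p hp.out h; omega
  have hAq := pFull_dvd (p := q) A fun h => by have := hAi q hq.out h; omega
  have eq1 := factorization_eq_of_dvd hqM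
  have eq2 := factorization_eq_of_dvd hAq
  obtain ⟨R⟩ : Nonempty (Sylow q A) := inferInstance
  let Qs : Sylow q M := Sylow.ofCard ((R : Subgroup A).map A.subtype) (by
    rw [Subgroup.card_map_of_injective A.subtype_injective, R.card_eq_multiplicity]
    exact eq2)
  set Q := (Qs : Subgroup M).map M.subtype with hQdef
  have hQcard : Nat.card Q = pFull G q := by
    rw [hQdef, Subgroup.card_map_of_injective M.subtype_injective, Qs.card_eq_multiplicity]
    exact eq1
  set N := Subgroup.normalizer (Q : Set G) with hN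
  have htop : N ⊔ M = ⊤ := Sylow.normalizer_sup_eq_top Qs
  have hAN : A.map M.subtype ≤ N ⊓ M := by
    refine le_inf (fun x hx => Subgroup.centralizer_le_normalizer _ ?_)
      (Subgroup.map_subtype_le A)
    refine Subgroup.mem_centralizer_iff.2 fun y hy => ?_
    obtain ⟨a, ha, rfl⟩ := hx
    obtain ⟨b, hb, rfl⟩ := hy
    rw [Sylow.coe_ofCard] at hb
    obtain ⟨b', -, rfl⟩ := hb
    exact ((show Commute (b' : M) a from hAc b' b'.2 a ha).map M.subtype).eq
  -- `|G : M| = |N : N ∩ M|`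
  have hidx : M.index = (M.subgroupOf N).index := by
    rw [← Subgroup.relIndex_top_right, ← htop, Subgroup.relIndex_sup_right]
    rfl
  have hdiv : pFull M p ∣ Nat.card (N ⊓ M : Subgroup G) := by
    have h1 := Subgroup.card_dvd_of_le hAN
    rw [Subgroup.card_map_of_injective M.subtype_injective] at h1
    exact hAp.trans h1
  have hNp : pFull G p ∣ Nat.card N := by
    have e : Nat.card N = Nat.card (N ⊓ M : Subgroup G) * M.index := by
      rw [← Subgroup.card_mul_index (M.subgroupOf N), hidx, inf_comm,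
        ← Subgroup.inf_subgroupOf_right,
        Nat.card_congr (Subgroup.subgroupOfEquivOfLe (inf_le_right : M ⊓ N ≤ N)).toEquiv]
    rw [e]
    have e2 : pFull G p = pFull M p * p ^ (M.index).factorization p := by
      rw [pFull, pFull, ← M.card_mul_index,
        Nat.factorization_mul Nat.card_pos.ne' M.index_ne_zero_of_finite, Finsupp.add_apply, pow_add]
    rw [e2]
    exact mul_dvd_mul hdiv (Nat.ordProj_dvd _ _)
  obtain ⟨P⟩ : Nonempty (Sylow p N) := inferInstance
  set P1 := (P : Subgroup N).map N.subtype with hP1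
  have hP1card : Nat.card P1 = pFull G p := by
    rw [hP1, Subgroup.card_map_of_injective N.subtype_injective, P.card_eq_multiplicity]
    exact factorization_eq_of_dvd hNp
  have hP1N : P1 ≤ N := Subgroup.map_subtype_le _
  refine ⟨P1, Q, hP1card, hQcard, fun x hx y hy => ?_⟩
  have hsup : ∀ r : ℕ, r.Prime → r ∣ Nat.card (P1 ⊔ Q : Subgroup G) → n < r := by
    intro r hr hrd
    have h1 : Nat.card (P1 ⊔ Q : Subgroup G) ∣ Nat.card P1 * Nat.card Q := by
      have : ((Q.subgroupOf (P1 ⊔ Q)).Normal) :=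
        Subgroup.normal_subgroupOf_of_le_normalizer (sup_le hP1N Subgroup.le_normalizer)
      have e := Subgroup.card_mul_index (Q.subgroupOf (P1 ⊔ Q))
      rw [Nat.card_congr (Subgroup.subgroupOfEquivOfLe (le_sup_right : Q ≤ P1 ⊔ Q)).toEquiv] at e
      rw [← e, mul_comm]
      refine Nat.mul_dvd_mul ?_ dvd_rfl
      have e2 : (Q.subgroupOf (P1 ⊔ Q)).index = Q.relIndex P1 := by
        show Q.relIndex (P1 ⊔ Q) = _
        haveI : (Q.subgroupOf N).Normal :=
          Subgroup.normal_subgroupOf_of_le_normalizer le_rfl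
        rw [← Subgroup.relIndex_subgroupOf (sup_le hP1N Subgroup.le_normalizer : P1 ⊔ Q ≤ N),
          Subgroup.subgroupOf_sup hP1N Subgroup.le_normalizer, Subgroup.relIndex_sup_right,
          Subgroup.relIndex_subgroupOf hP1N]
      rw [e2]
      exact Subgroup.relIndex_dvd_card _ _
    rw [hP1card, hQcard] at h1
    rcases (Nat.Prime.dvd_mul hr).1 (hrd.trans h1) with h2 | h2
    · rw [(Nat.prime_dvd_prime_iff_eq hr hp.out).1 (hr.dvd_of_dvd_pow h2)]; omega
    · rw [(Nat.prime_dvd_prime_iff_eq hr hq.out).1 (hr.dvd_of_dvd_pow h2)]; omega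
  exact congrArg Subtype.val (comm_of_primes (hasFaithful_subgroup h (P1 ⊔ Q)) hsup
    ⟨x, Subgroup.mem_sup_left hx⟩ ⟨y, Subgroup.mem_sup_right hy⟩)

/-- A nontrivial central `p`-element gives a proper normal subgroup of `p`-power index. -/
theorem exists_normal_of_central {n p : ℕ} [hp : Fact p.Prime] (h : HasFaithful G n) (hn : n < p)
    {z : G} (hz : z ∈ Subgroup.center G) (hz1 : z ≠ 1) (hzp : IsPGroup p (Subgroup.zpowers z)) :
    ∃ M : Subgroup G, M.Normal ∧ Nat.card M < Nat.card G ∧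
      ∀ q : ℕ, q.Prime → q ≠ p → pFull G q ∣ Nat.card M := by
  classical
  obtain ⟨P, hP⟩ := hzp.exists_le_sylow
  have hcomm := comm_of_isPGroup h hn P.2
  letI : CommGroup (P : Subgroup G) :=
    { (inferInstance : Group (P : Subgroup G)) with
      mul_comm := fun a b => Subtype.ext (hcomm _ a.2 _ b.2) }
  let f : G →* (P : Subgroup G) := MonoidHom.transfer (MonoidHom.id _)
  have hfz : f z ≠ 1 := by
    intro h0
    have key : ∀ (k : ℕ) (g₀ : G), g₀⁻¹ * z ^ k * g₀ ∈ (P : Subgroup G) →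
        g₀⁻¹ * z ^ k * g₀ = z ^ k := fun k g₀ _ => by
      rw [mul_assoc, ← Subgroup.mem_center_iff.1 (Subgroup.pow_mem _ hz k) g₀, inv_mul_cancel_left]
    have h1 := MonoidHom.transfer_eq_pow (MonoidHom.id (P : Subgroup G)) z key
    rw [show MonoidHom.transfer (MonoidHom.id (P : Subgroup G)) z = f z from rfl, h0] at h1
    have h2 : z ^ (P : Subgroup G).index = 1 := (congrArg Subtype.val h1).symm
    obtain ⟨k, hk⟩ := hzp ⟨z, Subgroup.mem_zpowers z⟩
    have hk' : z ^ p ^ k = 1 := congrArg Subtype.val hk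
    have hcop : (p ^ k).Coprime (P : Subgroup G).index :=
      Nat.Coprime.pow_left _ ((Nat.Prime.coprime_iff_not_dvd hp.out).2 P.not_dvd_index)
    refine hz1 ?_
    have := pow_gcd_eq_one.2 (And.intro hk' h2)
    rwa [hcop.gcd_eq_one, pow_one] at this
  refine ⟨f.ker, inferInstance, ?_, fun q hq hqp => ?_⟩
  · refine lt_of_le_of_ne (Nat.le_of_dvd Nat.card_pos (Subgroup.card_subgroup_dvd_card _)) fun he => ?_
    exact hfz (MonoidHom.mem_ker.1 (Subgroup.eq_top_of_card_eq _ he ▸ Subgroup.mem_top z))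
  · haveI := Fact.mk hq
    refine pFull_dvd _ fun hd => hqp ?_
    rw [Subgroup.index_ker] at hd
    have h3 := hd.trans (Subgroup.card_subgroup_dvd_card f.range)
    rw [P.card_eq_multiplicity] at h3
    exact (Nat.prime_dvd_prime_iff_eq hq hp.out).1 (hq.dvd_of_dvd_pow h3)

theorem exists_hall_aux (n : ℕ) : ∀ (N : ℕ) (G : Type u) [Group G] [Finite G],
    Nat.card G < N → HasFaithful G n → HasHall G n := by
  intro N
  induction N with
  | zero => intro G _ _ h; omega
  | succ N ih =>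
  intro G _ _ hcard h
  classical
  have IH : ∀ H : Subgroup G, Nat.card H < Nat.card G → HasHall H n := fun H hH =>
    ih H (by omega) (hasFaithful_subgroup h H)
  -- a non-central element with a large centralizer gives a pair
  have step1 : ∀ p q : ℕ, [Fact p.Prime] → [Fact q.Prime] → n + 1 < p → n + 1 < q → ∀ x : G,
      IsPGroup p (Subgroup.zpowers x) → x ∉ Subgroup.center G →
      pFull G q ∣ Nat.card (Subgroup.centralizer ({x} : Set G)) → HasPair G p q := by
    intro p q _ _ hp hq x hx hxc hxq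
    exact hasPair_of_subgroup hp hq (IH _ (centralizer_lt hxc))
      (pFull_dvd_centralizer h (by omega) hx) hxq
  -- commuting non-central elements
  have step2 : ∀ p q : ℕ, [Fact p.Prime] → [Fact q.Prime] → n + 1 < p → n + 1 < q → ∀ x y : G,
      IsPGroup p (Subgroup.zpowers x) → x ∉ Subgroup.center G →
      IsPGroup q (Subgroup.zpowers y) → y ∉ Subgroup.center G → Commute x y → HasPair G p q := by
    intro p q hp' hq' hp hq x y hx hxc hy hyc hxy
    set C := Subgroup.centralizer ({x} : Set G) with hC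
    obtain ⟨A, hAc, -, hAi⟩ := IH C (centralizer_lt hxc)
    have hAp := pFull_dvd (p := p) A fun h => by have := hAi p hp'.out h; omega
    have hAq := pFull_dvd (p := q) A fun h => by have := hAi q hq'.out h; omega
    obtain ⟨R⟩ : Nonempty (Sylow p A) := inferInstance
    obtain ⟨T⟩ : Nonempty (Sylow q A) := inferInstance
    let Q1 : Sylow q C := Sylow.ofCard ((T : Subgroup A).map A.subtype) (by
      rw [Subgroup.card_map_of_injective A.subtype_injective, T.card_eq_multiplicity]
      exact factorization_eq_of_dvd hAq)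
    have hyC : y ∈ C := Subgroup.mem_centralizer_iff.2 (by rintro z rfl; exact hxy.eq)
    obtain ⟨Q2, hQ2⟩ := (show IsPGroup q (Subgroup.zpowers (⟨y, hyC⟩ : C)) from
      (hy.comap_of_injective C.subtype C.subtype_injective).to_le
        (Subgroup.zpowers_le.2 (Subgroup.mem_comap.2 (Subgroup.mem_zpowers y)))).exists_le_sylow
    obtain ⟨c, hc⟩ := MulAction.exists_smul_eq C Q2 Q1
    have hcy : c * ⟨y, hyC⟩ * c⁻¹ ∈ (Q1 : Subgroup C) := by
      rw [← hc, Sylow.coe_subgroup_smul]
      exact Subgroup.smul_mem_pointwise_smul _ (MulAut.conj c) _ (hQ2 (Subgroup.mem_zpowers _))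
    rw [Sylow.coe_ofCard] at hcy
    obtain ⟨b, -, hb⟩ := hcy
    set y' : G := (c : G) * y * (c : G)⁻¹ with hy'
    have hb' : ((b : C) : G) = y' := congrArg Subtype.val hb
    refine hasPair_symm (step1 q p hq hp y' ?_ ?_ ?_)
    · rw [hy', show (c : G) * y * (c : G)⁻¹ = (MulAut.conj (c : G)).toMonoidHom y from rfl,
        ← MonoidHom.map_zpowers (MulAut.conj (c : G)).toMonoidHom]
      exact hy.map _
    · intro hc'
      refine hyc ?_
      have := (Subgroup.Normal.conj_mem inferInstance y' hc' (c : G)⁻¹)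
      simpa [hy', mul_assoc] using this
    · rw [← factorization_eq_of_dvd (pFull_dvd_centralizer h (by omega) hx)]
      refine hAp.trans ?_
      rw [← Subgroup.card_map_of_injective (f := C.subtype) C.subtype_injective (K := A)]
      refine Subgroup.card_dvd_of_le ?_
      rintro _ ⟨a, ha, rfl⟩
      refine Subgroup.mem_centralizer_iff.2 ?_
      rintro z rfl
      rw [← hb']
      exact ((show Commute (b : C) a from hAc b b.2 a ha).map C.subtype).eq
  -- commuting Sylow subgroups for two large primes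
  have pair : ∀ p q : ℕ, [Fact p.Prime] → [Fact q.Prime] → n + 1 < p → n + 1 < q → p ≠ q →
      HasPair G p q := by
    intro p q hp' hq' hp hq hpq
    by_cases hzp : ∃ z ∈ Subgroup.center G, z ≠ 1 ∧ IsPGroup p (Subgroup.zpowers z)
    · obtain ⟨z, hz, hz1, hzp⟩ := hzp
      obtain ⟨M, hM, hMlt, hMq⟩ := exists_normal_of_central h (by omega) hz hz1 hzp
      exact hasPair_of_normal h hp hq hpq (IH M hMlt) (hMq q hq'.out hpq.symm)
    by_cases hzq : ∃ z ∈ Subgroup.center G, z ≠ 1 ∧ IsPGroup q (Subgroup.zpowers z)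
    · obtain ⟨z, hz, hz1, hzq⟩ := hzq
      obtain ⟨M, hM, hMlt, hMp⟩ := exists_normal_of_central h (by omega) hz hz1 hzq
      exact hasPair_symm (hasPair_of_normal h hq hp hpq.symm (IH M hMlt) (hMp p hp'.out hpq))
    by_cases hboth : ∃ g : G, p ∣ orderOf g ∧ q ∣ orderOf g
    · obtain ⟨g, hgp, hgq⟩ := hboth
      have hord : ∀ r : ℕ, [Fact r.Prime] → r ∣ orderOf g →
          orderOf (g ^ (orderOf g / r)) = r := fun r hr hd => by
        rw [orderOf_pow_of_dvd (Nat.div_pos (Nat.le_of_dvd (orderOf_pos g) hd) hr.out.pos).ne'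
          (Nat.div_dvd_of_dvd hd), Nat.div_div_self hd (orderOf_pos g).ne']
      have hgrp : ∀ r : ℕ, [Fact r.Prime] → r ∣ orderOf g →
          IsPGroup r (Subgroup.zpowers (g ^ (orderOf g / r))) := fun r hr hd =>
        IsPGroup.of_card (n := 1) (by rw [Nat.card_zpowers, hord r hd, pow_one])
      have hne : ∀ r : ℕ, [Fact r.Prime] → r ∣ orderOf g → g ^ (orderOf g / r) ≠ 1 :=
        fun r hr hd h1 => hr.out.ne_one ((hord r hd).symm.trans (orderOf_eq_one_iff.2 h1))
      exact step2 p q hp hq _ _ (hgrp p hgp) (fun hc => hzp ⟨_, hc, hne p hgp, hgrp p hgp⟩)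
        (hgrp q hgq) (fun hc => hzq ⟨_, hc, hne q hgq, hgrp q hgq⟩)
        (Commute.pow_pow_self g _ _)
    -- no element of order `pq`
    obtain ⟨P⟩ : Nonempty (Sylow p G) := inferInstance
    obtain ⟨Q⟩ : Nonempty (Sylow q G) := inferInstance
    refine ⟨P, Q, P.card_eq_multiplicity, Q.card_eq_multiplicity, fun x hx y hy => ?_⟩
    obtain ⟨S, d, hd, hd0, hsum, hf⟩ := exists_constituents h
    suffices hxy : x * y * x⁻¹ * y⁻¹ = 1 by
      rwa [mul_inv_eq_one, mul_inv_eq_iff_eq_mul] at hxy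
    refine hf _ fun ψ hψ => ?_
    have hc := irr_isCharacter ψ
    by_contra hne
    have hKn := charKernel_normal hc
    have hxψ : (ψ : G → ℂ) x ≠ (ψ : G → ℂ) 1 := fun h1 => hne <| by
      have hm : x * y * x⁻¹ * y⁻¹ ∈ charKernel _ hc := by
        rw [show x * y * x⁻¹ * y⁻¹ = x * (y * x⁻¹ * y⁻¹) by group]
        exact mul_mem (show x ∈ charKernel _ hc from h1)
          (hKn.conj_mem _ (inv_mem (show x ∈ charKernel _ hc from h1)) y)
      exact hm
    have hyψ : (ψ : G → ℂ) y ≠ (ψ : G → ℂ) 1 := fun h1 => hne <| by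
      have hm : x * y * x⁻¹ * y⁻¹ ∈ charKernel _ hc :=
        mul_mem (hKn.conj_mem _ (show y ∈ charKernel _ hc from h1) x)
          (inv_mem (show y ∈ charKernel _ hc from h1))
      exact hm
    have hdn : d ψ ≤ n := (Finset.single_le_sum (f := d) (fun _ _ => Nat.zero_le _) hψ).trans hsum
    haveI := Fintype.ofFinite G
    obtain ⟨k, hk, hkfix, hkne⟩ := exists_twist (q := q) hc (hd ψ) (by omega)
      (by obtain ⟨e, he⟩ := IsPGroup.iff_orderOf.1 Q.2 ⟨y, hy⟩
          exact ⟨e, by rw [← Subgroup.orderOf_mk y hy]; exact he⟩) hyψ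
    obtain ⟨l, hl, hlfix, hlne⟩ := exists_twist (q := p) hc (hd ψ) (by omega)
      (by obtain ⟨e, he⟩ := IsPGroup.iff_orderOf.1 P.2 ⟨x, hx⟩
          exact ⟨e, by rw [← Subgroup.orderOf_mk x hx]; exact he⟩) hxψ
    let f : G → ℂ := fun g => (ψ : G → ℂ) (g ^ k)
    let f' : G → ℂ := fun g => (ψ : G → ℂ) (g ^ l)
    have hfI : Cfsg.IsIrrCharacter G f := OddChar.PowTwist.isIrr_comp_pow ψ.2 hk
    have hfI' : Cfsg.IsIrrCharacter G f' := OddChar.PowTwist.isIrr_comp_pow ψ.2 hl
    have h0 : Cfsg.classInner ((ψ : G → ℂ) - f) ((ψ : G → ℂ) - f') = 0 := by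
      rw [classInner_def, Finset.sum_eq_zero, mul_zero]
      intro g _
      by_cases hg : q ∣ orderOf g
      · have hgp : ¬ p ∣ orderOf g := fun hh => hboth ⟨g, hh, hg⟩
        simp [f', hlfix g hgp]
      · simp [f, hkfix g hg]
    have e : ∀ a b : Cfsg.IrrCharacter G, a ≠ b → Cfsg.classInner (a : G → ℂ) (b : G → ℂ) = 0 :=
      fun a b hab => by rw [classInner_irr, if_neg hab]
    rw [classInner_sub_left, classInner_sub_right, classInner_sub_right,
      classInner_isIrr_self ψ.2, e ψ ⟨f', hfI'⟩ (fun hh => hlne (congrArg Subtype.val hh).symm),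
      e ⟨f, hfI⟩ ψ (fun hh => hkne (congrArg Subtype.val hh))] at h0
    by_cases hff : (⟨f, hfI⟩ : Cfsg.IrrCharacter G) = ⟨f', hfI'⟩
    · rw [show f = f' from congrArg Subtype.val hff, classInner_isIrr_self hfI'] at h0
      norm_num at h0
    · rw [e _ _ hff] at h0
      norm_num at h0
  -- assemble
  by_cases hall : ∀ (p : ℕ) [Fact p.Prime], n + 1 < p → ∀ x : G,
      IsPGroup p (Subgroup.zpowers x) → x ∈ Subgroup.center G
  · let A : Subgroup G :=
      { carrier := {g | g ∈ Subgroup.center G ∧ ∀ r : ℕ, r.Prime → r ∣ orderOf g → n + 1 < r}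
        one_mem' := ⟨one_mem _, fun r hr hd => absurd (orderOf_one (G := G) ▸ hd) hr.not_dvd_one⟩
        mul_mem' := fun {a b} ha hb => ⟨mul_mem ha.1 hb.1, fun r hr hd => by
          have hab : Commute a b := (Subgroup.mem_center_iff.1 hb.1 a)
          have h1 := hd.trans (hab.orderOf_mul_dvd_mul_orderOf)
          rcases hr.dvd_mul.1 h1 with h2 | h2
          · exact ha.2 r hr h2
          · exact hb.2 r hr h2⟩
        inv_mem' := fun {a} ha => ⟨inv_mem ha.1, fun r hr hd => ha.2 r hr (by rwa [orderOf_inv] at hd)⟩ }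
    refine ⟨A, fun x hx y _ => (Subgroup.mem_center_iff.1 hx.1 y).symm, fun r hr hd => ?_,
      fun r hr hd => ?_⟩
    · haveI := Fact.mk hr
      obtain ⟨a, ha⟩ := exists_prime_orderOf_dvd_card' r hd
      exact a.2.2 r hr (by rw [Subgroup.orderOf_coe, ha])
    · by_contra hr'
      haveI := Fact.mk hr
      obtain ⟨P⟩ : Nonempty (Sylow r G) := inferInstance
      refine P.not_dvd_index (hd.trans (Subgroup.index_dvd_of_le fun x hx => ?_))
      have hxr : IsPGroup r (Subgroup.zpowers x) := P.2.to_le (Subgroup.zpowers_le.2 hx)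
      refine ⟨hall r (by omega) x hxr, fun s hs hds => ?_⟩
      obtain ⟨e, he⟩ := IsPGroup.iff_card.1 hxr
      rw [Nat.card_zpowers] at he
      rw [(Nat.prime_dvd_prime_iff_eq hs hr).1 (hs.dvd_of_dvd_pow (he ▸ hds))]
      omega
  · push Not at hall
    obtain ⟨p, hp', hp, x, hx, hxc⟩ := hall
    set C := Subgroup.centralizer ({x} : Set G) with hC
    obtain ⟨A, hAc, hAp, hAi⟩ := IH C (centralizer_lt hxc)
    refine ⟨A.map C.subtype, ?_, fun r hr hd => hAp r hr
      (by rwa [Subgroup.card_map_of_injective C.subtype_injective] at hd), fun r hr hd => ?_⟩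
    · rintro _ ⟨a, ha, rfl⟩ _ ⟨b, hb, rfl⟩
      exact congrArg C.subtype (hAc a ha b hb)
    · rw [Subgroup.index_map_subtype] at hd
      rcases hr.dvd_mul.1 hd with h1 | h1
      · exact hAi r hr h1
      by_contra hr'
      haveI := Fact.mk hr
      haveI := hp'
      -- the full `r`-part centralizes `x` up to conjugacy
      have hfull : pFull G r ∣ Nat.card C := by
        by_cases hrp : r = p
        · subst hrp; exact pFull_dvd_centralizer h (by omega) hx
        obtain ⟨P, Q, hP, hQ, hPQ⟩ := pair p r hp (by omega) (Ne.symm hrp)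
        obtain ⟨P0, hP0⟩ := hx.exists_le_sylow
        let P' : Sylow p G := Sylow.ofCard P hP
        obtain ⟨c, hc⟩ := MulAction.exists_smul_eq G P' P0
        have hxP : c⁻¹ * x * c ∈ P := by
          have h2 : x ∈ ((c • P' : Sylow p G) : Subgroup G) := by
            rw [hc]; exact hP0 (Subgroup.mem_zpowers x)
          rw [Sylow.coe_subgroup_smul, Sylow.coe_ofCard, Subgroup.mem_pointwise_smul_iff_inv_smul_mem] at h2
          simpa using h2
        rw [← hQ, ← Subgroup.card_map_of_injective (f := (MulAut.conj c).toMonoidHom)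
          (MulAut.conj c).injective]
        refine Subgroup.card_dvd_of_le ?_
        rintro _ ⟨b, hb, rfl⟩
        refine Subgroup.mem_centralizer_iff.2 ?_
        rintro z rfl
        have h2 := (hPQ _ hxP b hb).map (MulAut.conj c).toMonoidHom
        simpa [mul_assoc] using h2.eq
      have h2 := Nat.mul_dvd_mul hfull h1
      rw [Subgroup.card_mul_index, pFull, ← pow_succ] at h2
      exact absurd ((hr.pow_dvd_iff_le_factorization Nat.card_pos.ne').1 h2) (by omega)

/-- Blichfeldt: an abelian Hall subgroup for the primes above `n + 1`. -/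
theorem exists_hall {n : ℕ} (h : HasFaithful G n) : HasHall G n :=
  exists_hall_aux n (Nat.card G + 1) G (Nat.lt_succ_self _) h

/-! ## Sylow subgroups for small primes -/

/-- A nilpotent linear group of degree `n` has an abelian subgroup of index dividing `n!`. -/
theorem exists_abelian_dvd_factorial [Group.IsNilpotent G] {n : ℕ} (h : HasFaithful G n) :
    ∃ B : Subgroup G, (∀ x ∈ B, ∀ y ∈ B, x * y = y * x) ∧ B.index ∣ Nat.factorial n := by
  classical
  haveI := Fintype.ofFinite G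
  obtain ⟨S, d, hd, hd0, hsum, hf⟩ := exists_constituents h
  choose H lam hlam using fun ψ : S => Monomial.monomial_of_nilpotent (G := G) ψ.1.2
  let F : G →* ((ψ : S) → Equiv.Perm (G ⧸ H ψ)) :=
    MonoidHom.pi fun ψ => MulAction.toPermHom G (G ⧸ H ψ)
  have hidx : ∀ ψ : S, (H ψ).index = d ψ.1 := fun ψ => by
    have h1 := congrFun (hlam ψ) 1
    rw [indFun_one, map_one, Units.val_one, mul_one, hd] at h1
    exact_mod_cast h1.symm
  refine ⟨F.ker, fun x hx y hy => ?_, ?_⟩
  · suffices hxy : x * y * x⁻¹ * y⁻¹ = 1 by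
      rwa [mul_inv_eq_one, mul_inv_eq_iff_eq_mul] at hxy
    refine hf _ fun ψ hψ => ?_
    have hker : F.ker ≤ (H ⟨ψ, hψ⟩).normalCore := fun z hz => by
      rw [Subgroup.normalCore_eq_ker]
      exact congrFun (MonoidHom.mem_ker.1 hz) ⟨ψ, hψ⟩
    have hfix : ∀ g : G, g⁻¹ * (x * y * x⁻¹ * y⁻¹) * g ∈ H ⟨ψ, hψ⟩ ∧
        ∀ hm : g⁻¹ * (x * y * x⁻¹ * y⁻¹) * g ∈ H ⟨ψ, hψ⟩, lam ⟨ψ, hψ⟩ ⟨_, hm⟩ = 1 := by
      intro g
      have e : g⁻¹ * (x * y * x⁻¹ * y⁻¹) * g = (g⁻¹ * x * g) * (g⁻¹ * y * g) *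
          (g⁻¹ * x * g)⁻¹ * (g⁻¹ * y * g)⁻¹ := by group
      have hmx : g⁻¹ * x * g ∈ H ⟨ψ, hψ⟩ := Subgroup.normalCore_le _ (by
        simpa using (Subgroup.normalCore_normal _).conj_mem x (hker hx) g⁻¹)
      have hmy : g⁻¹ * y * g ∈ H ⟨ψ, hψ⟩ := Subgroup.normalCore_le _ (by
        simpa using (Subgroup.normalCore_normal _).conj_mem y (hker hy) g⁻¹)
      refine ⟨by rw [e]; exact mul_mem (mul_mem (mul_mem hmx hmy) (inv_mem hmx)) (inv_mem hmy),
        fun hm => ?_⟩
      have e' : (⟨_, hm⟩ : H ⟨ψ, hψ⟩) = ⟨_, hmx⟩ * ⟨_, hmy⟩ * ⟨_, hmx⟩⁻¹ * ⟨_, hmy⟩⁻¹ :=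
        Subtype.ext e
      rw [e', map_mul, map_mul, map_mul, map_inv, map_inv]
      rw [mul_comm (lam _ _) (lam _ _), mul_inv_cancel_right, mul_inv_cancel]
    rw [hlam ⟨ψ, hψ⟩, indFun_one, map_one, Units.val_one, mul_one]
    show (Nat.card _ : ℂ)⁻¹ * _ = _
    rw [Finset.sum_congr rfl fun g _ => (show Cfsg.extendByZero (H ⟨ψ, hψ⟩)
        (fun h => (lam ⟨ψ, hψ⟩ h : ℂ)) (g⁻¹ * (x * y * x⁻¹ * y⁻¹) * g) = 1 by
      rw [CharTheory.IndBasic.extendByZero_of_mem _ _ (hfix g).1, (hfix g).2, Units.val_one]),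
      Finset.sum_const, Finset.card_univ, nsmul_one, ← Nat.card_eq_fintype_card,
      ← (H ⟨ψ, hψ⟩).card_mul_index, Nat.cast_mul, inv_mul_cancel_left₀]
    exact Nat.cast_ne_zero.2 Nat.card_pos.ne'
  · rw [Subgroup.index_ker]
    refine (Subgroup.card_subgroup_dvd_card F.range).trans ?_
    rw [Nat.card_pi]
    simp only [Nat.card_perm, ← Subgroup.index_eq_card, hidx]
    refine (Nat.prod_factorial_dvd_factorial_sum _ _).trans (Nat.factorial_dvd_factorial ?_)
    rw [Finset.univ_eq_attach, Finset.sum_attach S d]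
    exact hsum

end Cfsg.Agent.CharP.Blichfeldt
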