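import Cfsg.Agent.Lib.Fusion.Normal
import Cfsg.Agent.Lib.Fusion.Focal

/-!
Saturated systems over a `p`-group whose centre has index `p²`: the automorphisms of the abelian
maximal subgroups over the centre.
-/

set_option autoImplicit false
set_option linter.all false

namespace Cfsg.Agent.CharP.CenterIndex

open Cfsg Cfsg.FusionSystem Cfsg.Agent.Fusion.Basic Cfsg.Agent.Fusion.Saturation
  Cfsg.Agent.Fusion.Normal Cfsg.Agent.Fusion.Alperin

variable {Ω : Type*} [Group Ω] {S : Subgroup Ω} {p : ℕ}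

/-- The data: `Z` is the centre, of index `p²`, and `⟨c⟩` is the commutator subgroup, of order `p`. -/
structure Setup (S Z : Subgroup Ω) (c : Ω) (p : ℕ) : Prop where
  finite : Finite S
  isPGroup : IsPGroup p S
  le : Z ≤ S
  mem_iff : ∀ x ∈ S, (x ∈ Z ↔ ∀ y ∈ S, x * y = y * x)
  c_mem : c ∈ Z
  c_ne : c ≠ 1
  c_pow : c ^ p = 1
  comm : ∀ x ∈ S, ∀ y ∈ S, x * y * x⁻¹ * y⁻¹ ∈ Subgroup.zpowers c
  card : Nat.card S = p ^ 2 * Nat.card Z

/-- The subgroups strictly between `Z` and `S`. -/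
def Cand (S Z A : Subgroup Ω) : Prop := Z < A ∧ A < S

variable [hp : Fact p.Prime] {Z A : Subgroup Ω} {c : Ω}

theorem orderOf_c (h : Setup S Z c p) : orderOf c = p := orderOf_eq_prime h.c_pow h.c_ne

theorem mem_zpowers_c (h : Setup S Z c p) {d : Ω} (hd : d ∈ Subgroup.zpowers c) (hd1 : d ≠ 1) :
    c ∈ Subgroup.zpowers d := by
  obtain ⟨n, rfl⟩ := Subgroup.mem_zpowers_iff.1 hd
  have hn : ¬ (p : ℤ) ∣ n := fun hdvd => hd1 (orderOf_dvd_iff_zpow_eq_one.1 (by rwa [orderOf_c h]))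
  obtain ⟨a, b, hab⟩ := ((Prime.coprime_iff_not_dvd (Nat.prime_iff_prime_int.1 hp.out)).2 hn)
  refine Subgroup.mem_zpowers_iff.2 ⟨b, ?_⟩
  have hcp : c ^ (p : ℤ) = 1 := by rw [zpow_natCast, h.c_pow]
  calc (c ^ n) ^ b = c ^ (b * n) := by rw [← zpow_mul, mul_comm]
    _ = c ^ (a * (p : ℤ) + b * n) := by rw [zpow_add, mul_comm a, zpow_mul c (p : ℤ) a, hcp, one_zpow, one_mul]
    _ = c := by rw [hab, zpow_one]

theorem Setup.central (h : Setup S Z c p) {z x : Ω} (hz : z ∈ Z) (hx : x ∈ S) : z * x = x * z :=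
  (h.mem_iff z (h.le hz)).1 hz x hx

theorem Setup.normal (h : Setup S Z c p) (hA : Z ≤ A) (hAS : A ≤ S) :
    ∀ s ∈ S, s ∈ Subgroup.normalizer (A : Set Ω) := by
  intro s hs
  have := h.finite
  have : Finite A := finite_of_le hAS
  refine mem_normalizer_of_forall fun x hx => ?_
  rw [show s * x * s⁻¹ = (s * x * s⁻¹ * x⁻¹) * x by group]
  refine A.mul_mem (hA ?_) hx
  exact (Subgroup.zpowers_le.2 h.c_mem) (h.comm s hs x (hAS hx))

theorem card_cand (h : Setup S Z c p) (hA : Cand S Z A) : Nat.card A = p * Nat.card Z := by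
  have := h.finite
  have : Finite A := finite_of_le hA.2.le
  have : Finite Z := finite_of_le h.le
  obtain ⟨a, ha⟩ := (h.isPGroup.to_le hA.2.le).exists_card_eq
  obtain ⟨z, hz⟩ := (h.isPGroup.to_le h.le).exists_card_eq
  have h1 := card_lt_card hA.1
  have h2 := card_lt_card hA.2
  rw [h.card, hz, ← pow_add, ha] at h2
  rw [hz, ha] at h1
  rw [ha, hz, ← pow_succ']
  have h1' := (Nat.pow_lt_pow_iff_right hp.out.one_lt).1 h1
  have h2' := (Nat.pow_lt_pow_iff_right hp.out.one_lt).1 h2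
  rw [show a = z + 1 by omega]

/-- The powers of one element outside `Z` cover a candidate modulo `Z`. -/
theorem split (h : Setup S Z c p) (hA : Cand S Z A) {x : Ω} (hx : x ∈ A) (hxZ : x ∉ Z) {a : Ω}
    (ha : a ∈ A) : ∃ i : ℤ, a * (x ^ i)⁻¹ ∈ Z := by
  have := h.finite
  have hxS := hA.2.le hx
  have hfA : Finite A := finite_of_le hA.2.le
  have hn : Subgroup.zpowers x ≤ Subgroup.normalizer (Z : Set Ω) :=
    Subgroup.zpowers_le.2 (h.normal le_rfl h.le x hxS)
  set B := Subgroup.zpowers x ⊔ Z with hB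
  have hBA : B ≤ A := sup_le (Subgroup.zpowers_le.2 hx) hA.1.le
  have hZB : Z < B := SetLike.lt_iff_le_and_exists.2
    ⟨le_sup_right, x, Subgroup.mem_sup_left (Subgroup.mem_zpowers x), hxZ⟩
  have hBeq : B = A := by
    rcases eq_or_lt_of_le hBA with he | hlt
    · exact he
    · exfalso
      have h1 := card_cand h ⟨hZB, hlt.trans_le hA.2.le⟩
      have h2 := card_lt_card hlt
      rw [card_cand h hA] at h2
      omega
  have hmem : a ∈ ((Subgroup.zpowers x ⊔ Z : Subgroup Ω) : Set Ω) := hBeq.ge ha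
  rw [Subgroup.coe_mul_of_left_le_normalizer_right _ _ hn] at hmem
  obtain ⟨y, hy, z, hz, rfl⟩ := hmem
  obtain ⟨i, rfl⟩ := Subgroup.mem_zpowers_iff.1 hy
  refine ⟨i, ?_⟩
  show x ^ i * z * (x ^ i)⁻¹ ∈ Z
  rw [← h.central hz (S.zpow_mem hxS i), mul_inv_cancel_right]
  exact hz

theorem comm_cand (h : Setup S Z c p) (hA : Cand S Z A) {x y : Ω} (hx : x ∈ A) (hy : y ∈ A) :
    x * y = y * x := by
  by_cases hxZ : x ∈ Z
  · exact h.central hxZ (hA.2.le hy)
  obtain ⟨i, hi⟩ := split h hA hx hxZ hy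
  have hc := h.central hi (hA.2.le hx)
  calc x * y = x * ((y * (x ^ i)⁻¹) * x ^ i) := by group
    _ = (x * (y * (x ^ i)⁻¹)) * x ^ i := by group
    _ = ((y * (x ^ i)⁻¹) * x) * x ^ i := by rw [hc]
    _ = _ := by group

/-- An element outside a candidate centralizes only `Z` in it. -/
theorem centralize (h : Setup S Z c p) (hA : Cand S Z A) {g x : Ω} (hg : g ∈ S) (hgA : g ∉ A)
    (hx : x ∈ A) (hc : g * x = x * g) : x ∈ Z := by
  have := h.finite
  refine (h.mem_iff x (hA.2.le hx)).2 fun y hy => ?_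
  set B := A ⊔ Subgroup.zpowers g with hB
  have hBS : B ≤ S := sup_le hA.2.le (Subgroup.zpowers_le.2 hg)
  have hBeq : B = S := by
    rcases eq_or_lt_of_le hBS with he | hlt
    · exact he
    · exfalso
      have hAB : A < B := SetLike.lt_iff_le_and_exists.2
        ⟨le_sup_left, g, Subgroup.mem_sup_right (Subgroup.mem_zpowers g), hgA⟩
      have hfB : Finite B := finite_of_le hBS
      have h1 := card_cand h ⟨hA.1.trans hAB, hlt⟩
      have h2 := card_lt_card hAB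
      rw [card_cand h hA] at h2
      omega
  have hle : B ≤ Subgroup.centralizer ({x} : Set Ω) :=
    sup_le (fun a ha => Subgroup.mem_centralizer_singleton_iff.2 (comm_cand h hA ha hx))
      (Subgroup.zpowers_le.2 (Subgroup.mem_centralizer_singleton_iff.2 hc))
  exact (Subgroup.mem_centralizer_singleton_iff.1 (hle (hBeq.ge hy))).symm

/-- Elements outside `Z` are moved by `S` along all of `⟨c⟩`. -/
theorem exists_move (h : Setup S Z c p) {b d : Ω} (hb : b ∈ S) (hbZ : b ∉ Z)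
    (hd : d ∈ Subgroup.zpowers c) : ∃ s ∈ S, s * b * s⁻¹ = b * d := by
  obtain ⟨y, hy, hy'⟩ : ∃ y ∈ S, b * y ≠ y * b := by
    by_contra hcon
    exact hbZ ((h.mem_iff b hb).2 fun y hy => by_contra fun hne => hcon ⟨y, hy, hne⟩)
  set e := y * b * y⁻¹ * b⁻¹ with he
  have hec : e ∈ Subgroup.zpowers c := h.comm y hy b hb
  have he1 : e ≠ 1 := fun h1 => hy' (by rw [he, mul_inv_eq_one, mul_inv_eq_iff_eq_mul] at h1; exact h1.symm)
  obtain ⟨n, rfl⟩ := Subgroup.mem_zpowers_iff.1 ((Subgroup.zpowers_le.2 (mem_zpowers_c h hec he1)) hd)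
  refine ⟨y ^ n, S.zpow_mem hy n, ?_⟩
  have heZ : e ∈ Z := Subgroup.zpowers_le.2 h.c_mem hec
  have hcomm : ∀ m : ℕ, y ^ m * b * (y ^ m)⁻¹ = b * e ^ m := by
    intro m
    induction m with
    | zero => simp
    | succ m ih =>
      have h1 : y * b * y⁻¹ = b * e := by
        rw [← h.central heZ hb, he]; group
      have h2 : y * e ^ m * y⁻¹ = e ^ m := by
        rw [← h.central (Z.pow_mem heZ m) hy, mul_inv_cancel_right]
      calc y ^ (m + 1) * b * (y ^ (m + 1))⁻¹ = y * (y ^ m * b * (y ^ m)⁻¹) * y⁻¹ := by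
            rw [pow_succ']; group
        _ = (y * b * y⁻¹) * (y * e ^ m * y⁻¹) := by rw [ih]; group
        _ = b * e ^ (m + 1) := by rw [h1, h2, pow_succ', mul_assoc]
  rcases n with m | m
  · simpa using hcomm m
  · have h1 := hcomm (m + 1)
    rw [zpow_negSucc, zpow_negSucc, inv_inv]
    have h2 : y ^ (m + 1) * (b * (e ^ (m + 1))⁻¹) * (y ^ (m + 1))⁻¹ = b := by
      calc y ^ (m + 1) * (b * (e ^ (m + 1))⁻¹) * (y ^ (m + 1))⁻¹
          = (y ^ (m + 1) * b * (y ^ (m + 1))⁻¹) *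
              (y ^ (m + 1) * (e ^ (m + 1))⁻¹ * (y ^ (m + 1))⁻¹) := by group
        _ = (b * e ^ (m + 1)) * (e ^ (m + 1))⁻¹ := by
            rw [h1, ← h.central (Z.inv_mem (Z.pow_mem heZ (m + 1))) (S.pow_mem hy (m + 1)),
              mul_inv_cancel_right]
        _ = b := by rw [mul_inv_cancel_right]
    conv_lhs => rw [← h2]
    group

/-! ### Automorphisms of a candidate -/

variable {F : FusionSystem S}

theorem exists_conjAuto (h : Setup S Z c p) (hA : Cand S Z A) {s : Ω} (hs : s ∈ S) :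
    ∃ σ ∈ autInducedBy S A, ∀ x ∈ A, autFun σ x = s * x * s⁻¹ := by
  have hn := h.normal hA.1.le hA.2.le s hs
  exact ⟨conjAut S A ⟨s, hs, hn⟩, conjAut_range S A ▸ ⟨_, rfl⟩,
    fun x hx => conjAut_apply ⟨s, hs, hn⟩ hx⟩

/-- The first key fact: if `β` and `β⁻¹` map `c` into `Z`, then `β` normalizes the induced group. -/
theorem key_comm (h : Setup S Z c p) (hF : F.IsSaturated p) (hA : Cand S Z A) {β : MulAut A}
    (hβ : β ∈ F.autGroup A) (h1 : autFun β c ∈ Z) (h2 : autFun β⁻¹ c ∈ Z) :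
    (∀ z ∈ Z, autFun β z ∈ Z) ∧ autFun β c ∈ Subgroup.zpowers c ∧
      ∀ σ ∈ autInducedBy S A, β * σ * β⁻¹ ∈ autInducedBy S A := by
  have := h.finite
  have hAS := hA.2.le
  have hfA : Finite A := finite_of_le hAS
  have hfZ : Finite Z := finite_of_le h.le
  have hcA : c ∈ A := hA.1.le h.c_mem
  have : Finite (normalizerIn S A) := finite_of_le normalizerIn_le
  have hfn : F.IsFullyNormalized A := ⟨hAS, fun R _ => card_le_card
    (normalizerIn_le.trans fun x hx => ⟨hx, h.normal hA.1.le hAS x hx⟩)⟩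
  have hm := isMap_of_mem_autGroup hAS hβ
  have hm' := isMap_of_mem_autGroup hAS (inv_mem hβ)
  have hpow : ∀ e ∈ Subgroup.zpowers c, autFun β e ∈ Subgroup.zpowers (autFun β c) ∧
      autFun β e ∈ Z ∧ autFun β⁻¹ e ∈ Z := by
    intro e he
    obtain ⟨n, rfl⟩ := Subgroup.mem_zpowers_iff.1 he
    have e1 : ∀ γ : MulAut A, autFun γ (c ^ n) = autFun γ c ^ n := fun γ => by
      show autFun γ (((⟨c, hcA⟩ : A) ^ n : A) : Ω) = autFun γ ((⟨c, hcA⟩ : A) : Ω) ^ n
      rw [autFun_apply, autFun_apply, map_zpow, Subgroup.coe_zpow]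
    rw [e1, e1]
    exact ⟨Subgroup.zpow_mem _ (Subgroup.mem_zpowers _) n, Z.zpow_mem h1 n, Z.zpow_mem h2 n⟩
  -- `T` and its conjugate commute
  set T := autInducedBy S A with hT
  have hmove : ∀ σ ∈ T, ∀ x ∈ A, ∃ e ∈ Subgroup.zpowers c, autFun σ x = x * e := by
    intro σ hσ x hx
    obtain ⟨g, hg, hge⟩ := mem_autInducedBy_iff'.1 hσ
    have he := h.comm g hg.1 x (hAS hx)
    refine ⟨_, he, ?_⟩
    rw [hge x hx, cj_apply, ← h.central (Subgroup.zpowers_le.2 h.c_mem he) (hAS hx)]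
    group
  have hfixZ : ∀ σ ∈ T, ∀ z ∈ Z, autFun σ z = z := by
    intro σ hσ z hz
    obtain ⟨g, hg, hge⟩ := mem_autInducedBy_iff'.1 hσ
    rw [hge z (hA.1.le hz), cj_apply, ← h.central hz hg.1, mul_inv_cancel_right]
  have hnorm : ∀ σ ∈ T, β * σ * β⁻¹ ∈ T := by
    intro σ hσ
    set σ' := β * σ * β⁻¹ with hσ'
    have hσ'mem : σ' ∈ F.autGroup A := mul_mem (mul_mem hβ (autInducedBy_le hAS hσ)) (inv_mem hβ)
    have hσ'v : ∀ x ∈ A, ∃ d ∈ Subgroup.zpowers (autFun β c), d ∈ Z ∧ autFun σ' x = x * d := by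
      intro x hx
      obtain ⟨e, he, hee⟩ := hmove σ hσ _ (autFun_mem β⁻¹ hx)
      refine ⟨autFun β e, (hpow e he).1, (hpow e he).2.1, ?_⟩
      rw [hσ', autFun_mul, autFun_mul, hee, hm.map_mul (autFun_mem _ hx)
        (hA.1.le (Subgroup.zpowers_le.2 h.c_mem he)), autFun_apply_inv]
    have hcommT : ∀ τ ∈ T, σ' * τ = τ * σ' := by
      intro τ hτ
      refine autFun_ext fun x hx => ?_
      obtain ⟨d, hd, hdZ, hde⟩ := hσ'v x hx
      obtain ⟨e, he, hee⟩ := hmove τ hτ x hx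
      have heA : e ∈ A := hA.1.le (Subgroup.zpowers_le.2 h.c_mem he)
      have hσe : autFun σ' e = e := by
        rw [hσ', autFun_mul, autFun_mul, hfixZ σ hσ _ (hpow e he).2.2, autFun_apply_inv]
      rw [autFun_mul σ' τ, autFun_mul τ σ', hee, hde,
        (isMap_of_mem_autGroup hAS hσ'mem).map_mul hx heA, hσe, hde,
        (isMap_of_mem_autGroup hAS (autInducedBy_le (F := F) hAS hτ)).map_mul hx (hA.1.le hdZ),
        hee, hfixZ τ hτ d hdZ, mul_assoc, mul_assoc,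
        comm_cand h hA (hA.1.le hdZ) heA]
    obtain ⟨-, R, hR⟩ := fullyNormalized_fullyAutomized h.isPGroup hF hfn
    have hσ'p : IsPGroup p (Subgroup.zpowers (⟨σ', hσ'mem⟩ : F.autGroup A)) := by
      obtain ⟨k, hk⟩ := R.2 ⟨⟨σ, autInducedBy_le hAS hσ⟩, by rw [hR]; exact hσ⟩
      have hk' : σ ^ p ^ k = 1 :=
        congrArg (fun x : (R : Subgroup (F.autGroup A)) => ((x : F.autGroup A) : MulAut A)) hk
      have h3 : (⟨σ', hσ'mem⟩ : F.autGroup A) ^ p ^ k = 1 := Subtype.ext (by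
        show (β * σ * β⁻¹) ^ p ^ k = 1
        rw [conj_pow, hk', mul_one, mul_inv_cancel])
      intro x
      obtain ⟨n, hn⟩ := Subgroup.mem_zpowers_iff.1 x.2
      refine ⟨k, Subtype.ext ?_⟩
      rw [SubmonoidClass.coe_pow, ← hn, ← zpow_natCast, ← zpow_mul, mul_comm, zpow_mul, zpow_natCast,
        h3, one_zpow]
      rfl
    have hle : Subgroup.zpowers (⟨σ', hσ'mem⟩ : F.autGroup A) ≤
        Subgroup.normalizer ((R : Subgroup (F.autGroup A)) : Set (F.autGroup A)) := by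
      refine Subgroup.zpowers_le.2 (Subgroup.centralizer_le_normalizer _ fun τ hτ => Subtype.ext ?_)
      rw [SetLike.mem_coe, hR] at hτ
      exact (hcommT _ hτ).symm
    have hsup : IsPGroup p (Subgroup.zpowers (⟨σ', hσ'mem⟩ : F.autGroup A) ⊔
        (R : Subgroup (F.autGroup A)) : Subgroup (F.autGroup A)) :=
      hσ'p.to_sup_of_normal_right' R.2 hle
    have hmem : (⟨σ', hσ'mem⟩ : F.autGroup A) ∈ (R : Subgroup (F.autGroup A)) := by
      rw [← R.3 hsup le_sup_right]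
      exact Subgroup.mem_sup_left (Subgroup.mem_zpowers _)
    rw [hR] at hmem
    exact hmem
  -- fixed points and moved part of a nontrivial conjugate
  obtain ⟨a₀, ha₀, ha₀Z⟩ := SetLike.exists_of_lt hA.1
  obtain ⟨s, hs, hse⟩ := exists_move h (hAS ha₀) ha₀Z (Subgroup.mem_zpowers c)
  obtain ⟨σ, hσ, hσe⟩ := exists_conjAuto h hA hs
  have hσ'T := hnorm σ hσ
  obtain ⟨g, hg, hge⟩ := mem_autInducedBy_iff'.1 hσ'T
  have hval : autFun (β * σ * β⁻¹) (autFun β a₀) = autFun β a₀ * autFun β c := by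
    rw [autFun_mul, autFun_mul, autFun_inv_apply, hσe a₀ ha₀, hse, hm.map_mul ha₀ hcA]
  have hgA : g ∉ A := by
    intro hgA
    have h3 : autFun β a₀ * autFun β c = autFun β a₀ := by
      rw [← hval, hge _ (autFun_mem β ha₀), cj_apply, comm_cand h hA hgA (autFun_mem β ha₀),
        mul_inv_cancel_right]
    rw [mul_eq_left] at h3
    refine h.c_ne ?_
    rw [← autFun_inv_apply β c, h3]
    exact hm'.map_one
  refine ⟨fun z hz => ?_, ?_, hnorm⟩
  · refine centralize h hA hg.1 hgA (autFun_mem β (hA.1.le hz)) ?_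
    have h3 : autFun (β * σ * β⁻¹) (autFun β z) = autFun β z := by
      rw [autFun_mul, autFun_mul, autFun_inv_apply, hfixZ σ hσ z hz]
    rw [hge _ (autFun_mem β (hA.1.le hz)), cj_apply, mul_inv_eq_iff_eq_mul] at h3
    exact h3
  · obtain ⟨e, he, hee⟩ := hmove _ hσ'T _ (autFun_mem β ha₀)
    rw [hval, mul_left_cancel_iff] at hee
    exact hee ▸ he

/-- The second key fact: mapping `c` into `Z` forces `β` to stabilize `Z`. -/
theorem key (h : Setup S Z c p) (hF : F.IsSaturated p) (hA : Cand S Z A) {β : MulAut A}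
    (hβ : β ∈ F.autGroup A) (h1 : autFun β c ∈ Z) :
    (∀ z ∈ Z, autFun β z ∈ Z) ∧ (∀ z ∈ Z, autFun β⁻¹ z ∈ Z) ∧
      autFun β c ∈ Subgroup.zpowers c ∧
      ∀ σ ∈ autInducedBy S A, β * σ * β⁻¹ ∈ autInducedBy S A := by
  have := h.finite
  have hAS := hA.2.le
  have hfZ : Finite Z := finite_of_le h.le
  have hcA : c ∈ A := hA.1.le h.c_mem
  suffices h2 : autFun β⁻¹ c ∈ Z by
    obtain ⟨a, b, d⟩ := key_comm h hF hA hβ h1 h2
    obtain ⟨a', -, -⟩ := key_comm h hF hA (inv_mem hβ) h2 (by rwa [inv_inv])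
    exact ⟨a, a', b, d⟩
  by_contra h2
  obtain ⟨s, hs, hse⟩ := exists_move h (hAS (autFun_mem β⁻¹ hcA)) h2 (Subgroup.mem_zpowers c)
  obtain ⟨σ, hσ, hσe⟩ := exists_conjAuto h hA hs
  have hσF : σ ∈ F.autGroup A := autInducedBy_le hAS hσ
  -- an element moved by `σ` into a new class
  obtain ⟨z₁, hz₁, hz₁'⟩ : ∃ z ∈ Z, autFun β z ∉ Z := by
    by_contra hcon
    push Not at hcon
    refine h2 ?_
    have himg : img (autFun β) Z = Z :=
      eq_of_le_card (img_le hcon)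
        ((isMap_of_mem_autGroup hAS hβ).restrict hA.1.le).card_img.ge
    obtain ⟨z, hz, hze⟩ := ((isMap_of_mem_autGroup hAS hβ).restrict hA.1.le).mem_img.1
      (himg.ge h.c_mem)
    rw [← hze, autFun_inv_apply]; exact hz
  obtain ⟨s₂, hs₂, hs₂e⟩ := exists_move h (hAS (autFun_mem β (hA.1.le hz₁))) hz₁'
    (Subgroup.mem_zpowers c)
  obtain ⟨σ₂, hσ₂, hσ₂e⟩ := exists_conjAuto h hA hs₂
  have hσ₂F : σ₂ ∈ F.autGroup A := autInducedBy_le hAS hσ₂
  -- compare `β` with `σ₂ β`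
  have hfixu : autFun σ₂ (autFun β c) = autFun β c := by
    rw [hσ₂e _ (autFun_mem β hcA), ← h.central h1 hs₂, mul_inv_cancel_right]
  set γ := β⁻¹ * (σ₂ * β) with hγ
  have hγc : autFun γ c = c := by
    rw [hγ, autFun_mul, autFun_mul, hfixu, autFun_inv_apply]
  have hγc' : autFun γ⁻¹ c = c := by
    conv_lhs => rw [← hγc]
    rw [autFun_inv_apply]
  obtain ⟨hγZ, -, -⟩ := key_comm h hF hA (mul_mem (inv_mem hβ) (mul_mem hσ₂F hβ))
    (by rw [hγc]; exact h.c_mem) (by rw [hγc']; exact h.c_mem)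
  have h3 := hγZ z₁ hz₁
  rw [autFun_mul, autFun_mul, hσ₂e _ (autFun_mem β (hA.1.le hz₁)), hs₂e,
    (isMap_of_mem_autGroup hAS (inv_mem hβ)).map_mul (autFun_mem β (hA.1.le hz₁)) hcA,
    autFun_inv_apply] at h3
  exact h2 (by simpa using Z.mul_mem (Z.inv_mem hz₁) h3)

/-- Two automorphisms with `β'⁻¹ β` fixing `c` modulo `Z` have the same data. -/
theorem key_pair (h : Setup S Z c p) (hF : F.IsSaturated p) (hA : Cand S Z A) {β β' : MulAut A}
    (hβ : β ∈ F.autGroup A) (hβ' : β' ∈ F.autGroup A) (h1 : autFun β'⁻¹ (autFun β c) ∈ Z) :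
    (∀ z ∈ Z, autFun β'⁻¹ (autFun β z) ∈ Z) ∧ (∀ z ∈ Z, autFun β⁻¹ (autFun β' z) ∈ Z) ∧
      autFun β c ∈ Subgroup.zpowers (autFun β' c) := by
  have hcA : c ∈ A := hA.1.le h.c_mem
  obtain ⟨a, b, d, -⟩ := key h hF hA (mul_mem (inv_mem hβ') hβ) (by rwa [autFun_mul])
  refine ⟨fun z hz => by rw [← autFun_mul]; exact a z hz, fun z hz => ?_, ?_⟩
  · have := b z hz
    rwa [mul_inv_rev, inv_inv, autFun_mul] at this
  · rw [autFun_mul] at d
    obtain ⟨n, hn⟩ := Subgroup.mem_zpowers_iff.1 d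
    refine Subgroup.mem_zpowers_iff.2 ⟨n, ?_⟩
    have e1 : autFun β' (c ^ n) = autFun β' c ^ n := by
      show autFun β' (((⟨c, hcA⟩ : A) ^ n : A) : Ω) = autFun β' ((⟨c, hcA⟩ : A) : Ω) ^ n
      rw [autFun_apply, autFun_apply, map_zpow, Subgroup.coe_zpow]
    rw [← e1, hn, autFun_apply_inv]

end Cfsg.Agent.CharP.CenterIndex
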