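import Cfsg.Agent.Lib.CharP.CenterIndexFinal
import Cfsg.Agent.Lib.Fusion.Solvable
import Cfsg.Agent.Lib.AutPOmega.Groups

/-!
A group with centre of index at most `p²` carrying a system without normal subgroups, equal to its
hyperfocal subgroup, is extraspecial of order `p³`.
-/

set_option autoImplicit false
set_option linter.all false
set_option maxHeartbeats 1000000

namespace Cfsg.Agent.CharP.CenterIndex

open Cfsg Cfsg.FusionSystem Cfsg.Agent.Fusion.Basic Cfsg.Agent.Fusion.Saturation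
  Cfsg.Agent.Fusion.Normal

variable {Ω : Type*} [Group Ω] {S : Subgroup Ω} [Finite S] {p : ℕ} [hp : Fact p.Prime]

/-- The hypotheses give the data. -/
theorem exists_setup (hS : IsPGroup p S) (hab : ∃ x ∈ S, ∃ y ∈ S, x * y ≠ y * x)
    (hZ : (Subgroup.center S).index ≤ p ^ 2) :
    ∃ c, Setup S ((Subgroup.center S).map S.subtype) c p := by
  set Z := (Subgroup.center S).map S.subtype with hZdef
  have hle : Z ≤ S := Subgroup.map_subtype_le _
  have hmem : ∀ x ∈ S, (x ∈ Z ↔ ∀ y ∈ S, x * y = y * x) := by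
    intro x hx
    constructor
    · rintro ⟨z, hz, rfl⟩ y hy
      exact congrArg Subtype.val (Subgroup.mem_center_iff.1 hz ⟨y, hy⟩).symm
    · intro h
      exact ⟨⟨x, hx⟩, Subgroup.mem_center_iff.2 fun y => Subtype.ext (h y y.2).symm, rfl⟩
  have hncyc : ¬ IsCyclic (S ⧸ Subgroup.center S) := by
    intro hc
    obtain ⟨x, hx, y, hy, hxy⟩ := hab
    exact hxy (congrArg Subtype.val
      (commutative_of_cyclic_center_quotient (QuotientGroup.mk' (Subgroup.center S))
        (by rw [QuotientGroup.ker_mk']) ⟨x, hx⟩ ⟨y, hy⟩))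
  have hidx : (Subgroup.center S).index = p ^ 2 := by
    obtain ⟨n, hn⟩ := (hS.to_quotient (Subgroup.center S)).exists_card_eq
    rw [Subgroup.index_eq_card]
    rw [Subgroup.index_eq_card, hn] at hZ
    have hn2 : n ≤ 2 := (Nat.pow_le_pow_iff_right hp.out.one_lt).1 hZ
    rcases (by omega : n = 0 ∨ n = 1 ∨ n = 2) with rfl | rfl | rfl
    · exfalso
      have : Subsingleton (S ⧸ Subgroup.center S) :=
        (Nat.card_eq_one_iff_unique.1 (by rw [hn, pow_zero])).1
      exact hncyc isCyclic_of_subsingleton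
    · exact absurd (isCyclic_of_prime_card (by rw [hn, pow_one])) hncyc
    · exact hn
  have hcard : Nat.card S = p ^ 2 * Nat.card Z := by
    rw [Subgroup.card_map_of_injective S.subtype_injective, ← hidx, mul_comm,
      Subgroup.card_mul_index]
  obtain ⟨a, ha, b, hb, hab⟩ := hab
  have haZ : a ∉ Z := fun h => hab ((hmem a ha).1 h b hb)
  -- the quotient by the centre is commutative
  have hquo : ∀ x ∈ S, ∀ y ∈ S, x * y * x⁻¹ * y⁻¹ ∈ Z := by
    intro x hx y hy
    have hcard' : Nat.card (S ⧸ Subgroup.center S) = p ^ 2 := by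
      rw [← Subgroup.index_eq_card, hidx]
    have hcomm := IsPGroup.commutative_of_card_eq_prime_sq hcard'
      (QuotientGroup.mk' _ ⟨x, hx⟩) (QuotientGroup.mk' _ ⟨y, hy⟩)
    refine ⟨⟨x, hx⟩ * ⟨y, hy⟩ * ⟨x, hx⟩⁻¹ * ⟨y, hy⟩⁻¹, ?_, rfl⟩
    rw [SetLike.mem_coe, ← QuotientGroup.eq_one_iff]
    show QuotientGroup.mk' (Subgroup.center S) _ = 1
    rw [map_mul, map_mul, map_mul, map_inv, map_inv, hcomm, mul_inv_cancel_right, mul_inv_cancel]
  have hpow : ∀ x ∈ S, x ^ p ∈ Z := by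
    intro x hx
    refine ⟨⟨x, hx⟩ ^ p, ?_, rfl⟩
    rw [SetLike.mem_coe, ← QuotientGroup.eq_one_iff]
    show QuotientGroup.mk' (Subgroup.center S) _ = 1
    rw [map_pow]
    by_contra hne
    refine hncyc (isCyclic_of_surjective
      (Subgroup.zpowers (QuotientGroup.mk' (Subgroup.center S) ⟨x, hx⟩)).subtype ?_)
    intro q
    have hord : orderOf (QuotientGroup.mk' (Subgroup.center S) ⟨x, hx⟩) = p ^ 2 := by
      obtain ⟨n, hn2, hn⟩ := (Nat.dvd_prime_pow hp.out).1
        (show orderOf (QuotientGroup.mk' (Subgroup.center S) ⟨x, hx⟩) ∣ p ^ 2 by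
          rw [← hidx, Subgroup.index_eq_card]; exact orderOf_dvd_natCard _)
      rcases (by omega : n ≤ 1 ∨ n = 2) with h | rfl
      · exact absurd (orderOf_dvd_iff_pow_eq_one.1 (hn ▸ (pow_dvd_pow p h).trans (pow_one p).dvd)) hne
      · exact hn
    have htop : Subgroup.zpowers (QuotientGroup.mk' (Subgroup.center S) ⟨x, hx⟩) = ⊤ :=
      Subgroup.eq_top_of_card_eq _ (by
        rw [Nat.card_zpowers, hord, ← hidx, Subgroup.index_eq_card])
    exact ⟨⟨q, htop ▸ Subgroup.mem_top q⟩, rfl⟩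
  set c := a * b * a⁻¹ * b⁻¹ with hc
  have hcZ : c ∈ Z := hquo a ha b hb
  have hc1 : c ≠ 1 := fun h => hab (by rw [hc, mul_inv_eq_one, mul_inv_eq_iff_eq_mul] at h; exact h)
  have hcp : c ^ p = 1 := by
    have hcb : Commute c b := (hmem c (hle hcZ)).1 hcZ b hb
    have h1 : a * b ^ p * a⁻¹ = c ^ p * b ^ p := by
      rw [← conj_pow, show a * b * a⁻¹ = c * b by rw [hc]; group, hcb.mul_pow]
    rw [← (hmem _ (S.pow_mem hb p)).1 (hpow b hb) a ha, mul_inv_cancel_right, right_eq_mul] at h1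
    exact h1
  -- all commutators are powers of `c`
  have hcN : ∀ y ∈ S, y * c * y⁻¹ = c := fun y hy => by
    rw [← (hmem c (hle hcZ)).1 hcZ y hy, mul_inv_cancel_right]
  have hcC : ∀ y ∈ S, ∀ d ∈ Subgroup.zpowers c, y * d * y⁻¹ = d := by
    intro y hy d hd
    obtain ⟨n, rfl⟩ := Subgroup.mem_zpowers_iff.1 hd
    rw [← conj_zpow, hcN y hy]
  let M : Ω → Subgroup Ω := fun x =>
    { carrier := {y | y ∈ S ∧ x * y * x⁻¹ * y⁻¹ ∈ Subgroup.zpowers c}
      one_mem' := ⟨S.one_mem, by simp⟩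
      mul_mem' := fun {u v} hu hv => ⟨S.mul_mem hu.1 hv.1, by
        rw [show x * (u * v) * x⁻¹ * (u * v)⁻¹ =
          (x * u * x⁻¹ * u⁻¹) * (u * (x * v * x⁻¹ * v⁻¹) * u⁻¹) by group, hcC u hu.1 _ hv.2]
        exact Subgroup.mul_mem _ hu.2 hv.2⟩
      inv_mem' := fun {u} hu => ⟨S.inv_mem hu.1, by
        rw [show x * u⁻¹ * x⁻¹ * u⁻¹⁻¹ = u⁻¹ * (x * u * x⁻¹ * u⁻¹)⁻¹ * u⁻¹⁻¹ by group,
          hcC _ (S.inv_mem hu.1) _ (Subgroup.inv_mem _ hu.2)]
        exact Subgroup.inv_mem _ hu.2⟩ }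
  have hflip : ∀ x ∈ S, ∀ y, y ∈ M x → x ∈ M y := fun x hx y hy => ⟨hx, by
    have := Subgroup.inv_mem _ hy.2
    rwa [show (x * y * x⁻¹ * y⁻¹)⁻¹ = y * x * y⁻¹ * x⁻¹ by group] at this⟩
  have hZM : ∀ x ∈ S, Z ≤ M x := fun x hx z hz => ⟨hle hz, by
    rw [← (hmem z (hle hz)).1 hz x hx, mul_inv_cancel_right, mul_inv_cancel]
    exact Subgroup.one_mem _⟩
  -- `S` is generated by `Z`, `a`, `b`
  have hgen : ∀ U : Subgroup Ω, Z ≤ U → a ∈ U → b ∈ U → S ≤ U := by
    intro U hZU haU hbU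
    set V := U ⊓ S with hV
    have hfV : Finite V := finite_of_le inf_le_right
    have hfZ : Finite Z := finite_of_le hle
    set A₀ := Z ⊔ Subgroup.zpowers a with hA₀
    have hA₀V : A₀ ≤ V := sup_le (le_inf hZU hle) (Subgroup.zpowers_le.2 ⟨haU, ha⟩)
    have hfA : Finite A₀ := finite_of_le (hA₀V.trans inf_le_right)
    have h1 : Nat.card Z < Nat.card A₀ := card_lt_card (SetLike.lt_iff_le_and_exists.2
      ⟨le_sup_left, a, Subgroup.mem_sup_right (Subgroup.mem_zpowers a), haZ⟩)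
    have hbA : b ∉ A₀ := by
      intro hbA
      have hle' : A₀ ≤ Subgroup.centralizer ({a} : Set Ω) := sup_le
        (fun z hz => Subgroup.mem_centralizer_singleton_iff.2 ((hmem z (hle hz)).1 hz a ha))
        (Subgroup.zpowers_le.2 (Subgroup.mem_centralizer_singleton_iff.2 rfl))
      exact hab (Subgroup.mem_centralizer_singleton_iff.1 (hle' hbA)).symm
    have h2 : Nat.card A₀ < Nat.card V :=
      card_lt_card (SetLike.lt_iff_le_and_exists.2 ⟨hA₀V, b, Subgroup.mem_inf.2 ⟨hbU, hb⟩, hbA⟩)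
    obtain ⟨i, hi⟩ := (hS.to_le hle).exists_card_eq
    obtain ⟨j, hj⟩ := (hS.to_le (hA₀V.trans inf_le_right)).exists_card_eq
    obtain ⟨k, hk⟩ := (hS.to_le (inf_le_right : V ≤ S)).exists_card_eq
    rw [hi, hj] at h1
    rw [hj, hk] at h2
    have := (Nat.pow_lt_pow_iff_right hp.out.one_lt).1 h1
    have := (Nat.pow_lt_pow_iff_right hp.out.one_lt).1 h2
    have hVS : V = S := eq_of_le_card inf_le_right (by
      rw [hcard, hi, hk, ← pow_add]
      exact Nat.pow_le_pow_right hp.out.pos (by omega))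
    exact hVS.ge.trans inf_le_left
  have hMa : S ≤ M a := hgen _ (hZM a ha) ⟨ha, by simp⟩ ⟨hb, Subgroup.mem_zpowers c⟩
  have hMb : S ≤ M b := hgen _ (hZM b hb) (hflip a ha b (hMa hb)) ⟨hb, by simp⟩
  refine ⟨c, inferInstance, hS, hle, hmem, hcZ, hc1, hcp, fun x hx y hy => ?_, hcard⟩
  exact ((hgen (M x) (hZM x hx) (hflip a ha x (hMa hx)) (hflip b hb x (hMb hx))) hy).2

/-- The theorem. -/
theorem extraspecial (hS : IsPGroup p S) (F : FusionSystem S) (hF : F.IsSaturated p) (hS1 : S ≠ ⊥)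
    (hcore : F.core = ⊥) (hhyp : F.hyperfocalSubgroup p = S)
    (hZ : (Subgroup.center S).index ≤ p ^ 2) :
    IsExtraspecial p S ∧ Nat.card S = p ^ 3 ∧ (p ≠ 2 → Monoid.exponent S = p) ∧
      (p = 2 → Nonempty (S ≃* DihedralGroup 4)) := by
  have hcore' : ∀ U : Subgroup Ω, F.IsNormal U → U = ⊥ := fun U hU =>
    le_bot_iff.1 (hcore ▸ le_core hU)
  have hab : ∃ x ∈ S, ∃ y ∈ S, x * y ≠ y * x := by
    by_contra hcon
    push Not at hcon
    refine hS1 (hcore' S (Fusion.Solvable.normal_of_abelian hS hF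
      (Fusion.Solvable.stronglyClosed_self F) fun x hx y hy => ?_))
    rw [hcon x hx y hy]
    group
  obtain ⟨c, h⟩ := exists_setup hS hab hZ
  obtain ⟨hZc, hcard, hexp, hdih⟩ := conclusion hcore' h hF hhyp
  have hcz : Nat.card (Subgroup.center S) = p := by
    rw [← Subgroup.card_map_of_injective S.subtype_injective, hZc, Nat.card_zpowers, orderOf_c h]
  have hmemZ : ∀ x : S, (x : Ω) ∈ (Subgroup.center S).map S.subtype ↔ x ∈ Subgroup.center S :=
    fun x => Subgroup.mem_map_iff_mem S.subtype_injective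
  have hcom : commutator S = Subgroup.center S := by
    refine le_antisymm ?_ ?_
    · rw [commutator_def, Subgroup.commutator_le]
      intro x _ y _
      rw [← hmemZ]
      exact h.zpowers_le (h.comm x x.2 y y.2)
    · obtain ⟨a, ha, b, hb, hab⟩ := hab
      intro z hz
      set d : S := ⟨a, ha⟩ * ⟨b, hb⟩ * ⟨a, ha⟩⁻¹ * ⟨b, hb⟩⁻¹ with hd
      have hdC : (d : Ω) ∈ Subgroup.zpowers c := h.comm a ha b hb
      have hd1 : (d : Ω) ≠ 1 := fun he => hab (by
        rw [hd] at he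
        change a * b * a⁻¹ * b⁻¹ = 1 at he
        rw [mul_inv_eq_one, mul_inv_eq_iff_eq_mul] at he
        exact he)
      have hzc : (z : Ω) ∈ Subgroup.zpowers c := hZc ▸ (hmemZ z).2 hz
      obtain ⟨n, hn⟩ := Subgroup.mem_zpowers_iff.1
        (Subgroup.zpowers_le.2 (mem_zpowers_c h hdC hd1) hzc)
      rw [show z = d ^ n from Subtype.ext (by rw [Subgroup.coe_zpow, hn]), hd, commutator_def]
      exact Subgroup.zpow_mem _
        (Subgroup.commutator_mem_commutator (Subgroup.mem_top _) (Subgroup.mem_top _)) n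
  have hfrat : frattini S = Subgroup.center S := by
    have : Group.IsNilpotent S := hS.isNilpotent
    refine le_antisymm ?_ (hcom ▸ Coprime.commutator_le_frattini S)
    intro x hx
    obtain ⟨A, B, hA, hB, hne⟩ := exists_two hcore' h hF
    have key : ∀ C, Cand S ((Subgroup.center S).map S.subtype) C → (x : Ω) ∈ C := by
      intro C hC
      have hcard' : Nat.card (C.subgroupOf S) = p * p := by
        rw [Nat.card_congr (Subgroup.subgroupOfEquivOfLe hC.2.le).toEquiv, card_cand h hC, hZc,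
          Nat.card_zpowers, orderOf_c h]
      have hco : IsCoatom (C.subgroupOf S) := by
        refine ⟨fun he => ?_, fun V hV => ?_⟩
        · rw [he, Subgroup.card_top, hcard] at hcard'
          have := hp.out.two_le
          nlinarith [pow_pos hp.out.pos 2]
        · obtain ⟨k, hk⟩ := (hS.to_subgroup V).exists_card_eq
          have h1 := card_lt_card hV
          rw [hcard', hk, ← pow_two] at h1
          refine Subgroup.eq_top_of_le_card _ ?_
          rw [hcard, hk]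
          exact Nat.pow_le_pow_right hp.out.pos ((Nat.pow_lt_pow_iff_right hp.out.one_lt).1 h1)
      exact (frattini_le_coatom hco hx : x ∈ C.subgroupOf S)
    exact (hmemZ x).1 (inf_cand h hA.1 hB.1 hne (key A hA.1) (key B hB.1))
  refine ⟨⟨⟨hS, hfrat, hcom⟩, hcz⟩, hcard, fun hp2 => ?_, fun hp2 => ?_⟩
  · refine (hp.out.eq_one_or_self_of_dvd _ (Monoid.exponent_dvd_of_forall_pow_eq_one
      fun x : S => Subtype.ext (hexp hp2 x x.2))).resolve_left fun he => ?_
    have : Subsingleton S := Monoid.exp_eq_one_iff.1 he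
    exact hS1 (Subgroup.eq_bot_of_subsingleton S)
  · obtain ⟨a, ha, b, hb, h1, h2, h3⟩ := hdih hp2
    exact AutPOmega.Groups.dihedral_four (by rw [hcard, hp2]; norm_num) (a := (⟨a, ha⟩ : S))
      (b := (⟨b, hb⟩ : S)) (Subtype.ext h1) (Subtype.ext h2)
      fun he => h3 (congrArg Subtype.val he)

end Cfsg.Agent.CharP.CenterIndex
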