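import Cfsg.Agent.Lib.CharP.CenterIndexMain
import Cfsg.Agent.Lib.Fusion.SmallElements

/-!
A system without normal subgroups over a group with centre of index `p²`: the prime two and the
conclusion.
-/

set_option autoImplicit false
set_option linter.all false
set_option maxHeartbeats 1000000

namespace Cfsg.Agent.CharP.CenterIndex

open Cfsg Cfsg.FusionSystem Cfsg.Agent.Fusion.Basic Cfsg.Agent.Fusion.Saturation
  Cfsg.Agent.Fusion.Normal Cfsg.Agent.Fusion.Alperin Cfsg.Agent.Fusion.Focal

variable {Ω : Type*} [Group Ω] {S : Subgroup Ω} {p : ℕ} [hp : Fact p.Prime] {Z A B : Subgroup Ω}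
  {c : Ω} {F : FusionSystem S} (hcore : ∀ U : Subgroup Ω, F.IsNormal U → U = ⊥)

/-- Two candidates meet in `Z`. -/
theorem inf_cand (h : Setup S Z c p) (hA : Cand S Z A) (hB : Cand S Z B) (hne : A ≠ B) {x : Ω}
    (hxA : x ∈ A) (hxB : x ∈ B) : x ∈ Z := by
  by_contra hx
  refine hne (le_antisymm (fun a ha => ?_) fun b hb => ?_)
  · obtain ⟨i, hi⟩ := split h hA hxA hx ha
    have := B.mul_mem (hB.1.le hi) (B.zpow_mem hxB i)
    rwa [inv_mul_cancel_right] at this
  · obtain ⟨i, hi⟩ := split h hB hxB hx hb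
    have := A.mul_mem (hA.1.le hi) (A.zpow_mem hxA i)
    rwa [inv_mul_cancel_right] at this

/-- Two candidates generate `S`. -/
theorem mem_mul (h : Setup S Z c p) (hA : Cand S Z A) (hB : Cand S Z B) (hne : A ≠ B) {x : Ω}
    (hx : x ∈ S) : ∃ a ∈ A, ∃ b ∈ B, x = a * b := by
  have := h.finite
  have hn : B ≤ Subgroup.normalizer (A : Set Ω) := fun b hb =>
    h.normal hA.1.le hA.2.le b (hB.2.le hb)
  have hle : A ⊔ B ≤ S := sup_le hA.2.le hB.2.le
  have hS : A ⊔ B = S := by
    rcases eq_or_lt_of_le hle with he | hlt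
    · exact he
    · exfalso
      refine hne ?_
      have : Finite (A ⊔ B : Subgroup Ω) := finite_of_le hle
      have hc : Cand S Z (A ⊔ B) := ⟨hA.1.trans_le le_sup_left, hlt⟩
      have h1 : A = A ⊔ B :=
        eq_of_le_card le_sup_left (by rw [card_cand h hc, card_cand h hA])
      have h2 : B = A ⊔ B :=
        eq_of_le_card le_sup_right (by rw [card_cand h hc, card_cand h hB])
      exact h1.trans h2.symm
  have hmem : x ∈ ((A ⊔ B : Subgroup Ω) : Set Ω) := hS.ge hx
  rw [Subgroup.coe_mul_of_right_le_normalizer_left _ _ hn] at hmem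
  obtain ⟨a, ha, b, hb, hab⟩ := hmem
  exact ⟨a, ha, b, hb, hab.symm⟩

include hcore in
/-- For `p = 2` a group equal to its hyperfocal subgroup has order eight. -/
theorem card_le_eight (h : Setup S Z c p) (hF : F.IsSaturated p) (hp2 : p = 2)
    (hA : Bad F Z c A) (hB : Bad F Z c B) (hne : A ≠ B)
    (hhyp : F.hyperfocalSubgroup p = S) : Nat.card S ≤ 8 := by
  subst hp2
  have := h.finite
  obtain ⟨hAc, β₁, hβ₁, hu₁⟩ := id hA
  obtain ⟨hBc, β₂, hβ₂, hu₂⟩ := id hB
  have hcS := h.le h.c_mem
  -- only two bad candidates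
  have two : ∀ C, Bad F Z c C → C = A ∨ C = B := by
    intro C hC
    by_contra hcon
    simp only [not_or] at hcon
    obtain ⟨x, hxC, hxZ⟩ := SetLike.exists_of_lt hC.1.1
    obtain ⟨a, ha, b, hb, rfl⟩ := mem_mul h hAc hBc hne (hC.1.2.le hxC)
    have haZ : a ∉ Z := fun haZ => hxZ (inf_cand h hC.1 hBc hcon.2 hxC
      (B.mul_mem (hBc.1.le haZ) hb))
    have hbZ : b ∉ Z := fun hbZ => hxZ (inf_cand h hC.1 hAc hcon.1 hxC
      (A.mul_mem ha (hAc.1.le hbZ)))
    have h1 := bad_exponent hcore h hF hC hxC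
    have h2 := bad_exponent hcore h hF hA ha
    have h3 := bad_exponent hcore h hF hB hb
    rw [pow_two] at h1 h2 h3
    have hcomm : b * a = a * b := by
      calc b * a = a⁻¹ * (a * b * (a * b)) * b⁻¹ := by group
        _ = a⁻¹ * b⁻¹ := by rw [h1, mul_one]
        _ = _ := by rw [inv_eq_of_mul_eq_one_right h2, inv_eq_of_mul_eq_one_right h3]
    have hbA : b ∉ A := fun hbA => hbZ (inf_cand h hAc hBc hne hbA hb)
    exact haZ (centralize h hAc (hBc.2.le hb) hbA ha hcomm)
  -- every automorphism of `S` is inner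
  have hinn : ∀ α ∈ F.autGroup S, ∀ x ∈ S, x⁻¹ * autFun α x ∈ Subgroup.zpowers c := by
    have hodd : ∀ α ∈ F.autGroup S, (orderOf α).Coprime 2 → α = 1 := by
      intro α hα hord
      -- the candidates are fixed
      have himgimg : ∀ C ≤ S, ∀ β γ : MulAut S, γ ∈ F.autGroup S →
          img (autFun β) (img (autFun γ) C) = img (autFun (β * γ)) C := by
        intro C hC β γ hγ
        rw [((isMap_of_mem_autGroup le_rfl hγ).restrict hC).img_img,
          img_congr fun y _ => (autFun_mul β γ y).symm]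
      have hsq : ∀ C, Bad F Z c C → ∀ x ∈ C, autFun (α * α) x ∈ C := by
        intro C hC x hx
        set D := img (autFun α) C with hD
        have hDb : Bad F Z c D := bad_img h hF hC hα
        have hEb := bad_img h hF hDb hα
        suffices he : img (autFun α) D = C by
          rw [autFun_mul]
          exact he.le (mem_img_self _ (mem_img_self _ hx))
        by_cases hDC : D = C
        · rw [hDC, ← hD, hDC]
        · have hback : img (autFun α) D ≠ D := by
            intro he
            refine hDC ?_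
            have h3 := congrArg (img (autFun α⁻¹)) he
            rw [himgimg D hDb.1.2.le _ _ hα, inv_mul_cancel, autFun_one, img_id] at h3
            rw [h3, hD, himgimg C hC.1.2.le _ _ hα, inv_mul_cancel, autFun_one, img_id]
          rcases two C hC with hC' | hC' <;> rcases two D hDb with hD' | hD' <;>
            rcases two _ hEb with hE' | hE'
          all_goals
            first
            | exact hE'.trans hC'.symm
            | exact absurd (hD'.trans hC'.symm) hDC
            | exact absurd (hE'.trans hD'.symm) hback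
      have hfix : ∀ C, Bad F Z c C → ∀ x ∈ C, autFun α x ∈ C := by
        intro C hC
        have hiter : ∀ k : ℕ, ∀ x ∈ C, autFun ((α * α) ^ k) x ∈ C := by
          intro k
          induction k with
          | zero => intro x hx; rwa [pow_zero, autFun_one]
          | succ k ih =>
            intro x hx
            rw [pow_succ', autFun_mul]
            exact hsq C hC _ (ih x hx)
        obtain ⟨k, hk⟩ := exists_pow_eq_self_of_coprime (x := α) (n := 2) hord.symm
        rw [pow_two] at hk
        intro x hx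
        rw [← hk]
        exact hiter k x hx
      -- `α` fixes the centre
      have hc1 : autFun α c = c := by
        obtain ⟨n, hn⟩ := Subgroup.mem_zpowers_iff.1 (top_c h α)
        rcases Int.even_or_odd n with ⟨m, rfl⟩ | ⟨m, rfl⟩
        · exfalso
          rw [zpow_add, ← (Commute.refl c).mul_zpow, ← pow_two, h.c_pow, one_zpow] at hn
          exact h.c_ne (by rw [← autFun_inv_apply α c, ← hn]; exact (autFun_isHom α⁻¹).map_one)
        · rw [← hn, zpow_add, zpow_mul, zpow_ofNat, h.c_pow, one_zpow, one_mul, zpow_one]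
      have hinK : ∀ C, Bad F Z c C → ∀ x, InK F Z C x → InK F Z C (autFun α x) := by
        intro C hC x hx
        refine ⟨top_Z h hx.1, fun β' hβ' => ?_⟩
        have : Finite C := finite_of_le hC.1.2.le
        have hCeq : img (autFun α) C = C :=
          eq_of_le_card (img_le (hfix C hC))
            ((isMap_of_mem_autGroup le_rfl hα).restrict hC.1.2.le).card_img.ge
        obtain ⟨β, hβ, hβe⟩ : ∃ β ∈ F.autGroup C,
            ∀ y ∈ C, autFun α (autFun β y) = autFun β' (autFun α y) := by
          have hm := (isMap_of_mem_autGroup le_rfl hα).restrict hC.1.2.le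
          have hm' := isMap_of_mem_autGroup hC.1.2.le hβ'
          have hcomp : IsMap F C fun y => autFun α⁻¹ (autFun β' (autFun α y)) :=
            (isMap_of_mem_autGroup le_rfl (inv_mem hα)).comp (hm'.comp hm (hfix C hC))
              fun y hy => hC.1.2.le (autFun_mem β' (hfix C hC y hy))
          have : Finite C := finite_of_le hC.1.2.le
          have himg : img (fun y => autFun α⁻¹ (autFun β' (autFun α y))) C = C := by
            refine eq_of_le_card (img_le fun y hy => ?_) hcomp.card_img.ge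
            obtain ⟨w, hw, hwe⟩ := hm.mem_img.1 (hCeq.ge (autFun_mem β' (hfix C hC y hy)))
            rw [← hwe, autFun_inv_apply]
            exact hw
          obtain ⟨β, hβ, hβe⟩ := hcomp.exists_aut himg
          exact ⟨β, hβ, fun y hy => by rw [hβe y hy, autFun_apply_inv]⟩
        rw [← hβe x (hC.1.1.le hx.1)]
        exact top_Z h (hx.2 β hβ)
      have hZfix : ∀ z ∈ Z, autFun α z = z := by
        intro z hz
        have hmem : ∀ C, Bad F Z c C → InK F Z C (z⁻¹ * autFun α z) := by
          intro C hC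
          obtain ⟨i, hi⟩ := split_center h hF hC hz
          have h1 := hinK C hC _ hi
          rw [autFun_map_mul α (h.le hz) (S.inv_mem (S.zpow_mem hcS i)), ← zpow_neg,
            map_zpow' α hcS, hc1, zpow_neg] at h1
          have hd : z⁻¹ * autFun α z = (z * (c ^ i)⁻¹)⁻¹ * (autFun α z * (c ^ i)⁻¹) := by
            rw [show (z * (c ^ i)⁻¹)⁻¹ * (autFun α z * (c ^ i)⁻¹) =
              c ^ i * (z⁻¹ * autFun α z) * (c ^ i)⁻¹ by group,
              h.central (Z.zpow_mem h.c_mem i) (S.mul_mem (S.inv_mem (h.le hz)) (h.le (top_Z h hz))),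
              mul_inv_cancel_right]
          refine ⟨Z.mul_mem (Z.inv_mem hz) (top_Z h hz), fun β hβ => ?_⟩
          have hA' := hC.1.1.le
          rw [hd, autFun_map_mul β (C.inv_mem (hA' hi.1)) (hA' h1.1),
            (autFun_isHom β).map_inv (hA' hi.1)]
          exact Z.mul_mem (Z.inv_mem (hi.2 β hβ)) (h1.2 β hβ)
        rw [eq_comm, ← inv_mul_eq_one]
        refine eq_one_of_all_inK hcore h hF (Z.mul_mem (Z.inv_mem hz) (top_Z h hz)) fun C hC => ?_
        by_cases hbad : ∃ β ∈ F.autGroup C, autFun β c ∉ Z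
        · exact hmem C ⟨hC, hbad⟩
        · push Not at hbad
          exact ⟨Z.mul_mem (Z.inv_mem hz) (top_Z h hz), fun β hβ =>
            (key h hF hC hβ (hbad β hβ)).1 _ (Z.mul_mem (Z.inv_mem hz) (top_Z h hz))⟩
      -- it fixes the quotient by the centre
      have hmodZ : ∀ x ∈ S, x⁻¹ * autFun α x ∈ Z := by
        have hin : ∀ C, Bad F Z c C → ∀ x ∈ C, x⁻¹ * autFun α x ∈ Z := by
          intro C hC x hx
          by_cases hxZ : x ∈ Z
          · exact Z.mul_mem (Z.inv_mem hxZ) (top_Z h hxZ)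
          obtain ⟨i, hi⟩ := split h hC.1 hx hxZ (hfix C hC x hx)
          rcases Int.even_or_odd i with ⟨m, rfl⟩ | ⟨m, rfl⟩
          · exfalso
            refine hxZ ?_
            have h2 := bad_exponent hcore h hF hC hx
            rw [zpow_add, ← (Commute.refl x).mul_zpow, ← pow_two, h2, one_zpow, inv_one,
              mul_one] at hi
            rw [← autFun_inv_apply α x]
            exact top_Z h hi
          · have h2 := bad_exponent hcore h hF hC hx
            rw [zpow_add, zpow_mul, zpow_ofNat, h2, one_zpow, one_mul, zpow_one] at hi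
            rwa [comm_cand h hC.1 (C.inv_mem hx) (hfix C hC x hx)]
        intro x hx
        obtain ⟨a, ha, b, hb, rfl⟩ := mem_mul h hAc hBc hne hx
        rw [autFun_map_mul α (hAc.2.le ha) (hBc.2.le hb),
          show (a * b)⁻¹ * (autFun α a * autFun α b) = b⁻¹ * (a⁻¹ * autFun α a) * autFun α b by group,
          ← h.central (hin A hA a ha) (S.inv_mem (hBc.2.le hb)), mul_assoc]
        exact Z.mul_mem (hin A hA a ha) (hin B hB b hb)
      refine Fusion.SmallElements.aut_eq_one_of_diff_fixed (p := 2) h.isPGroup α hord fun x => ?_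
      apply Subtype.ext
      have e : ((x⁻¹ * α x : S) : Ω) = (x : Ω)⁻¹ * autFun α (x : Ω) := by
        rw [Subgroup.coe_mul, Subgroup.coe_inv, autFun_apply]
      rw [← autFun_apply α (x⁻¹ * α x), e]
      exact hZfix _ (hmodZ x x.2)
    intro α hα x hx
    have hfn : F.IsFullyNormalized S :=
      ⟨le_rfl, fun Q hQ => le_of_eq (by rw [eq_top_of_card le_rfl hQ rfl])⟩
    obtain ⟨-, R, hR⟩ := fullyNormalized_fullyAutomized h.isPGroup hF hfn
    have hAp : IsPGroup 2 (F.autGroup S) := by
      intro β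
      obtain ⟨k, m, hm, hord⟩ := Nat.exists_eq_two_pow_mul_odd (orderOf_pos β).ne'
      refine ⟨k, ?_⟩
      have h1 : ((β ^ 2 ^ k : F.autGroup S) : MulAut S) = 1 := by
        refine hodd _ (β ^ 2 ^ k).2 ?_
        rw [← Subgroup.orderOf_coe] at hord
        rw [SubmonoidClass.coe_pow, orderOf_pow' _ (pow_ne_zero _ two_ne_zero), hord, Nat.gcd_eq_right (dvd_mul_right _ _),
          Nat.mul_div_cancel_left _ (pow_pos two_pos _)]
        exact (Nat.coprime_two_right).2 hm
      exact Subtype.ext h1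
    have htop : (⊤ : Subgroup (F.autGroup S)) = R := R.3 (hAp.to_subgroup ⊤) le_top
    have h1 : (⟨α, hα⟩ : F.autGroup S) ∈ (R : Subgroup (F.autGroup S)) := htop ▸ Subgroup.mem_top _
    rw [hR, Subgroup.mem_subgroupOf] at h1
    obtain ⟨g, hg, hge⟩ := mem_autInducedBy_iff'.1 h1
    rw [hge x hx, cj_apply, show x⁻¹ * (g * x * g⁻¹) = x⁻¹ * g * x⁻¹⁻¹ * g⁻¹ by group]
    exact h.comm _ (S.inv_mem hx) _ hg.1
  -- the focal subgroup is small
  set u₁ := autFun β₁ c with hu₁def
  set u₂ := autFun β₂ c with hu₂def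
  have hu₁A : u₁ ∈ A := autFun_mem β₁ (h.c_inA hAc)
  have hu₂B : u₂ ∈ B := autFun_mem β₂ (h.c_inA hBc)
  set M := Subgroup.zpowers c ⊔ Subgroup.zpowers u₁ with hM
  set N := M ⊔ Subgroup.zpowers u₂ with hN
  have hcM : Subgroup.zpowers c ≤ M := le_sup_left
  have hMN : M ≤ N := le_sup_left
  have hMS : M ≤ S := sup_le (Subgroup.zpowers_le.2 hcS) (Subgroup.zpowers_le.2 (hAc.2.le hu₁A))
  have hNS : N ≤ S := sup_le hMS (Subgroup.zpowers_le.2 (hBc.2.le hu₂B))
  have hcom : ∀ a ∈ S, ∀ x ∈ S, x⁻¹ * (a * x * a⁻¹) ∈ N := fun a ha x hx => by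
    rw [show x⁻¹ * (a * x * a⁻¹) = x⁻¹ * a * x⁻¹⁻¹ * a⁻¹ by group]
    exact hMN (hcM (h.comm _ (S.inv_mem hx) _ ha))
  have hle : F ≤ cosetSystem F N hcom := by
    refine alperin h.isPGroup hF fun P hP α hα => ?_
    have hPS : P ≤ S := by
      rcases hP with rfl | hP
      · exact le_rfl
      · exact (essential_centric hP).1
    have hm := isMap_of_mem_autGroup hPS hα
    refine (mem_autGroup_iff hPS).2 ⟨hm.hom, ⟨hm.hom_mem_self, fun x => ?_⟩, fun _ => rfl⟩
    rw [IsMap.hom_apply]
    rcases hP with rfl | hP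
    · exact hMN (hcM (hinn α hα x x.2))
    · have hc := essential_centric hP
      have hlt : P < S := essential_lt h.isPGroup hF hP
      have hZP : Z < P := by
        refine lt_of_le_of_ne (fun z hz => hc.2 P (isConj_refl hPS)
          ⟨h.le hz, fun y hy => (h.central hz (hPS hy)).symm⟩) fun he => ?_
        subst he
        exact hlt.not_ge fun s hs => hc.2 Z (isConj_refl h.le) ⟨hs, fun z hz => h.central hz hs⟩
      have hcand : Cand S Z P := ⟨hZP, hlt⟩
      obtain ⟨δ, hδ, hδc, -, hδmove⟩ := decomp h hF hcand hα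
      obtain ⟨γ, hγ, hγe⟩ := extend h hF hcand (mul_mem hδ hα) hδc
      have hspan : Subgroup.zpowers c ⊔ Subgroup.zpowers (autFun α c) ≤ N := by
        refine sup_le (hcM.trans hMN) (Subgroup.zpowers_le.2 ?_)
        by_cases hb : autFun α c ∈ Z
        · exact hMN (hcM (key h hF hcand hα hb).2.2.1)
        · rcases two P ⟨hcand, α, hα, hb⟩ with rfl | rfl
          · exact hMN ((span h hF hcand hβ₁ hu₁ hα).2)
          · exact (sup_le (hcM.trans hMN) le_sup_right) ((span h hF hcand hβ₂ hu₂ hα).2)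
      have h1 := hMN (hcM (hinn γ hγ x (hPS x.2)))
      rw [hγe x x.2, autFun_mul] at h1
      have h2 := hspan (hδmove _ (autFun_mem α x.2))
      have h3 := N.mul_mem h1 (N.inv_mem h2)
      rwa [mul_inv_rev, inv_inv, mul_assoc, mul_inv_cancel_left] at h3
  have hS : S ≤ N := by
    refine hhyp.ge.trans (hyp_le_focal.trans ?_)
    rw [FusionSystem.focalSubgroup, Subgroup.closure_le]
    rintro _ ⟨P, φ, x, hφ, rfl⟩
    exact (hle P hφ).2 x
  -- counting
  have hsmall : ∀ x : Ω, x ^ 2 = 1 → Nat.card (Subgroup.zpowers x) ≤ 2 := fun x hx => by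
    rw [Nat.card_zpowers]
    exact Nat.le_of_dvd two_pos (orderOf_dvd_of_pow_eq_one hx)
  have hnC : Subgroup.zpowers u₁ ≤ Subgroup.normalizer (Subgroup.zpowers c : Set Ω) :=
    Subgroup.zpowers_le.2 (Subgroup.centralizer_le_normalizer _ fun y hy =>
      (h.central (h.zpowers_le hy) (hAc.2.le hu₁A)))
  have hnM : Subgroup.zpowers u₂ ≤ Subgroup.normalizer (M : Set Ω) := by
    refine Subgroup.zpowers_le.2 ?_
    have : Finite M := finite_of_le hMS
    refine mem_normalizer_of_forall fun x hx => ?_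
    rw [show u₂ * x * u₂⁻¹ = (u₂ * x * u₂⁻¹ * x⁻¹) * x by group]
    exact M.mul_mem (hcM (h.comm _ (hBc.2.le hu₂B) x (hMS hx))) hx
  have hfc : Finite (Subgroup.zpowers c) := finite_of_le (Subgroup.zpowers_le.2 hcS)
  have hf₁ : Finite (Subgroup.zpowers u₁) := finite_of_le (Subgroup.zpowers_le.2 (hAc.2.le hu₁A))
  have hf₂ : Finite (Subgroup.zpowers u₂) := finite_of_le (Subgroup.zpowers_le.2 (hBc.2.le hu₂B))
  have hprod : ∀ U V : Subgroup Ω, Finite U → Finite V →
      V ≤ Subgroup.normalizer (U : Set Ω) →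
      Nat.card (U ⊔ V : Subgroup Ω) ≤ Nat.card U * Nat.card V := by
    intro U V hU hV hn
    rw [← Nat.card_prod]
    refine Nat.card_le_card_of_surjective
      (fun w : U × V => (⟨(w.1 : Ω) * w.2, Subgroup.mul_mem_sup w.1.2 w.2.2⟩ : (U ⊔ V : Subgroup Ω)))
      fun y => ?_
    have hy : (y : Ω) ∈ ((U ⊔ V : Subgroup Ω) : Set Ω) := y.2
    rw [Subgroup.coe_mul_of_right_le_normalizer_left _ _ hn] at hy
    obtain ⟨u, hu, v, hv, huv⟩ := hy
    exact ⟨(⟨u, hu⟩, ⟨v, hv⟩), Subtype.ext huv⟩
  have : Finite N := finite_of_le hNS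
  have hfM : Finite M := finite_of_le hMS
  calc Nat.card S ≤ Nat.card N := card_le_card hS
    _ ≤ Nat.card M * Nat.card (Subgroup.zpowers u₂) := hprod M _ hfM hf₂ hnM
    _ ≤ (Nat.card (Subgroup.zpowers c) * Nat.card (Subgroup.zpowers u₁)) *
        Nat.card (Subgroup.zpowers u₂) :=
      Nat.mul_le_mul_right _ (hprod _ _ hfc hf₁ hnC)
    _ ≤ 2 * 2 * 2 := Nat.mul_le_mul (Nat.mul_le_mul (hsmall c h.c_pow)
        (hsmall u₁ (autFun_pow_p β₁ (h.c_inA hAc) h.c_pow)))
        (hsmall u₂ (autFun_pow_p β₂ (h.c_inA hBc) h.c_pow))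

include hcore in
/-- The conclusion. -/
theorem conclusion (h : Setup S Z c p) (hF : F.IsSaturated p) (hhyp : F.hyperfocalSubgroup p = S) :
    Z = Subgroup.zpowers c ∧ Nat.card S = p ^ 3 ∧
      (p ≠ 2 → ∀ x ∈ S, x ^ p = 1) ∧
      (p = 2 → ∃ a ∈ S, ∃ b ∈ S, a * a = 1 ∧ b * b = 1 ∧ a * b ≠ b * a) := by
  have := h.finite
  obtain ⟨A, B, hA, hB, hne⟩ := exists_two hcore h hF
  have : Finite Z := finite_of_le h.le
  have hcz : Nat.card (Subgroup.zpowers c) = p := by rw [Nat.card_zpowers, orderOf_c h]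
  have hZ : Z = Subgroup.zpowers c := by
    by_cases hp2 : p = 2
    · have h8 := card_le_eight hcore h hF hp2 hA hB hne hhyp
      rw [h.card] at h8
      subst hp2
      refine (eq_of_le_card h.zpowers_le ?_).symm
      rw [hcz]
      omega
    · exact center_eq_odd hcore h hF hp2 hA
  refine ⟨hZ, by rw [h.card, hZ, hcz]; ring, fun hp2 x hx => ?_, fun hp2 => ?_⟩
  · obtain ⟨a, ha, b, hb, rfl⟩ := mem_mul h hA.1 hB.1 hne hx
    have hpa := bad_exponent hcore h hF hA ha
    have hpb := bad_exponent hcore h hF hB hb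
    have haS := hA.1.2.le ha
    have hbS := hB.1.2.le hb
    set e := b * a * b⁻¹ * a⁻¹ with he
    have heC := h.comm b hbS a haS
    have heZ : ∀ y ∈ S, ∀ k : ℕ, e ^ k * y = y * e ^ k := fun y hy k =>
      h.central (Z.pow_mem (h.zpowers_le heC) k) hy
    have hba : ∀ n : ℕ, b ^ n * a = a * b ^ n * e ^ n := by
      intro n
      induction n with
      | zero => simp
      | succ n ih =>
        have hba' : b * a = a * b * e := by
          have h1 := heZ (a * b) (S.mul_mem haS hbS) 1
          rw [pow_one] at h1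
          rw [← h1, he]; group
        calc b ^ (n + 1) * a = b * (b ^ n * a) := by rw [pow_succ', mul_assoc]
          _ = (b * a) * (b ^ n * e ^ n) := by rw [ih]; group
          _ = a * b * (e * b ^ n) * e ^ n := by rw [hba']; group
          _ = a * b * (b ^ n * e) * e ^ n := by
              rw [show e * b ^ n = b ^ n * e by simpa using heZ (b ^ n) (S.pow_mem hbS n) 1]
          _ = _ := by rw [pow_succ' b, pow_succ' e]; group
    have hprod : ∀ n : ℕ, (a * b) ^ n = a ^ n * b ^ n * e ^ (n.choose 2) := by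
      intro n
      induction n with
      | zero => simp
      | succ n ih =>
        calc (a * b) ^ (n + 1) = a ^ n * b ^ n * (e ^ (n.choose 2) * (a * b)) := by
              rw [pow_succ, ih]; group
          _ = a ^ n * (b ^ n * a) * b * e ^ (n.choose 2) := by
              rw [heZ _ (S.mul_mem haS hbS)]; group
          _ = a ^ n * (a * b ^ n * e ^ n) * b * e ^ (n.choose 2) := by rw [hba]
          _ = a ^ n * a * b ^ n * (e ^ n * b) * e ^ (n.choose 2) := by group
          _ = a ^ n * a * b ^ n * (b * e ^ n) * e ^ (n.choose 2) := by rw [heZ b hbS]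
          _ = _ := by
              rw [pow_succ, pow_succ, Nat.choose_succ_succ', Nat.choose_one_right, pow_add]; group
    have hep : e ^ p = 1 := by
      obtain ⟨i, hi⟩ := Subgroup.mem_zpowers_iff.1 heC
      rw [he, ← hi, ← zpow_natCast, ← zpow_mul, mul_comm, zpow_mul, zpow_natCast, h.c_pow, one_zpow]
    have hdvd : p ∣ p.choose 2 :=
      hp.out.dvd_choose_self two_ne_zero (lt_of_le_of_ne hp.out.two_le (Ne.symm hp2))
    obtain ⟨k, hk⟩ := hdvd
    rw [hprod, hpa, hpb, hk, pow_mul, hep, one_pow, one_mul, one_mul]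
  · obtain ⟨a, ha, haZ⟩ := SetLike.exists_of_lt hA.1.1
    obtain ⟨b, hb, hbZ⟩ := SetLike.exists_of_lt hB.1.1
    subst hp2
    refine ⟨a, hA.1.2.le ha, b, hB.1.2.le hb, ?_, ?_, fun hab => ?_⟩
    · rw [← pow_two]; exact bad_exponent hcore h hF hA ha
    · rw [← pow_two]; exact bad_exponent hcore h hF hB hb
    · exact haZ (centralize h hA.1 (hB.1.2.le hb)
        (fun hbA => hbZ (inf_cand h hA.1 hB.1 hne hbA hb)) ha hab.symm)

end Cfsg.Agent.CharP.CenterIndex
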