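import Cfsg.Agent.Lib.CharP.CenterIndex
import Cfsg.Agent.Lib.AutPOmega.Groups
import Cfsg.Prelude.Def_Transfer

/-!
A system without normal subgroups over a group with centre of index `p²`, equal to its hyperfocal
subgroup, lives on an extraspecial group of order `p³`.
-/

set_option autoImplicit false
set_option linter.all false
set_option maxHeartbeats 1000000

namespace Cfsg.Agent.CharP.CenterIndex

open Cfsg Cfsg.FusionSystem Cfsg.Agent.Fusion.Basic Cfsg.Agent.Fusion.Saturation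
  Cfsg.Agent.Fusion.Normal Cfsg.Agent.Fusion.Alperin

variable {Ω : Type*} [Group Ω] {S : Subgroup Ω} {p : ℕ} [hp : Fact p.Prime] {Z A : Subgroup Ω}
  {c : Ω} {F : FusionSystem S}

/-- A nontrivial element of a group of order `p` generates it. -/
theorem prime_zpowers {x y : Ω} (hx : x ^ p = 1) (hy : y ∈ Subgroup.zpowers x) (hy1 : y ≠ 1) :
    x ∈ Subgroup.zpowers y := by
  have hx1 : x ≠ 1 := by
    rintro rfl
    rw [Subgroup.zpowers_one_eq_bot, Subgroup.mem_bot] at hy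
    exact hy1 hy
  obtain ⟨n, rfl⟩ := Subgroup.mem_zpowers_iff.1 hy
  have hn : ¬ (p : ℤ) ∣ n := fun hdvd =>
    hy1 (orderOf_dvd_iff_zpow_eq_one.1 (by rwa [orderOf_eq_prime hx hx1]))
  obtain ⟨a, b, hab⟩ := ((Prime.coprime_iff_not_dvd (Nat.prime_iff_prime_int.1 hp.out)).2 hn)
  refine Subgroup.mem_zpowers_iff.2 ⟨b, ?_⟩
  have hxp : x ^ (p : ℤ) = 1 := by rw [zpow_natCast, hx]
  calc (x ^ n) ^ b = x ^ (b * n) := by rw [← zpow_mul, mul_comm]
    _ = x ^ (a * (p : ℤ) + b * n) := by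
        rw [zpow_add, mul_comm a, zpow_mul x (p : ℤ) a, hxp, one_zpow, one_mul]
    _ = x := by rw [hab, zpow_one]

theorem map_zpow' {P : Subgroup Ω} (β : MulAut P) {x : Ω} (hx : x ∈ P) (n : ℤ) :
    autFun β (x ^ n) = autFun β x ^ n := by
  show autFun β (((⟨x, hx⟩ : P) ^ n : P) : Ω) = autFun β ((⟨x, hx⟩ : P) : Ω) ^ n
  rw [autFun_apply, autFun_apply, map_zpow, Subgroup.coe_zpow]

theorem autFun_map_mul {P : Subgroup Ω} (β : MulAut P) {x y : Ω} (hx : x ∈ P) (hy : y ∈ P) :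
    autFun β (x * y) = autFun β x * autFun β y :=
  autFun_isHom β x hx y hy

theorem autFun_pow_p (β : MulAut A) (hcA : c ∈ A) (hc : c ^ p = 1) : autFun β c ^ p = 1 := by
  rw [← zpow_natCast, ← map_zpow' β hcA, zpow_natCast, hc]
  exact (autFun_isHom β).map_one

/-- A candidate that some automorphism of it does not respect. -/
def Bad (F : FusionSystem S) (Z : Subgroup Ω) (c : Ω) (A : Subgroup Ω) : Prop :=
  Cand S Z A ∧ ∃ β ∈ F.autGroup A, autFun β c ∉ Z

theorem Setup.c_inA (h : Setup S Z c p) (hA : Cand S Z A) : c ∈ A := hA.1.le h.c_mem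

theorem Setup.zpowers_le (h : Setup S Z c p) : Subgroup.zpowers c ≤ Z :=
  Subgroup.zpowers_le.2 h.c_mem

/-- Automorphisms respecting `Z` extend to `S`. -/
theorem extend (h : Setup S Z c p) (hF : F.IsSaturated p) (hA : Cand S Z A) {β : MulAut A}
    (hβ : β ∈ F.autGroup A) (hc : autFun β c ∈ Z) :
    ∃ γ ∈ F.autGroup S, ∀ x ∈ A, autFun γ x = autFun β x := by
  have := h.finite
  have hAS := hA.2.le
  obtain ⟨-, -, -, hn⟩ := key h hF hA hβ hc
  have hm := isMap_of_mem_autGroup hAS hβ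
  have : Finite (normalizerIn S A) := finite_of_le normalizerIn_le
  have hfn : F.IsFullyNormalized A := ⟨hAS, fun R _ => card_le_card
    (normalizerIn_le.trans fun x hx => ⟨hx, h.normal hA.1.le hAS x hx⟩)⟩
  obtain ⟨g, hg, hge⟩ := exists_extension h.isPGroup hF hm
    (by rw [autFun_img]; exact fullyNormalized_fullyCentralized h.isPGroup hF hfn)
  have hle : S ≤ nSub S A (autFun β) := by
    intro s hs
    have hsn := h.normal hA.1.le hAS s hs
    obtain ⟨σ, hσ, hσe⟩ := exists_conjAuto h hA hs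
    obtain ⟨t, ht, hte⟩ := mem_autInducedBy_iff'.1 (hn σ hσ)
    refine mem_nSub.2 ⟨hs, hsn, t, ht.1, fun x hx => ?_⟩
    have h3 := hte _ (autFun_mem β hx)
    rw [autFun_mul, autFun_mul, autFun_inv_apply, hσe x hx] at h3
    exact h3
  have hgS := hg.restrict hle
  have himg : img g S = S := eq_of_le_card hgS.img_le_S hgS.card_img.ge
  obtain ⟨γ, hγ, hγe⟩ := hgS.exists_aut himg
  exact ⟨γ, hγ, fun x hx => by rw [hγe x (hAS hx), hge x hx]⟩

/-- A conjugate of an induced automorphism moving `a` by `η(d)`. -/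
theorem move (h : Setup S Z c p) (hA : Cand S Z A) {η : MulAut A} (hη : η ∈ F.autGroup A) {a : Ω}
    (ha : a ∈ A) (hna : autFun η⁻¹ a ∉ Z) {d : Ω} (hd : d ∈ Subgroup.zpowers c) :
    ∃ δ ∈ F.autGroup A, autFun δ a = a * autFun η d ∧
      (∀ x ∈ A, autFun η⁻¹ x ∈ Z → autFun δ x = x) ∧
      ∀ x ∈ A, x⁻¹ * autFun δ x ∈ Subgroup.zpowers (autFun η c) := by
  have hcA := h.c_inA hA
  obtain ⟨s, hs, hse⟩ := exists_move h (hA.2.le (autFun_mem η⁻¹ ha)) hna hd
  obtain ⟨σ, hσ, hσe⟩ := exists_conjAuto h hA hs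
  refine ⟨η * σ * η⁻¹, mul_mem (mul_mem hη (autInducedBy_le hA.2.le hσ)) (inv_mem hη), ?_, ?_, ?_⟩
  · rw [autFun_mul, autFun_mul, hσe _ (autFun_mem η⁻¹ ha), hse,
      autFun_map_mul η (autFun_mem η⁻¹ ha) (hA.1.le (h.zpowers_le hd)), autFun_apply_inv]
  · intro x hx hxZ
    rw [autFun_mul, autFun_mul, hσe _ (autFun_mem η⁻¹ hx), ← h.central hxZ hs,
      mul_inv_cancel_right, autFun_apply_inv]
  · intro x hx
    set y := autFun η⁻¹ x with hy
    have hyA : y ∈ A := autFun_mem η⁻¹ hx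
    have he := h.comm s hs y (hA.2.le hyA)
    rw [autFun_mul, autFun_mul, hσe _ hyA,
      show s * y * s⁻¹ = (s * y * s⁻¹ * y⁻¹) * y by group,
      autFun_map_mul η (hA.1.le (h.zpowers_le he)) hyA, hy, autFun_apply_inv]
    obtain ⟨n, hn⟩ := Subgroup.mem_zpowers_iff.1 he
    rw [← hn, map_zpow' η hcA, comm_cand h hA (A.zpow_mem (autFun_mem η hcA) n) hx,
      inv_mul_cancel_left]
    exact Subgroup.zpow_mem _ (Subgroup.mem_zpowers _) n

/-- A witness controls all automorphisms. -/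
theorem span (h : Setup S Z c p) (hF : F.IsSaturated p) (hA : Cand S Z A) {β₀ : MulAut A}
    (hβ₀ : β₀ ∈ F.autGroup A) (hu : autFun β₀ c ∉ Z) {β : MulAut A} (hβ : β ∈ F.autGroup A) :
    (∀ x ∈ Z, autFun β₀⁻¹ x ∈ Z → autFun β⁻¹ x ∈ Z) ∧
      autFun β c ∈ Subgroup.zpowers c ⊔ Subgroup.zpowers (autFun β₀ c) := by
  have hcA := h.c_inA hA
  set u := autFun β₀ c with hudef
  have hu1 : u ≠ 1 := fun h1 => hu (h1 ▸ Z.one_mem)
  have hup : u ^ p = 1 := autFun_pow_p β₀ hcA h.c_pow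
  have hβp : autFun β c ^ p = 1 := autFun_pow_p β hcA h.c_pow
  by_cases hx : autFun β⁻¹ u ∈ Z
  · obtain ⟨h1, -, h3⟩ := key_pair h hF hA hβ₀ hβ hx
    refine ⟨fun x hxZ hx0 => ?_, Subgroup.mem_sup_right ?_⟩
    · have := h1 _ hx0
      rwa [autFun_apply_inv] at this
    · exact prime_zpowers hβp h3 hu1
  obtain ⟨i, hi⟩ := split h hA (autFun_mem β⁻¹ (autFun_mem β₀ hcA)) hx (autFun_mem β⁻¹ hcA)
  have hna : autFun β₀⁻¹ c ∉ Z := fun h1 => hu (by
    obtain ⟨-, h2, -, -⟩ := key h hF hA (inv_mem hβ₀) h1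
    have := h2 c h.c_mem
    rwa [inv_inv] at this)
  obtain ⟨δ, hδ, hδc, hδfix, -⟩ := move h hA hβ₀ hcA hna
    (Subgroup.zpow_mem _ (Subgroup.mem_zpowers c) (-i))
  rw [map_zpow' β₀ hcA, ← hudef] at hδc
  have h4 : autFun β⁻¹ (autFun δ c) ∈ Z := by
    rw [hδc, autFun_map_mul β⁻¹ hcA (A.zpow_mem (autFun_mem β₀ hcA) _),
      map_zpow' β⁻¹ (autFun_mem β₀ hcA), zpow_neg]
    exact hi
  obtain ⟨h1, -, h3⟩ := key_pair h hF hA hδ hβ h4
  refine ⟨fun x hxZ hx0 => ?_, ?_⟩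
  · have := h1 x hxZ
    rwa [hδfix x (hA.1.le hxZ) hx0] at this
  · have hδ1 : autFun δ c ≠ 1 := by
      intro h5
      refine h.c_ne ?_
      rw [← autFun_inv_apply δ c, h5]
      exact (autFun_isHom δ⁻¹).map_one
    refine (Subgroup.zpowers_le.2 ?_) (prime_zpowers hβp h3 hδ1)
    rw [hδc]
    exact Subgroup.mul_mem _ (Subgroup.mem_sup_left (Subgroup.mem_zpowers c))
      (Subgroup.mem_sup_right (Subgroup.zpow_mem _ (Subgroup.mem_zpowers _) _))

/-- The part of `Z` that stays in `Z`. -/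
def InK (F : FusionSystem S) (Z A : Subgroup Ω) (x : Ω) : Prop :=
  x ∈ Z ∧ ∀ β ∈ F.autGroup A, autFun β x ∈ Z

theorem inK_of_witness (h : Setup S Z c p) (hF : F.IsSaturated p) (hA : Cand S Z A) {β₀ : MulAut A}
    (hβ₀ : β₀ ∈ F.autGroup A) (hu : autFun β₀ c ∉ Z) {x : Ω} (hx : x ∈ Z)
    (hx0 : autFun β₀⁻¹ x ∈ Z) : InK F Z A x :=
  ⟨hx, fun β hβ => by
    have := (span h hF hA hβ₀ hu (inv_mem hβ)).1 x hx hx0
    rwa [inv_inv] at this⟩

/-- Every element of `Z` is in `⟨c⟩` times the part that stays. -/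
theorem split_center (h : Setup S Z c p) (hF : F.IsSaturated p) (hA : Bad F Z c A) {z : Ω}
    (hz : z ∈ Z) : ∃ i : ℤ, InK F Z A (z * (c ^ i)⁻¹) := by
  obtain ⟨hA, β₀, hβ₀, hu⟩ := hA
  have hcA := h.c_inA hA
  have hna : autFun β₀⁻¹ c ∉ Z := fun h1 => hu (by
    obtain ⟨-, h2, -, -⟩ := key h hF hA (inv_mem hβ₀) h1
    have := h2 c h.c_mem
    rwa [inv_inv] at this)
  obtain ⟨i, hi⟩ := split h hA (autFun_mem β₀⁻¹ hcA) hna (autFun_mem β₀⁻¹ (hA.1.le hz))
  refine ⟨i, inK_of_witness h hF hA hβ₀ hu (Z.mul_mem hz (Z.inv_mem (Z.zpow_mem h.c_mem i))) ?_⟩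
  rw [autFun_map_mul β₀⁻¹ (hA.1.le hz) (A.inv_mem (A.zpow_mem hcA i)), ← zpow_neg,
    map_zpow' β₀⁻¹ hcA, zpow_neg]
  exact hi

/-- An automorphism is an extendable one after a controlled one. -/
theorem decomp (h : Setup S Z c p) (hF : F.IsSaturated p) (hA : Cand S Z A) {β : MulAut A}
    (hβ : β ∈ F.autGroup A) :
    ∃ δ ∈ F.autGroup A, autFun (δ * β) c ∈ Z ∧ (∀ x, InK F Z A x → autFun δ x = x) ∧
      ∀ x ∈ A, x⁻¹ * autFun δ x ∈ Subgroup.zpowers c ⊔ Subgroup.zpowers (autFun β c) := by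
  have hcA := h.c_inA hA
  by_cases hu : autFun β c ∈ Z
  · refine ⟨1, one_mem _, by rwa [one_mul], fun x _ => by simp [autFun_one], fun x hx => ?_⟩
    simp [autFun_one]
  set u := autFun β c with hudef
  have huA : u ∈ A := autFun_mem β hcA
  have hup : u ^ p = 1 := autFun_pow_p β hcA h.c_pow
  obtain ⟨s, hs, hse⟩ := exists_move h (hA.2.le huA) hu (Subgroup.mem_zpowers c)
  obtain ⟨σ, hσ, hσe⟩ := exists_conjAuto h hA hs
  have hσF : σ ∈ F.autGroup A := autInducedBy_le hA.2.le hσ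
  set η := σ * β with hη
  have hηF : η ∈ F.autGroup A := mul_mem hσF hβ
  have hηc : autFun η c = u * c := by rw [hη, autFun_mul, hσe u huA, hse]
  have hna : autFun η⁻¹ u ∉ Z := by
    intro h1
    obtain ⟨-, -, h3⟩ := key_pair h hF hA hβ hηF h1
    rw [hηc] at h3
    have hu1 : u ≠ 1 := fun h4 => hu (h4 ▸ Z.one_mem)
    have huc : (u * c) ^ p = 1 := by rw [← hηc]; exact autFun_pow_p η hcA h.c_pow
    have h4 := prime_zpowers huc h3 hu1
    have h5 : c ∈ Subgroup.zpowers u := by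
      have := Subgroup.mul_mem _ (Subgroup.inv_mem _ (Subgroup.mem_zpowers u)) h4
      rwa [inv_mul_cancel_left] at this
    exact hu (h.zpowers_le (prime_zpowers hup h5 h.c_ne))
  obtain ⟨δ, hδ, hδu, hδfix, hδmove⟩ := move h hA hηF huA hna
    (Subgroup.inv_mem _ (Subgroup.mem_zpowers c))
  refine ⟨δ, hδ, ?_, fun x hx => hδfix x (hA.1.le hx.1) (hx.2 _ (inv_mem hηF)), fun x hx => ?_⟩
  · rw [autFun_mul, ← hudef, hδu,
      show autFun η c⁻¹ = (autFun η c)⁻¹ from by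
        rw [← zpow_neg_one, map_zpow' η hcA, zpow_neg_one], hηc, mul_inv_rev, ← mul_assoc,
      comm_cand h hA huA (A.inv_mem hcA), mul_inv_cancel_right]
    exact Z.inv_mem h.c_mem
  · refine (Subgroup.zpowers_le.2 ?_) (hδmove x hx)
    rw [hηc]
    exact Subgroup.mul_mem _ (Subgroup.mem_sup_right (Subgroup.mem_zpowers _))
      (Subgroup.mem_sup_left (Subgroup.mem_zpowers _))

/-! ### Automorphisms of `S` -/

theorem top_Z (h : Setup S Z c p) {γ : MulAut S} {z : Ω} (hz : z ∈ Z) : autFun γ z ∈ Z := by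
  refine (h.mem_iff _ (autFun_mem γ (h.le hz))).2 fun y hy => ?_
  rw [← autFun_apply_inv γ y, ← autFun_map_mul γ (h.le hz) (autFun_mem γ⁻¹ hy),
    ← autFun_map_mul γ (autFun_mem γ⁻¹ hy) (h.le hz), h.central hz (autFun_mem γ⁻¹ hy)]

theorem exists_noncomm (h : Setup S Z c p) : ∃ a ∈ S, a ∉ Z := by
  by_contra hcon
  push Not at hcon
  have := h.finite
  have : Finite Z := finite_of_le h.le
  have h1 : S = Z := le_antisymm hcon h.le
  have h2 := h.card
  rw [← h1] at h2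
  have h3 : 1 < p ^ 2 := Nat.one_lt_pow two_ne_zero hp.out.one_lt
  have h4 : 0 < Nat.card S := Nat.card_pos
  nlinarith

theorem top_c (h : Setup S Z c p) (γ : MulAut S) : autFun γ c ∈ Subgroup.zpowers c := by
  obtain ⟨a, ha, haZ⟩ := exists_noncomm h
  obtain ⟨s, hs, hse⟩ := exists_move h ha haZ (Subgroup.mem_zpowers c)
  have hcS : c ∈ S := h.le h.c_mem
  have e : c = s * a * s⁻¹ * a⁻¹ := by
    rw [hse, ← h.central h.c_mem ha, mul_inv_cancel_right]
  have hinv : ∀ x ∈ S, autFun γ x⁻¹ = (autFun γ x)⁻¹ := fun x hx => (autFun_isHom γ).map_inv hx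
  rw [e, autFun_map_mul γ (S.mul_mem (S.mul_mem hs ha) (S.inv_mem hs)) (S.inv_mem ha),
    autFun_map_mul γ (S.mul_mem hs ha) (S.inv_mem hs), autFun_map_mul γ hs ha, hinv s hs, hinv a ha]
  exact e ▸ h.comm _ (autFun_mem γ hs) _ (autFun_mem γ ha)

/-- The image of a candidate. -/
theorem cand_img (h : Setup S Z c p) (hA : Cand S Z A) {γ : MulAut S} (hγ : γ ∈ F.autGroup S) :
    Cand S Z (img (autFun γ) A) := by
  have := h.finite
  have hm := (isMap_of_mem_autGroup le_rfl hγ).restrict hA.2.le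
  have hle : img (autFun γ) A ≤ S := hm.img_le_S
  have hfi : Finite (img (autFun γ) A) := finite_of_le hle
  have hfA : Finite A := finite_of_le hA.2.le
  have hfZ : Finite Z := finite_of_le h.le
  refine ⟨lt_of_le_of_ne (fun z hz => ?_) fun he => ?_, lt_of_le_of_ne hle fun he => ?_⟩
  · rw [← autFun_apply_inv γ z]
    exact mem_img_self _ (hA.1.le (top_Z h hz))
  · exact (card_lt_card hA.1).ne (by rw [← hm.card_img, ← he])
  · exact (card_lt_card hA.2).ne (by rw [← hm.card_img, he])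

/-- Transporting an automorphism group along `γ`. -/
theorem aut_transport (h : Setup S Z c p) (hA : A ≤ S) {γ : MulAut S} (hγ : γ ∈ F.autGroup S)
    {β' : MulAut (img (autFun γ) A)} (hβ' : β' ∈ F.autGroup (img (autFun γ) A)) :
    ∃ β ∈ F.autGroup A, ∀ x ∈ A, autFun γ (autFun β x) = autFun β' (autFun γ x) := by
  have := h.finite
  have hfA : Finite A := finite_of_le hA
  have hm := (isMap_of_mem_autGroup le_rfl hγ).restrict hA
  have hle : img (autFun γ) A ≤ S := hm.img_le_S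
  have hm' := isMap_of_mem_autGroup hle hβ'
  have hi := isMap_of_mem_autGroup le_rfl (inv_mem hγ)
  have hcomp : IsMap F A fun x => autFun γ⁻¹ (autFun β' (autFun γ x)) :=
    hi.comp (hm'.comp hm fun x hx => mem_img_self _ hx)
      fun x hx => hle (autFun_mem β' (mem_img_self _ hx))
  have himg : img (fun x => autFun γ⁻¹ (autFun β' (autFun γ x))) A = A := by
    refine eq_of_le_card (img_le fun x hx => ?_) hcomp.card_img.ge
    obtain ⟨y, hy, hye⟩ := hm.mem_img.1 (autFun_mem β' (mem_img_self (autFun γ) hx))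
    rw [← hye, autFun_inv_apply]
    exact hy
  obtain ⟨β, hβ, hβe⟩ := hcomp.exists_aut himg
  exact ⟨β, hβ, fun x hx => by rw [hβe x hx, autFun_apply_inv]⟩

theorem bad_img (h : Setup S Z c p) (hF : F.IsSaturated p) (hA : Bad F Z c A) {γ : MulAut S}
    (hγ : γ ∈ F.autGroup S) : Bad F Z c (img (autFun γ) A) := by
  have := h.finite
  have hcand := cand_img h hA.1 hγ
  refine ⟨hcand, ?_⟩
  by_contra hcon
  push Not at hcon
  obtain ⟨hAc, β₀, hβ₀, hu⟩ := hA
  set B := img (autFun γ) A with hB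
  have hm := (isMap_of_mem_autGroup le_rfl hγ).restrict hAc.2.le
  -- transport `β₀` to `B`
  have hcomp : IsMap F B fun y => autFun γ (autFun β₀ (autFun γ⁻¹ y)) := by
    refine (isMap_of_mem_autGroup le_rfl hγ).comp
      ((isMap_of_mem_autGroup hAc.2.le hβ₀).comp
        ((isMap_of_mem_autGroup le_rfl (inv_mem hγ)).restrict hcand.2.le) fun y hy => ?_) fun y hy => ?_
    · obtain ⟨x, hx, rfl⟩ := hm.mem_img.1 hy
      rwa [autFun_inv_apply]
    · obtain ⟨x, hx, rfl⟩ := hm.mem_img.1 hy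
      show autFun β₀ (autFun γ⁻¹ (autFun γ x)) ∈ S
      rw [autFun_inv_apply]
      exact hAc.2.le (autFun_mem β₀ hx)
  have : Finite B := finite_of_le hcand.2.le
  have himg : img (fun y => autFun γ (autFun β₀ (autFun γ⁻¹ y))) B = B := by
    refine eq_of_le_card (img_le fun y hy => ?_) hcomp.card_img.ge
    obtain ⟨x, hx, rfl⟩ := hm.mem_img.1 hy
    rw [autFun_inv_apply]
    exact mem_img_self _ (autFun_mem β₀ hx)
  obtain ⟨β', hβ', hβ'e⟩ := hcomp.exists_aut himg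
  obtain ⟨j, hj⟩ := Subgroup.mem_zpowers_iff.1 (top_c h γ)
  have h2 := hcon β' hβ'
  obtain ⟨hZ, -, -, -⟩ := key h hF hcand hβ' h2
  have h3 := hZ _ (top_Z h (γ := γ) h.c_mem)
  rw [hβ'e _ (hcand.1.le (top_Z h h.c_mem)), autFun_inv_apply] at h3
  refine hu ?_
  rw [← autFun_inv_apply γ (autFun β₀ c)]
  exact top_Z h h3

/-- The criterion: a subgroup of all bad candidates invariant under their automorphisms and those
of `S` is normal. -/
theorem normal_of_invariant (h : Setup S Z c p) (hF : F.IsSaturated p) {U : Subgroup Ω} (hU : U ≤ S)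
    (hUA : ∀ B, Bad F Z c B → U ≤ B)
    (hS : ∀ γ ∈ F.autGroup S, ∀ x ∈ U, autFun γ x ∈ U)
    (hB : ∀ B, Bad F Z c B → ∀ β ∈ F.autGroup B, ∀ x ∈ U, autFun β x ∈ U) : F.IsNormal U := by
  have := h.finite
  have hfU : Finite U := finite_of_le hU
  have hnorm : S ≤ Subgroup.normalizer (U : Set Ω) := fun s hs => by
    refine mem_normalizer_of_forall fun x hx => ?_
    obtain ⟨γ, hγ, hγe⟩ := (isMap_cj (F := F) le_rfl hs).exists_aut
      (img_cj_eq_of_mem_normalizer (Subgroup.le_normalizer hs))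
    have h1 := hS γ hγ x hx
    rwa [hγe x (hU hx)] at h1
  refine isNormal_of_le_stab (hQS := hU) (hQ := hnorm) (alperin h.isPGroup hF fun P hP α hα => ?_)
  rcases hP with hP | hP
  · subst hP
    have hm := isMap_of_mem_autGroup le_rfl hα
    refine (mem_autGroup_iff le_rfl).2 ⟨hm.hom, ⟨hm.hom_mem_self, autFun α, ?_, fun x => rfl, ?_⟩,
      fun x => rfl⟩
    · rwa [sup_eq_left.2 hU]
    · exact eq_of_le_card (img_le (hS α hα)) (hm.restrict hU).card_img.ge
  · have hc := essential_centric hP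
    have hPS : P ≤ S := hc.1
    have hlt : P < S := essential_lt h.isPGroup hF hP
    have hZP : Z < P := by
      refine lt_of_le_of_ne (fun z hz => hc.2 P (isConj_refl hPS)
        ⟨h.le hz, fun y hy => (h.central hz (hPS hy)).symm⟩) fun he => ?_
      subst he
      exact hlt.not_ge fun s hs => hc.2 Z (isConj_refl h.le)
        ⟨hs, fun z hz => h.central hz hs⟩
    have hcand : Cand S Z P := ⟨hZP, hlt⟩
    have hbad : Bad F Z c P := by
      refine ⟨hcand, ?_⟩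
      by_contra hcon
      push Not at hcon
      refine (essential_iff h.isPGroup hF hlt hP.2.1).1 hP (le_antisymm (extGroup_le hPS) ?_)
      intro β hβ
      obtain ⟨γ, hγ, hγe⟩ := extend h hF hcand hβ (hcon β hβ)
      exact Subgroup.subset_closure ⟨S, autFun γ, hlt, isMap_of_mem_autGroup le_rfl hγ,
        fun x hx => hγe x hx⟩
    have hm := isMap_of_mem_autGroup hPS hα
    have hUP := hUA P hbad
    refine (mem_autGroup_iff hPS).2 ⟨hm.hom, ⟨hm.hom_mem_self, autFun α, ?_, fun x => rfl, ?_⟩,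
      fun x => rfl⟩
    · rwa [sup_eq_left.2 hUP]
    · exact eq_of_le_card (img_le (hB P hbad α hα)) (hm.restrict hUP).card_img.ge

variable (hcore : ∀ U : Subgroup Ω, F.IsNormal U → U = ⊥)

include hcore in
theorem eq_one_of_all_inK (h : Setup S Z c p) (hF : F.IsSaturated p) {x : Ω} (hx : x ∈ Z)
    (hall : ∀ B, Cand S Z B → InK F Z B x) : x = 1 := by
  let N : Subgroup Ω :=
    { carrier := {y | y ∈ Z ∧ ∀ B, Cand S Z B → ∀ β ∈ F.autGroup B, autFun β y ∈ Z}
      one_mem' := ⟨Z.one_mem, fun B _ β _ => by rw [(autFun_isHom β).map_one]; exact Z.one_mem⟩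
      mul_mem' := fun {a b} ha hb => ⟨Z.mul_mem ha.1 hb.1, fun B hB β hβ => by
        rw [autFun_map_mul β (hB.1.le ha.1) (hB.1.le hb.1)]
        exact Z.mul_mem (ha.2 B hB β hβ) (hb.2 B hB β hβ)⟩
      inv_mem' := fun {a} ha => ⟨Z.inv_mem ha.1, fun B hB β hβ => by
        rw [(autFun_isHom β).map_inv (hB.1.le ha.1)]
        exact Z.inv_mem (ha.2 B hB β hβ)⟩ }
  have hS' : ∀ γ ∈ F.autGroup S, ∀ y ∈ N, autFun γ y ∈ N := by
    intro γ hγ y hy
    refine ⟨top_Z h hy.1, fun B hB β' hβ' => ?_⟩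
    have := h.finite
    set A := img (autFun γ⁻¹) B with hA
    have hAc : Cand S Z A := cand_img h hB (inv_mem hγ)
    have hAB : img (autFun γ) A = B := by
      rw [hA, ((isMap_of_mem_autGroup le_rfl (inv_mem hγ)).restrict hB.2.le).img_img,
        img_congr (g := id) fun x _ => autFun_apply_inv γ x, img_id]
    clear_value A
    subst hAB
    obtain ⟨β, hβ, hβe⟩ := aut_transport (A := A) h hAc.2.le hγ hβ'
    rw [← hβe y (hAc.1.le hy.1)]
    exact top_Z h (hy.2 _ hAc β hβ)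
  have hN : F.IsNormal N := by
    refine normal_of_invariant h hF (fun y hy => h.le hy.1) (fun B hB y hy => hB.1.1.le hy.1) hS' ?_
    intro B hB β hβ y hy
    obtain ⟨δ, hδ, hδc, hδfix, -⟩ := decomp h hF hB.1 hβ
    obtain ⟨γ, hγ, hγe⟩ := extend h hF hB.1 (mul_mem hδ hβ) hδc
    have h1 := hS' γ hγ y hy
    rw [hγe y (hB.1.1.le hy.1), autFun_mul] at h1
    have h2 : autFun δ⁻¹ (autFun δ (autFun β y)) = autFun δ (autFun β y) := by
      conv_lhs => rw [← hδfix _ ⟨h1.1, h1.2 B hB.1⟩]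
      rw [autFun_inv_apply]
    rw [autFun_inv_apply] at h2
    exact h2 ▸ h1
  have h1 : x ∈ N := ⟨hx, fun B hB => (hall B hB).2⟩
  rw [hcore N hN] at h1
  exact Subgroup.mem_bot.1 h1

theorem pow_p_mem (h : Setup S Z c p) {a : Ω} (ha : a ∈ S) : a ^ p ∈ Z := by
  refine (h.mem_iff _ (S.pow_mem ha p)).2 fun y hy => ?_
  set e := y * a * y⁻¹ * a⁻¹ with he
  have heC := h.comm y hy a ha
  obtain ⟨n, hn⟩ := Subgroup.mem_zpowers_iff.1 heC
  have hep : e ^ p = 1 := by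
    rw [he, ← hn, ← zpow_natCast, ← zpow_mul, mul_comm, zpow_mul, zpow_natCast, h.c_pow, one_zpow]
  have hcomm : Commute e a := h.central (h.zpowers_le heC) ha
  have h1 : y * a ^ p * y⁻¹ = a ^ p := by
    rw [← conj_pow, show y * a * y⁻¹ = e * a by rw [he]; group, hcomm.mul_pow, hep, one_mul]
  calc a ^ p * y = (y * a ^ p * y⁻¹) * y := by rw [h1]
    _ = y * a ^ p := by group

include hcore in
theorem center_exponent (h : Setup S Z c p) (hF : F.IsSaturated p) {z : Ω} (hz : z ∈ Z) :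
    z ^ p = 1 := by
  refine eq_one_of_all_inK hcore h hF (Z.pow_mem hz p) fun B hB => ⟨Z.pow_mem hz p, fun β hβ => ?_⟩
  rw [← zpow_natCast, map_zpow' β (hB.1.le hz), zpow_natCast]
  exact pow_p_mem h (hB.2.le (autFun_mem β (hB.1.le hz)))

include hcore in
theorem bad_exponent (h : Setup S Z c p) (hF : F.IsSaturated p) (hA : Bad F Z c A) {a : Ω}
    (ha : a ∈ A) : a ^ p = 1 := by
  obtain ⟨hA, β₀, hβ₀, hu⟩ := hA
  have hcA := h.c_inA hA
  obtain ⟨i, hi⟩ := split h hA (autFun_mem β₀ hcA) hu ha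
  have hc : Commute (a * (autFun β₀ c ^ i)⁻¹) (autFun β₀ c ^ i) :=
    comm_cand h hA (hA.1.le hi) (A.zpow_mem (autFun_mem β₀ hcA) i)
  have hup : (autFun β₀ c ^ i) ^ p = 1 := by
    rw [← zpow_natCast, ← zpow_mul, mul_comm, zpow_mul, zpow_natCast,
      autFun_pow_p β₀ hcA h.c_pow, one_zpow]
  rw [show a = a * (autFun β₀ c ^ i)⁻¹ * autFun β₀ c ^ i by group, hc.mul_pow,
    center_exponent hcore h hF hi, hup, one_mul]

include hcore in
/-- There are two bad candidates. -/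
theorem exists_two (h : Setup S Z c p) (hF : F.IsSaturated p) :
    ∃ A B, Bad F Z c A ∧ Bad F Z c B ∧ A ≠ B := by
  have := h.finite
  by_contra hcon
  push Not at hcon
  obtain ⟨a₀, ha₀, ha₀Z⟩ := exists_noncomm h
  by_cases hex : ∃ A, Bad F Z c A
  · obtain ⟨A, hA⟩ := hex
    have hAB : ∀ B, Bad F Z c B → B = A := fun B hB => hcon B A hB hA
    have hn : F.IsNormal A := normal_of_invariant h hF hA.1.2.le (fun B hB => (hAB B hB).ge)
      (fun γ hγ x hx => hAB _ (bad_img h hF hA hγ) ▸ mem_img_self (autFun γ) hx)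
      (fun B hB β hβ x hx => by
        obtain rfl := hAB B hB
        exact autFun_mem β hx)
    have h1 := hA.1.1
    rw [hcore A hn] at h1
    exact h1.not_ge bot_le
  · have hn : F.IsNormal S := normal_of_invariant h hF le_rfl
      (fun B hB => absurd ⟨B, hB⟩ hex) (fun γ _ x hx => autFun_mem γ hx)
      (fun B hB => absurd ⟨B, hB⟩ hex)
    rw [hcore S hn, Subgroup.mem_bot] at ha₀
    exact ha₀Z (ha₀ ▸ Z.one_mem)

/-! ### Odd primes -/

/-- An automorphism of `S` squaring `c` and fixing the part that stays. -/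
theorem exists_torus (h : Setup S Z c p) (hF : F.IsSaturated p) (hp2 : p ≠ 2) (hA : Bad F Z c A) :
    ∃ γ ∈ F.autGroup S, autFun γ c = c * c ∧ ∀ x, InK F Z A x → autFun γ x = x := by
  obtain ⟨hA, β, hβ, hu⟩ := hA
  have hcA := h.c_inA hA
  set u := autFun β c with hudef
  have huA : u ∈ A := autFun_mem β hcA
  have hna : autFun β⁻¹ c ∉ Z := fun h1 => hu (by
    obtain ⟨-, h2, -, -⟩ := key h hF hA (inv_mem hβ) h1
    have := h2 c h.c_mem
    rwa [inv_inv] at this)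
  obtain ⟨δ₁, hδ₁, hδ₁c, hfix₁, -⟩ := move h hA hβ hcA hna (Subgroup.mem_zpowers c)
  obtain ⟨s, hs, hse⟩ := exists_move h (hA.2.le huA) hu
    (Subgroup.inv_mem _ (Subgroup.mem_zpowers c))
  obtain ⟨σ, hσ, hσe⟩ := exists_conjAuto h hA hs
  set η := σ * β with hη
  have hηF : η ∈ F.autGroup A := mul_mem (autInducedBy_le hA.2.le hσ) hβ
  have hηc : autFun η c = u * c⁻¹ := by rw [hη, autFun_mul, hσe u huA, hse]
  have hna₂ : autFun η⁻¹ (c * u) ∉ Z := by
    intro h1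
    have e1 : c * u = (u * c⁻¹) * (c * c) := by rw [comm_cand h hA hcA huA]; group
    rw [e1, autFun_map_mul η⁻¹ (A.mul_mem huA (A.inv_mem hcA)) (A.mul_mem hcA hcA), ← hηc,
      autFun_inv_apply] at h1
    have h2 : autFun η⁻¹ (c * c) ∈ Z := by
      have := Z.mul_mem (Z.inv_mem h.c_mem) h1
      rwa [inv_mul_cancel_left] at this
    have hcc1 : c * c ≠ 1 := by
      intro h3
      have h4 : orderOf c ∣ 2 := orderOf_dvd_of_pow_eq_one (by rw [pow_two, h3])
      rw [orderOf_c h] at h4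
      exact hp2 ((Nat.prime_dvd_prime_iff_eq hp.out Nat.prime_two).1 h4)
    have h3 : autFun η⁻¹ c ∈ Z := by
      obtain ⟨n, hn⟩ := Subgroup.mem_zpowers_iff.1
        (prime_zpowers h.c_pow (Subgroup.mul_mem _ (Subgroup.mem_zpowers c) (Subgroup.mem_zpowers c)) hcc1)
      rw [← hn, map_zpow' η⁻¹ (A.mul_mem hcA hcA)]
      exact Z.zpow_mem h2 n
    obtain ⟨-, h4, -, -⟩ := key h hF hA (inv_mem hηF) h3
    have h5 := h4 c h.c_mem
    rw [inv_inv, hηc] at h5
    exact hu (by simpa using Z.mul_mem h5 h.c_mem)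
  obtain ⟨δ₂, hδ₂, hδ₂c, hfix₂, -⟩ := move h hA hηF (A.mul_mem hcA huA) hna₂
    (Subgroup.inv_mem _ (Subgroup.mem_zpowers c))
  have hcc : autFun (δ₂ * δ₁) c = c * c := by
    rw [autFun_mul, hδ₁c, ← hudef, hδ₂c,
      show autFun η c⁻¹ = (autFun η c)⁻¹ from by
        rw [← zpow_neg_one, map_zpow' η hcA, zpow_neg_one], hηc, mul_inv_rev, inv_inv,
      comm_cand h hA hcA (A.inv_mem huA)]
    group
  obtain ⟨γ, hγ, hγe⟩ := extend h hF hA (mul_mem hδ₂ hδ₁) (hcc ▸ Z.mul_mem h.c_mem h.c_mem)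
  refine ⟨γ, hγ, by rw [hγe c hcA, hcc], fun x hx => ?_⟩
  rw [hγe x (hA.1.le hx.1), autFun_mul, hfix₁ x (hA.1.le hx.1) (hx.2 _ (inv_mem hβ)),
    hfix₂ x (hA.1.le hx.1) (hx.2 _ (inv_mem hηF))]

/-- Acting on `Z` trivially modulo `⟨c⟩`. -/
def Tri (Z : Subgroup Ω) (c : Ω) (γ : MulAut S) : Prop :=
  ∀ z ∈ Z, z⁻¹ * autFun γ z ∈ Subgroup.zpowers c

theorem Tri.mul (h : Setup S Z c p) {a b : MulAut S} (ha : Tri Z c a) (hb : Tri Z c b) :
    Tri Z c (a * b) := fun z hz => by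
  rw [autFun_mul, show z⁻¹ * autFun a (autFun b z) =
    (z⁻¹ * autFun b z) * ((autFun b z)⁻¹ * autFun a (autFun b z)) by group]
  exact Subgroup.mul_mem _ (hb z hz) (ha _ (top_Z h hz))

theorem Tri.inv (h : Setup S Z c p) {a : MulAut S} (ha : Tri Z c a) : Tri Z c a⁻¹ := fun z hz => by
  have h1 := ha _ (top_Z h (γ := a⁻¹) hz)
  rw [autFun_apply_inv] at h1
  have := Subgroup.inv_mem _ h1
  rwa [mul_inv_rev, inv_inv] at this

/-- Automorphisms of `S` fixing `c` and trivial on `Z` modulo `⟨c⟩` fix `Z`. -/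
theorem fix_center (h : Setup S Z c p) (hF : F.IsSaturated p) {d : MulAut S}
    (hd : d ∈ F.autGroup S) (hdc : autFun d c = c) (hdt : Tri Z c d) {z : Ω} (hz : z ∈ Z) :
    autFun d z = z := by
  have := h.finite
  have hzS := h.le hz
  have hcS := h.le h.c_mem
  obtain ⟨i, hi⟩ := Subgroup.mem_zpowers_iff.1 (hdt z hz)
  have hdz : autFun d z = z * c ^ i := by rw [hi]; group
  have hpow : ∀ n : ℕ, autFun (d ^ n) z = z * (c ^ i) ^ n := by
    intro n
    induction n with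
    | zero => simp [autFun_one]
    | succ n ih =>
      rw [pow_succ' d, autFun_mul, ih, autFun_map_mul d hzS (S.pow_mem (S.zpow_mem hcS i) n),
        hdz, ← zpow_natCast (c ^ i) n, ← zpow_mul, map_zpow' d hcS, hdc, zpow_mul, zpow_natCast,
        mul_assoc, ← pow_succ']
  have hfn : F.IsFullyNormalized S :=
    ⟨le_rfl, fun Q hQ => le_of_eq (by rw [eq_top_of_card le_rfl hQ rfl])⟩
  obtain ⟨-, R, hR⟩ := fullyNormalized_fullyAutomized h.isPGroup hF hfn
  have hRn : (R : Subgroup (F.autGroup S)).Normal := by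
    refine ⟨fun a ha b => ?_⟩
    rw [hR, Subgroup.mem_subgroupOf] at ha ⊢
    obtain ⟨g, hg, hge⟩ := mem_autInducedBy_iff'.1 ha
    refine mem_autInducedBy_iff'.2 ⟨autFun (b : MulAut S) g,
      ⟨autFun_mem _ hg.1, Subgroup.le_normalizer (autFun_mem _ hg.1)⟩, fun x hx => ?_⟩
    rw [Subgroup.coe_mul, Subgroup.coe_mul, Subgroup.coe_inv, autFun_mul, autFun_mul,
      hge _ (autFun_mem _ hx), cj_apply,
      autFun_map_mul _ (S.mul_mem hg.1 (autFun_mem _ hx)) (S.inv_mem hg.1),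
      autFun_map_mul _ hg.1 (autFun_mem _ hx), (autFun_isHom (b : MulAut S)).map_inv hg.1,
      autFun_apply_inv]
    rfl
  set m := (R : Subgroup (F.autGroup S)).index with hm
  have hmem : (⟨d, hd⟩ : F.autGroup S) ^ m ∈ (R : Subgroup (F.autGroup S)) :=
    Subgroup.pow_index_mem _ _
  rw [hR, Subgroup.mem_subgroupOf, SubmonoidClass.coe_pow] at hmem
  obtain ⟨g, hg, hge⟩ := mem_autInducedBy_iff'.1 hmem
  have h1 : autFun (d ^ m) z = z := by
    rw [hge z hzS, cj_apply, ← h.central hz hg.1, mul_inv_cancel_right]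
  rw [hpow, mul_eq_left] at h1
  have hcp : (c ^ i) ^ p = 1 := by
    rw [← zpow_natCast, ← zpow_mul, mul_comm, zpow_mul, zpow_natCast, h.c_pow, one_zpow]
  have hcop : Nat.Coprime m p := (hp.out.coprime_iff_not_dvd.2 R.not_dvd_index).symm
  have h2 : c ^ i = 1 := orderOf_eq_one_iff.1 (Nat.eq_one_of_dvd_coprimes hcop
    (orderOf_dvd_of_pow_eq_one h1) (orderOf_dvd_of_pow_eq_one hcp))
  rw [hdz, h2, mul_one]

include hcore in
/-- For odd `p` the centre is `⟨c⟩`. -/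
theorem center_eq_odd (h : Setup S Z c p) (hF : F.IsSaturated p) (hp2 : p ≠ 2)
    (hA : Bad F Z c A) : Z = Subgroup.zpowers c := by
  refine le_antisymm (fun z hz => ?_) h.zpowers_le
  obtain ⟨i, hi⟩ := split_center h hF hA hz
  suffices h1 : z * (c ^ i)⁻¹ = 1 by
    rw [mul_inv_eq_one.1 h1]
    exact Subgroup.zpow_mem _ (Subgroup.mem_zpowers c) i
  set k := z * (c ^ i)⁻¹ with hk
  refine eq_one_of_all_inK hcore h hF hi.1 fun B hB => ?_
  by_cases hbad : ∃ β ∈ F.autGroup B, autFun β c ∉ Z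
  swap
  · push Not at hbad
    exact ⟨hi.1, fun β hβ => (key h hF hB hβ (hbad β hβ)).1 k hi.1⟩
  obtain ⟨γ₁, hγ₁, hc₁, hfix₁⟩ := exists_torus h hF hp2 hA
  obtain ⟨γ₂, hγ₂, hc₂, hfix₂⟩ := exists_torus h hF hp2 (⟨hB, hbad⟩ : Bad F Z c B)
  have hcS := h.le h.c_mem
  have hzpow : ∀ γ : MulAut S, autFun γ c = c * c → ∀ j : ℤ,
      autFun γ (c ^ j) ∈ Subgroup.zpowers c := fun γ hγ j => by
    rw [map_zpow' γ hcS, hγ]
    exact Subgroup.zpow_mem _ (Subgroup.mul_mem _ (Subgroup.mem_zpowers c) (Subgroup.mem_zpowers c)) j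
  have tri : ∀ (B' : Subgroup Ω) (γ : MulAut S), Bad F Z c B' → autFun γ c = c * c →
      (∀ x, InK F Z B' x → autFun γ x = x) → Tri Z c γ := by
    intro B' γ hB' hγc hfix w hw
    obtain ⟨j, hj⟩ := split_center h hF hB' hw
    have e : w = w * (c ^ j)⁻¹ * c ^ j := by group
    have h1 : autFun γ w = w * (c ^ j)⁻¹ * autFun γ (c ^ j) := by
      conv_lhs => rw [e, autFun_map_mul γ (h.le hj.1) (S.zpow_mem hcS j), hfix _ hj]
    rw [h1, ← mul_assoc, ← mul_assoc, inv_mul_cancel, one_mul]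
    exact Subgroup.mul_mem _ (Subgroup.inv_mem _ (Subgroup.zpow_mem _ (Subgroup.mem_zpowers c) j))
      (hzpow γ hγc j)
  have ht₁ := tri A γ₁ hA hc₁ hfix₁
  have ht₂ := tri B γ₂ ⟨hB, hbad⟩ hc₂ hfix₂
  -- the two automorphisms commute on `Z`
  have hcomm : autFun γ₁ (autFun γ₂ k) = autFun γ₂ (autFun γ₁ k) := by
    set d := (γ₂ * γ₁)⁻¹ * (γ₁ * γ₂) with hd
    have hdF : d ∈ F.autGroup S := mul_mem (inv_mem (mul_mem hγ₂ hγ₁)) (mul_mem hγ₁ hγ₂)
    have hdt : Tri Z c d := Tri.mul h (Tri.inv h (Tri.mul h ht₂ ht₁)) (Tri.mul h ht₁ ht₂)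
    have hdc : autFun d c = c := by
      have e1 : autFun (γ₁ * γ₂) c = autFun (γ₂ * γ₁) c := by
        rw [autFun_mul, autFun_mul, hc₁, hc₂, autFun_map_mul γ₁ hcS hcS,
          autFun_map_mul γ₂ hcS hcS, hc₁, hc₂]
      rw [hd, autFun_mul, e1, autFun_inv_apply]
    have h1 := fix_center h hF hdF hdc hdt hi.1
    rw [hd, autFun_mul] at h1
    have h2 := congrArg (autFun (γ₂ * γ₁)) h1
    rw [autFun_apply_inv, autFun_mul, autFun_mul] at h2
    exact h2
  rw [hfix₁ k hi] at hcomm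
  obtain ⟨j, hj⟩ := Subgroup.mem_zpowers_iff.1 (ht₂ k hi.1)
  have hk2 : autFun γ₂ k = k * c ^ j := by rw [hj]; group
  rw [hk2, autFun_map_mul γ₁ (h.le hi.1) (S.zpow_mem hcS j), hfix₁ k hi, mul_right_inj,
    map_zpow' γ₁ hcS, hc₁] at hcomm
  have hj1 : c ^ j = 1 := by
    rw [(Commute.refl c).mul_zpow, mul_eq_left] at hcomm
    exact hcomm
  rw [hj1, mul_one] at hk2
  -- `γ₂` fixes only the part that stays
  obtain ⟨l, hl⟩ := split_center h hF (⟨hB, hbad⟩ : Bad F Z c B) hi.1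
  have h3 : autFun γ₂ k = k * (c ^ l)⁻¹ * (c * c) ^ l := by
    conv_lhs => rw [show k = k * (c ^ l)⁻¹ * c ^ l by group,
      autFun_map_mul γ₂ (h.le hl.1) (S.zpow_mem hcS l), hfix₂ _ hl, map_zpow' γ₂ hcS, hc₂]
  rw [hk2, (Commute.refl c).mul_zpow, ← mul_assoc, inv_mul_cancel_right, left_eq_mul] at h3
  rw [h3, inv_one, mul_one] at hl
  exact hl

end Cfsg.Agent.CharP.CenterIndex
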