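import Cfsg.Agent.Lib.CharP.Climbing
import Cfsg.Agent.Lib.Fusion.FactorExists
import Cfsg.Agent.Lib.Transfer.Frobenius
import Cfsg.Agent.Lib.PLocal.StronglyClosedZJ
import Cfsg.Agent.Lib.Cores.Nilpotent

/-!
A saturated system is inner as soon as the normalizer of a suitable functor value of a strongly closed
subgroup is inner.
-/

set_option autoImplicit false
set_option linter.unusedSectionVars false
set_option linter.style.haveILetI false

universe u

namespace Cfsg.Agent.CharP.InnerControl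

open Cfsg Cfsg.FusionSystem Cfsg.Agent.Fusion.Basic Cfsg.Agent.Fusion.Saturation
  Cfsg.Agent.Fusion.Normal Cfsg.Agent.Fusion.Alperin Cfsg.Agent.Fusion.CentricExt
  Cfsg.Agent.Fusion.KNormalizer Cfsg.Agent.Fusion.Constrained Cfsg.Agent.Fusion.Factor
  Cfsg.Agent.Fusion.FactorExists Cfsg.Agent.CharP.LocalControl Cfsg.Agent.CharP.Climbing

variable {Ω : Type u} [Group Ω] {S : Subgroup Ω}

theorem mulAut_ext {P : Subgroup Ω} {a b : MulAut P} (h : ∀ x ∈ P, autFun a x = autFun b x) :
    a = b :=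
  MulEquiv.ext fun x => Subtype.ext (by simpa [autFun_apply] using h x x.2)

/-- All automizers are `p`-groups. -/
def AllP (p : ℕ) (F : FusionSystem S) : Prop := ∀ P, P ≤ S → IsPGroup p (F.autGroup P)

theorem autGroup_le_of_maps {T : Subgroup Ω} {F : FusionSystem S} {E : FusionSystem T}
    (h : ∀ P f, IsMap E P f → IsMap F P f) {P : Subgroup Ω} (hP : P ≤ T) (hPS : P ≤ S) :
    E.autGroup P ≤ F.autGroup P := fun _ hα =>
  (mem_autGroup_iff hPS).2 (h _ _ (isMap_of_mem_autGroup hP hα))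

theorem AllP.of_maps {p : ℕ} {T : Subgroup Ω} {F : FusionSystem S} {E : FusionSystem T}
    (h : ∀ P f, IsMap E P f → IsMap F P f) (hT : T ≤ S) (hF : AllP p F) : AllP p E := fun P hP =>
  (hF P (hP.trans hT)).to_le (autGroup_le_of_maps h hP (hP.trans hT))

theorem autFun_pow_succ {P : Subgroup Ω} (α : MulAut P) (n : ℕ) (x : Ω) :
    autFun (α ^ (n + 1)) x = autFun α (autFun (α ^ n) x) := by
  rw [pow_succ', autFun_mul]

theorem allP_inner {p : ℕ} (hS : IsPGroup p S) : AllP p (innerFusionSystem S) := by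
  intro P hP α
  obtain ⟨φ, hφ, he⟩ := isMap_of_mem_autGroup hP α.2
  obtain ⟨-, g, hg, hgφ⟩ := hφ
  obtain ⟨k, hk⟩ := hS ⟨g, hg⟩
  have hk' : g ^ p ^ k = 1 := congrArg Subtype.val hk
  have h : ∀ n, ∀ x ∈ P, autFun ((α : MulAut P) ^ n) x = g ^ n * x * (g ^ n)⁻¹ := by
    intro n
    induction n with
    | zero => intro x _; rw [pow_zero, pow_zero, autFun_one]; simp
    | succ n ih =>
      intro x hx
      have hm := autFun_mem ((α : MulAut P) ^ n) hx
      have h1 := (he ⟨_, hm⟩).symm.trans (hgφ ⟨_, hm⟩)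
      rw [autFun_pow_succ, h1]
      show g * autFun ((α : MulAut P) ^ n) x * g⁻¹ = _
      rw [ih x hx, pow_succ']
      group
  refine ⟨k, Subtype.ext ?_⟩
  rw [SubmonoidClass.coe_pow, OneMemClass.coe_one]
  refine mulAut_ext fun x hx => ?_
  rw [h _ x hx, hk', autFun_one]
  simp

variable [Finite S] {p : ℕ} [Fact p.Prime]

/-- A saturated system with `p`-group automizers is inner. -/
theorem AllP.eq_inner (hS : IsPGroup p S) {F : FusionSystem S} (hF : F.IsSaturated p)
    (h : AllP p F) : F = innerFusionSystem S :=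
  eq_inner_of_isPGroup hS hF (fun P hP => not_isPGroup_of_essential hP (h P hP.1.1)) (h S le_rfl)

theorem isMap_inner {P : Subgroup Ω} {f : Ω → Ω} (hf : IsMap (innerFusionSystem S) P f) :
    ∃ s ∈ S, ∀ x ∈ P, f x = s * x * s⁻¹ := by
  obtain ⟨φ, ⟨-, g, hg, hgφ⟩, he⟩ := hf
  exact ⟨g, hg, fun x hx => by rw [← he ⟨x, hx⟩, hgφ]⟩

/-- A system that is not inner has a fully normalized subgroup with noninner normalizer. -/
theorem exists_bad (hS : IsPGroup p S) {F : FusionSystem S} (h : ¬ AllP p F) :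
    ∃ Q : Subgroup Ω, Q ≠ ⊥ ∧ F.IsFullyNormalized Q ∧
      ∀ N : FusionSystem (normalizerIn S Q), F.IsNormalizerSystem Q N → ¬ AllP p N := by
  simp only [AllP, not_forall] at h
  obtain ⟨P, hP, hnp⟩ := h
  obtain ⟨Q, hPQ, hQ⟩ := exists_fullyNormalized (F := F) hP
  obtain ⟨f, hf, rfl⟩ := isConj_iff_map.1 hPQ
  obtain ⟨e, -⟩ := hf.exists_autEquiv
  have hnp' : ¬ IsPGroup p (F.autGroup (img f P)) := fun h' =>
    hnp (h'.of_equiv e.symm)
  refine ⟨img f P, fun h0 => hnp' ?_, hQ, fun N hN hall => hnp' ?_⟩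
  · rw [h0]
    intro α
    refine ⟨0, Subtype.ext (MulEquiv.ext fun x => Subtype.ext ?_)⟩
    exact (Subgroup.mem_bot.1 (SetLike.coe_mem _)).trans
      (Subgroup.mem_bot.1 (SetLike.coe_mem _)).symm
  · have hle : F.autGroup (img f P) ≤ N.autGroup (img f P) := fun α hα => by
      refine (mem_autGroup_iff (le_normalizerIn hQ.1)).2 ((isMap_normalizer_iff hN).2
        ⟨le_normalizerIn hQ.1, autFun α, ?_, fun _ _ => rfl, autFun_img α⟩)
      rw [sup_idem]
      exact isMap_of_mem_autGroup hQ.1 hα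
    exact (hall _ (le_normalizerIn hQ.1)).to_le hle

/-- The normalizer of a conjugate of a fully normalized subgroup. -/
theorem allP_normalizer_conj (hS : IsPGroup p S) {F : FusionSystem S} (hF : F.IsSaturated p)
    {V V' : Subgroup Ω} (hV' : F.IsFullyNormalized V') (hconj : F.IsConj V V')
    {N' : FusionSystem (normalizerIn S V')} (hN' : F.IsNormalizerSystem V' N') (h : AllP p N')
    {N : FusionSystem (normalizerIn S V)} (hN : F.IsNormalizerSystem V N) : AllP p N := by
  have hVS : V ≤ S := (isConj_le hconj).1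
  obtain ⟨β, hβ, hβV⟩ := exists_map_to_fullyNormalized hS hF hV' hconj
  have hVN : V ≤ normalizerIn S V := le_normalizerIn hVS
  intro P hP α
  have hm := hβ.restrict hP
  obtain ⟨e, he⟩ := hm.exists_autEquiv
  have hαF : (α : MulAut P) ∈ F.autGroup P :=
    autGroup_le_of_maps (fun R k hk => by
      obtain ⟨-, g, hg, hge, -⟩ := (isMap_normalizer_iff hN).1 hk
      exact (hg.restrict le_sup_left).congr hge) hP (hP.trans normalizerIn_le) α.2
  set a := e ⟨α, hαF⟩ with hadef
  have hPN : img β P ≤ normalizerIn S V' := img_le fun x hx =>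
    ⟨hβ.mem (hP hx), hβV ▸ hβ.mem_normalizer_img hVN (hP hx) (hP hx).2⟩
  have haN : (a : MulAut (img β P)) ∈ N'.autGroup (img β P) := by
    refine (mem_autGroup_iff hPN).2 ((isMap_normalizer_iff hN').2 ⟨hPN, ?_⟩)
    obtain ⟨-, g, hg, hge, hgV⟩ :=
      (isMap_normalizer_iff hN).1 (isMap_of_mem_autGroup hP α.2)
    have hPV : P ⊔ V ≤ normalizerIn S V := sup_le hP hVN
    have hgin : ∀ x ∈ P ⊔ V, g x ∈ normalizerIn S V := by
      intro x hx
      refine ⟨hg.mem hx, ?_⟩
      have h1 := hg.mem_normalizer_img le_sup_right hx (hPV hx).2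
      rwa [hgV] at h1
    obtain ⟨i, hi, hiimg, hiβ, -⟩ := (hβ.restrict hPV).exists_inv
    have hdom : img β P ⊔ V' ≤ img β (P ⊔ V) :=
      sup_le (img_mono β le_sup_left) (hβV.ge.trans (img_mono β le_sup_right))
    have hival : ∀ y ∈ img β (P ⊔ V), i y ∈ P ⊔ V := fun y hy =>
      hiimg.le (mem_img_self i hy)
    have hk : IsMap F (img β (P ⊔ V)) (fun y => β (g (i y))) :=
      hβ.comp (hg.comp hi hival) fun y hy => hgin _ (hival y hy)
    refine ⟨_, hk.restrict hdom, fun y hy => ?_, ?_⟩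
    · obtain ⟨x, hx, rfl⟩ := hm.mem_img.1 hy
      show β (g (i (β x))) = _
      rw [hiβ x (Subgroup.mem_sup_left hx), hge x hx, hadef, he ⟨α, hαF⟩ x hx]
    · have hkV := hk.restrict (hdom.trans' le_sup_right)
      have : Finite V' := finite_of_le hV'.1
      refine eq_of_le_card (img_le fun y hy => ?_) hkV.card_img.ge
      obtain ⟨x, hx, rfl⟩ := (hβ.restrict hVN).mem_img.1 (hβV.ge hy)
      show β (g (i (β x))) ∈ V'
      rw [hiβ x (Subgroup.mem_sup_right hx), ← hβV]
      exact mem_img_self β (hgV.le (mem_img_self g hx))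
  obtain ⟨k, hk⟩ := h _ hPN ⟨a, haN⟩
  refine ⟨k, ?_⟩
  have hk' : a ^ p ^ k = 1 := Subtype.ext (congrArg Subtype.val hk :)
  have h1 : (⟨α, hαF⟩ : F.autGroup P) ^ p ^ k = 1 := e.injective (by rw [map_pow, map_one, ← hk'])
  exact Subtype.ext (congrArg Subtype.val h1 :)

section Quotient

variable {Ω' : Type u} [Group Ω'] {S' : Subgroup Ω'} {θ : S →* Ω'} {Q : Subgroup Ω}
  {F : FusionSystem S} {E : FusionSystem S'}

/-- Normalizers in the quotient are images of normalizers. -/
theorem allP_normalizer_quot (hq : IsQuot F Q θ E) {Z : Subgroup Ω'} (hZ : Z ≤ S')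
    {N : FusionSystem (normalizerIn S (preimageAlong θ Z))}
    (hN : F.IsNormalizerSystem (preimageAlong θ Z) N) (h : AllP p N)
    (hnorm : S ≤ normalizerIn S (preimageAlong θ Z))
    {M : FusionSystem (normalizerIn S' Z)} (hM : E.IsNormalizerSystem Z M) : AllP p M := by
  intro P hP α
  have hPS' : P ≤ S' := hP.trans normalizerIn_le
  obtain ⟨-, g, hg, hge, hgZ⟩ := (isMap_normalizer_iff hM).1 (isMap_of_mem_autGroup hP α.2)
  obtain ⟨f, hf, hfg⟩ := hq.lift _ _ hg
  set D := preimageAlong θ P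
  have hD : D ≤ preimageAlong θ (P ⊔ Z) := fun x hx =>
    mem_preimageAlong.2 ⟨(mem_preimageAlong.1 hx).1,
      Subgroup.mem_sup_left (mem_preimageAlong.1 hx).2⟩
  have hW : preimageAlong θ Z ≤ preimageAlong θ (P ⊔ Z) := fun x hx =>
    mem_preimageAlong.2 ⟨(mem_preimageAlong.1 hx).1,
      Subgroup.mem_sup_right (mem_preimageAlong.1 hx).2⟩
  have hcomp : ∀ x ∈ D, along θ (f x) = autFun (α : MulAut P) (along θ x) := fun x hx => by
    rw [← hfg x (hD hx), hge _ (mem_preimageAlong.1 hx).2]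
  have hDfin : Finite D := finite_of_le (preimageAlong_le _)
  have hfD : img f D = D := by
    refine eq_of_le_card (img_le fun x hx => mem_preimageAlong.2 ⟨hf.mem (hD hx), ?_⟩)
      (hf.restrict hD).card_img.ge
    rw [hcomp x hx]
    exact autFun_mem _ (mem_preimageAlong.1 hx).2
  have hfW : img f (preimageAlong θ Z) = preimageAlong θ Z := by
    have : Finite (preimageAlong θ Z) := finite_of_le (preimageAlong_le _)
    refine eq_of_le_card (img_le fun x hx => mem_preimageAlong.2 ⟨hf.mem (hW hx), ?_⟩)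
      (hf.restrict hW).card_img.ge
    rw [← hfg x (hW hx), ← hgZ]
    exact mem_img_self g (mem_preimageAlong.1 hx).2
  have hDN : D ≤ normalizerIn S (preimageAlong θ Z) := (preimageAlong_le _).trans hnorm
  have hfN : IsMap N D f :=
    (isMap_normalizer_iff hN).2 ⟨hDN, f, hf.restrict (sup_le hD hW), fun _ _ => rfl, hfW⟩
  obtain ⟨β, hβ, hβe⟩ := hfN.exists_aut hfD
  obtain ⟨k, hk⟩ := h D hDN ⟨β, hβ⟩
  refine ⟨k, Subtype.ext (mulAut_ext fun y hy => ?_)⟩
  have key : ∀ n, ∀ x ∈ D, along θ (autFun (β ^ n) x) = autFun ((α : MulAut P) ^ n) (along θ x) := by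
    intro n
    induction n with
    | zero => intro x _; rw [pow_zero, pow_zero, autFun_one, autFun_one]; rfl
    | succ n ih =>
      intro x hx
      rw [autFun_pow_succ, autFun_pow_succ, hβe _ (autFun_mem _ hx),
        hcomp _ (autFun_mem _ hx), ih x hx]
  obtain ⟨x, hx, rfl⟩ := exists_along_eq hq.range_eq (hPS' hy)
  rw [SubmonoidClass.coe_pow, OneMemClass.coe_one, ← key _ x (mem_preimageAlong.2 ⟨hx, hy⟩)]
  have hk' : β ^ p ^ k = 1 := congrArg Subtype.val hk
  rw [hk', autFun_one, autFun_one]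
  rfl

/-- If the quotient by the core is inner the system is constrained. -/
theorem constrained_of_quot (hS : IsPGroup p S) (hF : F.IsSaturated p)
    (hq : IsQuot F F.core θ E) (hE : E = innerFusionSystem S') : F.IsConstrained p := by
  set Q := F.core with hQdef
  have hQn : F.IsNormal Q := core_isNormal
  have hQS : Q ≤ S := hQn.1
  have hfin' := hq.finite
  have hp' := hq.isPGroup hS
  have hQnorm := le_normalizer_of_stronglyClosed (normal_stronglyClosed hQn)
  set X := Q ⊔ centralizerIn S Q with hXdef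
  have hXS : X ≤ S := sup_le hQS centralizerIn_le
  have hXsc : F.StronglyClosed X :=
    stronglyClosed_sup_centralizerIn hS hF (normal_stronglyClosed hQn)
  -- preimages of normal subgroups are strongly closed
  have hclosed : ∀ Z : Subgroup Ω', Z ≤ S' → (∀ s ∈ S', ∀ z ∈ Z, s * z * s⁻¹ ∈ Z) →
      F.StronglyClosed (preimageAlong θ Z) := by
    intro Z hZ hZn
    refine ⟨preimageAlong_le _, fun R hR φ hφ x => ?_⟩
    obtain ⟨g, hg, hge, hgQ⟩ := (isNormal_iff.1 hQn).2 R (ext φ) (IsMap.of_hom hφ)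
    have hRS : R ≤ S := hR.trans (preimageAlong_le _)
    set P' := imageAlong θ R
    have hP' : P' ≤ S' := fun y hy => by
      obtain ⟨z, -, hzS, rfl⟩ := mem_imageAlong.1 hy
      exact along_mem hq.range_eq hzS
    have hpre : preimageAlong θ P' ≤ R ⊔ Q := by
      intro z hz
      obtain ⟨hzS, hzP⟩ := mem_preimageAlong.1 hz
      obtain ⟨r, hr, hrS, hre⟩ := mem_imageAlong.1 hzP
      have := (along_eq_iff hq.ker_iff hrS hzS).1 hre
      rw [show z = r * (r⁻¹ * z) by group]
      exact Subgroup.mul_mem _ (Subgroup.mem_sup_left hr) (Subgroup.mem_sup_right this)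
    obtain ⟨g', hg', hcomp⟩ := hq.descend P' g hP' (hg.restrict hpre)
    rw [hE] at hg'
    obtain ⟨s, hs, hsg⟩ := isMap_inner hg'
    have hxpre : (x : Ω) ∈ preimageAlong θ P' :=
      mem_preimageAlong.2 ⟨hRS x.2, mem_imageAlong.2 ⟨x, x.2, hRS x.2, rfl⟩⟩
    refine mem_preimageAlong.2 ⟨(F.le_of_mem hφ).2 x, ?_⟩
    rw [← ext_apply φ x, ← hge x x.2, ← hcomp _ hxpre,
      hsg _ (mem_imageAlong.2 ⟨x, x.2, hRS x.2, rfl⟩)]
    exact hZn s hs _ (mem_preimageAlong.1 (hR x.2)).2
  obtain ⟨m, B, B0, Bm, Bmono, BN, Ble, Bcomm⟩ := normal_series hS hQn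
  have : Group.IsNilpotent S' := hp'.isNilpotent
  obtain ⟨l, hl⟩ := Group.IsNilpotent.nilpotent S'
  let Z : ℕ → Subgroup Ω' := fun j => (Subgroup.upperCentralSeries S' j).map S'.subtype
  have hZle : ∀ j, Z j ≤ S' := fun j => Subgroup.map_subtype_le _
  have hZsc : ∀ j, F.StronglyClosed (preimageAlong θ (Z j)) := fun j =>
    hclosed _ (hZle j) (by
      rintro s hs _ ⟨z, hz, rfl⟩
      exact ⟨⟨s, hs⟩ * z * ⟨s, hs⟩⁻¹,
        (inferInstance : (Subgroup.upperCentralSeries S' j).Normal).conj_mem z hz _, rfl⟩)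
  let Cs : ℕ → Subgroup Ω := fun i => if i ≤ m then B i else X ⊓ preimageAlong θ (Z (i - m))
  have hQpre : ∀ Z' : Subgroup Ω', Q ≤ preimageAlong θ Z' := hq.le_preimage
  have hCB : ∀ i ≤ m, Cs i = B i := fun i hi => if_pos hi
  have hCU : ∀ i, m ≤ i → Cs i = X ⊓ preimageAlong θ (Z (i - m)) := by
    intro i hi
    rcases eq_or_lt_of_le hi with rfl | hlt
    · rw [hCB _ le_rfl, Bm, Nat.sub_self]
      refine le_antisymm (le_inf le_sup_left (hQpre _)) fun x hx => ?_
      obtain ⟨hxS, hxZ⟩ := mem_preimageAlong.1 hx.2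
      simp only [Z, Subgroup.upperCentralSeries_zero, Subgroup.map_bot, Subgroup.mem_bot] at hxZ
      rw [along_of_mem θ hxS] at hxZ
      exact (hq.ker_iff ⟨x, hxS⟩).1 hxZ
    · exact if_neg (by omega)
  have hXn : F.IsNormal X := by
    refine normal_of_series hS hF (m + l) Cs ((hCB 0 (Nat.zero_le _)).trans B0) ?_ (fun i _ => ?_)
      (fun i _ => ?_) ?_
    · rw [hCU _ (by omega), show m + l - m = l by omega, inf_eq_left]
      intro x hx
      refine mem_preimageAlong.2 ⟨hXS hx, ?_⟩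
      simp only [Z, hl]
      exact ⟨⟨_, along_mem hq.range_eq (hXS hx)⟩, Subgroup.mem_top _, rfl⟩
    · rcases lt_or_ge i m with h | h
      · rw [hCB i h.le, hCB (i + 1) h]; exact Bmono (Nat.le_succ i)
      · rw [hCU i h, hCU (i + 1) (by omega)]
        refine inf_le_inf_left _ fun x hx => ?_
        obtain ⟨hxS, hxZ⟩ := mem_preimageAlong.1 hx
        exact mem_preimageAlong.2 ⟨hxS,
          Subgroup.map_mono (Subgroup.upperCentralSeries_mono S' (by omega)) hxZ⟩
    · rcases le_or_gt i m with h | h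
      · rw [hCB i h]; exact normal_stronglyClosed (BN i)
      · rw [hCU i h.le]
        exact ⟨inf_le_left.trans hXS, fun R hR φ hφ x =>
          ⟨hXsc.2 R (hR.trans inf_le_left) φ hφ x, (hZsc _).2 R (hR.trans inf_le_right) φ hφ x⟩⟩
    · intro i _ x hx y hy
      rcases lt_or_ge i m with h | h
      · rw [hCB (i + 1) h] at hy
        rw [hCB i h.le]
        obtain ⟨c, hc, q, hqQ, rfl⟩ := coe_sup_of_normal (T := Q) hQnorm centralizerIn_le
          (by rw [sup_comm]; exact hx)
        have hd := Bcomm i q hqQ y hy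
        have h1 : q * y * q⁻¹ ∈ Q := Q.mul_mem (Q.mul_mem hqQ (Ble _ hy)) (Q.inv_mem hqQ)
        rw [show c * q * y * (c * q)⁻¹ * y⁻¹ = c * (q * y * q⁻¹) * c⁻¹ * y⁻¹ by group,
          ← hc.2 _ h1, mul_inv_cancel_right]
        exact hd
      · rw [hCU (i + 1) (by omega)] at hy
        rw [hCU i h]
        have hxS := hXS hx
        have hyS := hXS hy.1
        refine ⟨X.mul_mem (X.mul_mem (X.mul_mem hx hy.1) (X.inv_mem hx)) (X.inv_mem hy.1),
          mem_preimageAlong.2 ⟨S.mul_mem (S.mul_mem (S.mul_mem hxS hyS) (S.inv_mem hxS))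
            (S.inv_mem hyS), ?_⟩⟩
        rw [along_mul θ (S.mul_mem (S.mul_mem hxS hyS) (S.inv_mem hxS)) (S.inv_mem hyS),
          along_mul θ (S.mul_mem hxS hyS) (S.inv_mem hxS), along_mul θ hxS hyS, along_inv θ hxS,
          along_inv θ hyS]
        obtain ⟨z, hz, hze⟩ := (mem_preimageAlong.1 hy.2).2
        rw [show i + 1 - m = (i - m) + 1 by omega] at hz
        rw [← hze]
        let a : S' := ⟨along θ x, along_mem hq.range_eq hxS⟩
        have h2 : (z * a * z⁻¹ * a⁻¹)⁻¹ ∈ Subgroup.upperCentralSeries S' (i - m) :=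
          Subgroup.inv_mem _ (Subgroup.mem_upperCentralSeries_succ_iff.1 hz a)
        refine ⟨_, h2, ?_⟩
        simp [a, mul_assoc]
  refine ⟨hF, Q, hQn, hQS, fun R hR => ?_⟩
  obtain ⟨f, hf, rfl⟩ := isConj_iff_map.1 hR
  rw [normal_img_eq hQn hf le_rfl]
  exact le_sup_right.trans (le_core hXn)

end Quotient

section Main

variable {W : ∀ (Q : Type u) [Group Q], Subgroup Q}

theorem Wof_ne_bot (hW : IsCharPFunctor p W) (hS : IsPGroup p S) {D : Subgroup Ω} (hD : D ≤ S)
    (hne : D ≠ ⊥) : Wof W D ≠ ⊥ := by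
  have : Finite D := finite_of_le hD
  intro h
  refine hW.1 D (hS.to_le hD) (D.nontrivial_iff_ne_bot.2 hne) ?_
  exact Subgroup.map_injective D.subtype_injective (h.trans (Subgroup.map_bot _).symm)

/-- If the functor value of a strongly closed subgroup is normal, its normalizer is everything. -/
theorem allP_of_normal_Wof (hS : IsPGroup p S) (hW : IsoInv p W) {F : FusionSystem S}
    {D : Subgroup Ω} (hD : F.StronglyClosed D) {R : Subgroup Ω} (hR : F.IsNormal R) (hDR : D ≤ R)
    {N : FusionSystem (normalizerIn S (Wof W D))} (hN : F.IsNormalizerSystem (Wof W D) N)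
    (h : AllP p N) : AllP p F := by
  have hfinD : Finite D := finite_of_le hD.1
  have hS' : S ≤ normalizerIn S (Wof W D) := fun s hs =>
    ⟨hs, normalizer_le_Wof hW (hS.to_le hD.1) (le_normalizer_of_stronglyClosed hD hs)⟩
  refine h.of_maps (fun P f hf => ?_) hS'
  obtain ⟨g, hg, hge, -⟩ := (isNormal_iff.1 hR).2 P f hf
  have hgD : img g D = D := stronglyClosed_img hD hg (hDR.trans le_sup_right)
  refine (isMap_normalizer_iff hN).2 ⟨hf.le.trans hS', g,
    hg.restrict (sup_le_sup_left ((Wof_le D).trans hDR) P), hge, ?_⟩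
  have hgD' := hg.restrict (hDR.trans le_sup_right)
  rw [Wof_img hW (hS.to_le hD.1) hgD'.isHom hgD'.injOn, hgD]

/-- The step for constrained systems. -/
theorem allP_constrained (hW : IsCharPFunctor p W)
    (hgrp : ∀ (G : Type u) [Group G] [Finite G] (P : Sylow p G) (D : Subgroup G),
      Subgroup.centralizer ((pCore p G : Subgroup G) : Set G) ≤ pCore p G →
      IsStronglyClosed D (P : Subgroup G) →
      HasNormalPComplement p ↥(Subgroup.normalizer (Wof W D : Set G)) → HasNormalPComplement p G)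
    (hS : IsPGroup p S) {F : FusionSystem S} (hF : F.IsConstrained p) {D : Subgroup Ω}
    (hD : F.StronglyClosed D) {N : FusionSystem (normalizerIn S (Wof W D))}
    (hN : F.IsNormalizerSystem (Wof W D) N) (h : AllP p N) : AllP p F := by
  classical
  obtain ⟨G, _, ι, hfinG, ⟨hι, hreal⟩, ⟨T, hT⟩, hchar⟩ :=
    Cfsg.Agent.Fusion.Model.exists_model hS hF
  have hDS := hD.1
  have hfinD : Finite D := finite_of_le hDS
  let ιe : Ω → G := fun x => if hx : x ∈ S then ι ⟨x, hx⟩ else 1
  have hιe : ∀ x (hx : x ∈ S), ιe x = ι ⟨x, hx⟩ := fun x hx => dif_pos hx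
  let pre : Subgroup G → Subgroup Ω := fun A => (A.comap ι).map S.subtype
  have hpreS : ∀ A, pre A ≤ S := fun A => Subgroup.map_subtype_le _
  have hmempre : ∀ A (s : S), (s : Ω) ∈ pre A ↔ ι s ∈ A := fun A s =>
    ⟨fun ⟨t, ht, he⟩ => (Subtype.ext he : t = s) ▸ ht, fun hs => ⟨s, hs, rfl⟩⟩
  -- maps of the system coming from elements of `G`
  have hpull : ∀ (A : Subgroup G) (g : G), (∀ a ∈ A, g * a * g⁻¹ ∈ ι.range) →
      ∃ f : Ω → Ω, IsMap F (pre A) f ∧ ∀ (s : S) (hs : ι s ∈ A),
        ∃ hfs : f s ∈ S, ι ⟨f s, hfs⟩ = g * ι s * g⁻¹ := by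
    intro A g hA
    have hex : ∀ x : pre A, ∃ t : S, ι t = g * ι ⟨x, hpreS A x.2⟩ * g⁻¹ := fun x =>
      hA _ ((hmempre A ⟨x, hpreS A x.2⟩).1 x.2)
    choose t ht using hex
    let φ : pre A →* Ω := S.subtype.comp (MonoidHom.mk' t fun x y => hι (by
      rw [map_mul, ht, ht, ht, show (⟨((x * y : pre A) : Ω), hpreS A (x * y).2⟩ : S) =
        ⟨x, hpreS A x.2⟩ * ⟨y, hpreS A y.2⟩ from rfl, map_mul]
      group))
    have hφ : φ ∈ F.Hom (pre A) :=
      (hreal _ (hpreS A) φ fun x => (t x).2).2 ⟨g, fun x => ht x⟩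
    refine ⟨ext φ, IsMap.of_hom hφ, fun s hs => ⟨?_, ?_⟩⟩
    · rw [ext_of_mem φ ((hmempre A s).2 hs)]
      exact (t _).2
    · simp only [ext_of_mem φ ((hmempre A s).2 hs)]
      exact ht _
  let D' : Subgroup G := (D.subgroupOf S).map ι
  have hmemD : ∀ s : S, ι s ∈ D' ↔ (s : Ω) ∈ D := fun s =>
    ⟨fun ⟨t, ht, he⟩ => (hι he) ▸ ht, fun hs => ⟨s, hs, rfl⟩⟩
  have hD'T : D' ≤ (T : Subgroup G) := by rw [hT]; rintro _ ⟨s, -, rfl⟩; exact ⟨s, rfl⟩
  have hD' : IsStronglyClosed D' (T : Subgroup G) := by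
    refine ⟨hD'T, ?_⟩
    rintro _ ⟨s, hs, rfl⟩ g hg
    rw [hT] at hg
    obtain ⟨f, hf, hfe⟩ := hpull (Subgroup.zpowers (ι s)) g (fun a ha => by
      obtain ⟨k, rfl⟩ := ha
      rw [show g * ι s ^ k * g⁻¹ = (g * ι s * g⁻¹) ^ k from conj_zpow.symm]
      exact Subgroup.zpow_mem _ hg k)
    have hsP : (s : Ω) ∈ pre (Subgroup.zpowers (ι s)) :=
      (hmempre _ s).2 (Subgroup.mem_zpowers _)
    obtain ⟨hfs, hfs'⟩ := hfe s (Subgroup.mem_zpowers _)
    rw [← hfs', hmemD]
    exact stronglyClosed_mem hD hf hsP hs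
  let e : D ≃* D' :=
    (Subgroup.subgroupOfEquivOfLe hDS).symm.trans (Subgroup.equivMapOfInjective _ ι hι)
  have hWmem : ∀ s : S, (s : Ω) ∈ Wof W D ↔ ι s ∈ Wof W D' := by
    intro s
    constructor
    · intro hs
      exact (mem_Wof_iff hW.2 (hS.to_le hDS) e ⟨s, Wof_le _ hs⟩).1 hs
    · intro hs
      exact (mem_Wof_iff hW.2 (hS.to_le hDS) e ⟨s, (hmemD s).1 (Wof_le _ hs)⟩).2 hs
  have hTN : (T : Subgroup G) ≤ Subgroup.normalizer (Wof W D' : Set G) :=
    (Cfsg.Agent.PLocal.StronglyClosedZJ.sylow_le_normalizer hD').trans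
      (normalizer_le_Wof hW.2 (T.isPGroup'.to_le hD'T))
  have hnc : HasNormalPComplement p ↥(Subgroup.normalizer (Wof W D' : Set G)) := by
    refine Cfsg.Agent.Transfer.Frobenius.hasNormalPComplement_of_condition
      (Cfsg.Agent.Transfer.Frobenius.Condition.of_sylow (T.subtype hTN) ?_)
    intro Q hQ g hgQ hord q hq
    let M := Subgroup.normalizer (Wof W D' : Set G)
    let A : Subgroup G := Q.map M.subtype ⊔ Wof W D'
    have hQT : Q.map M.subtype ≤ (T : Subgroup G) := by
      rintro _ ⟨x, hx, rfl⟩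
      exact hQ hx
    have hAT : A ≤ (T : Subgroup G) := sup_le hQT ((Wof_le _).trans hD'T)
    have hAg : ∀ a ∈ A, (g : G) * a * (g : G)⁻¹ ∈ A := by
      have : A ≤ A.comap (MulAut.conj (g : G)).toMonoidHom := by
        refine sup_le ?_ fun a ha => Subgroup.mem_sup_right ((Subgroup.mem_normalizer_iff.1 g.2 a).1 ha)
        rintro _ ⟨x, hx, rfl⟩
        exact Subgroup.mem_sup_left ⟨g * x * g⁻¹, (Subgroup.mem_normalizer_iff.1 hgQ x).1 hx, rfl⟩
      exact fun a ha => this ha
    obtain ⟨f, hf, hfe⟩ := hpull A g fun a ha => hT ▸ hAT (hAg a ha)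
    have hfin : Finite (pre A) := finite_of_le (hpreS A)
    have hfA : img f (pre A) = pre A := by
      refine eq_of_le_card (img_le fun x hx => ?_) hf.card_img.ge
      obtain ⟨s, hs, rfl⟩ := hx
      obtain ⟨hfs, hfs'⟩ := hfe s hs
      exact (hmempre A ⟨_, hfs⟩).2 (hfs' ▸ hAg _ hs)
    have hWA : Wof W D ≤ pre A := fun x hx =>
      (hmempre A ⟨x, hDS (Wof_le _ hx)⟩).2 (Subgroup.mem_sup_right ((hWmem _).1 hx))
    have hPN : pre A ≤ normalizerIn S (Wof W D) := fun x hx =>
      ⟨hpreS A hx, normalizer_le_Wof hW.2 (hS.to_le hDS)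
        (le_normalizer_of_stronglyClosed hD (hpreS A hx))⟩
    have hfW : img f (Wof W D) = Wof W D := by
      have : Finite (Wof W D) := finite_of_le (Wof_le (W := W) D)
      refine eq_of_le_card (img_le fun x hx => ?_) (hf.restrict hWA).card_img.ge
      obtain ⟨hfs, hfs'⟩ := hfe ⟨x, hDS (Wof_le _ hx)⟩
        (Subgroup.mem_sup_right ((hWmem _).1 hx))
      refine (hWmem ⟨_, hfs⟩).2 ?_
      rw [hfs']
      exact (Subgroup.mem_normalizer_iff.1 g.2 _).1 ((hWmem _).1 hx)
    have hfN : IsMap N (pre A) f := (isMap_normalizer_iff hN).2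
      ⟨hPN, f, by rwa [sup_eq_left.2 hWA], fun _ _ => rfl, hfW⟩
    obtain ⟨β, hβ, hβe⟩ := hfN.exists_aut hfA
    obtain ⟨k, hk⟩ := h _ hPN ⟨β, hβ⟩
    have hk' : β ^ p ^ k = 1 := congrArg Subtype.val hk
    have key : ∀ (n : ℕ) (s : S), ι s ∈ A → ∃ hm : autFun (β ^ n) s ∈ S,
        ι ⟨autFun (β ^ n) s, hm⟩ = (g : G) ^ n * ι s * ((g : G) ^ n)⁻¹ := by
      intro n
      induction n with
      | zero =>
        intro s _
        exact ⟨by simp [autFun_one], by simp [autFun_one]⟩
      | succ n ih =>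
        intro s hs
        obtain ⟨hm, hme⟩ := ih s hs
        have hmA : ι ⟨_, hm⟩ ∈ A :=
          (hmempre A ⟨_, hm⟩).1 (autFun_mem (β ^ n) ((hmempre A s).2 hs))
        obtain ⟨hf1, hf1'⟩ := hfe ⟨_, hm⟩ hmA
        simp only [autFun_pow_succ, hβe _ ((hmempre A ⟨_, hm⟩).2 hmA)]
        refine ⟨hf1, ?_⟩
        rw [hf1', hme, pow_succ']
        group
    obtain ⟨s, hs⟩ : (q : G) ∈ ι.range := hT ▸ hQT ⟨q, hq, rfl⟩
    have hsA : ι s ∈ A := hs ▸ Subgroup.mem_sup_left ⟨q, hq, rfl⟩
    obtain ⟨hm, hme⟩ := key (p ^ k) s hsA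
    simp only [hk', autFun_one, id] at hme
    rw [hs] at hme
    have hcop : (p ^ k).Coprime (orderOf g) := (hord.pow_right k).symm
    obtain ⟨j, hj⟩ := exists_pow_eq_self_of_coprime hcop
    have hcomm : Commute (((g : G) ^ p ^ k) ^ j) (q : G) :=
      ((show Commute ((g : G) ^ p ^ k) (q : G) from mul_inv_eq_iff_eq_mul.1 hme.symm)).pow_left j
    have hj' : ((g : G) ^ p ^ k) ^ j = (g : G) := congrArg Subtype.val hj
    rw [hj'] at hcomm
    exact Subtype.ext hcomm.eq.symm
  obtain ⟨R, K, hKn, hK⟩ := hgrp G T D' hchar hD' hnc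
  have hKcop : (Nat.card K).Coprime p := by
    rw [Nat.coprime_comm, (Fact.out : p.Prime).coprime_iff_not_dvd]
    intro hd
    exact R.not_dvd_index (by rw [hK.index_eq_card]; exact hd)
  haveI hQn : (pCore p G).Normal := Cores.pCore_normal p
  have hKQ : K ⊓ pCore p G = ⊥ := Subgroup.inf_eq_bot_of_coprime (by
    obtain ⟨a, ha⟩ := (Cores.pCore_isPGroup p).exists_card_eq (G := pCore p G)
    rw [ha]
    exact hKcop.pow_right a)
  have hKbot : K = ⊥ := by
    have hKC : K ≤ Subgroup.centralizer ((pCore p G : Subgroup G) : Set G) := fun x hx y hy =>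
      (Subgroup.commute_of_normal_of_disjoint _ _ hQn hKn (disjoint_iff.2 (inf_comm K _ ▸ hKQ))
        y x hy hx).eq
    exact le_bot_iff.1 (hKQ ▸ le_inf le_rfl (hKC.trans hchar))
  have hGT : ∀ x : G, x ∈ ι.range := by
    have hR : (R : Subgroup G) = ⊤ := by
      have h1 := hK.sup_eq_top
      rwa [hKbot, bot_sup_eq] at h1
    obtain ⟨c, hc⟩ := MulAction.exists_smul_eq G R T
    intro x
    rw [← hT, ← hc, Sylow.coe_subgroup_smul, hR,
      Subgroup.mem_pointwise_smul_iff_inv_smul_mem]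
    trivial
  refine (allP_inner hS).of_maps (fun P f hf => ?_) le_rfl
  obtain ⟨g, hg⟩ := (hreal P hf.le hf.hom fun x => hf.mem x.2).1 hf.hom_mem_self
  obtain ⟨s, rfl⟩ := hGT g
  refine ⟨hf.hom, ⟨hf.le, s, s.2, fun x => ?_⟩, fun x => rfl⟩
  have h1 := hg x
  rw [← map_inv, ← map_mul, ← map_mul] at h1
  exact congrArg Subtype.val (hι h1)

/-- The normalizer of a strongly closed subgroup's functor value controls innerness. -/
theorem allP_of_control (hW : IsCharPFunctor p W)
    (hgrp : ∀ (G : Type u) [Group G] [Finite G] (P : Sylow p G) (D : Subgroup G),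
      Subgroup.centralizer ((pCore p G : Subgroup G) : Set G) ≤ pCore p G →
      IsStronglyClosed D (P : Subgroup G) →
      HasNormalPComplement p ↥(Subgroup.normalizer (Wof W D : Set G)) → HasNormalPComplement p G)
    (hS : IsPGroup p S) {F : FusionSystem S} (hF : F.IsSaturated p) {D : Subgroup Ω}
    (hD : F.StronglyClosed D)
    (h : ∀ N : FusionSystem (normalizerIn S (Wof W D)),
      F.IsNormalizerSystem (Wof W D) N → AllP p N) : AllP p F := by
  suffices ∀ (n : ℕ) (Ω : Type u) [Group Ω] (S : Subgroup Ω) [Finite S], IsPGroup p S →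
      Nat.card S = n → ∀ F : FusionSystem S, F.IsSaturated p → ∀ D : Subgroup Ω,
      F.StronglyClosed D → (∀ N : FusionSystem (normalizerIn S (Wof W D)),
        F.IsNormalizerSystem (Wof W D) N → AllP p N) → AllP p F from
    this _ Ω S hS rfl F hF D hD h
  clear! S
  intro n
  induction n using Nat.strong_induction_on with
  | _ n IH =>
  intro Ω _ S _ hS hn F hF D hD h
  by_cases hD0 : D = ⊥
  · obtain ⟨N, hN⟩ := exists_normalizerSystem (F := F) (Q := Wof W D) ((Wof_le D).trans hD.1)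
    exact allP_of_normal_Wof hS hW.2 hD isNormal_bot hD0.le hN (h N hN)
  -- systems with nontrivial core
  have claimK : ∀ (k : ℕ) (T : Subgroup Ω) [Finite T], IsPGroup p T → Nat.card T = n →
      ∀ (F : FusionSystem T), F.IsSaturated p → Nat.card T - Nat.card F.core = k → F.core ≠ ⊥ →
      F.StronglyClosed D → (∀ N : FusionSystem (normalizerIn T (Wof W D)),
        F.IsNormalizerSystem (Wof W D) N → AllP p N) → AllP p F := by
    intro k
    induction k using Nat.strong_induction_on with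
    | _ k IHk =>
    intro T _ hT hcard F hF hk hcore hD h
    obtain ⟨NZ, hNZ⟩ := exists_normalizerSystem (F := F) (Q := Wof W D) ((Wof_le D).trans hD.1)
    by_cases hDQ : D ≤ F.core
    · exact allP_of_normal_Wof hT hW.2 hD core_isNormal hDQ hNZ (h NZ hNZ)
    have hQn : F.IsNormal F.core := core_isNormal
    have hQT := hQn.1
    haveI : (F.core.subgroupOf T).Normal :=
      Subgroup.normal_subgroupOf_of_le_normalizer
        (le_normalizer_of_stronglyClosed (normal_stronglyClosed hQn))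
    let θ : T →* T ⧸ F.core.subgroupOf T := QuotientGroup.mk' _
    have hker : ∀ s : T, θ s = 1 ↔ (s : Ω) ∈ F.core := fun s => by
      rw [QuotientGroup.mk'_apply, QuotientGroup.eq_one_iff, Subgroup.mem_subgroupOf]
    have hrange : θ.range = ⊤ := QuotientGroup.range_mk' _
    obtain ⟨E, hE⟩ := exists_factorSystem (F := F) (normal_stronglyClosed hQn) hker hrange
    have hq := isQuot_of_factorSystem (normal_stronglyClosed hQn) hE
    have hfinE : Finite (⊤ : Subgroup (T ⧸ F.core.subgroupOf T)) := hq.finite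
    have hpE := hq.isPGroup hT
    have hEs := hq.saturated hT hF
    have hcardE : Nat.card (⊤ : Subgroup (T ⧸ F.core.subgroupOf T)) < n := by
      rw [Subgroup.card_top, ← hcard, Subgroup.card_eq_card_quotient_mul_card_subgroup
        (F.core.subgroupOf T)]
      refine (Nat.lt_mul_iff_one_lt_right Nat.card_pos).2 ((Subgroup.one_lt_card_iff_ne_bot _).2 ?_)
      intro h0
      rw [Subgroup.subgroupOf_eq_bot, disjoint_iff, inf_eq_left.2 hQT] at h0
      exact hcore h0
    set D' := imageAlong θ D with hD'def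
    have hD'T : D' ≤ (⊤ : Subgroup (T ⧸ F.core.subgroupOf T)) := le_top
    have hD' : E.StronglyClosed D' := by
      refine ⟨hD'T, fun R hR φ hφ y => ?_⟩
      obtain ⟨f, hf, hfe⟩ := hq.lift R _ (IsMap.of_hom hφ)
      obtain ⟨d, hd, hdT, hde⟩ := mem_imageAlong.1 (hR y.2)
      have hdP : d ∈ preimageAlong θ R := mem_preimageAlong.2 ⟨hdT, hde.symm ▸ y.2⟩
      rw [← ext_apply φ y, ← hde, hfe d hdP]
      exact mem_imageAlong.2 ⟨f d, stronglyClosed_mem hD hf hdP hd, hf.mem hdP, rfl⟩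
    have hD'0 : D' ≠ ⊥ := by
      refine fun h0 => hDQ fun d hd => ?_
      have : along θ d ∈ D' := mem_imageAlong.2 ⟨d, hd, hD.1 hd, rfl⟩
      rw [h0, Subgroup.mem_bot, along_of_mem θ (hD.1 hd)] at this
      exact (hker _).1 this
    have hfinD' : Finite D' := finite_of_le hD'T
    set Z' := Wof W D' with hZ'def
    have hZ'0 : Z' ≠ ⊥ := Wof_ne_bot hW hpE hD'T hD'0
    have hZ'n : ∀ y : T ⧸ F.core.subgroupOf T, y ∈ Subgroup.normalizer (Z' : Set _) := fun y =>
      normalizer_le_Wof hW.2 (hpE.to_le hD'T)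
        (le_normalizer_of_stronglyClosed hD' (Subgroup.mem_top y))
    set V := preimageAlong θ Z' with hVdef
    have hVT : V ≤ T := preimageAlong_le _
    have hfinV : Finite V := finite_of_le hVT
    have hnormV : T ≤ normalizerIn T V := fun t ht => ⟨ht, by
      refine mem_normalizer_of_forall fun x hx => ?_
      obtain ⟨hxT, hxZ⟩ := mem_preimageAlong.1 hx
      refine mem_preimageAlong.2 ⟨T.mul_mem (T.mul_mem ht hxT) (T.inv_mem ht), ?_⟩
      rw [along_mul θ (T.mul_mem ht hxT) (T.inv_mem ht), along_mul θ ht hxT, along_inv θ ht]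
      exact (Subgroup.mem_normalizer_iff.1 (hZ'n _) _).1 hxZ⟩
    have hVn : F.IsFullyNormalized V := ⟨hVT, fun R _ => by
      have : Finite (normalizerIn T V) := finite_of_le normalizerIn_le
      exact card_le_card (normalizerIn_le.trans hnormV)⟩
    obtain ⟨NV, hNV⟩ := exists_normalizerSystem (F := F) hVT
    have hNVs := normalizerSystem_saturated hT hF hVn hNV
    have hNT : normalizerIn T V = T := le_antisymm normalizerIn_le hnormV
    have hfinNV : Finite (normalizerIn T V) := finite_of_le normalizerIn_le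
    have hmapsV : ∀ P f, IsMap NV P f → IsMap F P f := fun P f hf => by
      obtain ⟨-, g, hg, hge, -⟩ := (isMap_normalizer_iff hNV).1 hf
      exact (hg.restrict le_sup_left).congr hge
    have hQV : F.core < V := by
      refine SetLike.lt_iff_le_and_exists.2 ⟨hq.le_preimage _, ?_⟩
      obtain ⟨⟨y, hy⟩, hy1⟩ := Z'.ne_bot_iff_exists_ne_one.1 hZ'0
      obtain ⟨x, hx, rfl⟩ := exists_along_eq hrange (Subgroup.mem_top y)
      refine ⟨x, mem_preimageAlong.2 ⟨hx, hy⟩, fun hxQ => hy1 (Subtype.ext ?_)⟩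
      show along θ x = 1
      rw [along_of_mem θ hx]
      exact (hker _).2 hxQ
    have hcoreV : V ≤ NV.core := le_core (normalizer_isNormal hVT hNV)
    have hfinC : Finite NV.core :=
      finite_of_le ((core_isNormal (F := NV)).1)
    have hIH : AllP p NV := by
      refine IHk _ ?_ _ (hT.to_le normalizerIn_le) (by rw [hNT]; exact hcard) NV hNVs rfl ?_ ?_ ?_
      · have h0 : Nat.card (normalizerIn T V) = Nat.card T := by rw [hNT]
        have h1 := card_lt_card hQV
        have h2 := card_le_card hcoreV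
        have h3 := card_le_card hVT
        omega
      · exact fun h0 => hQV.not_ge ((hcoreV.trans h0.le).trans bot_le)
      · exact ⟨hD.1.trans hnormV, fun R hR φ hφ x => by
          rw [← ext_apply φ x]
          exact stronglyClosed_mem hD (hmapsV _ _ (IsMap.of_hom hφ)) x.2 (hR x.2)⟩
      · intro N hN
        refine (h NZ hNZ).of_maps (E := N) (fun P f hf => ?_) ?_
        · obtain ⟨hP, g, hg, hge, hgZ⟩ := (isMap_normalizer_iff hN).1 hf
          exact (isMap_normalizer_iff hNZ).2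
            ⟨fun x hx => ⟨(hP hx).1.1, (hP hx).2⟩, g, hmapsV _ _ hg, hge, hgZ⟩
        · exact fun x hx => ⟨hx.1.1, hx.2⟩
    have hEall : AllP p E :=
      IH _ hcardE _ _ hpE rfl E hEs D' hD' fun M hM =>
        allP_normalizer_quot hq le_top hNV hIH hnormV hM
    exact allP_constrained hW hgrp hT (constrained_of_quot hT hF hq (hEall.eq_inner hpE hEs)) hD
      hNZ (h NZ hNZ)
  by_contra hnot
  obtain ⟨Q₀, hQ₀⟩ := exists_bad hS hnot
  obtain ⟨Q, ⟨hQne, hQn, hQbad⟩, hmax⟩ := Set.exists_max_image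
    {Q : Subgroup Ω | Q ≠ ⊥ ∧ F.IsFullyNormalized Q ∧
      ∀ N : FusionSystem (normalizerIn S Q), F.IsNormalizerSystem Q N → ¬ AllP p N}
    (fun Q => Nat.card (normalizerIn S Q))
    ((finite_subgroups_le S).subset fun Q hQ => hQ.2.1.1) ⟨Q₀, hQ₀⟩
  set R := normalizerIn S Q with hRdef
  have hRS : R ≤ S := normalizerIn_le
  have hfinR : Finite R := finite_of_le hRS
  obtain ⟨E, hE⟩ := exists_normalizerSystem (F := F) hQn.1
  have hEs := normalizerSystem_saturated hS hF hQn hE
  have hmaps : ∀ P f, IsMap E P f → IsMap F P f := fun P f hf => by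
    obtain ⟨-, g, hg, hge, -⟩ := (isMap_normalizer_iff hE).1 hf
    exact (hg.restrict le_sup_left).congr hge
  obtain ⟨NZ, hNZ⟩ := exists_normalizerSystem (F := F) (Q := Wof W D) ((Wof_le D).trans hD.1)
  refine hQbad E hE ?_
  rcases eq_or_lt_of_le hRS with hReq | hlt
  · have hfinC : Finite E.core := finite_of_le (core_isNormal (F := E)).1
    refine claimK _ R (hS.to_le hRS) (by rw [hReq]; exact hn) E hEs rfl ?_ ?_ ?_
    · exact fun h0 => hQne (le_bot_iff.1 ((le_core (normalizer_isNormal hQn.1 hE)).trans h0.le))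
    · exact ⟨hD.1.trans hReq.ge, fun P hP φ hφ x => by
        rw [← ext_apply φ x]
        exact stronglyClosed_mem hD (hmaps _ _ (IsMap.of_hom hφ)) x.2 (hP x.2)⟩
    · intro N hN
      refine (h NZ hNZ).of_maps (E := N) (fun P f hf => ?_) ?_
      · obtain ⟨hP, g, hg, hge, hgZ⟩ := (isMap_normalizer_iff hN).1 hf
        exact (isMap_normalizer_iff hNZ).2
          ⟨fun x hx => ⟨(hP hx).1.1, (hP hx).2⟩, g, hmaps _ _ hg, hge, hgZ⟩
      · exact fun x hx => ⟨hx.1.1, hx.2⟩
  · set D₁ := D ⊓ R with hD₁def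
    have hD₁ : E.StronglyClosed D₁ := ⟨inf_le_right, fun P hP φ hφ x =>
      ⟨by
        rw [← ext_apply φ x]
        exact stronglyClosed_mem hD (hmaps _ _ (IsMap.of_hom hφ)) x.2 (hP x.2).1,
        (E.le_of_mem hφ).2 x⟩⟩
    have hD₁0 : D₁ ≠ ⊥ := by
      have : Group.IsNilpotent S := hS.isNilpotent
      haveI : (D.subgroupOf S).Normal :=
        Subgroup.normal_subgroupOf_of_le_normalizer (le_normalizer_of_stronglyClosed hD)
      have hne : D.subgroupOf S ≠ ⊥ := fun h0 => hD0 (by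
        rw [← Subgroup.map_subgroupOf_eq_of_le hD.1, h0, Subgroup.map_bot])
      intro h0
      refine Cfsg.Agent.Cores.inf_center_ne_bot hne (le_bot_iff.1 fun z hz => ?_)
      have hzR : (z : Ω) ∈ R := ⟨z.2, Subgroup.centralizer_le_normalizer _ fun y hy =>
        congrArg Subtype.val (Subgroup.mem_center_iff.1 hz.2 ⟨y, hQn.1 hy⟩)⟩
      have : (z : Ω) ∈ D₁ := ⟨hz.1, hzR⟩
      rw [h0, Subgroup.mem_bot] at this
      exact Subgroup.mem_bot.2 (Subtype.ext this)
    have hRp := hS.to_le hRS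
    have hD₁S : D₁ ≤ S := inf_le_left.trans hD.1
    have hfinD₁ : Finite D₁ := finite_of_le hD₁S
    set Z₁ := Wof W D₁ with hZ₁def
    have hZ₁S : Z₁ ≤ S := (Wof_le _).trans hD₁S
    have hle : normalizerIn S R ≤ normalizerIn S Z₁ := fun x hx => ⟨hx.1, by
      refine normalizer_le_Wof hW.2 (hS.to_le hD₁S) (mem_normalizer_of_forall fun y hy => ?_)
      exact ⟨(Subgroup.mem_normalizer_iff.1 (le_normalizer_of_stronglyClosed hD hx.1) y).1 hy.1,
        (Subgroup.mem_normalizer_iff.1 hx.2 y).1 hy.2⟩⟩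
    obtain ⟨V', hconj, hV'n⟩ := exists_fullyNormalized (F := F) hZ₁S
    obtain ⟨NV', hNV'⟩ := exists_normalizerSystem (F := F) hV'n.1
    have hV'0 : V' ≠ ⊥ := by
      have h0 := Wof_ne_bot hW hS hD₁S hD₁0
      intro h1
      obtain ⟨β, hβ, hβV⟩ := isConj_iff_map.1 hconj
      have hc := hβ.card_img
      rw [hβV, h1, Subgroup.card_bot] at hc
      exact h0 (Subgroup.eq_bot_of_card_eq _ hc.symm)
    have hcard : Nat.card R < Nat.card (normalizerIn S V') := by
      have : Finite (normalizerIn S R) := finite_of_le normalizerIn_le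
      have : Finite (normalizerIn S Z₁) := finite_of_le normalizerIn_le
      have : Finite (normalizerIn S V') := finite_of_le normalizerIn_le
      refine lt_of_lt_of_le (lt_of_lt_of_le (card_lt_card (lt_normalizerIn hS hlt))
        (card_le_card hle)) ?_
      obtain ⟨β, hβ, hβV⟩ := exists_map_to_fullyNormalized hS hF hV'n hconj
      rw [← hβ.card_img]
      exact card_le_card (img_le fun x hx =>
        ⟨hβ.mem hx, hβV ▸ hβ.mem_normalizer_img (le_normalizerIn hZ₁S) hx hx.2⟩)
    have hNV'all : AllP p NV' := by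
      by_contra hbad
      refine absurd (hmax V' ⟨hV'0, hV'n, fun N hN hall => hbad ?_⟩) (not_le.2 hcard)
      exact hall.of_maps (fun P f hf => (isMap_normalizer_iff hN).2
        ((isMap_normalizer_iff hNV').1 hf)) le_rfl
    obtain ⟨NZ₁, hNZ₁⟩ := exists_normalizerSystem (F := F) hZ₁S
    have hall₁ := allP_normalizer_conj hS hF hV'n hconj hNV' hNV'all hNZ₁
    refine IH _ ?_ Ω R hRp rfl E hEs D₁ hD₁ fun M hM => ?_
    · rw [← hn]; exact card_lt_card hlt
    · refine hall₁.of_maps (E := M) (fun P f hf => ?_) ?_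
      · obtain ⟨hP, g, hg, hge, hgZ⟩ := (isMap_normalizer_iff hM).1 hf
        exact (isMap_normalizer_iff hNZ₁).2
          ⟨fun x hx => ⟨(hP hx).1.1, (hP hx).2⟩, g, hmaps _ _ hg, hge, hgZ⟩
      · exact fun x hx => ⟨hx.1.1, hx.2⟩

end Main

end Cfsg.Agent.CharP.InnerControl
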