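import Cfsg.Agent.Lib.CharP.InnerThompson
import Cfsg.Agent.Lib.CharP.InnerControl
import Cfsg.Agent.Lib.Fusion.SectionFreeQuot
import Cfsg.Agent.Lib.Fusion.LocalModels

/-!
A saturated system all whose characteristic subgroups have `p`-group automizers is inner.
-/

set_option autoImplicit false
set_option linter.unusedSectionVars false
set_option linter.style.haveILetI false

universe u

namespace Cfsg.Agent.CharP.CharInner

open Cfsg Cfsg.FusionSystem Cfsg.Agent.Fusion.Basic Cfsg.Agent.Fusion.Saturation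
  Cfsg.Agent.Fusion.Normal Cfsg.Agent.Fusion.CentricExt Cfsg.Agent.Fusion.KNormalizer
  Cfsg.Agent.Fusion.Factor Cfsg.Agent.Fusion.FactorExists
  Cfsg.Agent.CharP.LocalControl Cfsg.Agent.CharP.Climbing Cfsg.Agent.CharP.InnerControl

variable {Ω : Type u} [Group Ω] {S : Subgroup Ω} [Finite S] {p : ℕ} [Fact p.Prime]

/-- A `p`-group automizer of a fully normalized subgroup is induced by `S`. -/
theorem exists_cj (hS : IsPGroup p S) {F : FusionSystem S} (hF : F.IsSaturated p)
    {R : Subgroup Ω} (hR : F.IsFullyNormalized R) (hp : IsPGroup p (F.autGroup R))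
    {f : Ω → Ω} (hf : IsMap F R f) (himg : img f R = R) :
    ∃ s ∈ normalizerIn S R, ∀ x ∈ R, f x = s * x * s⁻¹ := by
  obtain ⟨T, hT⟩ := (fullyNormalized_fullyAutomized hS hF hR).2
  obtain ⟨α, hα, he⟩ := hf.exists_aut himg
  have hfin : Finite R := finite_of_le hR.1
  obtain ⟨n, hn⟩ := IsPGroup.iff_card.1 hp
  have htop : (T : Subgroup (F.autGroup R)) = ⊤ :=
    (T.is_maximal' (Q := ⊤) (hp.to_subgroup ⊤) le_top).symm
  have hα' : α ∈ autInducedBy S R := by
    have : (⟨α, hα⟩ : F.autGroup R) ∈ (T : Subgroup (F.autGroup R)) := by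
      rw [htop]; exact Subgroup.mem_top _
    rw [hT] at this
    exact this
  rw [← conjAut_range] at hα'
  obtain ⟨⟨g, hg⟩, rfl⟩ := hα'
  exact ⟨g, hg, fun x hx => by rw [← he x hx, conjAut_apply _ hx]; rfl⟩

/-- A central quotient with `p`-group automizers only. -/
theorem allP_of_central_quot (hS : IsPGroup p S) {F : FusionSystem S}
    {Ω' : Type u} [Group Ω'] {S' : Subgroup Ω'} {θ : S →* Ω'} {E : FusionSystem S'}
    {Z : Subgroup Ω} (hZ : F.IsCentral Z) (hq : IsQuot F Z θ E) (hE : AllP p E) :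
    AllP p F := by
  intro P hP α
  obtain ⟨g, hg, hge, hgZ⟩ := (isCentral_iff.1 hZ).2 P _ (isMap_of_mem_autGroup hP α.2)
  set X := P ⊔ Z with hXdef
  have hXS : X ≤ S := hg.le
  have hfinX : Finite X := finite_of_le hXS
  have hgX : img g X = X := by
    rw [hg.img_sup, img_congr hge, autFun_img, img_congr (f := g) (g := id) (P := Z) hgZ, img_id]
  obtain ⟨β, hβ, hβe⟩ := hg.exists_aut hgX
  set P' := imageAlong θ X with hP'def
  have hP' : P' ≤ S' := fun y hy => by
    obtain ⟨z, -, hzS, rfl⟩ := mem_imageAlong.1 hy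
    exact along_mem hq.range_eq hzS
  have hpre : preimageAlong θ P' ≤ X := by
    intro z hz
    obtain ⟨hzS, hzP⟩ := mem_preimageAlong.1 hz
    obtain ⟨r, hr, hrS, hre⟩ := mem_imageAlong.1 hzP
    have := (along_eq_iff hq.ker_iff hrS hzS).1 hre
    rw [show z = r * (r⁻¹ * z) by group]
    exact X.mul_mem hr (Subgroup.mem_sup_right this)
  have hXpre : X ≤ preimageAlong θ P' := fun x hx =>
    mem_preimageAlong.2 ⟨hXS hx, mem_imageAlong.2 ⟨x, hx, hXS hx, rfl⟩⟩
  obtain ⟨g', hg', hcomp⟩ := hq.descend P' g hP' (hg.restrict hpre)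
  have hfinP' : Finite P' := by
    have := hq.finite
    exact finite_of_le hP'
  have himg' : img g' P' = P' := by
    refine eq_of_le_card (img_le fun y hy => ?_) hg'.card_img.ge
    obtain ⟨x, hx, hxS, rfl⟩ := mem_imageAlong.1 hy
    rw [hcomp x (hXpre hx)]
    exact mem_imageAlong.2 ⟨g x, hgX.le (mem_img_self g hx), hg.mem hx, rfl⟩
  obtain ⟨γ, hγ, hγe⟩ := hg'.exists_aut himg'
  obtain ⟨k, hk⟩ := hE P' hP' ⟨γ, hγ⟩
  have hγk : γ ^ p ^ k = 1 := congrArg Subtype.val hk
  have key : ∀ n, ∀ x ∈ X, along θ (autFun (β ^ n) x) = autFun (γ ^ n) (along θ x) := by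
    intro n
    induction n with
    | zero => intro x _; rw [pow_zero, pow_zero, autFun_one, autFun_one]; rfl
    | succ n ih =>
      intro x hx
      have hm := autFun_mem (β ^ n) hx
      rw [autFun_pow_succ, autFun_pow_succ, hβe _ hm, ← hcomp _ (hXpre hm), ih x hx, hγe]
      exact autFun_mem _ (mem_imageAlong.2 ⟨x, hx, hXS hx, rfl⟩)
  have hZX : Z ≤ X := le_sup_right
  have hZS : Z ≤ S := hZX.trans hXS
  have hfinZ : Finite Z := finite_of_le hZS
  -- the power is trivial modulo `Z` and fixes `Z`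
  set δ := β ^ p ^ k with hδ
  have hfixβ : ∀ n, ∀ z ∈ Z, autFun (β ^ n) z = z := by
    intro n
    induction n with
    | zero => intro z _; rw [pow_zero, autFun_one]; rfl
    | succ n ih =>
      intro z hz
      rw [autFun_pow_succ, ih z hz, hβe z (hZX hz), hgZ z hz]
  have hmod : ∀ x ∈ X, x⁻¹ * autFun δ x ∈ Z := fun x hx => by
    have h1 := key (p ^ k) x hx
    rw [hγk, autFun_one] at h1
    exact (along_eq_iff hq.ker_iff (hXS hx) (hXS (autFun_mem _ hx))).1 h1.symm
  have hiter : ∀ n, ∀ x ∈ X, autFun (δ ^ n) x = x * (x⁻¹ * autFun δ x) ^ n := by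
    intro n
    induction n with
    | zero => intro x _; rw [pow_zero, autFun_one]; simp
    | succ n ih =>
      intro x hx
      have hm := Z.pow_mem (hmod x hx) n
      have hd := isMap_of_mem_autGroup hXS (Subgroup.pow_mem _ hβ (p ^ k))
      rw [autFun_pow_succ, ih x hx, hδ, hd.map_mul hx (hZX hm), hfixβ (p ^ k) _ hm, pow_succ',
        ← mul_assoc x, mul_inv_cancel_left]
  obtain ⟨m, hm⟩ := IsPGroup.iff_card.1 (hS.to_le hZS)
  refine ⟨k + m, Subtype.ext ?_⟩
  rw [SubmonoidClass.coe_pow, OneMemClass.coe_one]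
  refine mulAut_ext fun x hx => ?_
  have hres : ∀ n, ∀ y ∈ P, autFun ((α : MulAut P) ^ n) y = autFun (β ^ n) y := by
    intro n
    induction n with
    | zero => intro y _; rw [pow_zero, pow_zero, autFun_one, autFun_one]
    | succ n ih =>
      intro y hy
      have h1 := autFun_mem ((α : MulAut P) ^ n) hy
      rw [autFun_pow_succ, autFun_pow_succ, ← ih y hy, hβe _ (Subgroup.mem_sup_left h1),
        hge _ h1]
  have hxX : x ∈ X := Subgroup.mem_sup_left hx
  rw [hres _ x hx, pow_add, pow_mul, ← hδ, hiter _ x hxX]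
  have : (x⁻¹ * autFun δ x) ^ p ^ m = 1 := by
    rw [← hm]
    exact congrArg Subtype.val (pow_card_eq_one' (x := (⟨_, hmod x hxX⟩ : Z)))
  rw [this, mul_one, autFun_one]
  rfl

theorem exists_maxAbelian (T : Subgroup Ω) [Finite T] :
    ∃ A : Subgroup T, A ∈ maxAbelianSubgroups T := by
  obtain ⟨A, hA, hmax⟩ := Set.exists_max_image {A : Subgroup T | IsMulCommutative A}
    (fun A => Nat.card A) (Set.toFinite _)
    ⟨⊥, (inferInstance : IsMulCommutative (⊥ : Subgroup T))⟩
  exact ⟨A, hA, fun B hB => hmax B hB⟩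

theorem centralizerIn_J_le (T : Subgroup Ω) [Finite T] :
    centralizerIn T (thompsonSubgroupAOf T) ≤ thompsonSubgroupAOf T := by
  intro c hc
  obtain ⟨A, hA, hmax⟩ := exists_maxAbelian T
  let c' : T := ⟨c, hc.1⟩
  have hAJ : A ≤ thompsonSubgroupA T := le_sSup ⟨hA, hmax⟩
  have hcA : ∀ a ∈ A, a * c' = c' * a := fun a ha =>
    Subtype.ext (hc.2 _ ⟨a, hAJ ha, rfl⟩)
  have hab : IsMulCommutative (A ⊔ Subgroup.zpowers c' : Subgroup T) := by
    rw [← Subgroup.le_centralizer_iff_isMulCommutative]
    refine sup_le ?_ ?_ <;> rw [Subgroup.le_centralizer_iff] <;> refine sup_le ?_ ?_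
    · exact Subgroup.le_centralizer_iff_isMulCommutative.2 hA
    · exact Subgroup.zpowers_le.2 fun a ha => hcA a ha
    · intro a ha b hb
      obtain ⟨k, rfl⟩ := hb
      exact ((Commute.zpow_right (show Commute a c' from hcA a ha) k).eq).symm
    · exact Subgroup.zpowers_le.2 fun b hb => by
        obtain ⟨k, rfl⟩ := hb
        exact ((Commute.refl c').zpow_left k).eq
  have heq := Subgroup.eq_of_le_of_card_ge le_sup_left (hmax _ hab)
  exact ⟨c', hAJ (heq.ge (Subgroup.mem_sup_right (Subgroup.mem_zpowers c'))), rfl⟩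

theorem normalizerIn_eq_self {W : Subgroup Ω}
    (h : ∀ s ∈ S, s ∈ Subgroup.normalizer (W : Set Ω)) : normalizerIn S W = S :=
  le_antisymm normalizerIn_le fun s hs => ⟨hs, h s hs⟩

theorem fullyNormalized_of_top {F : FusionSystem S} {W : Subgroup Ω} (hW : W ≤ S)
    (h : ∀ s ∈ S, s ∈ Subgroup.normalizer (W : Set Ω)) : F.IsFullyNormalized W :=
  ⟨hW, fun R _ => by
    rw [normalizerIn_eq_self h]
    exact card_le_card normalizerIn_le⟩

/-- The criterion. -/
theorem allP_of_char (hS : IsPGroup p S) {F : FusionSystem S} (hF : F.IsSaturated p)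
    (hp : p ≠ 2 ∨ F.IsSectionFree p (Equiv.Perm (Fin 4)))
    (h : ∀ Q : Subgroup Ω, Q ≤ S → Q ≠ ⊥ → (Q.subgroupOf S).Characteristic →
      IsPGroup p (F.autGroup Q)) : AllP p F := by
  suffices ∀ (n : ℕ) (Ω : Type u) [Group Ω] (S : Subgroup Ω) [Finite S], IsPGroup p S →
      Nat.card S = n → ∀ F : FusionSystem S, F.IsSaturated p →
      (p ≠ 2 ∨ F.IsSectionFree p (Equiv.Perm (Fin 4))) →
      (∀ Q : Subgroup Ω, Q ≤ S → Q ≠ ⊥ → (Q.subgroupOf S).Characteristic →
        IsPGroup p (F.autGroup Q)) → AllP p F from this _ Ω S hS rfl F hF hp h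
  clear! S
  intro n
  induction n using Nat.strong_induction_on with
  | _ n IH =>
  intro Ω _ S _ hS hn F hF hp h
  by_cases hS0 : S = ⊥
  · intro P hP α
    refine ⟨0, Subtype.ext (MulEquiv.ext fun x => Subtype.ext ?_)⟩
    have h1 : ∀ y : P, (y : Ω) = 1 := fun y => Subgroup.mem_bot.1 (hS0 ▸ hP y.2)
    rw [h1, h1]
  have inner : ∀ P : Subgroup Ω, F.Hom P = (innerFusionSystem S).Hom P := by
    set Z := S ⊓ Subgroup.centralizer (S : Set Ω) with hZdef
    set J := thompsonSubgroupAOf S with hJdef
    have hZS : Z ≤ S := inf_le_left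
    have hJS : J ≤ S := Wof_le (W := LocalJ.J.{u}) S
    have hfinJ : Finite J := finite_of_le hJS
    have hJnorm : ∀ s ∈ S, s ∈ Subgroup.normalizer (J : Set Ω) := fun s hs =>
      normalizer_le_Wof LocalJ.isoInv_J hS (Subgroup.le_normalizer hs)
    have hJn : F.IsFullyNormalized J := fullyNormalized_of_top hJS hJnorm
    have hJc : F.IsCentric J := centric_of_fullyCentralized hS hF
      (fullyNormalized_fullyCentralized hS hF hJn) (centralizerIn_J_le S)
    have hZeq : Z.subgroupOf S = Subgroup.center S := by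
      ext z
      simp only [Z, Subgroup.mem_subgroupOf, Subgroup.mem_inf, Subgroup.mem_center_iff,
        Subgroup.mem_centralizer_iff, SetLike.coe_mem, true_and]
      exact ⟨fun hz y => Subtype.ext (hz y y.2), fun hz y hy => congrArg Subtype.val (hz ⟨y, hy⟩)⟩
    have hnt : Nontrivial S := S.nontrivial_iff_ne_bot.2 hS0
    have hZ0 : Z ≠ ⊥ := fun h0 => by
      have : Nontrivial (Subgroup.center S) := hS.center_nontrivial
      refine (Subgroup.nontrivial_iff_ne_bot _).1 this ?_
      rw [← hZeq, h0, Subgroup.bot_subgroupOf]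
    have hZchar : (Z.subgroupOf S).Characteristic := hZeq ▸ Subgroup.centerCharacteristic
    have hJ0 : J ≠ ⊥ := fun h0 => by
      refine hZ0 (eq_bot_iff.2 ?_)
      rw [← h0, hJdef]
      intro z hz
      exact (centralizerIn_J_le S) ⟨hz.1, fun y hy => hz.2 y (hJS hy)⟩
    have hJchar : (J.subgroupOf S).Characteristic := by
      rw [hJdef, thompsonSubgroupAOf, Subgroup.subgroupOf,
        Subgroup.comap_map_eq_self_of_injective S.subtype_injective]
      refine Subgroup.characteristic_iff_map_eq.2 fun φ => ?_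
      exact LocalJ.isoInv_J S S hS φ
    have hJp := h J hJS hJ0 hJchar
    have hZnorm : ∀ s ∈ S, s ∈ Subgroup.normalizer (Z : Set Ω) := fun s hs =>
      Subgroup.centralizer_le_normalizer _ fun z hz => (hz.2 s hs).symm
    have hZn : F.IsFullyNormalized Z := fullyNormalized_of_top hZS hZnorm
    have hNZ := normalizerIn_eq_self hZnorm
    obtain ⟨C, hC⟩ := exists_normalizerSystem (F := F) (Q := Z) hZS
    have hCs := normalizerSystem_saturated hS hF hZn hC
    have hfinT : Finite (normalizerIn S Z) := finite_of_le normalizerIn_le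
    have hTp : IsPGroup p (normalizerIn S Z) := hS.to_le normalizerIn_le
    have hCmap : ∀ P f, IsMap C P f → IsMap F P f := fun P f hf => by
      obtain ⟨-, g, hg, hge, -⟩ := (isMap_normalizer_iff hC).1 hf
      exact (hg.restrict le_sup_left).congr hge
    have hfix : ∀ g, IsMap F Z g → img g Z = Z → ∀ z ∈ Z, g z = z := by
      intro g hg hgZ z hz
      obtain ⟨s, hs, he⟩ := exists_cj hS hF hZn (h Z hZS hZ0 hZchar) hg hgZ
      rw [he z hz, hz.2 s hs.1, mul_inv_cancel_right]
    have hZT : Z ≤ normalizerIn S Z := le_normalizerIn hZS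
    have hZC : C.IsCentral Z := isCentral_iff.2 ⟨hZT, fun P f hf => by
      obtain ⟨g, hg, hge, hgZ⟩ := (isNormal_iff.1 (normalizer_isNormal hZS hC)).2 P f hf
      exact ⟨g, hg, hge, hfix g ((hCmap _ _ hg).restrict le_sup_right) hgZ⟩⟩
    -- the quotient by `Z`
    have hsc := normal_stronglyClosed (central_normal hZC)
    haveI : (Z.subgroupOf (normalizerIn S Z)).Normal :=
      Subgroup.normal_subgroupOf_of_le_normalizer fun t ht => ht.2
    let θ : normalizerIn S Z →* normalizerIn S Z ⧸ Z.subgroupOf (normalizerIn S Z) :=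
      QuotientGroup.mk' _
    have hker : ∀ t : normalizerIn S Z, θ t = 1 ↔ (t : Ω) ∈ Z := fun t => by
      rw [QuotientGroup.mk'_apply, QuotientGroup.eq_one_iff, Subgroup.mem_subgroupOf]
    have hrange : θ.range = ⊤ := QuotientGroup.range_mk' _
    obtain ⟨E, hE⟩ := exists_factorSystem (F := C) hsc hker hrange
    have hq := isQuot_of_factorSystem hsc hE
    have hfinE : Finite (⊤ : Subgroup (normalizerIn S Z ⧸ Z.subgroupOf (normalizerIn S Z))) :=
      hq.finite
    have hcard : Nat.card (⊤ : Subgroup (normalizerIn S Z ⧸ Z.subgroupOf (normalizerIn S Z))) <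
        n := by
      refine lt_of_lt_of_le (b := Nat.card (normalizerIn S Z)) ?_
        (hn ▸ card_le_card normalizerIn_le)
      rw [Subgroup.card_top, Subgroup.card_eq_card_quotient_mul_card_subgroup
        (Z.subgroupOf (normalizerIn S Z))]
      refine (Nat.lt_mul_iff_one_lt_right Nat.card_pos).2 ((Subgroup.one_lt_card_iff_ne_bot _).2 ?_)
      intro h0
      rw [Subgroup.subgroupOf_eq_bot, disjoint_iff, inf_eq_left.2 hZT] at h0
      exact hZ0 h0
    have hEall : AllP p E := by
      refine IH _ hcard _ _ (hq.isPGroup hTp) rfl E (hq.saturated hTp hCs) ?_ ?_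
      · exact hp.imp_right fun hfree => Fusion.SectionFreeQuot.sectionFree_quot hTp hCs
          (central_normal hZC) hq (Fusion.LocalModels.sectionFree_normalizer hS hF hfree hZn hC)
      intro Q' hQ'S hQ'0 hQ'char α
      set Q := preimageAlong θ Q' with hQdef
      have hQT : Q ≤ normalizerIn S Z := preimageAlong_le _
      have hQS : Q ≤ S := hQT.trans normalizerIn_le
      have hZQ : Z ≤ Q := hq.le_preimage Q'
      have hQeq : Q.subgroupOf (normalizerIn S Z) = Q'.comap θ := by
        ext t
        rw [Subgroup.mem_subgroupOf, hQdef, mem_preimageAlong, Subgroup.mem_comap,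
          along_of_mem θ t.2]
        exact and_iff_right t.2
      have hchar : (Q.subgroupOf S).Characteristic := by
        have hT : (Q.subgroupOf (normalizerIn S Z)).Characteristic := by
          refine Subgroup.characteristic_iff_comap_eq.2 fun φ => ?_
          have hφZ : ∀ t : normalizerIn S Z, (φ t : Ω) ∈ Z ↔ (t : Ω) ∈ Z := by
            intro t
            have hc : ∀ u : normalizerIn S Z, (u : Ω) ∈ Z ↔ u ∈ Subgroup.center _ := fun u =>
              ⟨fun hu => Subgroup.mem_center_iff.2 fun y => Subtype.ext (hu.2 y y.2.1),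
                fun hu => ⟨u.2.1, fun y hy => congrArg Subtype.val
                  (Subgroup.mem_center_iff.1 hu ⟨y, hy, hZnorm y hy⟩)⟩⟩
            rw [hc, hc]
            have := Subgroup.characteristic_iff_comap_eq.1
              (Subgroup.centerCharacteristic (G := normalizerIn S Z)) φ
            exact SetLike.ext_iff.1 this t
          let φ' := QuotientGroup.congr (Z.subgroupOf (normalizerIn S Z))
            (Z.subgroupOf (normalizerIn S Z)) φ (by
              refine Subgroup.ext fun t => ?_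
              constructor
              · rintro ⟨u, hu, rfl⟩
                exact (hφZ u).2 hu
              · intro ht
                exact ⟨φ.symm t, (hφZ (φ.symm t)).1 (by rwa [MulEquiv.apply_symm_apply]),
                  φ.apply_symm_apply t⟩)
          have hinv := Subgroup.characteristic_iff_comap_eq.1 hQ'char
            (Subgroup.topEquiv.trans (φ'.trans Subgroup.topEquiv.symm))
          ext t
          rw [Subgroup.mem_comap, hQeq, Subgroup.mem_comap, Subgroup.mem_comap]
          exact SetLike.ext_iff.1 hinv (⟨θ t, Subgroup.mem_top _⟩)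
        exact hNZ ▸ hT
      have hQ0 : Q ≠ ⊥ := fun h0 => hZ0 (eq_bot_iff.2 (hZQ.trans h0.le))
      have hQp : IsPGroup p (C.autGroup Q) :=
        (h Q hQS hQ0 hchar).to_le (autGroup_le_of_maps hCmap hQT hQS)
      obtain ⟨f, hf, hfe⟩ := hq.lift Q' _ (isMap_of_mem_autGroup hQ'S α.2)
      have hfinQ : Finite Q := finite_of_le hQS
      have hfQ : img f Q = Q := by
        refine eq_of_le_card (img_le fun x hx => mem_preimageAlong.2 ⟨hf.mem hx, ?_⟩)
          hf.card_img.ge
        rw [← hfe x hx]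
        exact autFun_mem _ (mem_preimageAlong.1 hx).2
      obtain ⟨β, hβ, hβe⟩ := hf.exists_aut hfQ
      obtain ⟨k, hk⟩ := hQp ⟨β, hβ⟩
      refine ⟨k, Subtype.ext (mulAut_ext fun y hy => ?_)⟩
      have key : ∀ n, ∀ x ∈ Q,
          along θ (autFun (β ^ n) x) = autFun ((α : MulAut Q') ^ n) (along θ x) := by
        intro n
        induction n with
        | zero => intro x _; rw [pow_zero, pow_zero, autFun_one, autFun_one]; rfl
        | succ n ih =>
          intro x hx
          rw [autFun_pow_succ, autFun_pow_succ, hβe _ (autFun_mem _ hx),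
            ← hfe _ (autFun_mem _ hx), ih x hx]
      obtain ⟨x, hx, rfl⟩ := exists_along_eq hq.range_eq (hQ'S hy)
      rw [SubmonoidClass.coe_pow, OneMemClass.coe_one,
        ← key _ x (mem_preimageAlong.2 ⟨hx, hy⟩)]
      have hk' : β ^ p ^ k = 1 := congrArg Subtype.val hk
      rw [hk', autFun_one, autFun_one]
      rfl
    have hCall : AllP p C := allP_of_central_quot hTp hZC hq hEall
    have hCinner := hCall.eq_inner hTp hCs
    refine InnerThompson.inner_of_models hS hF (LocalModel.altModels_of_free hS hF hp) ?_ ?_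
    · intro P f hf hZP hfZ
      have himgZ : img f Z = Z := by rw [img_congr (f := f) (g := id) hfZ, img_id]
      have hfC : IsMap C P f := (isMap_normalizer_iff hC).2
        ⟨fun x hx => ⟨hf.le hx, hZnorm x (hf.le hx)⟩, f, by rwa [sup_eq_left.2 hZP],
          fun _ _ => rfl, himgZ⟩
      rw [hCinner] at hfC
      obtain ⟨s, hs, hse⟩ := InnerControl.isMap_inner hfC
      exact (isMap_cj (F := innerFusionSystem S) hf.le hs.1).congr fun x hx => (hse x hx).symm
    · intro P f hf hJP himg
      obtain ⟨s, hs, hse⟩ := exists_cj hS hF hJn hJp (hf.restrict hJP) himg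
      have hg : IsMap F P (cj s) := isMap_cj hf.le hs.1
      obtain ⟨z, hzJ, -, hze⟩ := agree_on_centric hS hF hJc hJP hg hf fun x hx => (hse x hx).symm
      refine (isMap_cj (F := innerFusionSystem S) hf.le (S.mul_mem hs.1 (hJS hzJ))).congr
        fun x hx => ?_
      rw [hze x hx]
      simp [cj, mul_assoc]
  refine (allP_inner hS).of_maps (fun P f hf => ?_) le_rfl
  obtain ⟨φ, hφ, he⟩ := hf
  exact ⟨φ, inner P ▸ hφ, he⟩

end Cfsg.Agent.CharP.CharInner
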