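import Cfsg.Agent.Lib.CharP.S4FreeFactor
import Cfsg.Agent.Lib.PLocal.InvolvesS4
import Cfsg.Agent.S3755
import Cfsg.Agent.Lib.Components.Hyperplane
import Cfsg.Agent.Lib.PLocal.PSolvable
import Cfsg.Agent.Lib.PLocal.Replacement
import Cfsg.Agent.Lib.Cores.Fitting
import Cfsg.Agent.Lib.Coprime.OmegaDetect
import Cfsg.Agent.Techniques.Sylow
import Cfsg.Agent.Lib.Transfer.Fusion

/-!
2-constrained `S₄`-free groups with Sylow 2-subgroups of class at most two:
`G = N(J_e(S)) O_{2'}(G)`, without any solvability assumption.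
-/

set_option autoImplicit false

namespace Cfsg.Agent.CharP.ClassTwoFactor

open Subgroup

variable {G : Type*} [Group G]

/-- The case `O_{2'}(G) = 1`. -/
theorem normalizer_eq_top_of_char [Finite G] (hS4 : ¬ Cfsg.Involves (Equiv.Perm (Fin 4)) G)
    (hchar : centralizer (Cfsg.pCore 2 G : Set G) ≤ Cfsg.pCore 2 G) (S : Sylow 2 G)
    (hcl : ∀ a ∈ (S : Subgroup G), ∀ b ∈ (S : Subgroup G), ∀ c ∈ (S : Subgroup G),
      c * (a * b * a⁻¹ * b⁻¹) = a * b * a⁻¹ * b⁻¹ * c) :
    normalizer ((Cfsg.thompsonSubgroupOf 2 (S : Subgroup G)) : Set G) = ⊤ := by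
  classical
  have : Fact (Nat.Prime 2) := ⟨Nat.prime_two⟩
  set Q := Cfsg.pCore 2 G with hQdef
  have hQp : IsPGroup 2 Q := PLocal.Cores.isPGroup_pCore
  have hQn : Q.Normal := inferInstance
  have hQS : Q ≤ (S : Subgroup G) := by
    obtain ⟨T, hT⟩ := hQp.exists_le_sylow
    obtain ⟨g, hg⟩ := MulAction.exists_smul_eq G T S
    intro x hx
    rw [← hg]
    refine Transfer.Fusion.mem_smul_sylow_iff.mpr (hT ?_)
    simpa using hQn.conj_mem x hx g⁻¹
  -- the module
  set Z0 : Set G := {z | z ∈ (S : Subgroup G) ∧ z ^ 2 = 1 ∧ ∀ s ∈ (S : Subgroup G), s * z = z * s}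
  have hZ0Q : ∀ z ∈ Z0, z ∈ Q ∧ ∀ x ∈ Q, x * z = z * x := fun z hz =>
    ⟨hchar (mem_centralizer_iff.mpr fun x hx => hz.2.2 x (hQS hx)), fun x hx => hz.2.2 x (hQS hx)⟩
  set V := normalClosure Z0 with hVdef
  have hVn : V.Normal := normalClosure_normal
  let ΩQ : Subgroup G :=
    { carrier := {z | z ∈ Q ∧ (∀ x ∈ Q, x * z = z * x) ∧ z ^ 2 = 1}
      one_mem' := ⟨Q.one_mem, fun x _ => by simp, one_pow 2⟩
      mul_mem' := fun {u v} hu hv => ⟨Q.mul_mem hu.1 hv.1,
        fun x hx => (Commute.mul_right (hu.2.1 x hx) (hv.2.1 x hx)).eq, by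
        rw [Commute.mul_pow (hv.2.1 u hu.1), hu.2.2, hv.2.2, one_mul]⟩
      inv_mem' := fun {u} hu => ⟨Q.inv_mem hu.1,
        fun x hx => (Commute.inv_right (hu.2.1 x hx)).eq, by
        rw [inv_pow, hu.2.2, inv_one]⟩ }
  have : ΩQ.Normal := ⟨fun z hz g => ⟨hQn.conj_mem z hz.1 g, fun x hx => by
    have h := hz.2.1 (g⁻¹ * x * g) (by simpa using hQn.conj_mem x hx g⁻¹)
    calc x * (g * z * g⁻¹) = g * (g⁻¹ * x * g * z) * g⁻¹ := by group
      _ = _ := by rw [h]; group, by rw [conj_pow, hz.2.2, mul_one, mul_inv_cancel]⟩⟩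
  have hVΩ : V ≤ ΩQ := normalClosure_le_normal fun z hz => ⟨(hZ0Q z hz).1, (hZ0Q z hz).2, hz.2.1⟩
  have hV : Cfsg.IsElementaryAbelian 2 V :=
    ⟨⟨⟨fun u v => Subtype.ext ((hVΩ v.2).2.1 u (hVΩ u.2).1)⟩⟩, fun v hv => (hVΩ hv).2.2⟩
  have hVS : V ≤ (S : Subgroup G) := fun v hv => hQS (hVΩ hv).1
  set C := centralizer (V : Set G) with hC
  have hCn : C.Normal := inferInstance
  set q := QuotientGroup.mk' C with hq
  have hqs : Function.Surjective q := QuotientGroup.mk'_surjective C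
  -- the quotient has trivial `O₂`
  have hO2 : Cfsg.pCore 2 (G ⧸ C) = ⊥ := by
    set L := (Cfsg.pCore 2 (G ⧸ C)).comap q with hL
    have hCL : C ≤ L := fun x hx => by
      show q x ∈ Cfsg.pCore 2 (G ⧸ C)
      rw [show q x = 1 from (QuotientGroup.eq_one_iff x).mpr hx]; exact one_mem _
    set T := (S : Subgroup G) ⊓ L with hT
    have h1 : (C ⊔ T).relIndex L ∣ C.relIndex L := relIndex_dvd_of_le_left L le_sup_left
    obtain ⟨k, hk⟩ := (PLocal.Cores.isPGroup_pCore (p := 2) (G := G ⧸ C)).exists_card_eq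
    have hCk : C.relIndex L = 2 ^ k := by
      rw [← hk, ← map_comap_eq_self_of_surjective hqs (Cfsg.pCore 2 (G ⧸ C)), ← relIndex_ker, hq,
        QuotientGroup.ker_mk']
    rw [hCk] at h1
    have h2 : ¬ 2 ∣ (C ⊔ T).relIndex L := fun h =>
      Techniques.not_dvd_relIndex_of_normal S L (h.trans (relIndex_dvd_of_le_left L le_sup_right))
    obtain ⟨j, -, hj⟩ := (Nat.dvd_prime_pow Nat.prime_two).mp h1
    have hLeq : L ≤ C ⊔ T := by
      cases j with
      | zero => exact relIndex_eq_one.mp (by rwa [pow_zero] at hj)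
      | succ j => exact absurd (hj ▸ dvd_pow_self 2 j.succ_ne_zero) h2
    have hLn : L.Normal := inferInstance
    have hLC : L ≤ C := by
      have key : ∀ z ∈ Z0, L ≤ centralizer {z} := fun z hz => hLeq.trans (sup_le
        (centralizer_le (Set.singleton_subset_iff.mpr (subset_normalClosure hz)))
        (fun t ht => mem_centralizer_singleton_iff.mpr (hz.2.2 t (mem_inf.mp ht).1)))
      intro l hl
      show l ∈ centralizer (normalClosure Z0 : Set G)
      rw [normalClosure, centralizer_closure]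
      rw [mem_centralizer_iff]
      intro z hz
      obtain ⟨z0, hz0, hzz⟩ := Group.mem_conjugatesOfSet_iff.mp hz
      obtain ⟨g, rfl⟩ := isConj_iff.mp hzz
      have h := mem_centralizer_singleton_iff.mp (key z0 hz0
        (show g⁻¹ * l * g ∈ L by simpa using hLn.conj_mem l hl g⁻¹))
      calc g * z0 * g⁻¹ * l = g * (z0 * (g⁻¹ * l * g)) * g⁻¹ := by group
        _ = g * (g⁻¹ * l * g * z0) * g⁻¹ := by rw [h]
        _ = _ := by group
    rw [← map_comap_eq_self_of_surjective hqs (Cfsg.pCore 2 (G ⧸ C)), ← hL,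
      Subgroup.map_eq_bot_iff, hq, QuotientGroup.ker_mk']
    exact hLC
  -- commutators with elements of square one
  have hcom : ∀ u ∈ (S : Subgroup G), ∀ a ∈ (S : Subgroup G), a ^ 2 = 1 →
      u * a * u⁻¹ * a⁻¹ ∈ Z0 := by
    intro u hu a ha ha2
    refine ⟨mul_mem (mul_mem (mul_mem hu ha) (inv_mem hu)) (inv_mem ha), ?_,
      fun s hs => hcl u hu a ha s hs⟩
    set c := u * a * u⁻¹ * a⁻¹
    have hca : c * a = u * a * u⁻¹ := by simp [c]
    have h : (c * a) ^ 2 = 1 := by rw [hca, conj_pow, ha2, mul_one, mul_inv_cancel]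
    rwa [(show Commute c a from (hcl u hu a ha a ha).symm).mul_pow, ha2, mul_one] at h
  -- every largest elementary abelian subgroup lies in `O₂(G)`
  have hmain : ∀ A : Subgroup G, A ≤ (S : Subgroup G) → Cfsg.IsElementaryAbelian 2 A →
      (∀ B : Subgroup G, B ≤ (S : Subgroup G) → Cfsg.IsElementaryAbelian 2 B →
        Nat.card B ≤ Nat.card A) → A ≤ Q := by
    intro A hAS hA hAmax
    have hAC : A ≤ C := S4FreeFactor.le_centralizer_of_max hS4 hV hO2 S hVS hAS hA hAmax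
    -- elements stabilizing `1 ≤ V ≤ Q`
    let K : Subgroup G :=
      { carrier := {g | g ∈ C ∧ ∀ x ∈ Q, g * x * g⁻¹ * x⁻¹ ∈ V}
        one_mem' := ⟨C.one_mem, fun x _ => by simp⟩
        mul_mem' := fun {g h} hg hh => ⟨C.mul_mem hg.1 hh.1, fun x hx => by
          have := V.mul_mem (hVn.conj_mem _ (hh.2 x hx) g) (hg.2 x hx)
          rwa [show g * (h * x * h⁻¹ * x⁻¹) * g⁻¹ * (g * x * g⁻¹ * x⁻¹) =
            g * h * x * (g * h)⁻¹ * x⁻¹ by group] at this⟩
        inv_mem' := fun {g} hg => ⟨C.inv_mem hg.1, fun x hx => by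
          have := hVn.conj_mem _ (V.inv_mem (hg.2 x hx)) g⁻¹
          rwa [show g⁻¹ * (g * x * g⁻¹ * x⁻¹)⁻¹ * g⁻¹⁻¹ = g⁻¹ * x * g⁻¹⁻¹ * x⁻¹ by group] at this⟩ }
    have hKn : K.Normal := ⟨fun g hg w => ⟨hCn.conj_mem g hg.1 w, fun x hx => by
      have := hVn.conj_mem _ (hg.2 (w⁻¹ * x * w) (by simpa using hQn.conj_mem x hx w⁻¹)) w
      rwa [show w * (g * (w⁻¹ * x * w) * g⁻¹ * (w⁻¹ * x * w)⁻¹) * w⁻¹ =
        w * g * w⁻¹ * x * (w * g * w⁻¹)⁻¹ * x⁻¹ by group] at this⟩⟩
    have hK2 : IsPGroup 2 K := by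
      intro g
      obtain ⟨k, m, hm, hkm⟩ :=
        Nat.exists_eq_pow_mul_and_not_dvd (orderOf_pos (g : G)).ne' 2 (by norm_num)
      refine ⟨k, Subtype.ext ?_⟩
      show (g : G) ^ 2 ^ k = 1
      set h := (g : G) ^ 2 ^ k with hh
      have hho : orderOf h ∣ m := orderOf_dvd_of_pow_eq_one (by
        rw [hh, ← pow_mul, ← hkm, pow_orderOf_eq_one])
      have hcop : (orderOf h).Coprime 2 := Nat.Coprime.coprime_dvd_left hho
        ((Nat.Prime.coprime_iff_not_dvd Nat.prime_two).mpr hm).symm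
      have hhK : h ∈ K := K.pow_mem g.2 _
      have hhQ : h ∈ Q := hchar (mem_centralizer_iff.mpr fun x hx => by
        refine (Coprime.OmegaDetect.eq_one_of_fix
          (mem_centralizer_iff.mp hhK.1 _ (hhK.2 x hx)).symm
          (Coprime.OmegaDetect.coprime_of_mem (Q := Q) hQp hcop ?_)).symm
        exact Q.mul_mem (hQn.conj_mem x hx h) (Q.inv_mem hx))
      exact orderOf_eq_one_iff.mp (Nat.eq_one_of_dvd_coprimes
        (Coprime.OmegaDetect.coprime_of_mem (Q := Q) hQp hcop hhQ) dvd_rfl dvd_rfl)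
    refine fun a ha => PLocal.Cores.le_pCore hK2 ⟨hAC ha, fun x hx => ?_⟩
    have h := hcom x (hQS hx) a (hAS ha) (hA.2 a ha)
    have h' := V.inv_mem (subset_normalClosure h : _ ∈ V)
    rwa [show (x * a * x⁻¹ * a⁻¹)⁻¹ = a * x * a⁻¹ * x⁻¹ by group] at h'
  have hJQ : Cfsg.thompsonSubgroupOf 2 (S : Subgroup G) ≤ Q := by
    rw [Cfsg.thompsonSubgroupOf, map_le_iff_le_comap]
    refine sSup_le fun B hB => ?_
    rw [← map_le_iff_le_comap]
    refine hmain _ (map_subtype_le _) (PLocal.ThompsonSubgroup.IsElementaryAbelian.map hB.1 _) fun B' hB'S hB' => ?_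
    rw [card_map_of_injective (S : Subgroup G).subtype_injective]
    refine le_trans ?_ (hB.2 (B'.subgroupOf S)
      (PLocal.ThompsonSubgroup.IsElementaryAbelian.comap hB' (S : Subgroup G).subtype_injective))
    rw [Nat.card_congr (subgroupOfEquivOfLe hB'S).toEquiv]
  rw [← PLocal.ThompsonSubgroup.thompsonSubgroupOf_eq_of_le_of_le hJQ hQS, eq_top_iff]
  exact le_trans (normalizer_eq_top_iff.mpr hQn).ge
    (PLocal.ThompsonSubgroup.normalizer_le_normalizer_thompsonSubgroupOf Q)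

/-- The factorization, for a quotient by the odd core satisfying the hypotheses. -/
theorem factorization [Finite G] (hS4 : ¬ Cfsg.Involves (Equiv.Perm (Fin 4)) G)
    (hchar : centralizer (Cfsg.pCore 2 (G ⧸ Cfsg.pPrimeCore 2 G) : Set _) ≤
      Cfsg.pCore 2 (G ⧸ Cfsg.pPrimeCore 2 G))
    (S : Sylow 2 G) (hcl : Subgroup.lowerCentralSeries (S : Subgroup G) 2 = ⊥) :
    normalizer ((Cfsg.thompsonSubgroupOf 2 (S : Subgroup G)) : Set G) ⊔ Cfsg.pPrimeCore 2 G = ⊤ := by
  have : Fact (Nat.Prime 2) := ⟨Nat.prime_two⟩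
  set O := Cfsg.pPrimeCore 2 G with hO
  set q := QuotientGroup.mk' O with hq
  have hqs : Function.Surjective q := QuotientGroup.mk'_surjective O
  set Sb := S.mapSurjective hqs
  have hclS : ∀ a ∈ (S : Subgroup G), ∀ b ∈ (S : Subgroup G), ∀ c ∈ (S : Subgroup G),
      c * (a * b * a⁻¹ * b⁻¹) = a * b * a⁻¹ * b⁻¹ * c := by
    intro a ha b hb c hc
    rw [Subgroup.lowerCentralSeries_succ, Subgroup.lowerCentralSeries_succ,
      Subgroup.lowerCentralSeries_zero, commutator_eq_bot_iff_le_centralizer] at hcl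
    have h := hcl (commutator_mem_commutator ha hb)
    rw [commutatorElement_def] at h
    exact mem_centralizer_iff.mp h c hc
  have hcl' : ∀ a ∈ (Sb : Subgroup (G ⧸ O)), ∀ b ∈ (Sb : Subgroup (G ⧸ O)),
      ∀ c ∈ (Sb : Subgroup (G ⧸ O)), c * (a * b * a⁻¹ * b⁻¹) = a * b * a⁻¹ * b⁻¹ * c := by
    rintro _ ⟨a, ha, rfl⟩ _ ⟨b, hb, rfl⟩ _ ⟨c, hc, rfl⟩
    simp only [← map_inv, ← map_mul]
    rw [hclS a ha b hb c hc]
  have htop := normalizer_eq_top_of_char (fun h => hS4 (PLocal.S4Section.involves_of_quotient h)) hchar Sb hcl'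
  set J := Cfsg.thompsonSubgroupOf 2 (S : Subgroup G) with hJ
  have hJS : J ≤ (S : Subgroup G) := PLocal.ThompsonSubgroup.thompsonSubgroupOf_le _
  have hdisj : (S : Subgroup G) ⊓ O = ⊥ := PLocal.Cores.inf_eq_bot_of_isPGroup_of_coprime S.2
    PLocal.Cores.coprime_card_pPrimeCore
  -- the image of `J(S)`
  have hJmap : J.map q = Cfsg.thompsonSubgroupOf 2 (Sb : Subgroup (G ⧸ O)) := by
    have hinj : Function.Injective (q.comp (S : Subgroup G).subtype) := by
      rw [injective_iff_map_eq_one]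
      intro s hs
      have : (s : G) ∈ (S : Subgroup G) ⊓ O := mem_inf.mpr ⟨s.2, (QuotientGroup.eq_one_iff _).mp hs⟩
      rw [hdisj, mem_bot] at this
      exact Subtype.ext this
    have h := PLocal.ThompsonSubgroup.map_thompsonSubgroupOf (p := 2) (K := (⊤ : Subgroup (S : Subgroup G))) hinj
    rw [PLocal.ThompsonSubgroup.thompsonSubgroupOf_eq_of_le le_top] at h
    rw [hJ, Cfsg.thompsonSubgroupOf, map_map, h, ← MonoidHom.range_eq_map, MonoidHom.range_comp,
      range_subtype]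
    rfl
  set L := O ⊔ J with hL
  have hLn : L.Normal := by
    have hn : (J.map q).Normal := by rw [hJmap]; exact normalizer_eq_top_iff.mp htop
    have e : L = (J.map q).comap q := by
      rw [comap_map_eq, hq, QuotientGroup.ker_mk', sup_comm]
    rw [e]; infer_instance
  have hd : Disjoint O J := disjoint_iff.mpr (le_bot_iff.mp (by
    rw [← hdisj]; exact le_inf (inf_le_right.trans hJS) inf_le_left))
  have hrel : ¬ 2 ∣ J.relIndex L := by
    have hcard : Nat.card L = Nat.card O * Nat.card J := Coprime.card_sup_of_disjoint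
      (fun x _ => by rw [Subgroup.normalizer_eq_top]; trivial) hd
    have h := relIndex_mul_relIndex (⊥ : Subgroup G) J L bot_le le_sup_right
    rw [relIndex_bot_left, relIndex_bot_left, hcard, mul_comm (Nat.card O)] at h
    rw [Nat.eq_of_mul_eq_mul_left Nat.card_pos h]
    exact (Nat.Prime.coprime_iff_not_dvd Nat.prime_two).mp PLocal.Cores.coprime_card_pPrimeCore.symm
  obtain ⟨P, hP⟩ := Techniques.exists_sylow_of_not_dvd_relIndex (S.2.to_le hJS) hrel le_sup_right
  have h := Sylow.normalizer_sup_eq_top P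
  rw [hP] at h
  rw [eq_top_iff, ← h]
  exact sup_le le_sup_left (sup_le le_sup_right (le_normalizer.trans le_sup_left))

end Cfsg.Agent.CharP.ClassTwoFactor
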