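import Cfsg.Agent.Lib.CharP.LocalControl
import Cfsg.Agent.Lib.Fusion.Alperin
import Cfsg.Agent.Lib.Fusion.CentricExt
import Cfsg.Agent.Lib.Fusion.KNormalizer
import Cfsg.Agent.Lib.Fusion.Constrained
import Cfsg.Agent.Lib.Fusion.ModelExists

/-!
Climbing: a local control statement for models gives control of a saturated fusion system by the
maps fixing powers of central elements and the maps preserving the functor image.
-/

set_option autoImplicit false
set_option linter.unusedSectionVars false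
set_option linter.style.haveILetI false

universe u

namespace Cfsg.Agent.CharP.Climbing

open Cfsg Cfsg.FusionSystem Cfsg.Agent.Fusion.Basic Cfsg.Agent.Fusion.Saturation
  Cfsg.Agent.Fusion.Normal Cfsg.Agent.Fusion.Alperin Cfsg.Agent.Fusion.CentricExt
  Cfsg.Agent.Fusion.KNormalizer Cfsg.Agent.Fusion.Constrained Cfsg.Agent.Fusion.Factor
  Cfsg.Agent.CharP.LocalControl

variable {Ω : Type u} [Group Ω] {S : Subgroup Ω}

/-- The maps of a normalizer system. -/
theorem isMap_normalizer_iff {F : FusionSystem S} {Q : Subgroup Ω}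
    {N : FusionSystem (normalizerIn S Q)} (hN : F.IsNormalizerSystem Q N) {P : Subgroup Ω}
    {f : Ω → Ω} :
    IsMap N P f ↔ P ≤ normalizerIn S Q ∧
      ∃ g, IsMap F (P ⊔ Q) g ∧ (∀ x ∈ P, g x = f x) ∧ img g Q = Q := by
  constructor
  · rintro ⟨φ, hφ, he⟩
    rw [hN P] at hφ
    obtain ⟨hP, -, g, hg, hge, hK⟩ := mem_normalizerHom_iff.1 hφ
    refine ⟨by rwa [kNorm_top] at hP, g, hg, fun x hx => ?_, hK.img_eq⟩
    rw [hge x hx, ext_of_mem φ hx, he]
  · rintro ⟨hP, g, hg, he, himg⟩
    have hm : IsMap F P f := (hg.restrict le_sup_left).congr he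
    refine ⟨hm.hom, ?_, fun x => rfl⟩
    rw [hN P]
    refine mem_normalizerHom_iff.2 ⟨by rwa [kNorm_top], fun x hx => ?_, g, hg,
      fun x hx => ?_, ?_⟩
    · rw [kNorm_top, ext_of_mem _ hx, IsMap.hom_apply]
      refine ⟨hm.mem hx, ?_⟩
      have h := hg.mem_normalizer_img le_sup_right (Subgroup.mem_sup_left hx) (hP hx).2
      rwa [himg, he x hx] at h
    · rw [he x hx, ext_of_mem _ hx, IsMap.hom_apply]
    · have hmQ := hg.restrict (le_sup_right : Q ≤ P ⊔ Q)
      exact ⟨mkAut hmQ.isHom hmQ.injOn himg, Subgroup.mem_top _,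
        fun x hx => (autFun_mkAut _ _ _ hx).symm⟩

/-- The subgroup defining a normalizer system is normal in it. -/
theorem normalizer_isNormal {F : FusionSystem S} {Q : Subgroup Ω}
    {N : FusionSystem (normalizerIn S Q)} (hQ : Q ≤ S) (hN : F.IsNormalizerSystem Q N) :
    N.IsNormal Q := by
  refine isNormal_iff.2 ⟨le_normalizerIn hQ, fun P f hf => ?_⟩
  obtain ⟨hP, g, hg, he, himg⟩ := (isMap_normalizer_iff hN).1 hf
  exact ⟨g, (isMap_normalizer_iff hN).2 ⟨sup_le hP (le_normalizerIn hQ), g,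
    by rwa [sup_assoc, sup_idem], fun _ _ => rfl, himg⟩, he, himg⟩

theorem powerClosure_le' (p m : ℕ) (V : Subgroup Ω) : powerClosure p m V ≤ V :=
  (Subgroup.closure_le _).2 (by rintro _ ⟨x, hx, rfl⟩; exact V.pow_mem hx _)

variable [Finite S] {p m : ℕ} [Fact p.Prime] {W : ∀ (Q : Type u) [Group Q], Subgroup Q}
  {fix : Prop}

/-- The centre of a centric subgroup, hence the centre of `S`, lies in the functor image. -/
theorem center_le_Wof {F : FusionSystem S} (hS : IsPGroup p S)
    (hWZ : ∀ (Q : Type u) [Group Q] [Finite Q], IsPGroup p Q → Subgroup.center Q ≤ W Q)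
    {R : Subgroup Ω} (hR : F.IsCentric R) :
    S ⊓ Subgroup.centralizer (S : Set Ω) ≤ Wof W R := by
  intro z hz
  have : Finite R := finite_of_le hR.1
  have hzR : z ∈ R := centric_centralizerIn_le hR ⟨hz.1, fun y hy => hz.2 y (hR.1 hy)⟩
  exact ⟨⟨z, hzR⟩, hWZ R (hS.to_le hR.1) (Subgroup.mem_center_iff.2 fun y =>
    Subtype.ext (hz.2 y (hR.1 y.2))), rfl⟩

/-- The inductive step: maps preserving a fully normalized subgroup whose normalizer is centric. -/
theorem climb_step (hS : IsPGroup p S) {F : FusionSystem S} (hF : F.IsSaturated p)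
    (hW : IsoInv p W)
    (hWZ : ∀ (Q : Type u) [Group Q] [Finite Q], IsPGroup p Q → Subgroup.center Q ≤ W Q)
    {U : Subgroup Ω} (hU : U ≤ powerClosure p m (S ⊓ Subgroup.centralizer (S : Set Ω)))
    (hloc : Local p m W fix) (E : FusionSystem S)
    (hC : ∀ P f, IsMap F P f → U ≤ P → (∀ u ∈ U, f u = u) → IsMap E P f)
    (hN : ∀ P f, IsMap F P f → Wof W S ≤ P → img f (Wof W S) = Wof W S → IsMap E P f)
    (hfix : fix → ∀ P f, IsMap E P f → U ≤ P → ∀ u ∈ U, f u = u) :
    ∀ (n : ℕ) (Y : Subgroup Ω), Nat.card S - Nat.card (normalizerIn S Y) = n →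
      F.IsFullyNormalized Y → F.IsCentric (normalizerIn S Y) →
      S ⊓ Subgroup.centralizer (S : Set Ω) ≤ Y →
      (∀ P f, IsMap F P f → Nat.card (normalizerIn S Y) < Nat.card P → IsMap E P f) →
      ∀ T f, IsMap F T f → Y ≤ T → T ≤ normalizerIn S Y → img f Y = Y → IsMap E T f := by
  intro n
  induction n using Nat.strong_induction_on with
  | _ n ih =>
  intro Y hn hYn hRc hZY hlarge T f hf hYT hTR hfY
  set R := normalizerIn S Y with hRdef
  have hYS : Y ≤ S := hYn.1
  have hYR : Y ≤ R := le_normalizerIn hYS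
  have hRS : R ≤ S := normalizerIn_le
  have hfinR : Finite R := finite_of_le hRS
  have hUY : U ≤ Y := (hU.trans (powerClosure_le' p m _)).trans hZY
  -- maps preserving `W(R)`
  have hNR : ∀ (T' : Subgroup Ω) (k : Ω → Ω), IsMap F T' k → T' ≤ R → Wof W R ≤ T' →
      img k (Wof W R) = Wof W R → IsMap E T' k := by
    intro T' k hk hT'R hWT hkW
    rcases eq_or_lt_of_le hRS with hReq | hlt
    · exact hN T' k hk (hReq ▸ hWT) (hReq ▸ hkW)
    set Zw := Wof W R with hZwdef
    have hZwR : Zw ≤ R := Wof_le R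
    have hZwS : Zw ≤ S := hZwR.trans hRS
    have hNle : normalizerIn S R ≤ normalizerIn S Zw := fun x hx =>
      ⟨hx.1, normalizer_le_Wof hW (hS.to_le hRS) hx.2⟩
    have hfinNZ : Finite (normalizerIn S Zw) := finite_of_le normalizerIn_le
    have hfinNR : Finite (normalizerIn S R) := finite_of_le normalizerIn_le
    have hcard : Nat.card R < Nat.card (normalizerIn S Zw) :=
      lt_of_lt_of_le (card_lt_card (lt_normalizerIn hS hlt)) (card_le_card hNle)
    obtain ⟨Y', hconj, hY'n⟩ := exists_fullyNormalized (F := F) hZwS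
    obtain ⟨β, hβ, hβZ⟩ := exists_map_to_fullyNormalized hS hF hY'n hconj
    have hβE : IsMap E (normalizerIn S Zw) β := hlarge _ _ hβ hcard
    have hRN : R ≤ normalizerIn S Zw := (le_normalizerIn hRS).trans hNle
    have hβR : F.IsCentric (img β R) := centric_conj hRc (hβ.restrict hRN).isConj
    have hY'eq : Y' = Wof W (img β R) := by
      rw [← hβZ]
      exact Wof_img hW (hS.to_le hRS) (hβ.restrict hRN).isHom (hβ.restrict hRN).injOn
    have hZY' : S ⊓ Subgroup.centralizer (S : Set Ω) ≤ Y' := hY'eq ▸ center_le_Wof hS hWZ hβR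
    have hβN : ∀ x ∈ normalizerIn S Zw, β x ∈ normalizerIn S Y' := fun x hx =>
      ⟨hβ.mem hx, hβZ ▸ hβ.mem_normalizer_img (le_normalizerIn hZwS) hx hx.2⟩
    have hNY'c : F.IsCentric (normalizerIn S Y') :=
      centric_mono hβR (img_le fun x hx => hβN x (hRN hx)) normalizerIn_le
    have hfinNY : Finite (normalizerIn S Y') := finite_of_le normalizerIn_le
    have hcardY' : Nat.card R < Nat.card (normalizerIn S Y') := by
      refine lt_of_lt_of_le hcard ?_
      rw [← hβ.card_img]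
      exact card_le_card (img_le hβN)
    obtain ⟨i, hi, hiimg, hiβ, hβi⟩ := hβ.exists_inv
    obtain ⟨j, hj, -, hjβ, -⟩ := hβE.exists_inv
    have hiE : IsMap E (img β (normalizerIn S Zw)) i := hj.congr fun y hy => by
      obtain ⟨x, hx, rfl⟩ := hβ.mem_img.1 hy
      rw [hjβ x hx, hiβ x hx]
    have hT'N : T' ≤ normalizerIn S Zw := hT'R.trans hRN
    have hkN : ∀ x ∈ T', k x ∈ normalizerIn S Zw := fun x hx =>
      ⟨hk.mem hx, hkW ▸ hk.mem_normalizer_img hWT hx (hT'N hx).2⟩
    have hiT : ∀ y ∈ img β T', i y ∈ T' := by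
      intro y hy
      obtain ⟨x, hx, rfl⟩ := (hβ.restrict hT'N).mem_img.1 hy
      rwa [hiβ x (hT'N hx)]
    have hk' : IsMap F (img β T') (fun y => β (k (i y))) :=
      hβ.comp (hk.comp (hi.restrict (img_mono β hT'N)) hiT) fun y hy => hkN _ (hiT y hy)
    have hY'T : Y' ≤ img β T' := hβZ ▸ img_mono β hWT
    have hk'Y : img (fun y => β (k (i y))) Y' = Y' := by
      have h1 : IsMap F Y' (fun y => β (k (i y))) := hk'.restrict hY'T
      have : Finite Y' := finite_of_le hY'n.1
      refine eq_of_le_card (img_le fun y hy => ?_) h1.card_img.ge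
      rw [← hβZ] at hy ⊢
      obtain ⟨x, hx, rfl⟩ := (hβ.restrict (le_normalizerIn hZwS)).mem_img.1 hy
      rw [hiβ x (le_normalizerIn hZwS hx)]
      exact mem_img_self β (hkW.le (mem_img_self k hx))
    have hk'E : IsMap E (img β T') (fun y => β (k (i y))) := by
      refine ih _ ?_ Y' rfl hY'n hNY'c hZY'
        (fun P g hg hP => hlarge P g hg (hcardY'.trans hP)) _ _ hk' hY'T
        (img_le fun x hx => hβN x (hT'N hx)) hk'Y
      have h1 := card_le_card (normalizerIn_le : normalizerIn S Y' ≤ S)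
      omega
    refine (hiE.comp (hk'E.comp (hβE.restrict hT'N) fun x hx => mem_img_self β hx)
      fun x hx => ?_).congr fun x hx => ?_
    · show β (k (i (β x))) ∈ _
      rw [hiβ x (hT'N hx)]
      exact mem_img_self β (hkN x hx)
    · show i (β (k (i (β x)))) = k x
      rw [hiβ x (hT'N hx), hiβ _ (hkN x hx)]
  -- the normalizer systems of `Y` and of `Y C_S(Y)`
  set X := Y ⊔ centralizerIn S Y with hXdef
  have hXR : X ≤ R := sup_le hYR centralizerIn_le_normalizerIn
  obtain ⟨N₁, hN₁⟩ := exists_normalizerSystem (F := F) hYS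
  have hN₁s : N₁.IsSaturated p := normalizerSystem_saturated hS hF hYn hN₁
  have hRp : IsPGroup p R := hS.to_le hRS
  have hYnorm : ∀ r ∈ R, r ∈ Subgroup.normalizer (Y : Set Ω) := fun r hr => hr.2
  have hRX : R ≤ Subgroup.normalizer (X : Set Ω) := by
    intro r hr
    have : Finite X := finite_of_le (hXR.trans hRS)
    have hmap : IsMap F S (cj r) := isMap_cj le_rfl (hRS hr)
    refine mem_normalizer_of_forall (fun x hx => ?_)
    have h1 : img (cj r) X ≤ X := by
      rw [hXdef, (hmap.restrict (hXR.trans hRS)).img_sup]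
      refine sup_le ((img_cj_eq_of_mem_normalizer (hYnorm r hr)).le.trans le_sup_left) ?_
      refine le_trans ?_ le_sup_right
      have h2 := hmap.img_centralizerIn_le hYS centralizerIn_le
      rwa [img_cj_eq_of_mem_normalizer (hYnorm r hr)] at h2
    exact h1 (mem_img_self (cj r) hx)
  have hXn : N₁.IsFullyNormalized X := by
    refine ⟨hXR, fun Q _ => ?_⟩
    have h1 : normalizerIn R X = R := le_antisymm normalizerIn_le fun r hr => ⟨hr, hRX hr⟩
    rw [h1]
    exact card_le_card normalizerIn_le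
  obtain ⟨N₂, hN₂⟩ := exists_normalizerSystem (F := N₁) hXR
  have hN₂s : N₂.IsSaturated p := normalizerSystem_saturated hRp hN₁s hXn hN₂
  have hT₂R : (normalizerIn R X) = R := le_antisymm normalizerIn_le fun r hr => ⟨hr, hRX hr⟩
  have hfinT₂ : Finite (normalizerIn R X) := finite_of_le (normalizerIn_le : (normalizerIn R X) ≤ R)
  have hT₂p : IsPGroup p (normalizerIn R X) := hRp.to_le normalizerIn_le
  have hFmap : ∀ P k, IsMap N₂ P k → IsMap F P k := fun P k hk => by
    obtain ⟨-, g, hg, he, -⟩ := (isMap_normalizer_iff hN₂).1 hk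
    obtain ⟨-, g', hg', he', -⟩ :=
      (isMap_normalizer_iff hN₁).1 ((hg.restrict le_sup_left).congr he)
    exact (hg'.restrict le_sup_left).congr he'
  have hXc : N₂.IsCentric X := by
    refine ⟨le_normalizerIn hXR, fun Q hQ => ?_⟩
    obtain ⟨k, hk, rfl⟩ := isConj_iff_map.1 hQ
    rw [normal_img_eq (normalizer_isNormal hXR hN₂) hk le_rfl]
    intro x hx
    exact Subgroup.mem_sup_right ⟨hRS hx.1.1, fun y hy => hx.2 y (Subgroup.mem_sup_left hy)⟩
  obtain ⟨G, _, ι, hfinG, ⟨hι, hreal⟩, ⟨Tsyl, hTsyl⟩, hchar⟩ :=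
    Cfsg.Agent.Fusion.Model.exists_model hT₂p
      (⟨hN₂s, X, normalizer_isNormal hXR hN₂, hXc⟩ : N₂.IsConstrained p)
  -- maps preserving `Y` and `X`
  have hXY : ∀ D k, IsMap F D k → X ≤ D → D ≤ R → img k Y = Y → img k X = X → IsMap E D k := by
    intro D k hk hXD hDR hkY hkX
    have hYD : Y ≤ D := le_sup_left.trans hXD
    have hk1 : IsMap N₁ D k :=
      (isMap_normalizer_iff hN₁).2 ⟨hDR, k, by rwa [sup_eq_left.2 hYD], fun _ _ => rfl, hkY⟩
    have hDT : D ≤ (normalizerIn R X) := hDR.trans hT₂R.ge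
    have hk2 : IsMap N₂ D k :=
      (isMap_normalizer_iff hN₂).2 ⟨hDT, k, by rwa [sup_eq_left.2 hXD], fun _ _ => rfl, hkX⟩
    obtain ⟨g₀, hg₀⟩ := (hreal D hDT hk2.hom fun x => hk2.mem x.2).1 hk2.hom_mem_self
    classical
    let ιe : Ω → G := fun x => if hx : x ∈ (normalizerIn R X) then ι ⟨x, hx⟩ else 1
    have hιe : ∀ x (hx : x ∈ (normalizerIn R X)), ιe x = ι ⟨x, hx⟩ := fun x hx => dif_pos hx
    have hιinj : ∀ x ∈ (normalizerIn R X), ∀ y ∈ (normalizerIn R X), ιe x = ιe y → x = y := fun x hx y hy h => by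
      rw [hιe x hx, hιe y hy] at h
      exact congrArg Subtype.val (hι h)
    let pre : Subgroup G → Subgroup Ω := fun A => (A.comap ι).map (normalizerIn R X).subtype
    have hmempre : ∀ A x, x ∈ pre A ↔ x ∈ (normalizerIn R X) ∧ ιe x ∈ A := fun A x => by
      constructor
      · rintro ⟨s, hs, rfl⟩
        exact ⟨s.2, by rw [Subgroup.coe_subtype, hιe _ s.2]; exact hs⟩
      · rintro ⟨hx, hA⟩
        exact ⟨⟨x, hx⟩, by rw [hιe x hx] at hA; exact hA, rfl⟩
    let pull : G → Ω → Ω := fun g x => along (backHom hι) (g * ιe x * g⁻¹)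
    have hval : ∀ A g, InP (Tsyl : Subgroup G) A g → ∀ x ∈ pre A,
        pull g x ∈ (normalizerIn R X) ∧ ιe (pull g x) = g * ιe x * g⁻¹ := by
      intro A g hA x hx
      have h := hA.2 _ ((hmempre A x).1 hx).2
      rw [hTsyl] at h
      obtain ⟨s, hs⟩ := h
      have h1 : pull g x = s := by
        show along (backHom hι) (g * ιe x * g⁻¹) = s
        rw [← cj_apply, ← hs, along_back]
      rw [h1]
      exact ⟨s.2, by rw [hιe _ s.2, ← cj_apply]; exact hs⟩
    have hpull : ∀ A g, InP (Tsyl : Subgroup G) A g → IsMap F (pre A) (pull g) := by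
      intro A g hA
      refine hFmap _ _ ?_
      have hle : pre A ≤ (normalizerIn R X) := Subgroup.map_subtype_le _
      let φ : pre A →* Ω := MonoidHom.mk' (fun x => pull g x) fun x y => by
        have hx := hval A g hA x x.2
        have hy := hval A g hA y y.2
        have hxy := hval A g hA _ (x * y).2
        refine hιinj _ hxy.1 _ ((normalizerIn R X).mul_mem hx.1 hy.1) ?_
        rw [hxy.2, hιe _ ((normalizerIn R X).mul_mem hx.1 hy.1),
          show (⟨pull g x * pull g y, (normalizerIn R X).mul_mem hx.1 hy.1⟩ : (normalizerIn R X)) =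
            ⟨_, hx.1⟩ * ⟨_, hy.1⟩ from rfl, map_mul, ← hιe _ hx.1, ← hιe _ hy.1, hx.2, hy.2,
          hιe _ (hle (x * y).2), hιe _ (hle x.2), hιe _ (hle y.2),
          show (⟨((x * y : pre A) : Ω), hle (x * y).2⟩ : (normalizerIn R X)) =
            ⟨x, hle x.2⟩ * ⟨y, hle y.2⟩ from rfl, map_mul]
        group
      refine ⟨φ, (hreal _ hle φ fun x => (hval A g hA x x.2).1).2 ⟨g, fun x => ?_⟩, fun x => rfl⟩
      have hx := hval A g hA x x.2
      show ι ⟨pull g x, hx.1⟩ = _
      rw [← hιe _ hx.1, ← hιe _ (hle x.2)]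
      exact hx.2
    let U₀ : Subgroup G := (U.subgroupOf (normalizerIn R X)).map ι
    have hUT : U ≤ (normalizerIn R X) := (hUY.trans hYR).trans hT₂R.ge
    have hU₀ : U₀ ≤ powerClosure p m
        ((Tsyl : Subgroup G) ⊓ Subgroup.centralizer ((Tsyl : Subgroup G) : Set G)) := by
      rintro _ ⟨s, hs, rfl⟩
      have hle : powerClosure p m (S ⊓ Subgroup.centralizer (S : Set Ω)) ≤
          pre (powerClosure p m
            ((Tsyl : Subgroup G) ⊓ Subgroup.centralizer ((Tsyl : Subgroup G) : Set G))) := by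
        refine (Subgroup.closure_le _).2 ?_
        rintro _ ⟨z, hz, rfl⟩
        have hzT : z ∈ (normalizerIn R X) := hT₂R.ge (hYR (hZY hz))
        refine ⟨⟨z, hzT⟩ ^ (p ^ m), ?_, rfl⟩
        rw [SetLike.mem_coe, Subgroup.mem_comap, map_pow]
        refine Subgroup.subset_closure ⟨ι ⟨z, hzT⟩, ⟨hTsyl ▸ ⟨_, rfl⟩, fun y hy => ?_⟩, rfl⟩
        rw [hTsyl] at hy
        obtain ⟨t, rfl⟩ := hy
        rw [← map_mul, ← map_mul]
        exact congrArg ι (Subtype.ext (hz.2 t (hRS (hT₂R.le t.2))))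
      obtain ⟨s', hs', hse⟩ := hle (hU (show (s : Ω) ∈ U from hs))
      exact (Subtype.ext hse : s' = s) ▸ hs'
    have hUpre : ∀ A, U₀ ≤ A → U ≤ pre A := fun A hA u hu =>
      (hmempre A u).2 ⟨hUT hu, by rw [hιe u (hUT hu)]; exact hA ⟨⟨u, hUT hu⟩, hu, rfl⟩⟩
    let e : (normalizerIn R X) ≃* ι.range := MonoidHom.ofInjective hι
    have hWmem : ∀ x (hx : x ∈ (normalizerIn R X)), x ∈ Wof W (normalizerIn R X) ↔ ιe x ∈ Wof W (Tsyl : Subgroup G) := by
      intro x hx
      rw [hιe x hx, hTsyl]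
      exact mem_Wof_iff hW hT₂p e ⟨x, hx⟩
    let A₀ : Subgroup G := (D.subgroupOf (normalizerIn R X)).map ι
    have hA₀ : InP (Tsyl : Subgroup G) A₀ g₀ := by
      refine ⟨?_, ?_⟩
      · rw [hTsyl]
        rintro _ ⟨s, -, rfl⟩
        exact ⟨s, rfl⟩
      · rintro _ ⟨s, hs, rfl⟩
        rw [hTsyl, cj_apply, ← hg₀ ⟨s, hs⟩]
        exact ⟨_, rfl⟩
    have hgood := hloc G Tsyl hchar U₀ hU₀
      (fun A g => IsMap E (pre A) (pull g))
      (fun A g l hA hl h1 h2 => by
        refine (h2.comp h1 fun x hx => ?_).congr fun x hx => ?_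
        · obtain ⟨ht, hte⟩ := hval A g hA x hx
          exact (hmempre _ _).2 ⟨ht, hte ▸ mem_img_self (cj g) ((hmempre A x).1 hx).2⟩
        · obtain ⟨ht, hte⟩ := hval A g hA x hx
          show along (backHom hι) (l * ιe (pull g x) * l⁻¹) =
            along (backHom hι) (l * g * ιe x * (l * g)⁻¹)
          rw [hte]
          congr 1
          group)
      (fun A B g hBA _ h => h.restrict (Subgroup.map_mono (Subgroup.comap_mono hBA)))
      (fun A g hA hUA hg => hC _ _ (hpull A g hA) (hUpre A hUA) fun u hu => by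
        obtain ⟨ht, hte⟩ := hval A g hA u (hUpre A hUA hu)
        refine hιinj _ ht u (hUT hu) ?_
        rw [hte]
        exact hg _ (by rw [hιe u (hUT hu)]; exact ⟨⟨u, hUT hu⟩, hu, rfl⟩))
      (fun A g hA hWA hg => by
        have hsub : Wof W (normalizerIn R X) ≤ pre A := fun x hx =>
          (hmempre A x).2 ⟨Wof_le _ hx, hWA ((hWmem x (Wof_le _ hx)).1 hx)⟩
        refine hNR _ _ (hpull A g hA) ((Subgroup.map_subtype_le _).trans hT₂R.le)
          (by rw [← hT₂R]; exact hsub) ?_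
        rw [← hT₂R]
        have : Finite (Wof W (normalizerIn R X)) := finite_of_le (Wof_le (W := W) (normalizerIn R X))
        refine eq_of_le_card (img_le fun x hx => ?_)
          ((hpull A g hA).restrict hsub).card_img.ge
        obtain ⟨ht, hte⟩ := hval A g hA x (hsub hx)
        rw [hWmem _ ht, hte]
        exact (Subgroup.mem_normalizer_iff.1 hg _).1 ((hWmem x (Wof_le _ hx)).1 hx))
      (fun hf' A g hA hUA h u hu => by
        obtain ⟨s, hs, rfl⟩ := hu
        have h1 := hfix hf' _ _ h (hUpre A hUA) s hs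
        have h2 := (hval A g hA s (hUpre A hUA hs)).2
        rw [h1, hιe _ s.2] at h2
        exact h2.symm)
      A₀ g₀ hA₀
    have hpreD : pre A₀ = D := by
      refine le_antisymm ?_ fun x hx => (hmempre _ x).2 ⟨hDT hx, by rw [hιe x (hDT hx)]; exact ⟨⟨x, hDT hx⟩, hx, rfl⟩⟩
      rintro _ ⟨s, ⟨s', hs', hse⟩, rfl⟩
      exact (hι hse : s' = s) ▸ hs'
    refine (hpreD ▸ hgood : IsMap E D (pull g₀)).congr fun x hx => ?_
    obtain ⟨ht, hte⟩ := hval A₀ g₀ hA₀ x (hpreD.ge hx)
    refine hιinj _ ht _ (hk2.mem hx) ?_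
    rw [hte, hιe _ (hk2.mem hx), hιe x (hDT hx)]
    exact (hg₀ ⟨x, hx⟩).symm
  -- split off a map fixing `Y`
  have hfY' : IsMap F Y f := hf.restrict hYT
  obtain ⟨h, hh, hhe⟩ := exists_extension hS hF hfY'
    (by rw [hfY]; exact fullyNormalized_fullyCentralized hS hF hYn)
  have hTn : T ≤ nSub S Y f := fun t ht =>
    ⟨hf.le ht, (hTR ht).2, f t, hf.mem ht, fun x hx => hf.map_conj ht (hYT hx)⟩
  have hXn' : X ≤ nSub S Y f := sup_le (le_nSub hfY') centralizerIn_le_nSub
  have hh' : IsMap F (T ⊔ X) h := hh.restrict (sup_le hTn hXn')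
  have hhY : img h Y = Y := by rw [img_congr hhe, hfY]
  have hhX : img h X = X := by
    have : Finite X := finite_of_le (hXR.trans hRS)
    refine eq_of_le_card ?_ (hh.restrict hXn').card_img.ge
    rw [hXdef, (hh.restrict hXn').img_sup, hhY]
    refine sup_le le_sup_left (le_trans ?_ le_sup_right)
    have h2 := hh.img_centralizerIn_le (le_nSub hfY') centralizerIn_le_nSub
    rwa [hhY] at h2
  have hhE : IsMap E (T ⊔ X) h := hXY _ _ hh' le_sup_right (sup_le hTR hXR) hhY hhX
  have hhT : IsMap F T h := hh'.restrict le_sup_left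
  obtain ⟨i, hi, -, hih, hhi⟩ := hhT.exists_inv
  have hiT : ∀ y ∈ img h T, i y ∈ T := fun y hy => by
    obtain ⟨x, hx, rfl⟩ := hhT.mem_img.1 hy
    rwa [hih x hx]
  have hY' : Y ≤ img h T := hhY.ge.trans (img_mono h hYT)
  have hgE : IsMap E (img h T) (fun y => f (i y)) := by
    refine hC _ _ (hf.comp hi hiT) (hUY.trans hY') fun u hu => ?_
    have huY := hhY.ge (hUY hu)
    obtain ⟨y, hy, rfl⟩ := (hhT.restrict hYT).mem_img.1 huY
    show f (i (h y)) = h y
    rw [hih y (hYT hy), hhe y hy]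
  refine (hgE.comp (hhE.restrict le_sup_left) fun x hx => mem_img_self h hx).congr fun x hx => ?_
  show f (i (h x)) = f x
  rw [hih x hx]

/-- The maps fixing `U` and the maps preserving `W(S)` generate the system. -/
theorem climb (hS : IsPGroup p S) {F : FusionSystem S} (hF : F.IsSaturated p)
    (hW : IsoInv p W)
    (hWZ : ∀ (Q : Type u) [Group Q] [Finite Q], IsPGroup p Q → Subgroup.center Q ≤ W Q)
    {U : Subgroup Ω} (hU : U ≤ powerClosure p m (S ⊓ Subgroup.centralizer (S : Set Ω)))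
    (hloc : Local p m W fix) (E : FusionSystem S)
    (hC : ∀ P f, IsMap F P f → U ≤ P → (∀ u ∈ U, f u = u) → IsMap E P f)
    (hN : ∀ P f, IsMap F P f → Wof W S ≤ P → img f (Wof W S) = Wof W S → IsMap E P f)
    (hfix : fix → ∀ P f, IsMap E P f → U ≤ P → ∀ u ∈ U, f u = u) :
    ∀ P f, IsMap F P f → IsMap E P f := by
  intro P f hf
  induction hn : Nat.card S - Nat.card P using Nat.strong_induction_on generalizing P f with
  | _ n ih =>
  have hP := hf.le
  have haut : ∀ R : Subgroup Ω, Nat.card R = Nat.card P → F.IsFullyNormalized R →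
      F.autGroup R ≤ E.autGroup R := by
    intro R hR hRn α hα
    have hRS := hRn.1
    have hfinR : Finite R := finite_of_le hRS
    have hlarge : ∀ T g, IsMap F T g → Nat.card R < Nat.card T → IsMap E T g := by
      intro T g hg hT
      have hTS := card_le_card hg.le
      exact ih (Nat.card S - Nat.card T) (by omega) T g hg rfl
    have hm := isMap_of_mem_autGroup hRS hα
    refine (mem_autGroup_iff hRS).2 ?_
    rcases eq_or_lt_of_le hRS with hReq | hlt
    · subst hReq
      refine hN _ _ hm (Wof_le _) ?_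
      rw [Wof_img hW hS hm.isHom hm.injOn, autFun_img]
    by_cases hc : centralizerIn S R ≤ R
    · have hRc : F.IsCentric R :=
        centric_of_fullyCentralized hS hF (fullyNormalized_fullyCentralized hS hF hRn) hc
      have hZR : S ⊓ Subgroup.centralizer (S : Set Ω) ≤ R := fun z hz =>
        hc ⟨hz.1, fun y hy => hz.2 y (hRS hy)⟩
      have hfinN : Finite (normalizerIn S R) := finite_of_le normalizerIn_le
      have hlt' := card_lt_card (lt_normalizerIn hS hlt)
      exact climb_step hS hF hW hWZ hU hloc E hC hN hfix _ R rfl hRn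
        (centric_mono hRc (le_normalizerIn hRS) normalizerIn_le) hZR
        (fun T g hg hT => hlarge T g hg (hlt'.trans hT)) R _ hm le_rfl (le_normalizerIn hRS)
        (autFun_img α)
    · obtain ⟨g, hg, he⟩ := exists_extension hS hF hm
        (by rw [autFun_img]; exact fullyNormalized_fullyCentralized hS hF hRn)
      have hfinN : Finite (nSub S R (autFun α)) := finite_of_le hg.le
      refine ((hlarge _ g hg ?_).restrict (le_nSub hm)).congr he
      refine card_lt_card (lt_of_le_of_ne (le_nSub hm) fun h => hc ?_)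
      rw [h]
      exact centralizerIn_le_nSub.trans' (by rw [← h])
  rcases eq_or_lt_of_le hP with hPS | hlt
  · have himg : img f P = P := (eq_top_of_card hP hf.isConj hPS).trans hPS.symm
    obtain ⟨α, hα, he⟩ := hf.exists_aut himg
    have hn : F.IsFullyNormalized P := by
      refine ⟨hP, fun R hR => ?_⟩
      rw [eq_top_of_card hP hR hPS, hPS]
    exact (isMap_of_mem_autGroup hP (haut P rfl hn hα)).congr he
  obtain ⟨Q, hPQ, hQ⟩ := exists_fullyNormalized (F := F) hP
  have hstep : ∀ R : Subgroup Ω, F.IsConj R P → ∃ g, IsMap F R g ∧ IsMap E R g ∧ img g R = Q := by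
    intro R hR
    obtain ⟨g, hg, hgQ⟩ := exists_map_to_fullyNormalized hS hF hQ (isConj_trans hR hPQ)
    have hRS := (isConj_le hR).1
    have hRlt : R < S := by
      refine lt_of_le_of_ne hRS fun h => hlt.ne ?_
      exact eq_top_of_card hRS hR h
    have h1 := card_lt_card hlt
    have hfin : Finite (normalizerIn S R) := finite_of_le normalizerIn_le
    have h2 := card_lt_card (lt_normalizerIn hS hRlt)
    have h3 := card_le_card (normalizerIn_le : normalizerIn S R ≤ S)
    have h4 := isConj_card hR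
    have hg' : IsMap E (normalizerIn S R) g := ih (Nat.card S - Nat.card (normalizerIn S R))
      (by omega) _ g hg rfl
    exact ⟨g, hg.restrict (le_normalizerIn hRS), hg'.restrict (le_normalizerIn hRS), hgQ⟩
  obtain ⟨g₁, hg₁, hg₁E, hg₁Q⟩ := hstep P (isConj_refl hP)
  obtain ⟨g₂, hg₂, hg₂E, hg₂Q⟩ := hstep (img f P) (isConj_symm hf.isConj)
  subst hg₁Q
  obtain ⟨i₁, hi₁, hi₁img, hi₁g, -⟩ := hg₁.exists_inv
  obtain ⟨i₂, hi₂, hi₂img, hi₂g, -⟩ := hg₂E.exists_inv
  rw [hg₂Q] at hi₂
  have hmapsto : ∀ x ∈ img g₁ P, i₁ x ∈ P := fun x hx => le_of_eq hi₁img (mem_img_self i₁ hx)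
  have hin : IsMap F (img g₁ P) (fun x => f (i₁ x)) := hf.comp hi₁ hmapsto
  have hcomp : IsMap F (img g₁ P) (fun x => g₂ (f (i₁ x))) :=
    hg₂.comp hin fun x hx => mem_img_self f (hmapsto x hx)
  have himg : img (fun x => g₂ (f (i₁ x))) (img g₁ P) = img g₁ P := by
    rw [← hin.img_img g₂, ← hi₁.img_img f, hi₁img, hg₂Q]
  obtain ⟨α, hα, he⟩ := hcomp.exists_aut himg
  have hαE : IsMap E (img g₁ P) (autFun α) :=
    isMap_of_mem_autGroup hQ.1 (haut _ (isConj_card hPQ) hQ hα)
  have h1 : IsMap E P (fun x => autFun α (g₁ x)) :=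
    hαE.comp hg₁E fun x hx => mem_img_self g₁ hx
  refine (hi₂.comp h1 fun x hx => autFun_mem α (mem_img_self g₁ hx)).congr fun x hx => ?_
  show i₂ (autFun α (g₁ x)) = f x
  rw [he _ (mem_img_self g₁ hx), hi₁g x hx, hi₂g _ (mem_img_self f hx)]

theorem isMap_subsystem {T : Subgroup Ω} {C : FusionSystem T} {E : FusionSystem S}
    (h : C.IsSubsystemOf E) {P : Subgroup Ω} {f : Ω → Ω} (hf : IsMap C P f) : IsMap E P f := by
  obtain ⟨φ, hφ, he⟩ := hf
  exact ⟨φ, h P hφ, he⟩

theorem powerClosure_one_eq (p : ℕ) (V : Subgroup Ω) :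
    Subgroup.closure ((fun z => z ^ p) '' (V : Set Ω)) ≤ powerClosure p 1 V :=
  (Subgroup.closure_le _).2 (by
    rintro _ ⟨x, hx, rfl⟩
    exact Subgroup.subset_closure ⟨x, hx, by simp⟩)

/-- A map fixing a central subgroup of `S` is a map of its centralizer system. -/
theorem isMap_centralizer {F : FusionSystem S} {U : Subgroup Ω}
    {C : FusionSystem (centralizerIn S U)} (hC : F.IsCentralizerSystem U C)
    (hUZ : U ≤ S ⊓ Subgroup.centralizer (S : Set Ω)) {P : Subgroup Ω} {f : Ω → Ω}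
    (hf : IsMap F P f) (hUP : U ≤ P) (hfix : ∀ u ∈ U, f u = u) : IsMap C P f := by
  refine ⟨hf.hom, ?_, fun x => rfl⟩
  have hS : S ≤ centralizerIn S U := fun x hx =>
    ⟨hx, fun u hu => ((hUZ hu).2 x hx).symm⟩
  rw [hC P]
  refine mem_centralizerHom_iff.2 ⟨?_, fun x hx => ?_, f, by rwa [sup_eq_left.2 hUP], fun x hx => ?_,
    1, Subgroup.mem_bot.2 rfl, fun x hx => ?_⟩
  · rw [kNorm_bot]; exact hf.le.trans hS
  · rw [kNorm_bot, ext_of_mem _ hx, IsMap.hom_apply]; exact hS (hf.mem hx)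
  · rw [ext_of_mem _ hx, IsMap.hom_apply]
  · rw [autFun_one, id]; exact hfix x hx

/-- A map preserving `W(S)` is a map of its normalizer system. -/
theorem isMap_normalizer_Wof (hS : IsPGroup p S) (hW : IsoInv p W) {F : FusionSystem S}
    {N : FusionSystem (normalizerIn S (Wof W S))} (hN : F.IsNormalizerSystem (Wof W S) N)
    {P : Subgroup Ω} {f : Ω → Ω} (hf : IsMap F P f) (hWP : Wof W S ≤ P)
    (himg : img f (Wof W S) = Wof W S) : IsMap N P f :=
  (isMap_normalizer_iff hN).2 ⟨fun x hx =>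
    ⟨hf.le hx, normalizer_le_Wof hW hS (Subgroup.le_normalizer (hf.le hx))⟩,
    f, by rwa [sup_eq_left.2 hWP], fun _ _ => rfl, himg⟩

/-- The system of maps that extend to maps fixing a central subgroup of `S`. -/
theorem exists_fixSystem (F : FusionSystem S) {U : Subgroup Ω}
    (hUZ : U ≤ S ⊓ Subgroup.centralizer (S : Set Ω)) :
    ∃ E : FusionSystem S, ∀ (P : Subgroup Ω) (f : Ω → Ω), IsMap E P f ↔
      ∃ g, IsMap F (P ⊔ U) g ∧ (∀ x ∈ P, g x = f x) ∧ ∀ u ∈ U, g u = u := by
  have hS : S = kNorm S (⊥ : Subgroup (MulAut U)) := by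
    rw [kNorm_bot]
    exact le_antisymm (fun x hx => ⟨hx, fun u hu => ((hUZ hu).2 x hx).symm⟩) centralizerIn_le
  obtain ⟨E, hE⟩ := exists_kSystem' (F := F) hS (hUZ.trans inf_le_left)
  refine ⟨E, fun P f => ⟨?_, ?_⟩⟩
  · rintro ⟨φ, hφ, he⟩
    obtain ⟨-, -, g, hg, hge, k, hk, hgk⟩ := (hE P φ).1 hφ
    refine ⟨g, hg, fun x hx => ?_, fun u hu => ?_⟩
    · rw [hge x hx, ext_of_mem φ hx, he]
    · rw [hgk u hu, Subgroup.mem_bot.1 hk, autFun_one, id]
  · rintro ⟨g, hg, he, hfix⟩
    have hm : IsMap F P f := (hg.restrict le_sup_left).congr he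
    refine ⟨hm.hom, (hE P _).2 ⟨hS ▸ hm.le, fun x hx => ?_, g, hg, fun x hx => ?_,
      1, Subgroup.mem_bot.2 rfl, fun x hx => ?_⟩, fun x => rfl⟩
    · rw [ext_of_mem _ hx, IsMap.hom_apply, ← hS]; exact hm.mem hx
    · rw [he x hx, ext_of_mem _ hx, IsMap.hom_apply]
    · rw [autFun_one, id]; exact hfix x hx

theorem center_le_centre (F : FusionSystem S) :
    F.center ≤ S ⊓ Subgroup.centralizer (S : Set Ω) := by
  have hc := isCentral_iff.1 (center_isCentral (F := F))
  intro z hz
  refine ⟨hc.1 hz, fun s hs => ?_⟩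
  obtain ⟨g, -, he, hfix⟩ := hc.2 S (cj s) (isMap_cj le_rfl hs)
  have h := he z (hc.1 hz)
  rw [hfix z hz, cj_apply, eq_mul_inv_iff_mul_eq] at h
  exact h.symm

/-- The engine with the maps fixing `U` as target: `U` is central. -/
theorem isCentral_of_local (hS : IsPGroup p S) {F : FusionSystem S} (hF : F.IsSaturated p)
    (hW : IsoInv p W)
    (hWZ : ∀ (Q : Type u) [Group Q] [Finite Q], IsPGroup p Q → Subgroup.center Q ≤ W Q)
    {U : Subgroup Ω} (hU : U ≤ powerClosure p m (S ⊓ Subgroup.centralizer (S : Set Ω)))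
    (hloc : Local p m W fix) {N : FusionSystem (normalizerIn S (Wof W S))}
    (hN : F.IsNormalizerSystem (Wof W S) N) (hUN : U ≤ N.center) : F.IsCentral U := by
  have hUZ := hU.trans (powerClosure_le' p m _)
  obtain ⟨E, hE⟩ := exists_fixSystem F hUZ
  have hfinN : Finite (normalizerIn S (Wof W S)) := finite_of_le normalizerIn_le
  have main := climb (fix := fix) hS hF hW hWZ hU hloc E
    (fun P f hf hUP hfix => (hE P f).2 ⟨f, by rwa [sup_eq_left.2 hUP], fun _ _ => rfl, hfix⟩)
    (fun P f hf hWP himg => by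
      obtain ⟨g, hg, he, hfix⟩ := (isCentral_iff.1 (center_isCentral (F := N))).2 P f
        (isMap_normalizer_Wof hS hW hN hf hWP himg)
      obtain ⟨-, g', hg', he', -⟩ := (isMap_normalizer_iff hN).1 hg
      exact (hE P f).2 ⟨g, ((hg'.restrict le_sup_left).congr he').restrict
        (sup_le_sup_left hUN P), he, fun u hu => hfix u (hUN hu)⟩)
    (fun _ P f hf hUP u hu => by
      obtain ⟨g, -, he, hfix⟩ := (hE P f).1 hf
      rw [← he u (hUP hu)]; exact hfix u hu)
  exact isCentral_iff.2 ⟨hUZ.trans inf_le_left, fun P f hf => (hE P f).1 (main P f hf)⟩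

end Cfsg.Agent.CharP.Climbing
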