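import Cfsg.Agent.Lib.CharP.LocalModel

/-!
Climbing with models whose sections are restricted by those of the system, and with targets whose maps
are inner or fix a central subgroup.
-/

set_option autoImplicit false
set_option linter.unusedSectionVars false
set_option linter.style.haveILetI false

universe u

namespace Cfsg.Agent.CharP.ClimbingFree

open Cfsg Cfsg.FusionSystem Cfsg.Agent.Fusion.Basic Cfsg.Agent.Fusion.Saturation
  Cfsg.Agent.Fusion.Normal Cfsg.Agent.Fusion.Alperin Cfsg.Agent.Fusion.CentricExt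
  Cfsg.Agent.CharP.LocalControl Cfsg.Agent.CharP.Climbing Cfsg.Agent.CharP.LocalModel

/-- Fusion in `P` is controlled, with knowledge on the good conjugations. -/
def ControlIn (W : ∀ (Q : Type u) [Group Q], Subgroup Q) (fix inn : Prop) {G : Type u} [Group G]
    (U₀ N₀ P : Subgroup G) : Prop :=
  N₀.Normal → N₀ ≤ P →
  ∀ good : Subgroup G → G → Prop,
    (∀ A g k, InP P A g → InP P (img (cj g) A) k → good A g → good (img (cj g) A) k →
      good A (k * g)) →
    (∀ A B g, B ≤ A → InP P A g → good A g → good B g) →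
    (∀ A g, InP P A g → U₀ ≤ A → (∀ u ∈ U₀, g * u * g⁻¹ = u) → good A g) →
    (∀ A g, InP P A g → Wof W P ≤ A → g ∈ Subgroup.normalizer (Wof W P : Set G) → good A g) →
    (fix → ∀ A g, InP P A g → U₀ ≤ A → good A g → ∀ u ∈ U₀, g * u * g⁻¹ = u) →
    (inn → ∀ A g, InP P A g → N₀ ≤ A → good A g →
      ∃ s ∈ P, ∀ a ∈ A, g * a * g⁻¹ = s * a * s⁻¹) →
    ∀ A g, InP P A g → good A g

variable {Ω : Type u} [Group Ω] {S : Subgroup Ω} [Finite S] {p m : ℕ} [Fact p.Prime]
  {W : ∀ (Q : Type u) [Group Q], Subgroup Q} {fix inn : Prop}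

/-- The inductive step. -/
theorem climb_step (hS : IsPGroup p S) {F : FusionSystem S} (hF : F.IsSaturated p)
    (hW : IsoInv p W)
    (hWZ : ∀ (Q : Type u) [Group Q] [Finite Q], IsPGroup p Q → Subgroup.center Q ≤ W Q)
    {U : Subgroup Ω} (hU : U ≤ powerClosure p m (S ⊓ Subgroup.centralizer (S : Set Ω)))
    {Φ : ∀ (G : Type u) [Group G], Prop} (hmod : HasModels F p Φ)
    (hloc : ∀ (G : Type u) [Group G] [Finite G] (P : Sylow p G),
      Subgroup.centralizer ((pCore p G : Subgroup G) : Set G) ≤ pCore p G →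
      Φ G →
      ∀ U₀ N₀ : Subgroup G,
        U₀ ≤ powerClosure p m ((P : Subgroup G) ⊓ Subgroup.centralizer (P : Set G)) →
        ControlIn W fix inn U₀ N₀ (P : Subgroup G))
    (E : FusionSystem S)
    (hC : ∀ P f, IsMap F P f → U ≤ P → (∀ u ∈ U, f u = u) → IsMap E P f)
    (hN : ∀ P f, IsMap F P f → Wof W S ≤ P → img f (Wof W S) = Wof W S → IsMap E P f)
    (hfix : fix → ∀ P f, IsMap E P f → U ≤ P → ∀ u ∈ U, f u = u)
    (hinn : inn → ∀ P f, IsMap E P f → ∃ s ∈ S, ∀ x ∈ P, f x = s * x * s⁻¹) :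
    ∀ (n : ℕ) (Y : Subgroup Ω), Nat.card S - Nat.card (normalizerIn S Y) = n →
      F.IsFullyNormalized Y → F.IsCentric (normalizerIn S Y) →
      S ⊓ Subgroup.centralizer (S : Set Ω) ≤ Y →
      (∀ P f, IsMap F P f → Nat.card (normalizerIn S Y) < Nat.card P → IsMap E P f) →
      ∀ T f, IsMap F T f → Y ≤ T → T ≤ normalizerIn S Y → img f Y = Y → IsMap E T f := by
  intro n
  induction n using Nat.strong_induction_on with
  | _ n ih =>
  intro Y hn hYn hRc hZY hlarge T f hf hYT hTR hfY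
  set R := normalizerIn S Y with hRdef
  have hYS : Y ≤ S := hYn.1
  have hYR : Y ≤ R := le_normalizerIn hYS
  have hRS : R ≤ S := normalizerIn_le
  have hfinR : Finite R := finite_of_le hRS
  have hUY : U ≤ Y := (hU.trans (powerClosure_le' p m _)).trans hZY
  -- maps preserving `W(R)`
  have hNR : ∀ (T' : Subgroup Ω) (k : Ω → Ω), IsMap F T' k → T' ≤ R → Wof W R ≤ T' →
      img k (Wof W R) = Wof W R → IsMap E T' k := by
    intro T' k hk hT'R hWT hkW
    rcases eq_or_lt_of_le hRS with hReq | hlt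
    · exact hN T' k hk (hReq ▸ hWT) (hReq ▸ hkW)
    set Zw := Wof W R with hZwdef
    have hZwR : Zw ≤ R := Wof_le R
    have hZwS : Zw ≤ S := hZwR.trans hRS
    have hNle : normalizerIn S R ≤ normalizerIn S Zw := fun x hx =>
      ⟨hx.1, normalizer_le_Wof hW (hS.to_le hRS) hx.2⟩
    have hfinNZ : Finite (normalizerIn S Zw) := finite_of_le normalizerIn_le
    have hfinNR : Finite (normalizerIn S R) := finite_of_le normalizerIn_le
    have hcard : Nat.card R < Nat.card (normalizerIn S Zw) :=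
      lt_of_lt_of_le (card_lt_card (lt_normalizerIn hS hlt)) (card_le_card hNle)
    obtain ⟨Y', hconj, hY'n⟩ := exists_fullyNormalized (F := F) hZwS
    obtain ⟨β, hβ, hβZ⟩ := exists_map_to_fullyNormalized hS hF hY'n hconj
    have hβE : IsMap E (normalizerIn S Zw) β := hlarge _ _ hβ hcard
    have hRN : R ≤ normalizerIn S Zw := (le_normalizerIn hRS).trans hNle
    have hβR : F.IsCentric (img β R) := centric_conj hRc (hβ.restrict hRN).isConj
    have hY'eq : Y' = Wof W (img β R) := by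
      rw [← hβZ]
      exact Wof_img hW (hS.to_le hRS) (hβ.restrict hRN).isHom (hβ.restrict hRN).injOn
    have hZY' : S ⊓ Subgroup.centralizer (S : Set Ω) ≤ Y' := hY'eq ▸ center_le_Wof hS hWZ hβR
    have hβN : ∀ x ∈ normalizerIn S Zw, β x ∈ normalizerIn S Y' := fun x hx =>
      ⟨hβ.mem hx, hβZ ▸ hβ.mem_normalizer_img (le_normalizerIn hZwS) hx hx.2⟩
    have hNY'c : F.IsCentric (normalizerIn S Y') :=
      centric_mono hβR (img_le fun x hx => hβN x (hRN hx)) normalizerIn_le
    have hfinNY : Finite (normalizerIn S Y') := finite_of_le normalizerIn_le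
    have hcardY' : Nat.card R < Nat.card (normalizerIn S Y') := by
      refine lt_of_lt_of_le hcard ?_
      rw [← hβ.card_img]
      exact card_le_card (img_le hβN)
    obtain ⟨i, hi, hiimg, hiβ, hβi⟩ := hβ.exists_inv
    obtain ⟨j, hj, -, hjβ, -⟩ := hβE.exists_inv
    have hiE : IsMap E (img β (normalizerIn S Zw)) i := hj.congr fun y hy => by
      obtain ⟨x, hx, rfl⟩ := hβ.mem_img.1 hy
      rw [hjβ x hx, hiβ x hx]
    have hT'N : T' ≤ normalizerIn S Zw := hT'R.trans hRN
    have hkN : ∀ x ∈ T', k x ∈ normalizerIn S Zw := fun x hx =>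
      ⟨hk.mem hx, hkW ▸ hk.mem_normalizer_img hWT hx (hT'N hx).2⟩
    have hiT : ∀ y ∈ img β T', i y ∈ T' := by
      intro y hy
      obtain ⟨x, hx, rfl⟩ := (hβ.restrict hT'N).mem_img.1 hy
      rwa [hiβ x (hT'N hx)]
    have hk' : IsMap F (img β T') (fun y => β (k (i y))) :=
      hβ.comp (hk.comp (hi.restrict (img_mono β hT'N)) hiT) fun y hy => hkN _ (hiT y hy)
    have hY'T : Y' ≤ img β T' := hβZ ▸ img_mono β hWT
    have hk'Y : img (fun y => β (k (i y))) Y' = Y' := by
      have h1 : IsMap F Y' (fun y => β (k (i y))) := hk'.restrict hY'T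
      have : Finite Y' := finite_of_le hY'n.1
      refine eq_of_le_card (img_le fun y hy => ?_) h1.card_img.ge
      rw [← hβZ] at hy ⊢
      obtain ⟨x, hx, rfl⟩ := (hβ.restrict (le_normalizerIn hZwS)).mem_img.1 hy
      rw [hiβ x (le_normalizerIn hZwS hx)]
      exact mem_img_self β (hkW.le (mem_img_self k hx))
    have hk'E : IsMap E (img β T') (fun y => β (k (i y))) := by
      refine ih _ ?_ Y' rfl hY'n hNY'c hZY'
        (fun P g hg hP => hlarge P g hg (hcardY'.trans hP)) _ _ hk' hY'T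
        (img_le fun x hx => hβN x (hT'N hx)) hk'Y
      have h1 := card_le_card (normalizerIn_le : normalizerIn S Y' ≤ S)
      omega
    refine (hiE.comp (hk'E.comp (hβE.restrict hT'N) fun x hx => mem_img_self β hx)
      fun x hx => ?_).congr fun x hx => ?_
    · show β (k (i (β x))) ∈ _
      rw [hiβ x (hT'N hx)]
      exact mem_img_self β (hkN x hx)
    · show i (β (k (i (β x)))) = k x
      rw [hiβ x (hT'N hx), hiβ _ (hkN x hx)]

  -- the local model
  set X := Y ⊔ centralizerIn S Y with hXdef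
  have hXR : X ≤ R := sup_le hYR centralizerIn_le_normalizerIn
  have hRp : IsPGroup p R := hS.to_le hRS
  obtain ⟨G, _, hfinG, ι, Tsyl, ⟨hι, hTsyl, hchar, hY0, hmodel, hmaps⟩, hΦ⟩ := hmod Y hYn
  have hXY : ∀ D k, IsMap F D k → X ≤ D → D ≤ R → img k Y = Y → img k X = X → IsMap E D k := by
    intro D k hk hXD hDR hkY hkX
    obtain ⟨g₀, hg₀⟩ := hmodel D k hk hXD hDR hkY hkX
    classical
    let ιe : Ω → G := fun x => if hx : x ∈ R then ι ⟨x, hx⟩ else 1
    have hιe : ∀ x (hx : x ∈ R), ιe x = ι ⟨x, hx⟩ := fun x hx => dif_pos hx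
    have hιinj : ∀ x ∈ R, ∀ y ∈ R, ιe x = ιe y → x = y := fun x hx y hy h => by
      rw [hιe x hx, hιe y hy] at h
      exact congrArg Subtype.val (hι h)
    let pre : Subgroup G → Subgroup Ω := fun A => (A.comap ι).map R.subtype
    have hmempre : ∀ A x, x ∈ pre A ↔ x ∈ R ∧ ιe x ∈ A := fun A x => by
      constructor
      · rintro ⟨s, hs, rfl⟩
        exact ⟨s.2, by rw [Subgroup.coe_subtype, hιe _ s.2]; exact hs⟩
      · rintro ⟨hx, hA⟩
        exact ⟨⟨x, hx⟩, by rw [hιe x hx] at hA; exact hA, rfl⟩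
    let pull : G → Ω → Ω := fun g x =>
      if h : ∃ r : R, ι r = g * ιe x * g⁻¹ then (h.choose : Ω) else 1
    have hval : ∀ A g, InP (Tsyl : Subgroup G) A g → ∀ x ∈ pre A,
        pull g x ∈ R ∧ ιe (pull g x) = g * ιe x * g⁻¹ := by
      intro A g hA x hx
      have h : g * ιe x * g⁻¹ ∈ ι.range := hTsyl ▸ hA.2 _ ((hmempre A x).1 hx).2
      obtain ⟨r, hr⟩ := h
      have hex : ∃ r : R, ι r = g * ιe x * g⁻¹ := ⟨r, hr⟩
      show (dite _ _ _ : Ω) ∈ R ∧ ιe (dite _ _ _) = _
      rw [dif_pos hex]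
      exact ⟨hex.choose.2, by rw [hιe _ hex.choose.2]; exact hex.choose_spec⟩
    have hpull : ∀ A g, InP (Tsyl : Subgroup G) A g → IsMap F (pre A) (pull g) := by
      intro A g hA
      obtain ⟨f, hf, hfe⟩ := hmaps g A fun a ha => hTsyl ▸ hA.2 a ha
      refine hf.congr fun x hx => ?_
      obtain ⟨hxR, hxA⟩ := (hmempre A x).1 hx
      rw [hιe x hxR] at hxA
      obtain ⟨hfx, hfx'⟩ := hfe ⟨x, hxR⟩ hxA
      obtain ⟨h1, h2⟩ := hval A g hA x hx
      refine hιinj _ hfx _ h1 ?_
      rw [hιe _ hfx, h2, hιe x hxR]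
      exact hfx'
    let U₀ : Subgroup G := (U.subgroupOf R).map ι
    let N₀ : Subgroup G := (Y.subgroupOf R).map ι
    have hUR : U ≤ R := hUY.trans hYR
    have hN₀ : ∀ x ∈ Y, ιe x ∈ N₀ := fun x hx => by
      rw [hιe x (hYR hx)]; exact ⟨⟨x, hYR hx⟩, hx, rfl⟩
    have hN₀P : N₀ ≤ (Tsyl : Subgroup G) := by
      rw [hTsyl]; rintro _ ⟨s, -, rfl⟩; exact ⟨s, rfl⟩
    have hU₀ : U₀ ≤ powerClosure p m
        ((Tsyl : Subgroup G) ⊓ Subgroup.centralizer ((Tsyl : Subgroup G) : Set G)) := by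
      rintro _ ⟨s, hs, rfl⟩
      have hle : powerClosure p m (S ⊓ Subgroup.centralizer (S : Set Ω)) ≤
          pre (powerClosure p m
            ((Tsyl : Subgroup G) ⊓ Subgroup.centralizer ((Tsyl : Subgroup G) : Set G))) := by
        refine (Subgroup.closure_le _).2 ?_
        rintro _ ⟨z, hz, rfl⟩
        have hzR : z ∈ R := hYR (hZY hz)
        refine ⟨⟨z, hzR⟩ ^ (p ^ m), ?_, rfl⟩
        rw [SetLike.mem_coe, Subgroup.mem_comap, map_pow]
        refine Subgroup.subset_closure ⟨ι ⟨z, hzR⟩, ⟨hTsyl ▸ ⟨_, rfl⟩, fun y hy => ?_⟩, rfl⟩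
        rw [hTsyl] at hy
        obtain ⟨t, rfl⟩ := hy
        rw [← map_mul, ← map_mul]
        exact congrArg ι (Subtype.ext (hz.2 t (hRS t.2)))
      obtain ⟨s', hs', hse⟩ := hle (hU (show (s : Ω) ∈ U from hs))
      exact (Subtype.ext hse : s' = s) ▸ hs'
    have hUpre : ∀ A, U₀ ≤ A → U ≤ pre A := fun A hA u hu =>
      (hmempre A u).2 ⟨hUR hu, by rw [hιe u (hUR hu)]; exact hA ⟨⟨u, hUR hu⟩, hu, rfl⟩⟩
    let e : R ≃* ι.range := MonoidHom.ofInjective hι
    have hWmem : ∀ x (hx : x ∈ R), x ∈ Wof W R ↔ ιe x ∈ Wof W (Tsyl : Subgroup G) := by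
      intro x hx
      rw [hιe x hx, hTsyl]
      exact mem_Wof_iff hW hRp e ⟨x, hx⟩
    let A₀ : Subgroup G := (D.subgroupOf R).map ι
    have hA₀ : InP (Tsyl : Subgroup G) A₀ g₀ := by
      refine ⟨?_, ?_⟩
      · rw [hTsyl]
        rintro _ ⟨s, -, rfl⟩
        exact ⟨s, rfl⟩
      · rintro _ ⟨s, hs, rfl⟩
        obtain ⟨hks, hks'⟩ := hg₀ s hs
        rw [hTsyl, cj_apply, ← hks']
        exact ⟨_, rfl⟩
    have hgood := hloc G Tsyl hchar hΦ U₀ N₀ hU₀ hY0 hN₀P
      (fun A g => IsMap E (pre A) (pull g))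
      (fun A g l hA hl h1 h2 => by
        refine (h2.comp h1 fun x hx => ?_).congr fun x hx => ?_
        · obtain ⟨ht, hte⟩ := hval A g hA x hx
          exact (hmempre _ _).2 ⟨ht, hte ▸ mem_img_self (cj g) ((hmempre A x).1 hx).2⟩
        · obtain ⟨ht, hte⟩ := hval A g hA x hx
          have e1 : l * ιe (pull g x) * l⁻¹ = l * g * ιe x * (l * g)⁻¹ := by rw [hte]; group
          show (dite (∃ r : R, ι r = l * ιe (pull g x) * l⁻¹) _ _ : Ω) =
            dite (∃ r : R, ι r = l * g * ιe x * (l * g)⁻¹) _ _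
          simp only [e1])
      (fun A B g hBA _ h => h.restrict (Subgroup.map_mono (Subgroup.comap_mono hBA)))
      (fun A g hA hUA hg => hC _ _ (hpull A g hA) (hUpre A hUA) fun u hu => by
        obtain ⟨ht, hte⟩ := hval A g hA u (hUpre A hUA hu)
        refine hιinj _ ht u (hUR hu) ?_
        rw [hte]
        exact hg _ (by rw [hιe u (hUR hu)]; exact ⟨⟨u, hUR hu⟩, hu, rfl⟩))
      (fun A g hA hWA hg => by
        have hsub : Wof W R ≤ pre A := fun x hx =>
          (hmempre A x).2 ⟨Wof_le _ hx, hWA ((hWmem x (Wof_le _ hx)).1 hx)⟩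
        refine hNR _ _ (hpull A g hA) (Subgroup.map_subtype_le _) hsub ?_
        have : Finite (Wof W R) := finite_of_le (Wof_le (W := W) R)
        refine eq_of_le_card (img_le fun x hx => ?_)
          ((hpull A g hA).restrict hsub).card_img.ge
        obtain ⟨ht, hte⟩ := hval A g hA x (hsub hx)
        rw [hWmem _ ht, hte]
        exact (Subgroup.mem_normalizer_iff.1 hg _).1 ((hWmem x (Wof_le _ hx)).1 hx))
      (fun hf' A g hA hUA h u hu => by
        obtain ⟨s, hs, rfl⟩ := hu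
        have h1 := hfix hf' _ _ h (hUpre A hUA) s hs
        have h2 := (hval A g hA s (hUpre A hUA hs)).2
        rw [h1, hιe _ s.2] at h2
        exact h2.symm)
      (fun hi A g hA hNA h => by
        obtain ⟨s, hs, hse⟩ := hinn hi _ _ h
        have : Finite Y := finite_of_le hYS
        have hYA : Y ≤ pre A := fun y hy => (hmempre A y).2 ⟨hYR hy, hNA (hN₀ y hy)⟩
        have hsR : s ∈ R := ⟨hs, mem_normalizer_of_forall fun y hy => by
          obtain ⟨ht, hte⟩ := hval A g hA y (hYA hy)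
          have h1 : ιe (pull g y) ∈ N₀ := hte ▸ hY0.conj_mem _ (hN₀ y hy) g
          rw [hιe _ ht] at h1
          obtain ⟨r, hr, hre⟩ := h1
          rw [← hse y (hYA hy)]
          rw [show pull g y = (r : Ω) from (congrArg Subtype.val (hι hre)).symm]
          exact hr⟩
        refine ⟨ι ⟨s, hsR⟩, hTsyl ▸ ⟨_, rfl⟩, fun a ha => ?_⟩
        obtain ⟨r, rfl⟩ : a ∈ ι.range := hTsyl ▸ hA.1 ha
        have hr : (r : Ω) ∈ pre A := ⟨r, ha, rfl⟩
        obtain ⟨ht, hte⟩ := hval A g hA r hr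
        rw [hιe _ r.2] at hte
        rw [← hte, hιe _ ht, ← map_inv, ← map_mul, ← map_mul]
        exact congrArg ι (Subtype.ext (hse r hr)))
      A₀ g₀ hA₀
    have hpreD : pre A₀ = D := by
      refine le_antisymm ?_ fun x hx => (hmempre _ x).2
        ⟨hDR hx, by rw [hιe x (hDR hx)]; exact ⟨⟨x, hDR hx⟩, hx, rfl⟩⟩
      rintro _ ⟨s, ⟨s', hs', hse⟩, rfl⟩
      exact (hι hse : s' = s) ▸ hs'
    refine (hpreD ▸ hgood : IsMap E D (pull g₀)).congr fun x hx => ?_
    obtain ⟨ht, hte⟩ := hval A₀ g₀ hA₀ x (hpreD.ge hx)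
    obtain ⟨hkx, hkx'⟩ := hg₀ ⟨x, hDR hx⟩ hx
    refine hιinj _ ht _ hkx ?_
    rw [hte, hιe _ hkx, hιe x (hDR hx)]
    exact hkx'.symm
  -- split off a map fixing `Y`
  have hfY' : IsMap F Y f := hf.restrict hYT
  obtain ⟨h, hh, hhe⟩ := exists_extension hS hF hfY'
    (by rw [hfY]; exact fullyNormalized_fullyCentralized hS hF hYn)
  have hTn : T ≤ nSub S Y f := fun t ht =>
    ⟨hf.le ht, (hTR ht).2, f t, hf.mem ht, fun x hx => hf.map_conj ht (hYT hx)⟩
  have hXn' : X ≤ nSub S Y f := sup_le (le_nSub hfY') centralizerIn_le_nSub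
  have hh' : IsMap F (T ⊔ X) h := hh.restrict (sup_le hTn hXn')
  have hhY : img h Y = Y := by rw [img_congr hhe, hfY]
  have hhX : img h X = X := by
    have : Finite X := finite_of_le (hXR.trans hRS)
    refine eq_of_le_card ?_ (hh.restrict hXn').card_img.ge
    rw [hXdef, (hh.restrict hXn').img_sup, hhY]
    refine sup_le le_sup_left (le_trans ?_ le_sup_right)
    have h2 := hh.img_centralizerIn_le (le_nSub hfY') centralizerIn_le_nSub
    rwa [hhY] at h2
  have hhE : IsMap E (T ⊔ X) h := hXY _ _ hh' le_sup_right (sup_le hTR hXR) hhY hhX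
  have hhT : IsMap F T h := hh'.restrict le_sup_left
  obtain ⟨i, hi, -, hih, hhi⟩ := hhT.exists_inv
  have hiT : ∀ y ∈ img h T, i y ∈ T := fun y hy => by
    obtain ⟨x, hx, rfl⟩ := hhT.mem_img.1 hy
    rwa [hih x hx]
  have hY' : Y ≤ img h T := hhY.ge.trans (img_mono h hYT)
  have hgE : IsMap E (img h T) (fun y => f (i y)) := by
    refine hC _ _ (hf.comp hi hiT) (hUY.trans hY') fun u hu => ?_
    have huY := hhY.ge (hUY hu)
    obtain ⟨y, hy, rfl⟩ := (hhT.restrict hYT).mem_img.1 huY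
    show f (i (h y)) = h y
    rw [hih y (hYT hy), hhe y hy]
  refine (hgE.comp (hhE.restrict le_sup_left) fun x hx => mem_img_self h hx).congr fun x hx => ?_
  show f (i (h x)) = f x
  rw [hih x hx]


theorem climb (hS : IsPGroup p S) {F : FusionSystem S} (hF : F.IsSaturated p)
    (hW : IsoInv p W)
    (hWZ : ∀ (Q : Type u) [Group Q] [Finite Q], IsPGroup p Q → Subgroup.center Q ≤ W Q)
    {U : Subgroup Ω} (hU : U ≤ powerClosure p m (S ⊓ Subgroup.centralizer (S : Set Ω)))
    {Φ : ∀ (G : Type u) [Group G], Prop} (hmod : HasModels F p Φ)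
    (hloc : ∀ (G : Type u) [Group G] [Finite G] (P : Sylow p G),
      Subgroup.centralizer ((pCore p G : Subgroup G) : Set G) ≤ pCore p G →
      Φ G →
      ∀ U₀ N₀ : Subgroup G,
        U₀ ≤ powerClosure p m ((P : Subgroup G) ⊓ Subgroup.centralizer (P : Set G)) →
        ControlIn W fix inn U₀ N₀ (P : Subgroup G))
    (E : FusionSystem S)
    (hC : ∀ P f, IsMap F P f → U ≤ P → (∀ u ∈ U, f u = u) → IsMap E P f)
    (hN : ∀ P f, IsMap F P f → Wof W S ≤ P → img f (Wof W S) = Wof W S → IsMap E P f)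
    (hfix : fix → ∀ P f, IsMap E P f → U ≤ P → ∀ u ∈ U, f u = u)
    (hinn : inn → ∀ P f, IsMap E P f → ∃ s ∈ S, ∀ x ∈ P, f x = s * x * s⁻¹) :
    ∀ P f, IsMap F P f → IsMap E P f := by
  intro P f hf
  induction hn : Nat.card S - Nat.card P using Nat.strong_induction_on generalizing P f with
  | _ n ih =>
  have hP := hf.le
  have haut : ∀ R : Subgroup Ω, Nat.card R = Nat.card P → F.IsFullyNormalized R →
      F.autGroup R ≤ E.autGroup R := by
    intro R hR hRn α hα
    have hRS := hRn.1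
    have hfinR : Finite R := finite_of_le hRS
    have hlarge : ∀ T g, IsMap F T g → Nat.card R < Nat.card T → IsMap E T g := by
      intro T g hg hT
      have hTS := card_le_card hg.le
      exact ih (Nat.card S - Nat.card T) (by omega) T g hg rfl
    have hm := isMap_of_mem_autGroup hRS hα
    refine (mem_autGroup_iff hRS).2 ?_
    rcases eq_or_lt_of_le hRS with hReq | hlt
    · subst hReq
      refine hN _ _ hm (Wof_le _) ?_
      rw [Wof_img hW hS hm.isHom hm.injOn, autFun_img]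
    by_cases hc : centralizerIn S R ≤ R
    · have hRc : F.IsCentric R :=
        centric_of_fullyCentralized hS hF (fullyNormalized_fullyCentralized hS hF hRn) hc
      have hZR : S ⊓ Subgroup.centralizer (S : Set Ω) ≤ R := fun z hz =>
        hc ⟨hz.1, fun y hy => hz.2 y (hRS hy)⟩
      have hfinN : Finite (normalizerIn S R) := finite_of_le normalizerIn_le
      have hlt' := card_lt_card (lt_normalizerIn hS hlt)
      exact climb_step hS hF hW hWZ hU hmod hloc E hC hN hfix hinn _ R rfl hRn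
        (centric_mono hRc (le_normalizerIn hRS) normalizerIn_le) hZR
        (fun T g hg hT => hlarge T g hg (hlt'.trans hT)) R _ hm le_rfl (le_normalizerIn hRS)
        (autFun_img α)
    · obtain ⟨g, hg, he⟩ := exists_extension hS hF hm
        (by rw [autFun_img]; exact fullyNormalized_fullyCentralized hS hF hRn)
      have hfinN : Finite (nSub S R (autFun α)) := finite_of_le hg.le
      refine ((hlarge _ g hg ?_).restrict (le_nSub hm)).congr he
      refine card_lt_card (lt_of_le_of_ne (le_nSub hm) fun h => hc ?_)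
      rw [h]
      exact centralizerIn_le_nSub.trans' (by rw [← h])
  rcases eq_or_lt_of_le hP with hPS | hlt
  · have himg : img f P = P := (eq_top_of_card hP hf.isConj hPS).trans hPS.symm
    obtain ⟨α, hα, he⟩ := hf.exists_aut himg
    have hn : F.IsFullyNormalized P := by
      refine ⟨hP, fun R hR => ?_⟩
      rw [eq_top_of_card hP hR hPS, hPS]
    exact (isMap_of_mem_autGroup hP (haut P rfl hn hα)).congr he
  obtain ⟨Q, hPQ, hQ⟩ := exists_fullyNormalized (F := F) hP
  have hstep : ∀ R : Subgroup Ω, F.IsConj R P → ∃ g, IsMap F R g ∧ IsMap E R g ∧ img g R = Q := by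
    intro R hR
    obtain ⟨g, hg, hgQ⟩ := exists_map_to_fullyNormalized hS hF hQ (isConj_trans hR hPQ)
    have hRS := (isConj_le hR).1
    have hRlt : R < S := by
      refine lt_of_le_of_ne hRS fun h => hlt.ne ?_
      exact eq_top_of_card hRS hR h
    have h1 := card_lt_card hlt
    have hfin : Finite (normalizerIn S R) := finite_of_le normalizerIn_le
    have h2 := card_lt_card (lt_normalizerIn hS hRlt)
    have h3 := card_le_card (normalizerIn_le : normalizerIn S R ≤ S)
    have h4 := isConj_card hR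
    have hg' : IsMap E (normalizerIn S R) g := ih (Nat.card S - Nat.card (normalizerIn S R))
      (by omega) _ g hg rfl
    exact ⟨g, hg.restrict (le_normalizerIn hRS), hg'.restrict (le_normalizerIn hRS), hgQ⟩
  obtain ⟨g₁, hg₁, hg₁E, hg₁Q⟩ := hstep P (isConj_refl hP)
  obtain ⟨g₂, hg₂, hg₂E, hg₂Q⟩ := hstep (img f P) (isConj_symm hf.isConj)
  subst hg₁Q
  obtain ⟨i₁, hi₁, hi₁img, hi₁g, -⟩ := hg₁.exists_inv
  obtain ⟨i₂, hi₂, hi₂img, hi₂g, -⟩ := hg₂E.exists_inv
  rw [hg₂Q] at hi₂
  have hmapsto : ∀ x ∈ img g₁ P, i₁ x ∈ P := fun x hx => le_of_eq hi₁img (mem_img_self i₁ hx)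
  have hin : IsMap F (img g₁ P) (fun x => f (i₁ x)) := hf.comp hi₁ hmapsto
  have hcomp : IsMap F (img g₁ P) (fun x => g₂ (f (i₁ x))) :=
    hg₂.comp hin fun x hx => mem_img_self f (hmapsto x hx)
  have himg : img (fun x => g₂ (f (i₁ x))) (img g₁ P) = img g₁ P := by
    rw [← hin.img_img g₂, ← hi₁.img_img f, hi₁img, hg₂Q]
  obtain ⟨α, hα, he⟩ := hcomp.exists_aut himg
  have hαE : IsMap E (img g₁ P) (autFun α) :=
    isMap_of_mem_autGroup hQ.1 (haut _ (isConj_card hPQ) hQ hα)
  have h1 : IsMap E P (fun x => autFun α (g₁ x)) :=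
    hαE.comp hg₁E fun x hx => mem_img_self g₁ hx
  refine (hi₂.comp h1 fun x hx => autFun_mem α (mem_img_self g₁ hx)).congr fun x hx => ?_
  show i₂ (autFun α (g₁ x)) = f x
  rw [he _ (mem_img_self g₁ hx), hi₁g x hx, hi₂g _ (mem_img_self f hx)]

/-- The engine with the maps fixing `U` as target: `U` is central. -/
theorem isCentral_of_local (hS : IsPGroup p S) {F : FusionSystem S} (hF : F.IsSaturated p)
    (hW : IsoInv p W)
    (hWZ : ∀ (Q : Type u) [Group Q] [Finite Q], IsPGroup p Q → Subgroup.center Q ≤ W Q)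
    {U : Subgroup Ω} (hU : U ≤ powerClosure p m (S ⊓ Subgroup.centralizer (S : Set Ω)))
    {Φ : ∀ (G : Type u) [Group G], Prop} (hmod : HasModels F p Φ)
    (hloc : ∀ (G : Type u) [Group G] [Finite G] (P : Sylow p G),
      Subgroup.centralizer ((pCore p G : Subgroup G) : Set G) ≤ pCore p G →
      Φ G →
      ∀ U₀ N₀ : Subgroup G,
        U₀ ≤ powerClosure p m ((P : Subgroup G) ⊓ Subgroup.centralizer (P : Set G)) →
        ControlIn W fix False U₀ N₀ (P : Subgroup G))
    {N : FusionSystem (normalizerIn S (Wof W S))}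
    (hN : F.IsNormalizerSystem (Wof W S) N) (hUN : U ≤ N.center) : F.IsCentral U := by
  have hUZ := hU.trans (powerClosure_le' p m _)
  obtain ⟨E, hE⟩ := exists_fixSystem F hUZ
  have hfinN : Finite (normalizerIn S (Wof W S)) := finite_of_le normalizerIn_le
  have main := climb (fix := fix) (inn := False) hS hF hW hWZ hU hmod hloc E
    (fun P f hf hUP hfix => (hE P f).2 ⟨f, by rwa [sup_eq_left.2 hUP], fun _ _ => rfl, hfix⟩)
    (fun P f hf hWP himg => by
      obtain ⟨g, hg, he, hfix⟩ := (isCentral_iff.1 (center_isCentral (F := N))).2 P f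
        (isMap_normalizer_Wof hS hW hN hf hWP himg)
      obtain ⟨-, g', hg', he', -⟩ := (isMap_normalizer_iff hN).1 hg
      exact (hE P f).2 ⟨g, ((hg'.restrict le_sup_left).congr he').restrict
        (sup_le_sup_left hUN P), he, fun u hu => hfix u (hUN hu)⟩)
    (fun _ P f hf hUP u hu => by
      obtain ⟨g, -, he, hfix⟩ := (hE P f).1 hf
      rw [← he u (hUP hu)]; exact hfix u hu)
    (fun h => h.elim)
  exact isCentral_iff.2 ⟨hUZ.trans inf_le_left, fun P f hf => (hE P f).1 (main P f hf)⟩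

end Cfsg.Agent.CharP.ClimbingFree
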