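import Mathlib
import Cfsg.Agent.Lib.CharP.WeakClosureJ
import Cfsg.Agent.Lib.CharP.Parabolic
import Cfsg.Agent.Lib.Transfer.Frobenius

/-!
Weak closure of central elements of `N(J(S))`, and Thompson's normal complement theorem for the
abelian `J`.
-/

set_option autoImplicit false

universe u

namespace Cfsg.Agent.CharP.WeakClosureJ

open Subgroup

variable {G : Type u} [Group G] [Finite G] {p : ℕ} [Fact p.Prime]

theorem mem_J_of_central {U : Subgroup G} {x : G} (hx : x ∈ U) (hc : ∀ t ∈ U, t * x = x * t) :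
    x ∈ Cfsg.thompsonSubgroupAOf U := by
  obtain ⟨A, hA⟩ := PLocal.MaxAbelian.family_nonempty 0 U
  have hle : A ⊔ zpowers x ≤ centralizer ((A ⊔ zpowers x : Subgroup G) : Set G) := by
    have hxA : zpowers x ≤ centralizer (A : Set G) :=
      zpowers_le.2 fun a ha => hc a (hA.1 ha)
    exact sup_le (le_centralizer_iff.1 (sup_le (comm_of_family hA) hxA))
      (le_centralizer_iff.1 (sup_le (le_centralizer_iff.1 hxA) (le_centralizer _)))
  have hgood : PLocal.MaxAbelian.Good 0 (A ⊔ zpowers x) :=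
    ⟨fun a ha b hb => hle hb a ha, fun a _ => pow_zero a⟩
  have he := eq_of_le_of_card_ge (le_sup_left : A ≤ A ⊔ zpowers x)
    (hA.2.2 _ (sup_le hA.1 (zpowers_le.2 hx)) hgood)
  have hxA : x ∈ A := he ▸ mem_sup_right (mem_zpowers x)
  rw [J_eq]
  exact le_sSup (α := Subgroup G) hA hxA

/-- The normaliser of a tame subgroup containing `x` fixes `x`. -/
theorem normalizer_le_of_tame (S : Sylow p G) {x : G} (hxS : x ∈ (S : Subgroup G))
    (hxc : ∀ t ∈ (S : Subgroup G), t * x = x * t)
    (hN : normalizer (Cfsg.thompsonSubgroupAOf (S : Subgroup G) : Set G) ≤ centralizer ({x} : Set G))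
    (h : p ≠ 2 ∨ (∃ z ∈ (S : Subgroup G) ⊓ centralizer ((S : Subgroup G) : Set G), z ^ p = x) ∨
      ¬ Cfsg.Involves (Equiv.Perm (Fin 4)) G) :
    ∀ (m : ℕ) (U : Subgroup G), Nat.card (S : Subgroup G) <
        Nat.card ↥((S : Subgroup G) ⊓ normalizer (U : Set G)) + m → U ≤ (S : Subgroup G) → x ∈ U →
      IsSylIn p ((S : Subgroup G) ⊓ normalizer (U : Set G)) (normalizer (U : Set G)) →
      normalizer (U : Set G) ≤ centralizer ({x} : Set G) := by
  intro m
  induction m with
  | zero =>
    intro U hm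
    exact absurd (card_le_of_le (inf_le_left : (S : Subgroup G) ⊓ normalizer (U : Set G) ≤ _)) (by omega)
  | succ m ih =>
  intro U hm hUS hxU hsyl
  set T := (S : Subgroup G) ⊓ normalizer (U : Set G) with hTdef
  have hUT : U ≤ T := le_inf hUS le_normalizer
  -- (a)
  have hJ : normalizer (Cfsg.thompsonSubgroupAOf T : Set G) ≤ centralizer ({x} : Set G) := by
    rcases eq_or_lt_of_le (inf_le_left : T ≤ (S : Subgroup G)) with he | hlt
    · simp only [hTdef] at he ⊢; rw [he]; exact hN
    set J := Cfsg.thompsonSubgroupAOf T with hJdef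
    set Q := (S : Subgroup G) ⊓ normalizer (J : Set G) with hQdef
    have hTQ : Nat.card T < Nat.card Q := by
      have h1 := Transfer.Frobenius.lt_inf_normalizer S.2 hlt
      have h2 : (S : Subgroup G) ⊓ normalizer (T : Set G) ≤ Q :=
        inf_le_inf_left _ (normalizer_le_normalizer_J T)
      exact lt_of_not_ge fun hc =>
        (h1.trans_le h2).ne (eq_of_le_of_card_ge (h1.le.trans h2) hc)
    have hxJ : x ∈ J := mem_J_of_central (hUT hxU) fun t ht => hxc t ht.1
    have hxQ : x ∈ Q := ⟨hxS, le_normalizer hxJ⟩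
    obtain ⟨k, hkJ, hkQ, hsylJ⟩ := FusionInduction.exists_tame S
      ((J_le T).trans inf_le_left : J ≤ (S : Subgroup G))
    have hbig : ∀ U' : Subgroup G, Nat.card Q ≤ Nat.card ↥((S : Subgroup G) ⊓ normalizer (U' : Set G)) →
        U' ≤ (S : Subgroup G) → x ∈ U' →
        IsSylIn p ((S : Subgroup G) ⊓ normalizer (U' : Set G)) (normalizer (U' : Set G)) →
        normalizer (U' : Set G) ≤ centralizer ({x} : Set G) :=
      fun U' hU' => ih U' (by omega)
    have hkx : k * x * k⁻¹ = x := by
      refine (FusionInduction.fusion_induction_ge S (R := fun a b => a = x ↔ b = x)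
        ⟨fun _ => Iff.rfl, Iff.symm, Iff.trans⟩ (Q₀ := Q) inf_le_left ?_ hkQ hxQ).1 rfl
      intro U' hU' hle hs n hn y hy
      by_cases hxU' : x ∈ U'
      · have hnx : n * x = x * n := mem_centralizer_singleton_iff.1
          (hbig U' (hle.trans (card_le_of_le (le_inf hU' le_normalizer))) hU' hxU' hs hn)
        constructor
        · rintro rfl
          rw [hnx, mul_inv_cancel_right]
        · intro he
          have h1 : n * y = n * x := by rw [hnx, ← he, inv_mul_cancel_right]
          exact mul_left_cancel h1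
      · exact ⟨fun he => absurd (he ▸ hy) hxU',
          fun he => absurd (he ▸ (hn y).1 hy) hxU'⟩
    have hk1 : normalizer ((J.map (MulAut.conj k).toMonoidHom : Subgroup G) : Set G) ≤
        centralizer ({x} : Set G) := by
      refine hbig _ ?_ hkJ (hkx ▸ ⟨x, hxJ, by simp⟩) hsylJ
      rw [← card_map_of_injective (f := (MulAut.conj k).toMonoidHom) (K := Q)
        (MulAut.conj k).injective]
      refine card_le_of_le (le_inf hkQ ((map_mono inf_le_right).trans ?_))
      exact le_normalizer_map _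
    intro g hg
    have h1 := hk1 (le_normalizer_map (MulAut.conj k).toMonoidHom ⟨g, hg, rfl⟩)
    rw [mem_centralizer_singleton_iff] at h1 ⊢
    refine (MulAut.conj k).injective ?_
    have h2 : MulAut.conj k x = x := by rw [MulAut.conj_apply, hkx]
    rw [map_mul, map_mul, h2]
    exact h1
  -- (b)
  intro g hg
  obtain ⟨a, ha, c, hc, rfl⟩ := exists_mem_normalizer_mul_mem_centralizer (Y := U) hsyl le_rfl hg
  refine mem_centralizer_singleton_iff.2 ?_
  have hcx : Commute c x := (hc.2 x hxU).symm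
  suffices hax : Commute a x from (hax.mul_left hcx).eq
  set D := T ⊓ centralizer (U : Set G) with hDdef
  set H₁ := normalizer (U : Set G) ⊓ normalizer (D : Set G) with hH₁
  set E := U ⊔ D with hEdef
  set V := E ⊓ centralizer (E : Set G) with hVdef
  have hES : E ≤ (S : Subgroup G) := sup_le hUS (inf_le_left.trans inf_le_left)
  have hHE : H₁ ≤ normalizer (V : Set G) := by
    intro n hn
    refine mem_normalizer_of_conj_map ?_
    rw [hVdef, map_centre_inf (MulAut.conj n).injective, hEdef, Subgroup.map_sup, conj_map_of_mem hn.1,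
      conj_map_of_mem hn.2]
  have hTH : T ≤ H₁ := by
    refine le_inf inf_le_right ?_
    refine (le_inf le_normalizer (?_ : T ≤ _)).trans inf_normalizer_le_normalizer_inf
    exact (inf_le_right : T ≤ normalizer (U : Set G)).trans (normalizer_le_normalizer_centralizer U)
  obtain ⟨P, hP⟩ := hsyl.mono hTH inf_le_left
  have hVH : V ≤ H₁ := inf_le_left.trans ((sup_le hUT inf_le_left).trans hTH)
  have : (V.subgroupOf H₁).Normal := (normal_subgroupOf_iff_le_normalizer hVH).2 hHE
  have hPS : ∀ t : H₁, t ∈ (P : Subgroup H₁) → (t : G) ∈ T := fun t ht => hP ▸ mem_map_of_mem _ ht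
  have hxV : x ∈ V := ⟨mem_sup_left hxU, fun e he => hxc e (hES he)⟩
  have h1 := central_of_controls (p := p) P (V.subgroupOf H₁) (x := ⟨x, hVH hxV⟩)
    ((S.2.to_le (inf_le_left.trans hES)).comap_subtype)
    (fun y hy z hz => Subtype.ext ((mem_subgroupOf.1 hz).2 _ (mem_subgroupOf.1 hy).1))
    (mem_subgroupOf.2 hxV) (fun t ht => Subtype.ext (hxc t (hPS t ht).1)) ?_ ?_
  · exact congrArg Subtype.val (mem_center_iff.1 h1 ⟨a, ha⟩)
  · intro n hn
    refine mem_centralizer_singleton_iff.2 (Subtype.ext ?_)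
    refine mem_centralizer_singleton_iff.1 (hJ ?_)
    rw [← hP, J_map H₁.subtype_injective]
    exact le_normalizer_map H₁.subtype ⟨n, hn, rfl⟩
  · rcases h with h | ⟨z, hz, hzx⟩ | h
    · exact Or.inl h
    · have hzD : z ∈ D := by
        have hzU : z ∈ centralizer (U : Set G) := centralizer_le hUS hz.2
        exact ⟨⟨hz.1, centralizer_le_normalizer _ hzU⟩, hzU⟩
      have hzV : z ∈ V := ⟨mem_sup_right hzD, fun e he => hz.2 e (hES he)⟩
      exact Or.inr (Or.inl ⟨⟨z, hVH hzV⟩, mem_subgroupOf.2 hzV,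
        fun t ht => Subtype.ext (hz.2 t (hPS t ht).1), Subtype.ext hzx⟩)
    · exact Or.inr (Or.inr fun hi => h (Offender.involves_of_subgroup H₁ hi))

/-- `J` controls the weak closure of central elements. -/
theorem weakly_closed_of_controls (S : Sylow p G) {x : G} (hxS : x ∈ (S : Subgroup G))
    (hN : normalizer (Cfsg.thompsonSubgroupAOf (S : Subgroup G) : Set G) ≤ centralizer ({x} : Set G))
    (h : p ≠ 2 ∨ (∃ z ∈ (S : Subgroup G) ⊓ centralizer ((S : Subgroup G) : Set G), z ^ p = x) ∨
      ¬ Cfsg.Involves (Equiv.Perm (Fin 4)) G) {g : G} (hg : g * x * g⁻¹ ∈ (S : Subgroup G)) :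
    g * x * g⁻¹ = x := by
  have hxc : ∀ t ∈ (S : Subgroup G), t * x = x * t := fun t ht => mem_centralizer_singleton_iff.1
    (hN (normalizer_le_normalizer_J _ (le_normalizer ht)))
  refine (FusionInduction.fusion_induction S (R := fun a b => a = x ↔ b = x)
    ⟨fun _ => Iff.rfl, Iff.symm, Iff.trans⟩ ?_ hxS hg).1 rfl
  intro U hUS hs n hn y hy
  by_cases hxU : x ∈ U
  · have hnx : n * x = x * n := mem_centralizer_singleton_iff.1
      (normalizer_le_of_tame S hxS hxc hN h (Nat.card (S : Subgroup G) + 1) U (by omega) hUS hxU hs hn)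
    constructor
    · rintro rfl
      rw [hnx, mul_inv_cancel_right]
    · intro he
      have h1 : n * y = n * x := by rw [hnx, ← he, inv_mul_cancel_right]
      exact mul_left_cancel h1
  · exact ⟨fun he => absurd (he ▸ hy) hxU, fun he => absurd (he ▸ (hn y).1 hy) hxU⟩

/-- Thompson's normal complement theorem for the abelian `J`. -/
theorem hasNormalPComplement_of_controls (S : Sylow p G)
    (h : p ≠ 2 ∨ ¬ Cfsg.Involves (Equiv.Perm (Fin 4)) G)
    (hC : Cfsg.HasNormalPComplement p ↥(centralizer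
      (((S : Subgroup G) ⊓ centralizer ((S : Subgroup G) : Set G) : Subgroup G) : Set G)))
    (hN : Cfsg.HasNormalPComplement p
      ↥(normalizer (Cfsg.thompsonSubgroupAOf (S : Subgroup G) : Set G))) :
    Cfsg.HasNormalPComplement p G := by
  set Z := (S : Subgroup G) ⊓ centralizer ((S : Subgroup G) : Set G) with hZdef
  set N := normalizer (Cfsg.thompsonSubgroupAOf (S : Subgroup G) : Set G) with hNdef
  have hSN : (S : Subgroup G) ≤ N := le_normalizer.trans (normalizer_le_normalizer_J _)
  -- the centre of `S` is weakly closed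
  have hwc : ∀ z ∈ Z, ∀ g : G, g * z * g⁻¹ ∈ (S : Subgroup G) → g * z * g⁻¹ = z := by
    intro z hz g hg
    refine weakly_closed_of_controls S hz.1 (fun n hn => ?_)
      (h.imp_right Or.inr) hg
    have hzJ : z ∈ Cfsg.thompsonSubgroupAOf (S : Subgroup G) :=
      mem_J_of_central hz.1 fun t ht => hz.2 t ht
    set C := centralizer ({(⟨z, hSN hz.1⟩ : N)} : Set N) with hCdef
    suffices htop : C = ⊤ by
      have h1 : (⟨n, hn⟩ : N) ∈ C := htop ▸ mem_top _
      exact mem_centralizer_singleton_iff.2 (congrArg Subtype.val (mem_centralizer_singleton_iff.1 h1))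
    by_contra htop
    obtain ⟨r, hr, hrd⟩ := Nat.exists_prime_and_dvd (fun h1 => htop (index_eq_one.1 h1))
    have : Fact r.Prime := ⟨hr⟩
    obtain ⟨W, hW⟩ : ∃ W : Sylow r N, (W : Subgroup N) ≤ C := by
      by_cases hrp : r = p
      · subst hrp
        exact ⟨S.subtype hSN, fun t ht => mem_centralizer_singleton_iff.2
          (Subtype.ext (hz.2 t (mem_subgroupOf.1 ht)))⟩
      · refine ⟨default, fun w hw => mem_centralizer_singleton_iff.2 ?_⟩
        obtain ⟨e, he⟩ := IsPGroup.iff_orderOf.1 (default : Sylow r N).2 ⟨w, hw⟩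
        rw [orderOf_mk] at he
        have h1 := Transfer.Frobenius.condition_of_hasNormalPComplement hN
          ((Cfsg.thompsonSubgroupAOf (S : Subgroup G)).subgroupOf N)
          ((S.2.to_le (J_le _)).comap_subtype) w ?_ ?_ ⟨z, hSN hz.1⟩ (mem_subgroupOf.2 hzJ)
        · exact h1.symm
        · exact le_normalizer_comap N.subtype w.2
        · rw [he]; exact ((Nat.coprime_primes hr Fact.out).2 hrp).pow_left e
    exact W.not_dvd_index (hrd.trans (index_dvd_of_le hW))
  have hSC : (S : Subgroup G) ≤ centralizer (Z : Set G) := fun s hs z hz => (hz.2 s hs).symm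
  refine Transfer.Frobenius.hasNormalPComplement_of_condition
    (Transfer.Frobenius.Condition.of_sylow S fun Q hQ g hg ho => ?_)
  obtain ⟨k, hkQ, -, hsyl⟩ := FusionInduction.exists_tame S hQ
  set U := Q.map (MulAut.conj k).toMonoidHom with hUdef
  have hg' : k * g * k⁻¹ ∈ normalizer (U : Set G) :=
    le_normalizer_map (MulAut.conj k).toMonoidHom ⟨g, hg, by simp⟩
  obtain ⟨a, ha, c, hc, hac⟩ := exists_mem_normalizer_mul_mem_centralizer (Y := U) hsyl le_rfl hg'
  have haZ : a ∈ centralizer (Z : Set G) := by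
    intro z hz
    have hzU : z ∈ centralizer (U : Set G) := centralizer_le hkQ hz.2
    have hzD : z ∈ (S : Subgroup G) ⊓ normalizer (U : Set G) ⊓ centralizer (U : Set G) :=
      ⟨⟨hz.1, centralizer_le_normalizer _ hzU⟩, hzU⟩
    have h1 := hwc z hz a ((ha.2 z).1 hzD).1.1
    exact (mul_inv_eq_iff_eq_mul.1 h1).symm
  obtain ⟨i, l, hl, hi⟩ := Nat.exists_eq_pow_mul_and_not_dvd (orderOf_pos a).ne' p
    (Fact.out : p.Prime).ne_one
  set q := p ^ i with hq
  have hqa : a ^ q ∈ centralizer (U : Set G) := by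
    intro y hy
    have hcond := Transfer.Frobenius.condition_of_hasNormalPComplement hC
      (U.subgroupOf (centralizer (Z : Set G))) ((S.2.to_le hkQ).comap_subtype)
      (⟨a, haZ⟩ ^ q) ?_ ?_ ⟨y, hSC (hkQ hy)⟩ (mem_subgroupOf.2 hy)
    · exact congrArg Subtype.val hcond
    · exact pow_mem (le_normalizer_comap (centralizer (Z : Set G)).subtype
        (show ((⟨a, haZ⟩ : centralizer (Z : Set G)) : G) ∈ normalizer (U : Set G) from ha.1)) q
    · rw [← Subgroup.orderOf_coe, SubmonoidClass.coe_pow, orderOf_pow, hi, hq,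
        Nat.gcd_mul_right_left, Nat.mul_div_cancel_left _ (pow_pos (Fact.out : p.Prime).pos i)]
      exact ((Nat.Prime.coprime_iff_not_dvd Fact.out).2 hl).symm
  have hact : ∀ (m : ℕ), ∀ y ∈ U, (k * g * k⁻¹) ^ m * y * ((k * g * k⁻¹) ^ m)⁻¹ = a ^ m * y * (a ^ m)⁻¹ := by
    intro m
    induction m with
    | zero => intro y _; simp
    | succ m ih =>
      intro y hy
      have h1 : k * g * k⁻¹ * y * (k * g * k⁻¹)⁻¹ = a * y * a⁻¹ := by
        rw [hac, mul_inv_rev, mul_assoc a c y, ← hc.2 y hy]; group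
      calc (k * g * k⁻¹) ^ (m + 1) * y * ((k * g * k⁻¹) ^ (m + 1))⁻¹
          = (k * g * k⁻¹) ^ m * (k * g * k⁻¹ * y * (k * g * k⁻¹)⁻¹) * ((k * g * k⁻¹) ^ m)⁻¹ := by
            rw [pow_succ]; group
        _ = a ^ m * (a * y * a⁻¹) * (a ^ m)⁻¹ := by rw [h1]; exact ih _ ((ha.1 y).1 hy)
        _ = a ^ (m + 1) * y * (a ^ (m + 1))⁻¹ := by rw [pow_succ]; group
  have hgq : (k * g * k⁻¹) ^ q ∈ centralizer (U : Set G) := fun y hy => by
    have h1 := hact q y hy
    rw [← hqa y hy, mul_inv_cancel_right, mul_inv_eq_iff_eq_mul] at h1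
    exact h1.symm
  have hco : (orderOf (k * g * k⁻¹)).Coprime q := by
    rw [show k * g * k⁻¹ = MulAut.conj k g by rw [MulAut.conj_apply], MulEquiv.orderOf_eq]
    exact ho.pow_right i
  obtain ⟨j, hj⟩ := exists_pow_eq_self_of_coprime hco.symm
  have hgc : k * g * k⁻¹ ∈ centralizer (U : Set G) := hj ▸ pow_mem hgq j
  intro y hy
  refine (MulAut.conj k).injective ?_
  rw [map_mul, map_mul]
  exact hgc _ ⟨y, hy, rfl⟩

end Cfsg.Agent.CharP.WeakClosureJ
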