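import Cfsg.Agent.S0659
import Cfsg.Agent.Lib.CharP.Parabolic
import Cfsg.Agent.Lib.PLocal.Omega
import Cfsg.Agent.Lib.CharP.WeakClosureControl

/-!
A self-centralizing characteristic subgroup of a `p`-group, `p` odd, deciding normal
`p`-complements: iterate the centralizer of `Z(J)`.
-/

set_option autoImplicit false

universe u

namespace Cfsg.Agent.CharP.ComplementSubgroup

open Subgroup

variable {p : ℕ}

/-- The property of `K`. -/
def Decides (p : ℕ) (S : Type u) [Group S] (K : Subgroup S) : Prop :=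
  ∀ (G : Type u) [Group G] [Finite G] (P : Sylow p G) (τ : S →* G), Function.Injective τ →
    τ.range = (P : Subgroup G) →
    (∀ g ∈ normalizer (K.map τ : Set G), (orderOf g).Coprime p → g ∈ centralizer (K.map τ : Set G)) →
    Cfsg.HasNormalPComplement p G

/-- A conjugation preserving the image of `T` induces an automorphism of `T`. -/
theorem exists_aut {T : Type*} [Group T] [Finite T] {G : Type*} [Group G] [Finite G] (τ : T →* G)
    (hτ : Function.Injective τ) (g : G) (hg : g ∈ normalizer (τ.range : Set G)) :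
    ∃ φ : MulAut T, ∀ t, τ (φ t) = g * τ t * g⁻¹ := by
  choose f hf using fun t => (hg (τ t)).1 ⟨t, rfl⟩
  let φ : T →* T := MonoidHom.mk' f fun a b => hτ (by rw [map_mul, hf, hf, hf, map_mul]; group)
  have hinj : Function.Injective φ := fun a b h => by
    have h1 : τ (f a) = τ (f b) := congrArg τ h
    rw [hf, hf] at h1
    exact hτ (mul_left_cancel (mul_right_cancel h1))
  exact ⟨MulEquiv.ofBijective φ (Finite.injective_iff_bijective.1 hinj), hf⟩

/-- A power killing the `p`-part of the order. -/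
theorem exists_ppow [Fact p.Prime] {G : Type*} [Group G] [Finite G] (a : G) :
    ∃ i : ℕ, (orderOf (a ^ p ^ i)).Coprime p := by
  obtain ⟨i, l, hl, hi⟩ := Nat.exists_eq_pow_mul_and_not_dvd (orderOf_pos a).ne' p
    (Fact.out : p.Prime).ne_one
  refine ⟨i, ?_⟩
  rw [orderOf_pow, hi, Nat.gcd_mul_right_left,
    Nat.mul_div_cancel_left _ (pow_pos (Fact.out : p.Prime).pos i)]
  exact ((Nat.Prime.coprime_iff_not_dvd Fact.out).2 hl).symm

theorem mem_of_pow_mem [Fact p.Prime] {G : Type*} [Group G] {H : Subgroup G} {g : G}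
    (hg : (orderOf g).Coprime p) {i : ℕ} (h : g ^ p ^ i ∈ H) : g ∈ H := by
  obtain ⟨j, hj⟩ := exists_pow_eq_self_of_coprime (hg.pow_right i).symm
  exact hj ▸ pow_mem h j

variable [hp : Fact p.Prime]

/-- The inductive step: `Z` is the centre of `J`, `T` its centralizer, `K'` works for `T / Z`. -/
theorem exists_decides (hp2 : p ≠ 2) : ∀ (n : ℕ) (S : Type u) [Group S] [Finite S],
    Nat.card S < n → IsPGroup p S →
    ∃ K : Subgroup S, K.Characteristic ∧ centralizer (K : Set S) ≤ K ∧ Decides p S K := by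
  intro n
  induction n with
  | zero => intro S _ _ h; omega
  | succ n ih =>
  intro S _ _ hn hS
  by_cases htriv : Subsingleton S
  · refine ⟨⊤, inferInstance, le_top, fun G _ _ P τ hτ hP _ => ?_⟩
    refine Transfer.Frobenius.hasNormalPComplement_of_condition
      (Transfer.Frobenius.Condition.of_sylow P fun Q hQ g _ _ q hq => ?_)
    obtain ⟨s, rfl⟩ := hP.ge (hQ hq)
    rw [Subsingleton.elim s 1, map_one, one_mul, mul_one]
  rw [not_subsingleton_iff_nontrivial] at htriv
  set Z : Subgroup S := PLocal.MaxAbelian.core 0 ⊤ with hZdef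
  set T : Subgroup S := centralizer (Z : Set S) with hTdef
  have hZT : Z ≤ T := fun z hz w hw =>
    PLocal.MaxAbelian.core_comm 0 (⊤ : Subgroup S) w hw z hz
  have hZchar : ∀ φ : MulAut S, Z.map φ.toMonoidHom = Z := fun φ => by
    rw [hZdef, ← PLocal.MaxAbelian.core_map 0 (f := φ.toMonoidHom) φ.injective,
      map_top_of_surjective _ φ.surjective]
  set Z₀ : Subgroup T := Z.subgroupOf T with hZ₀def
  have hZ₀n : Z₀.Normal := ⟨fun z hz t => by
    have h1 : t * z * t⁻¹ = z := by
      apply Subtype.ext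
      show (t : S) * z * (t : S)⁻¹ = z
      rw [← t.2 z (mem_subgroupOf.1 hz), mul_inv_cancel_right]
    rwa [h1]⟩
  have hZne : Z₀ ≠ ⊥ := by
    have := hS.center_nontrivial
    obtain ⟨z, hz⟩ := exists_ne (1 : center S)
    intro h
    have h1 : (z : S) ∈ Z := S0659.center_le z.2
    have h2 : (⟨z, hZT h1⟩ : T) ∈ Z₀ := h1
    rw [h, mem_bot] at h2
    exact hz (Subtype.ext (congrArg Subtype.val h2 : (z : S) = 1))
  have hlt : Nat.card (T ⧸ Z₀) < n := by
    have h1 : 1 < Nat.card Z₀ := (one_lt_card_iff_ne_bot Z₀).2 hZne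
    have h2 := card_eq_card_quotient_mul_card_subgroup Z₀
    have h3 : Nat.card T ≤ Nat.card S := card_le_card_group T
    have h4 : 0 < Nat.card (T ⧸ Z₀) := Nat.card_pos
    nlinarith
  obtain ⟨K', hK'char, hK'c, hK'⟩ := ih (T ⧸ Z₀) hlt ((hS.to_subgroup T).to_quotient Z₀)
  set K₀ : Subgroup T := K'.comap (QuotientGroup.mk' Z₀) with hK₀def
  set K : Subgroup S := K₀.map T.subtype with hKdef
  have hZK : Z ≤ K := fun z hz =>
    ⟨⟨z, hZT hz⟩, by
      show (QuotientGroup.mk' Z₀) ⟨z, hZT hz⟩ ∈ K'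
      rw [QuotientGroup.mk'_apply, (QuotientGroup.eq_one_iff (N := Z₀) _).2
        (show (⟨z, hZT hz⟩ : T) ∈ Z₀ from hz)]
      exact one_mem _, rfl⟩
  -- invariance
  have hinv : ∀ φ : MulAut T, Z₀.map φ.toMonoidHom = Z₀ → K₀.map φ.toMonoidHom = K₀ := by
    intro φ hφ
    have h1 : Z₀.map (φ : T →* T) = Z₀ := hφ
    set ψ := QuotientGroup.congr Z₀ Z₀ φ h1
    have h2 := characteristic_iff_map_eq.1 hK'char ψ
    ext t
    constructor
    · rintro ⟨s, hs, rfl⟩
      show QuotientGroup.mk' Z₀ (φ s) ∈ K'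
      rw [← h2]
      exact ⟨QuotientGroup.mk' Z₀ s, hs, by simp [ψ]⟩
    · intro ht
      have h3 : QuotientGroup.mk' Z₀ t ∈ K'.map ψ.toMonoidHom := by rw [h2]; exact ht
      obtain ⟨s, hs, he⟩ := h3
      refine ⟨φ.symm t, ?_, φ.apply_symm_apply t⟩
      show QuotientGroup.mk' Z₀ (φ.symm t) ∈ K'
      have h4 : ψ.symm (QuotientGroup.mk' Z₀ t) = QuotientGroup.mk' Z₀ (φ.symm t) := by simp [ψ]
      rw [← h4, ← he]
      simpa using hs
  refine ⟨K, ?_, ?_, ?_⟩
  · refine characteristic_iff_map_eq.2 fun φ => ?_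
    have hT : T.map φ.toMonoidHom = T := by
      rw [hTdef]
      exact (PLocal.Omega.map_centralizer_equiv φ (Z : Set S)).trans
        (congrArg centralizer ((coe_map φ.toMonoidHom Z).symm.trans (congrArg _ (hZchar φ))))
    let ψ : MulAut T := (φ.subgroupMap T).trans (MulEquiv.subgroupCongr hT)
    have hn : φ.toMonoidHom.comp T.subtype = T.subtype.comp ψ.toMonoidHom := by
      ext t; rfl
    rw [hKdef, map_map, hn, ← map_map]
    congr 1
    refine hinv _ ?_
    apply map_injective T.subtype_injective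
    rw [map_map, ← hn, ← map_map, map_subgroupOf_eq_of_le hZT, hZchar]
  · intro s hs
    have hsT : s ∈ T := fun z hz => hs z (hZK hz)
    refine ⟨⟨s, hsT⟩, hK'c ?_, rfl⟩
    intro k hk
    obtain ⟨k, rfl⟩ := QuotientGroup.mk'_surjective Z₀ k
    rw [← map_mul, ← map_mul]
    exact congrArg _ (Subtype.ext (hs k ⟨k, hk, rfl⟩))
  intro G _ _ P τ hτ hP hcond
  set W := PLocal.MaxAbelian.core 0 (P : Subgroup G) with hWdef
  have hW : W = Z.map τ := by
    rw [hWdef, hZdef, ← PLocal.MaxAbelian.core_map 0 hτ, ← MonoidHom.range_eq_map, hP]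
  set N := normalizer (W : Set G) with hNdef
  set C := centralizer (W : Set G) with hCdef
  have hCN : C ≤ N := centralizer_le_normalizer _
  have hnC : N ≤ normalizer (C : Set G) := normalizer_le_normalizer_centralizer W
  have hPN : (P : Subgroup G) ≤ N :=
    le_normalizer.trans (PLocal.MaxAbelian.normalizer_le_normalizer_core 0 _)
  have hTP : (P : Subgroup G) ⊓ C = T.map τ := by
    rw [← hP]
    ext y
    constructor
    · rintro ⟨⟨s, rfl⟩, hs⟩
      refine ⟨s, fun z hz => hτ ?_, rfl⟩
      rw [map_mul, map_mul]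
      exact hs _ (hW.ge ⟨z, hz, rfl⟩)
    · rintro ⟨s, hs, rfl⟩
      refine ⟨⟨s, rfl⟩, fun w hw => ?_⟩
      obtain ⟨z, hz, rfl⟩ := hW.le hw
      rw [← map_mul, ← map_mul, hs z hz]
  have hsylN : IsSylIn p (P : Subgroup G) N :=
    (isSylIn_top_iff.2 ⟨P, rfl⟩).mono hPN le_top
  -- `C` has a normal complement
  have hC : Cfsg.HasNormalPComplement p C := by
    set τT : T →* C := (τ.comp T.subtype).codRestrict C fun t => (hTP.ge ⟨t, t.2, rfl⟩).2 with hτTdef
    have hτT : Function.Injective τT := fun a b h =>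
      Subtype.ext (hτ (congrArg Subtype.val h))
    set W₀ : Subgroup C := W.subgroupOf C with hW₀def
    have hW₀c : ∀ w ∈ W₀, ∀ c : C, c * w = w * c := fun w hw c =>
      Subtype.ext (c.2 w (mem_subgroupOf.1 hw)).symm
    have hW₀n : W₀.Normal := ⟨fun w hw c => by rw [hW₀c w hw c, mul_inv_cancel_right]; exact hw⟩
    have hker : Z₀ = W₀.comap τT := by
      ext t
      simp only [hZ₀def, hW₀def, mem_comap, mem_subgroupOf, hW]
      exact ⟨fun h => ⟨t, h, rfl⟩, fun ⟨z, hz, he⟩ => (show z = (t : S) from hτ he) ▸ hz⟩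
    let τ' : T ⧸ Z₀ →* C ⧸ W₀ := QuotientGroup.map Z₀ W₀ τT hker.le
    have hτ' : Function.Injective τ' := by
      rw [injective_iff_map_eq_one]
      intro a ha
      obtain ⟨t, rfl⟩ := QuotientGroup.mk'_surjective Z₀ a
      rw [QuotientGroup.mk'_apply, QuotientGroup.map_mk, QuotientGroup.eq_one_iff] at ha
      rw [QuotientGroup.mk'_apply, QuotientGroup.eq_one_iff, hker]
      exact ha
    have hCsyl : IsSylIn p ((P : Subgroup G) ⊓ C) C := hsylN.inf_normal hCN hnC
    obtain ⟨PC, hPC⟩ := hCsyl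
    have hrange : τT.range = (PC : Subgroup C) := by
      apply map_injective C.subtype_injective
      rw [hPC, hTP, MonoidHom.map_range]
      have : C.subtype.comp τT = τ.comp T.subtype := MonoidHom.ext fun t => rfl
      rw [this, MonoidHom.range_comp, range_subtype]
    have hbar : Cfsg.HasNormalPComplement p (C ⧸ W₀) := by
      refine hK' (C ⧸ W₀) (PC.mapSurjective (QuotientGroup.mk'_surjective W₀)) τ' hτ' ?_ ?_
      · rw [Sylow.coe_mapSurjective, ← hrange, MonoidHom.map_range]
        ext y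
        constructor
        · rintro ⟨a, rfl⟩
          obtain ⟨t, rfl⟩ := QuotientGroup.mk'_surjective Z₀ a
          exact ⟨t, rfl⟩
        · rintro ⟨t, rfl⟩
          exact ⟨QuotientGroup.mk' Z₀ t, rfl⟩
      · intro x hx hxo
        obtain ⟨x, rfl⟩ := QuotientGroup.mk'_surjective W₀ x
        obtain ⟨i, hi⟩ := exists_ppow (p := p) x
        refine mem_of_pow_mem hxo (i := i) ?_
        rw [← map_pow]
        set y := x ^ p ^ i with hy
        have hyn : QuotientGroup.mk' W₀ y ∈ normalizer (K'.map τ' : Set (C ⧸ W₀)) := by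
          rw [hy, map_pow]; exact pow_mem hx _
        have hpre : ∀ c : C, QuotientGroup.mk' W₀ c ∈ K'.map τ' ↔ (c : G) ∈ K.map τ := by
          intro c
          constructor
          · rintro ⟨a, ha, he⟩
            obtain ⟨t, rfl⟩ := QuotientGroup.mk'_surjective Z₀ a
            rw [QuotientGroup.mk'_apply, QuotientGroup.mk'_apply, QuotientGroup.map_mk,
              QuotientGroup.eq] at he
            have h1 : ((τT t : C) : G)⁻¹ * c ∈ W := mem_subgroupOf.1 he
            have h2 : τ t ∈ K.map τ := ⟨t, ⟨t, ha, rfl⟩, rfl⟩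
            have h3 := mul_mem h2 ((map_mono hZK : Z.map τ ≤ _) (hW.le h1))
            rwa [show τ (t : S) = ((τT t : C) : G) from rfl, mul_inv_cancel_left] at h3
          · rintro ⟨_, ⟨t, ht, rfl⟩, he⟩
            refine ⟨QuotientGroup.mk' Z₀ t, ht, ?_⟩
            rw [QuotientGroup.mk'_apply, QuotientGroup.map_mk]
            exact congrArg _ (Subtype.ext he)
        have hyn' : (y : G) ∈ normalizer (K.map τ : Set G) := by
          refine mem_normalizer_iff.2 fun k => ?_
          have hKC : ∀ k : G, k ∈ K.map τ → k ∈ C := by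
            rintro _ ⟨_, ⟨t, -, rfl⟩, rfl⟩
            exact (hTP.ge ⟨t, t.2, rfl⟩).2
          constructor
          · intro hk
            have h1 := (hyn (QuotientGroup.mk' W₀ ⟨k, hKC k hk⟩)).1 ((hpre ⟨k, hKC k hk⟩).2 hk)
            rw [← map_inv, ← map_mul, ← map_mul] at h1
            exact (hpre _).1 h1
          · intro hk
            have hkC : k ∈ C := by
              have h1 := mul_mem (mul_mem (inv_mem y.2) (hKC _ hk)) y.2
              simpa [mul_assoc] using h1
            refine (hpre ⟨k, hkC⟩).1 ((hyn _).2 ?_)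
            rw [← map_inv, ← map_mul, ← map_mul]
            exact (hpre _).2 hk
        have hyc := hcond y hyn' (by rw [Subgroup.orderOf_coe]; exact hi)
        rintro _ ⟨a, ha, rfl⟩
        obtain ⟨t, rfl⟩ := QuotientGroup.mk'_surjective Z₀ a
        rw [QuotientGroup.mk'_apply Z₀, QuotientGroup.map_mk, ← QuotientGroup.mk'_apply W₀, ← map_mul,
          ← map_mul]
        exact congrArg _ (Subtype.ext (hyc _ ⟨t, ⟨t, ha, rfl⟩, rfl⟩))
    -- lift
    refine Transfer.Frobenius.hasNormalPComplement_of_condition fun Q hQ g hg hgo q hq => ?_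
    have h1 := Transfer.Frobenius.condition_of_hasNormalPComplement hbar _ (hQ.map (QuotientGroup.mk' W₀))
      (QuotientGroup.mk' W₀ g) (le_normalizer_map _ ⟨g, hg, rfl⟩)
      (hgo.coprime_dvd_left (orderOf_map_dvd _ g)) _ ⟨q, hq, rfl⟩
    set v := g * q * g⁻¹ * q⁻¹ with hv
    have hvW : v ∈ W₀ := by
      rw [← QuotientGroup.ker_mk' W₀, MonoidHom.mem_ker, hv, map_mul, map_mul, map_mul, map_inv,
        map_inv, ← h1, mul_inv_cancel_right, mul_inv_cancel]
    have hWp : IsPGroup p W₀ :=
      (P.2.to_le (PLocal.MaxAbelian.core_le 0 _)).comap_subtype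
    obtain ⟨e, he⟩ := IsPGroup.iff_orderOf.1 hWp ⟨v, hvW⟩
    rw [orderOf_mk] at he
    exact (Coprime.OmegaDetect.eq_one_of_fix
      (show g * v = v * g from hW₀c v hvW g) (by rw [he]; exact hgo.pow_right e)).symm
  -- the normaliser
  refine S0659.result hp2 P ?_
  rw [PLocal.MaxAbelian.centerThompsonA_eq]
  show Cfsg.HasNormalPComplement p ↥N
  have hkey : ∀ g ∈ N, (orderOf g).Coprime p → g ∈ C := by
    intro g hg hgo
    obtain ⟨a, ha, c, hc, hac⟩ := exists_mem_normalizer_mul_mem_centralizer (Y := W) hsylN le_rfl hg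
    obtain ⟨i, hi⟩ := exists_ppow (p := p) a
    have haC : a ^ p ^ i ∈ C := by
      have hb : a ^ p ^ i ∈ N ⊓ normalizer ((T.map τ : Subgroup G) : Set G) := by
        rw [← hTP]
        exact pow_mem ha _
      set b := a ^ p ^ i
      obtain ⟨φ, hφ⟩ := exists_aut (τ.comp T.subtype) (hτ.comp T.subtype_injective) b (by
        rw [MonoidHom.range_comp, range_subtype]
        exact hb.2)
      have hφZ : Z₀.map φ.toMonoidHom = Z₀ := by
        refine eq_of_le_of_card_ge ?_ (card_map_of_injective φ.injective).ge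
        rintro _ ⟨z, hz, rfl⟩
        have h1 : b * τ z * b⁻¹ ∈ W := (hb.1 (τ z)).1 (hW.ge ⟨z, mem_subgroupOf.1 hz, rfl⟩)
        obtain ⟨z', hz', he⟩ := hW.le h1
        have h2 : ((φ z : T) : S) = z' := hτ ((hφ z).trans he.symm)
        show φ z ∈ Z₀
        rw [hZ₀def, mem_subgroupOf, h2]
        exact hz'
      have hKb : b ∈ normalizer (K.map τ : Set G) := by
        refine mem_normalizer_of_conj_map ?_
        rw [hKdef, map_map _ τ T.subtype, map_map]
        conv_rhs => rw [← hinv φ hφZ, map_map]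
        congr 1
        ext t
        exact (hφ t).symm
      have hbc := hcond b hKb hi
      exact fun w hw => hbc w ((map_mono hZK : Z.map τ ≤ _) (hW.le hw))
    refine mem_of_pow_mem hgo (i := i) ?_
    have : (C.subgroupOf N).Normal := (normal_subgroupOf_iff_le_normalizer hCN).2 hnC
    let π := QuotientGroup.mk' (C.subgroupOf N)
    have hπ : π ⟨g, hg⟩ = π ⟨a, ha.1⟩ := by
      show (QuotientGroup.mk (s := C.subgroupOf N) ⟨g, hg⟩) = QuotientGroup.mk ⟨a, ha.1⟩
      rw [QuotientGroup.eq, mem_subgroupOf]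
      show g⁻¹ * a ∈ C
      rw [hac, mul_inv_rev, mul_assoc, inv_mul_cancel, mul_one]
      exact inv_mem hc.2
    have h1 : π (⟨g, hg⟩ ^ p ^ i) = 1 := by
      rw [map_pow, hπ, ← map_pow]
      exact (QuotientGroup.eq_one_iff (N := C.subgroupOf N) _).2 haC
    exact (QuotientGroup.eq_one_iff (N := C.subgroupOf N) _).1 h1
  rw [Transfer.NormalPComplement.hasNormalPComplement_iff_pResidual] at hC ⊢
  have hle : (Cfsg.pResidual p ↥N).map N.subtype ≤ (Cfsg.pResidual p ↥C).map C.subtype := by
    rw [Cfsg.pResidual, MonoidHom.map_closure, closure_le]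
    rintro _ ⟨x, hx, rfl⟩
    have hxo : (orderOf x).Coprime p := hx
    rw [← Subgroup.orderOf_coe] at hxo
    have hxC := hkey x x.2 hxo
    refine ⟨⟨x, hxC⟩, Transfer.NormalPComplement.mem_pResidual_of_coprime ?_, rfl⟩
    rw [← Subgroup.orderOf_coe]; exact hxo
  rw [← card_map_of_injective N.subtype_injective]
  rw [← card_map_of_injective C.subtype_injective] at hC
  exact hC.coprime_dvd_left (card_dvd_of_le hle)

end Cfsg.Agent.CharP.ComplementSubgroup
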