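import Cfsg.Prelude.Def_DStar
import Cfsg.Prelude.Def_PLocal
import Cfsg.Agent.Lib.CharP.Basic
import Cfsg.Agent.Lib.PGroups.AbelianNormal
import Mathlib.GroupTheory.Nilpotent
import Mathlib.Order.Atoms.Finite

/-!
An elementary replacement for abelian subgroups of maximal order, and the subgroup `D*(S)`.
-/

set_option autoImplicit false

namespace Cfsg.Agent.CharP

open Subgroup
open scoped commutatorElement

variable {S : Type*} [Group S] [Finite S]

/-- If `g` moves `A` by elements of the abelian subgroup `B`, then `(A ⊓ A^g)(⟨A, A^g⟩ ⊓ B)` is an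
abelian subgroup of order at least `|A|` with larger intersection with `B`. -/
theorem exists_better_maxAbelian {A B : Subgroup S} (hA : A ∈ Cfsg.maxAbelianSubgroups S)
    (hB : IsMulCommutative ↥B) {g : S} (hg : ∀ a ∈ A, g * a * g⁻¹ * a⁻¹ ∈ B)
    (hne : A.map (MulAut.conj g).toMonoidHom ≠ A) :
    ∃ A' ∈ Cfsg.maxAbelianSubgroups S, A ⊓ B < A' ⊓ B ∧
      A' ≤ A ⊔ A.map (MulAut.conj g).toMonoidHom := by
  have hAc : IsMulCommutative ↥A := hA.1
  set C := A.map (MulAut.conj g).toMonoidHom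
  set I := A ⊓ C
  set H := A ⊔ C
  set K := H ⊓ B
  have hC : IsMulCommutative ↥C := inferInstance
  have hIH : I ≤ centralizer (H : Set S) := by
    rw [le_centralizer_iff]
    exact sup_le ((le_centralizer A).trans (centralizer_le inf_le_left))
      ((le_centralizer C).trans (centralizer_le inf_le_right))
  have hab : IsMulCommutative ↥(I ⊔ K) := by
    rw [← le_centralizer_iff_isMulCommutative]
    have hIK : I ≤ centralizer (K : Set S) := hIH.trans (centralizer_le inf_le_left)
    refine sup_le (le_centralizer_iff.2 (sup_le ?_ (le_centralizer_iff.1 hIK)))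
      (le_centralizer_iff.2 (sup_le hIK ?_))
    · exact le_centralizer_iff.1 ((inf_le_left : I ≤ A).trans ((le_centralizer A).trans
        (centralizer_le inf_le_left)))
    · exact (inf_le_right : K ≤ B).trans ((le_centralizer B).trans (centralizer_le inf_le_right))
  have hk : ∀ a ∈ A, g * a * g⁻¹ * a⁻¹ ∈ K := fun a ha =>
    ⟨H.mul_mem (mem_sup_right ⟨a, ha, rfl⟩) (H.inv_mem (mem_sup_left ha)), hg a ha⟩
  set J := A ⊓ A.comap (MulAut.conj g).toMonoidHom
  have hJcard : Nat.card ↥I = Nat.card ↥J := by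
    have e : J.map (MulAut.conj g).toMonoidHom = I := by
      rw [map_inf _ _ _ (MulAut.conj g).injective,
        map_comap_eq_self_of_surjective (MulAut.conj g).surjective, inf_comm]
    rw [← e]
    exact (Nat.card_congr (equivMapOfInjective J _ (MulAut.conj g).injective).toEquiv).symm
  let f : ↥A → ↥K ⧸ A.subgroupOf K := fun a => ((⟨_, hk a a.2⟩ : ↥K) : ↥K ⧸ A.subgroupOf K)
  have hf : ∀ a b : ↥A, f a = f b ↔ a⁻¹ * b ∈ J.subgroupOf A := by
    intro a b
    rw [QuotientGroup.eq, mem_subgroupOf, mem_subgroupOf]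
    change (g * ↑a * g⁻¹ * (↑a)⁻¹)⁻¹ * (g * ↑b * g⁻¹ * (↑b)⁻¹) ∈ A ↔
      ((↑a : S)⁻¹ * ↑b) ∈ A ∧ g * ((↑a : S)⁻¹ * ↑b) * g⁻¹ ∈ A
    have e : (g * ↑a * g⁻¹ * (↑a)⁻¹)⁻¹ * (g * ↑b * g⁻¹ * (↑b)⁻¹) =
        ↑a * (g * ((↑a : S)⁻¹ * ↑b) * g⁻¹) * (↑b)⁻¹ := by group
    rw [e, A.mul_mem_cancel_right (inv_mem b.2), A.mul_mem_cancel_left a.2]
    exact ⟨fun h => ⟨mul_mem (inv_mem a.2) b.2, h⟩, fun h => h.2⟩
  have hidx : (J.subgroupOf A).index ≤ (A.subgroupOf K).index := by
    let f' : ↥A ⧸ J.subgroupOf A → ↥K ⧸ A.subgroupOf K :=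
      Quotient.lift f fun a b h => (hf a b).2 (QuotientGroup.leftRel_apply.1 h)
    refine Nat.card_le_card_of_injective f' ?_
    intro x y
    induction x using QuotientGroup.induction_on with
    | _ a =>
    induction y using QuotientGroup.induction_on with
    | _ b =>
    exact fun h => QuotientGroup.eq.2 ((hf a b).1 h)
  have hle : Nat.card ↥A ≤ Nat.card ↥(I ⊔ K) := by
    have h1 : Nat.card ↥J * (J.subgroupOf A).index = Nat.card ↥A := by
      rw [← Nat.card_congr (subgroupOfEquivOfLe (inf_le_left : J ≤ A)).toEquiv,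
        Subgroup.card_mul_index]
    have h2 : Nat.card ↥(A.subgroupOf K) * (A.subgroupOf K).index = Nat.card ↥K :=
      Subgroup.card_mul_index _
    have h3 := card_mul_le_card_sup_mul_card_inf I K
    have h4 : Nat.card ↥(I ⊓ K) ≤ Nat.card ↥(A.subgroupOf K) := by
      rw [← inf_subgroupOf_right, Nat.card_congr (subgroupOfEquivOfLe inf_le_right).toEquiv]
      exact card_le_of_le (inf_le_inf_right _ inf_le_left)
    refine Nat.le_of_mul_le_mul_right ?_ (Nat.card_pos (α := ↥(A.subgroupOf K)))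
    calc Nat.card ↥A * Nat.card ↥(A.subgroupOf K)
        ≤ Nat.card ↥J * (A.subgroupOf K).index * Nat.card ↥(A.subgroupOf K) := by
          rw [← h1]; gcongr
      _ = Nat.card ↥I * Nat.card ↥K := by rw [hJcard, ← h2]; ring
      _ ≤ Nat.card ↥(I ⊔ K) * Nat.card ↥(I ⊓ K) := h3
      _ ≤ _ := Nat.mul_le_mul_left _ h4
  refine ⟨I ⊔ K, ⟨hab, fun B' hB' => (hA.2 B' hB').trans hle⟩,
    lt_of_le_of_ne (le_inf ?_ inf_le_right) fun h => hne ?_, sup_le (inf_le_left.trans le_sup_left)
      inf_le_left⟩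
  · exact (le_inf (inf_le_left.trans le_sup_left) inf_le_right).trans le_sup_right
  · refine eq_of_le_of_card_ge ?_ (le_of_eq ?_)
    · rintro _ ⟨a, ha, rfl⟩
      have h1 : g * a * g⁻¹ * a⁻¹ ∈ (I ⊔ K) ⊓ B := ⟨mem_sup_right (hk a ha), hg a ha⟩
      rw [← h] at h1
      change g * a * g⁻¹ ∈ A
      simpa using mul_mem h1.1 ha
    · exact Nat.card_congr (equivMapOfInjective A _ (MulAut.conj g).injective).toEquiv

/-- A proper subgroup of a nilpotent group does not generate it with a conjugate. -/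
theorem eq_of_sup_conj_of_isNilpotent {A : Subgroup S} {g : S}
    (hn : Group.IsNilpotent ↥(A ⊔ A.map (MulAut.conj g).toMonoidHom))
    (hg : g ∈ A ⊔ A.map (MulAut.conj g).toMonoidHom) :
    A.map (MulAut.conj g).toMonoidHom = A := by
  set H := A ⊔ A.map (MulAut.conj g).toMonoidHom
  suffices hAH : A.subgroupOf H = ⊤ by
    rw [subgroupOf_eq_top] at hAH
    refine eq_of_le_of_card_ge (le_sup_right.trans hAH) (le_of_eq ?_)
    exact Nat.card_congr (equivMapOfInjective A _ (MulAut.conj g).injective).toEquiv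
  by_contra hne
  obtain ⟨M, hM, hAM⟩ := (IsCoatomic.eq_top_or_exists_le_coatom (A.subgroupOf H)).resolve_left hne
  haveI := NormalizerCondition.normal_of_coatom M
    (Group.normalizerCondition_of_isNilpotent (G := ↥H)) hM
  refine hM.1 (top_le_iff.1 ?_)
  rintro ⟨x, hx⟩ -
  have h : H ≤ M.map H.subtype := by
    refine sup_le (fun a ha => ⟨⟨a, mem_sup_left ha⟩, hAM ha, rfl⟩) ?_
    rintro _ ⟨a, ha, rfl⟩
    exact ⟨⟨g, hg⟩ * ⟨a, mem_sup_left ha⟩ * ⟨g, hg⟩⁻¹,
      Normal.conj_mem inferInstance _ (hAM (show (⟨a, mem_sup_left ha⟩ : ↥H) ∈ A.subgroupOf H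
        from ha)) _, rfl⟩
  exact (mem_map_iff_mem H.subtype_injective).1 (h hx)

variable {p : ℕ} [hp : Fact p.Prime]

/-- A member of the `D*`-family centralizes every abelian subgroup it normalizes. -/
theorem dStarFamily_le_centralizer (hS : IsPGroup p S) {A B : Subgroup S}
    (hA : A ∈ Cfsg.dStarFamily S) (hB : IsMulCommutative ↥B)
    (hn : A ≤ normalizer (B : Set S)) : A ≤ centralizer (B : Set S) := by
  have hAc : IsMulCommutative ↥A := hA.1
  by_contra hne
  set C := B ⊓ centralizer (A : Set S)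
  have hCB : C < B := lt_of_le_not_ge inf_le_left fun h =>
    hne (le_centralizer_iff.1 (h.trans inf_le_right))
  haveI hBn : (B.subgroupOf (A ⊔ B)).Normal :=
    normal_subgroupOf_of_le_normalizer (sup_le hn le_normalizer)
  haveI hCn : (C.subgroupOf (A ⊔ B)).Normal := by
    refine normal_subgroupOf_of_le_normalizer (sup_le ?_ ?_)
    · exact (le_inf hn (le_normalizer.trans (normalizer_le_normalizer_centralizer' A))).trans
        inf_normalizer_le_normalizer_inf
    · exact ((le_centralizer B).trans (centralizer_le inf_le_left)).trans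
        (centralizer_le_normalizer _)
  obtain ⟨⟨x, hxAB⟩, hxB, hxC, -, hx⟩ := PGroups.AbelianNormal.exists_step
    (hS.to_subgroup (A ⊔ B)) (B := C.subgroupOf (A ⊔ B)) (N := B.subgroupOf (A ⊔ B))
    (by
      refine lt_of_le_of_ne (comap_mono inf_le_left) fun h => hCB.ne ?_
      have := congrArg (Subgroup.map (A ⊔ B).subtype) h
      rwa [map_subgroupOf_eq_of_le (inf_le_left.trans le_sup_right),
        map_subgroupOf_eq_of_le le_sup_right] at this)
  refine hxC ⟨hxB, fun a ha => hA.2 x ?_ a ha⟩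
  set T := A ⊔ zpowers x
  have hxB' : x ∈ B := hxB
  -- `[T, T] ≤ C ≤ C(T)`
  have hT : T ≤ A ⊔ B := sup_le_sup_left (zpowers_le.2 hxB') _
  have hCT : C ≤ centralizer (T : Set S) := by
    rw [le_centralizer_iff]
    exact sup_le (le_centralizer_iff.1 inf_le_right)
      (zpowers_le.2 ((le_centralizer B).trans (centralizer_le inf_le_left) hxB'))
  refine commutator_eq_bot_iff_le_centralizer.2 (le_trans ?_ hCT)
  have hA' : ∀ a ∈ A, a * x * a⁻¹ * x⁻¹ ∈ C := fun a ha => hx ⟨a, mem_sup_left ha⟩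
  set π := QuotientGroup.mk' (C.subgroupOf (A ⊔ B))
  have hc : ⁅T.subgroupOf (A ⊔ B), T.subgroupOf (A ⊔ B)⁆ ≤ C.subgroupOf (A ⊔ B) := by
    rw [← QuotientGroup.ker_mk' (C.subgroupOf (A ⊔ B)), ← Subgroup.map_eq_bot_iff,
      map_commutator, commutator_eq_bot_iff_le_centralizer]
    have e : T.subgroupOf (A ⊔ B) = A.subgroupOf (A ⊔ B) ⊔ zpowers (⟨x, hxAB⟩ : ↥(A ⊔ B)) := by
      refine (map_injective (A ⊔ B).subtype_injective) ?_
      rw [map_subgroupOf_eq_of_le hT, Subgroup.map_sup, map_subgroupOf_eq_of_le le_sup_left,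
        MonoidHom.map_zpowers]
      rfl
    rw [e, Subgroup.map_sup, MonoidHom.map_zpowers]
    have h1 : (A.subgroupOf (A ⊔ B)).map π ≤
        centralizer ((zpowers (π ⟨x, hxAB⟩) : Subgroup _) : Set _) := by
      rw [le_centralizer_iff, zpowers_le]
      rintro _ ⟨a, ha, rfl⟩
      have h := hA' a ha
      have h' : π (a * ⟨x, hxAB⟩ * a⁻¹ * (⟨x, hxAB⟩ : ↥(A ⊔ B))⁻¹) = 1 :=
        (QuotientGroup.eq_one_iff _).2 h
      rw [map_mul, map_mul, map_mul, map_inv, map_inv, mul_inv_eq_one, mul_inv_eq_iff_eq_mul] at h'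
      exact h'
    haveI : IsMulCommutative ↥(A.subgroupOf (A ⊔ B)) :=
      ⟨⟨fun a b => Subtype.ext (Subtype.ext
        (setLike_mul_comm (show ((a : ↥(A ⊔ B)) : S) ∈ A from a.2) b.2))⟩⟩
    exact sup_le (le_centralizer_iff.2 (sup_le (le_centralizer _) (le_centralizer_iff.1 h1)))
      (le_centralizer_iff.2 (sup_le h1 (le_centralizer _)))
  calc ⁅T, T⁆ = (⁅T.subgroupOf (A ⊔ B), T.subgroupOf (A ⊔ B)⁆).map (A ⊔ B).subtype := by
        rw [map_commutator, map_subgroupOf_eq_of_le hT]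
    _ ≤ _ := (map_mono hc).trans (map_subgroupOf_eq_of_le (inf_le_left.trans le_sup_right)).le
where
  normalizer_le_normalizer_centralizer' (Y : Subgroup S) :
      normalizer (Y : Set S) ≤ normalizer (centralizer (Y : Set S) : Set S) := by
    refine le_normalizer_iff.2 fun g hg c hc y hy => ?_
    have h1 := le_normalizer_iff.1 (le_refl (normalizer (Y : Set S))) g⁻¹ (inv_mem hg) y hy
    rw [inv_inv] at h1
    calc y * (g * c * g⁻¹) = g * ((g⁻¹ * y * g) * c) * g⁻¹ := by group
      _ = g * (c * (g⁻¹ * y * g)) * g⁻¹ := by rw [hc _ h1]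
      _ = g * c * g⁻¹ * y := by group

theorem dStar_le_of_maximal (hS : IsPGroup p S) {N : Subgroup S} [N.Normal]
    [IsMulCommutative ↥N]
    (hmax : ∀ B : Subgroup S, B.Normal → IsMulCommutative ↥B → N ≤ B → B = N) :
    Cfsg.dStar S ≤ N :=
  sSup_le fun _ hA => (dStarFamily_le_centralizer hS hA inferInstance
    le_normalizer_of_normal).trans (PGroups.AbelianNormal.centralizer_eq_self hS N hmax).le

theorem dStar_isMulCommutative (hS : IsPGroup p S) : IsMulCommutative ↥(Cfsg.dStar S) := by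
  obtain ⟨N, ⟨hNn, hNc⟩, hmax⟩ := (Set.toFinite
    {B : Subgroup S | B.Normal ∧ IsMulCommutative ↥B}).exists_maximal
    ⟨⊥, inferInstance, inferInstance⟩
  have h := dStar_le_of_maximal hS (N := N) fun B hB hBc hNB =>
    le_antisymm (hmax ⟨hB, hBc⟩ hNB) hNB
  rw [← le_centralizer_iff_isMulCommutative]
  exact h.trans ((le_centralizer N).trans (centralizer_le h))

theorem dStar_mem (hS : IsPGroup p S) : Cfsg.dStar S ∈ Cfsg.dStarFamily S := by
  refine ⟨dStar_isMulCommutative hS, fun x hx a ha => ?_⟩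
  have h : Cfsg.dStar S ≤ centralizer ({x} : Set S) := sSup_le fun A hA b hb => by
    rw [mem_centralizer_singleton_iff]
    refine hA.2 x (le_bot_iff.1 ?_) b hb
    have hle : A ⊔ zpowers x ≤ Cfsg.dStar S ⊔ zpowers x := sup_le_sup_right (le_sSup hA) _
    exact (commutator_mono (commutator_mono hle hle) hle).trans hx.le
  exact mem_centralizer_singleton_iff.1 (h ha)

instance dStar_normal : (Cfsg.dStar S).Normal := by
  refine ⟨fun a ha g => ?_⟩
  have h : (Cfsg.dStar S).map (MulAut.conj g).toMonoidHom ≤ Cfsg.dStar S := by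
    rw [Cfsg.dStar, sSup_eq_iSup, Subgroup.map_iSup]
    refine iSup_le fun A => ?_
    rw [Subgroup.map_iSup]
    refine iSup_le fun hA => ?_
    have hm : A.map (MulAut.conj g).toMonoidHom ∈ Cfsg.dStarFamily S := by
      haveI : IsMulCommutative ↥A := hA.1
      refine ⟨inferInstance, fun x hx => ?_⟩
      rintro _ ⟨b, hb, rfl⟩
      obtain ⟨y, rfl⟩ := (MulAut.conj g).surjective x
      have e : A.map (MulAut.conj g).toMonoidHom ⊔ zpowers (MulAut.conj g y) =
          (A ⊔ zpowers y).map (MulAut.conj g).toMonoidHom := by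
        rw [Subgroup.map_sup, MonoidHom.map_zpowers]
        rfl
      rw [e, ← map_commutator, ← map_commutator,
        map_eq_bot_iff_of_injective _ (MulAut.conj g).injective] at hx
      have := hA.2 y hx b hb
      exact congrArg (MulAut.conj g) this |>.trans (map_mul _ _ _) |> fun h =>
        (map_mul (MulAut.conj g) b y).symm.trans h
    exact le_iSup₂_of_le (f := fun A (_ : A ∈ Cfsg.dStarFamily S) => A) _ hm le_rfl
  exact h ⟨a, ha, rfl⟩

/-- `D*(S)` centralizes every abelian subgroup of maximal order. -/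
theorem dStar_le_centralizer_maxAbelian (hS : IsPGroup p S) {A : Subgroup S}
    (hA : A ∈ Cfsg.maxAbelianSubgroups S) : Cfsg.dStar S ≤ centralizer (A : Set S) := by
  by_contra hne
  set B := Cfsg.dStar S
  haveI := dStar_isMulCommutative hS
  obtain ⟨A₀, ⟨hA₀, hA₀n⟩, hmax⟩ := (Set.toFinite
    {A : Subgroup S | A ∈ Cfsg.maxAbelianSubgroups S ∧ ¬ B ≤ centralizer (A : Set S)}
    ).exists_maximalFor (fun A => A ⊓ B) _ ⟨A, hA, hne⟩
  have hBn : ¬ B ≤ normalizer (A₀ : Set S) := fun h =>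
    hA₀n (dStarFamily_le_centralizer hS (dStar_mem hS) hA₀.1 h)
  obtain ⟨x, hxB, hx⟩ := Set.not_subset.1 hBn
  have hne' : A₀.map (MulAut.conj x).toMonoidHom ≠ A₀ := fun h =>
    hx (mem_normalizer_iff_map_conj_eq.2 h)
  obtain ⟨A', hA', hlt, hle⟩ := exists_better_maxAbelian hA₀ (dStar_isMulCommutative hS) (g := x)
    (fun a ha => by
      have h := mul_mem hxB (Subgroup.Normal.conj_mem (dStar_normal (S := S)) _ (inv_mem hxB) a)
      simpa [mul_assoc] using h) hne'
  have hBA' : B ≤ centralizer (A' : Set S) := by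
    by_contra h
    exact hlt.not_ge (hmax ⟨hA', h⟩ hlt.le)
  haveI : IsMulCommutative ↥A' := hA'.1
  have hab : IsMulCommutative ↥(A' ⊔ B) := by
    rw [← le_centralizer_iff_isMulCommutative]
    exact sup_le (le_centralizer_iff.2 (sup_le (le_centralizer A') hBA'))
      (le_centralizer_iff.2 (sup_le (le_centralizer_iff.1 hBA') (le_centralizer B)))
  have hBle : B ≤ A' :=
    le_sup_right.trans (eq_of_le_of_card_ge le_sup_left (hA'.2 _ hab)).ge
  exact hne' (eq_of_sup_conj_of_isNilpotent ((hS.to_subgroup _).isNilpotent) (hle (hBle hxB)))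

end Cfsg.Agent.CharP
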