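import Mathlib

/-!
Restrictions of a space of linear maps, stable under precomposition with a linear family of
endomorphisms without nonzero fixed points or kernels, over the field with two elements.

If the rank of the restriction to every subspace falls short of the dimension by at most the
dimension of the parameter space, it does not fall short at all. For a subspace with largest
deficit `g` the characteristic polynomial on the restrictions divides the one on the subspace, the
quotient has degree `g` and its coefficients are polynomial in the parameter; the Chevalley–Warning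
sum forces `g` to be zero.
-/

set_option autoImplicit false
set_option linter.unusedSectionVars false

namespace Cfsg.Agent.CharP.DeficitPolynomial

open Polynomial Module

universe u v w

section Field

variable {k : Type u} [Field k]
  {V : Type v} [AddCommGroup V] [Module k V] [FiniteDimensional k V]
  {W : Type w} [AddCommGroup W] [Module k W] [FiniteDimensional k W]

/-- A polynomial coprime to an annihilating one is coprime to the characteristic polynomial. -/
theorem isCoprime_charpoly {f : Module.End k V} {p r : k[X]} (hp : aeval f p = 0)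
    (hpr : IsCoprime p r) : IsCoprime f.charpoly r := by
  classical
  set K := AlgebraicClosure k
  refine (Polynomial.isCoprime_iff_aeval_ne_zero_of_isAlgClosed k K _ _).2 fun a => ?_
  refine or_iff_not_imp_left.2 fun ha => ?_
  push Not at ha
  set b := Module.Free.chooseBasis k V
  set M := LinearMap.toMatrix b b f with hM
  set M' := M.map (algebraMap k K) with hM'
  have h1 : a ∈ spectrum K M' := by
    refine Matrix.mem_spectrum_of_isRoot_charpoly ?_
    rw [IsRoot, hM', Matrix.charpoly_map, hM, LinearMap.charpoly_toMatrix, eval_map_algebraMap]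
    exact ha
  have h2 : aeval M' (p.map (algebraMap k K)) = 0 := by
    rw [aeval_map_algebraMap, show M' = (Algebra.ofId k K).mapMatrix M from rfl,
      aeval_algHom_apply, hM, show LinearMap.toMatrix b b f = LinearMap.toMatrixAlgEquiv b f from rfl,
      aeval_algHom_apply, hp, map_zero, map_zero]
  have h3 := spectrum.subset_polynomial_aeval M' (p.map (algebraMap k K)) ⟨a, h1, rfl⟩
  rw [h2] at h3
  have h4 : eval a (p.map (algebraMap k K)) = 0 := by
    by_contra hne
    rw [spectrum.mem_iff, sub_zero] at h3
    exact h3 ((IsUnit.mk0 _ hne).map (algebraMap K (Matrix _ _ K)))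
  rw [eval_map_algebraMap] at h4
  exact (aeval_ne_zero_of_isCoprime hpr a).resolve_left (fun h => h h4)

/-- The multiplicity of a prime in the characteristic polynomial is read from a kernel. -/
theorem finrank_ker_aeval_pow (f : Module.End k V) {π q : k[X]} (hπ : Prime π) {m n : ℕ}
    (hq : ¬ π ∣ q) (hf : f.charpoly = π ^ m * q) (hmn : m ≤ n) :
    finrank k (LinearMap.ker (aeval f (π ^ n))) = m * π.natDegree := by
  have hco : IsCoprime π q := (hπ.irreducible.coprime_iff_not_dvd).2 hq
  have hcn : IsCoprime (π ^ n) q := hco.pow_left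
  set W₁ := LinearMap.ker (aeval f (π ^ n))
  set W₂ := LinearMap.ker (aeval f q)
  have hc : IsCompl W₁ W₂ := by
    refine ⟨Polynomial.disjoint_ker_aeval_of_isCoprime f hcn, codisjoint_iff.2 ?_⟩
    rw [Polynomial.sup_ker_aeval_eq_ker_aeval_mul_of_coprime f hcn, LinearMap.ker_eq_top]
    obtain ⟨d, rfl⟩ := Nat.exists_eq_add_of_le hmn
    rw [pow_add, mul_right_comm, ← hf, map_mul, LinearMap.aeval_self_charpoly, zero_mul]
  have hinv : ∀ p : k[X], ∀ x ∈ LinearMap.ker (aeval f p), f x ∈ LinearMap.ker (aeval f p) := by
    intro p x hx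
    rw [LinearMap.mem_ker] at hx ⊢
    have e : aeval f p (f x) = f (aeval f p x) := by
      have := congrArg (fun r => aeval f r x) (mul_comm p Polynomial.X)
      simpa only [map_mul, aeval_X, Module.End.mul_apply] using this
    rw [e, hx, map_zero]
  set F₁ := f.restrict (hinv (π ^ n))
  set F₂ := f.restrict (hinv q)
  have hres : ∀ (p r : k[X]) (x : LinearMap.ker (aeval f p)),
      (aeval (f.restrict (hinv p)) r x : V) = aeval f r x := by
    intro p r x
    induction r using Polynomial.induction_on' with
    | add a b ha hb =>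
      simp only [map_add, LinearMap.add_apply, Submodule.coe_add]
      rw [ha, hb]
    | monomial i c =>
      simp only [aeval_monomial, Module.End.mul_apply, Module.algebraMap_end_apply,
        Submodule.coe_smul]
      congr 1
      induction i with
      | zero => rfl
      | succ i ih =>
        rw [pow_succ', pow_succ', Module.End.mul_apply, Module.End.mul_apply, ← ih]
        rfl
  have hkill : ∀ p : k[X], aeval (f.restrict (hinv p)) p = 0 := fun p =>
    LinearMap.ext fun x => Subtype.ext (by rw [hres]; exact x.2)
  have hmul : f.charpoly = F₁.charpoly * F₂.charpoly := by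
    let e := Submodule.prodEquivOfIsCompl W₁ W₂ hc
    have : e.symm.conj f = F₁.prodMap F₂ := by
      refine LinearMap.ext fun x => e.injective ?_
      rw [LinearEquiv.conj_apply_apply, LinearEquiv.symm_symm, LinearEquiv.apply_symm_apply,
        Submodule.coe_prodEquivOfIsCompl', Submodule.coe_prodEquivOfIsCompl']
      exact map_add f _ _
    rw [← LinearMap.charpoly_prodMap, ← this, LinearEquiv.charpoly_conj]
  have h1 : F₁.charpoly ∣ π ^ m := by
    refine (isCoprime_charpoly (hkill (π ^ n)) hcn).dvd_of_dvd_mul_right ?_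
    rw [← hf, hmul]
    exact dvd_mul_right _ _
  have h2 : π ^ m ∣ F₁.charpoly := by
    refine ((isCoprime_charpoly (hkill q) hco.symm).symm.pow_left (m := m)).dvd_of_dvd_mul_right ?_
    rw [← hmul, hf]
    exact dvd_mul_right _ _
  have h3 := (natDegree_eq_of_degree_eq (degree_eq_degree_of_associated (associated_of_dvd_dvd h1 h2)))
  rwa [LinearMap.charpoly_natDegree, natDegree_pow] at h3

/-- Comparing kernels of all polynomials gives divisibility of characteristic polynomials. -/
theorem charpoly_dvd_of_finrank_ker_le (f : Module.End k V) (h : Module.End k W)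
    (hle : ∀ p : k[X], finrank k (LinearMap.ker (aeval h p)) ≤ finrank k (LinearMap.ker (aeval f p))) :
    h.charpoly ∣ f.charpoly := by
  suffices ∀ a, a ∣ h.charpoly → a ∣ f.charpoly from this _ dvd_rfl
  intro a
  induction a using UniqueFactorizationMonoid.induction_on_coprime with
  | h0 => intro ha; exact absurd (zero_dvd_iff.1 ha) (LinearMap.charpoly_monic h).ne_zero
  | h1 hu => exact fun _ => hu.dvd
  | hcp hxy hx hy =>
    exact fun ha => hxy.mul_dvd (hx (dvd_trans (dvd_mul_right _ _) ha))
      (hy (dvd_trans (dvd_mul_left _ _) ha))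
  | @hpr p i hp =>
    intro ha
    obtain ⟨m, q, hq, hm⟩ := WfDvdMonoid.max_power_factor (LinearMap.charpoly_monic h).ne_zero hp.irreducible
    obtain ⟨j, q', hq', hj⟩ := WfDvdMonoid.max_power_factor (LinearMap.charpoly_monic f).ne_zero hp.irreducible
    have him : i ≤ m := by
      rw [hm] at ha
      have h1 := (((hp.irreducible.coprime_iff_not_dvd).2 hq).pow_left (m := i)).dvd_of_dvd_mul_right ha
      exact (pow_dvd_pow_iff hp.ne_zero hp.not_isUnit).1 h1
    have hdeg : 0 < p.natDegree := hp.irreducible.natDegree_pos
    have h1 := hle (p ^ max m j)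
    rw [finrank_ker_aeval_pow h hp hq hm (le_max_left _ _),
      finrank_ker_aeval_pow f hp hq' hj (le_max_right _ _)] at h1
    rw [hj]
    exact dvd_mul_of_dvd_left (pow_dvd_pow _ (him.trans (Nat.le_of_mul_le_mul_right h1 hdeg))) _

end Field

section Quotient

variable {σ : Type w} {R : Type v} [CommRing R]

/-- Degree bound for the coefficients of a quotient of monic polynomials with bounded coefficients. -/
theorem totalDegree_coeff_divByMonic {P Q : (MvPolynomial σ R)[X]} (hQ : Q.Monic)
    {s t g : ℕ} (hs : s = t + g) (hQd : Q.natDegree = t)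
    (hQc : ∀ i ≤ t, (Q.coeff i).totalDegree ≤ t - i)
    (hPc : ∀ i ≤ s, (P.coeff i).totalDegree ≤ s - i) (hPd : P.natDegree ≤ s) :
    ∀ i, i ≤ g → ((P /ₘ Q).coeff i).totalDegree ≤ g - i := by
  classical
  set P₀ := P /ₘ Q with hP₀
  have hP₀d : P₀.natDegree ≤ g := by
    rw [hP₀, natDegree_divByMonic P hQ]; omega
  have heq : P %ₘ Q + Q * P₀ = P := modByMonic_add_div P Q
  suffices h : ∀ d i, i ≤ g → g - i = d → (P₀.coeff i).totalDegree ≤ g - i from
    fun i hi => h _ i hi rfl
  intro d
  induction d using Nat.strong_induction_on with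
  | _ d ih =>
  intro i hi hd
  have hR : (P %ₘ Q).coeff (t + i) = 0 := by
    rcases subsingleton_or_nontrivial R with h | h
    · exact Subsingleton.elim _ _
    · refine coeff_eq_zero_of_degree_lt ((degree_modByMonic_lt P hQ).trans_le ?_)
      rw [degree_eq_natDegree hQ.ne_zero, hQd]
      exact Nat.cast_le.2 (Nat.le_add_right t i)
  have hc : P.coeff (t + i) = P₀.coeff i +
      ∑ x ∈ (Finset.HasAntidiagonal.antidiagonal (t + i)).erase (t, i), Q.coeff x.1 * P₀.coeff x.2 := by
    conv_lhs => rw [← heq, coeff_add, hR, zero_add, coeff_mul]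
    rw [← Finset.add_sum_erase _ _ (show (t, i) ∈ Finset.HasAntidiagonal.antidiagonal (t + i) by simp)]
    rw [show Q.coeff t = 1 by rw [← hQd]; exact hQ.coeff_natDegree, one_mul]
  rw [eq_sub_of_add_eq hc.symm]
  refine (MvPolynomial.totalDegree_sub _ _).trans (max_le ?_ ?_)
  · exact (hPc _ (by omega)).trans (by omega)
  refine MvPolynomial.totalDegree_finsetSum_le fun x hx => ?_
  obtain ⟨a, l⟩ := x
  simp only [Finset.mem_erase, ne_eq, Prod.mk.injEq, Finset.HasAntidiagonal.mem_antidiagonal] at hx
  by_cases ha : t < a
  · rw [coeff_eq_zero_of_natDegree_lt (hQd.trans_lt ha)]; simp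
  by_cases hl : g < l
  · rw [coeff_eq_zero_of_natDegree_lt (hP₀d.trans_lt hl)]; simp
  refine (MvPolynomial.totalDegree_mul _ _).trans ?_
  have h1 := hQc a (by omega)
  have h2 := ih (g - l) (by omega) l (by omega) rfl
  show (Q.coeff a).totalDegree + (P₀.coeff l).totalDegree ≤ _
  omega

end Quotient

section Two

variable {k : Type} [Field k] [Fintype k]
  {M : Type v} [AddCommGroup M] [Module k M] [FiniteDimensional k M]
  {N : Type w} [AddCommGroup N] [Module k N] [FiniteDimensional k N]

/-- The restrictions of the maps in `E` to `S`. -/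
noncomputable def restr (E : Submodule k (M →ₗ[k] N)) (S : Submodule k M) :
    Submodule k (S →ₗ[k] N) :=
  E.map (LinearMap.lcomp k N S.subtype)

/-- The maps in `E` vanishing on `S`. -/
def ann (E : Submodule k (M →ₗ[k] N)) (S : Submodule k M) : Submodule k (M →ₗ[k] N) :=
  E ⊓ LinearMap.ker (LinearMap.lcomp k N S.subtype)

theorem mem_ann {E : Submodule k (M →ₗ[k] N)} {S : Submodule k M} {e : M →ₗ[k] N} :
    e ∈ ann E S ↔ e ∈ E ∧ ∀ x ∈ S, e x = 0 := by
  rw [ann, Submodule.mem_inf, LinearMap.mem_ker]
  exact and_congr_right fun _ =>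
    ⟨fun h x hx => LinearMap.congr_fun h ⟨x, hx⟩, fun h => LinearMap.ext fun x => h x x.2⟩

theorem finrank_restr_add_ann (E : Submodule k (M →ₗ[k] N)) (S : Submodule k M) :
    finrank k (restr E S) + finrank k (ann E S) = finrank k E := by
  set φ := (LinearMap.lcomp k N S.subtype).comp E.subtype
  have h1 : LinearMap.range φ = restr E S := by
    rw [LinearMap.range_comp, Submodule.range_subtype]; rfl
  have h2 : (LinearMap.ker φ).map E.subtype = ann E S := by
    rw [LinearMap.ker_comp, Submodule.map_comap_subtype]; rfl
  rw [← h1, ← h2, Submodule.finrank_map_subtype_eq]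
  exact LinearMap.finrank_range_add_finrank_ker φ

/-- The rank of the restriction is submodular. -/
theorem finrank_restr_sup_add_inf (E : Submodule k (M →ₗ[k] N)) (S T : Submodule k M) :
    finrank k (restr E (S ⊔ T)) + finrank k (restr E (S ⊓ T)) ≤
      finrank k (restr E S) + finrank k (restr E T) := by
  have hsup : ann E (S ⊔ T) = ann E S ⊓ ann E T := by
    refine le_antisymm (fun e he => ?_) (fun e he => ?_)
    · rw [mem_ann] at he
      exact ⟨mem_ann.2 ⟨he.1, fun x hx => he.2 x (Submodule.mem_sup_left hx)⟩,
        mem_ann.2 ⟨he.1, fun x hx => he.2 x (Submodule.mem_sup_right hx)⟩⟩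
    · refine mem_ann.2 ⟨(mem_ann.1 he.1).1, fun x hx => ?_⟩
      obtain ⟨y, hy, z, hz, rfl⟩ := Submodule.mem_sup.1 hx
      rw [map_add, (mem_ann.1 he.1).2 y hy, (mem_ann.1 he.2).2 z hz, add_zero]
  have hinf : ann E S ⊔ ann E T ≤ ann E (S ⊓ T) := sup_le
    (fun e he => mem_ann.2 ⟨(mem_ann.1 he).1, fun x hx => (mem_ann.1 he).2 x hx.1⟩)
    (fun e he => mem_ann.2 ⟨(mem_ann.1 he).1, fun x hx => (mem_ann.1 he).2 x hx.2⟩)
  have h := Submodule.finrank_sup_add_finrank_inf_eq (ann E S) (ann E T)
  rw [← hsup] at h
  have h' := Submodule.finrank_mono hinf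
  have := finrank_restr_add_ann E S
  have := finrank_restr_add_ann E T
  have := finrank_restr_add_ann E (S ⊔ T)
  have := finrank_restr_add_ann E (S ⊓ T)
  omega

variable {Λ : Type u} [AddCommGroup Λ] [Module k Λ] [FiniteDimensional k Λ]
  (hk : Fintype.card k = 2) (E : Submodule k (M →ₗ[k] N)) (Y : Λ →ₗ[k] Module.End k M)
  (hinj : ∀ x, x ≠ 0 → ∀ v, Y x v = 0 → v = 0)
  (hfix : ∀ x, x ≠ 0 → ∀ v, Y x v = v → v = 0)
  (hE : ∀ x, ∀ e ∈ E, e.comp (Y x) ∈ E)

include hinj hE in
/-- An invariant subspace of largest deficit and least dimension among these. -/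
theorem exists_minimal_invariant :
    ∃ S : Submodule k M, (∀ x, ∀ v ∈ S, Y x v ∈ S) ∧ ∀ T : Submodule k M,
      finrank k (restr E S) + finrank k T ≤ finrank k (restr E T) + finrank k S := by
  classical
  have : Finite M := Module.finite_of_finite k
  have : Fintype (Submodule k M) := Fintype.ofFinite _
  let f : Submodule k M → ℤ := fun S => (finrank k (restr E S) : ℤ) - finrank k S
  obtain ⟨S₀, -, hS₀⟩ := Finset.exists_min_image (Finset.univ : Finset (Submodule k M)) f
    ⟨⊥, Finset.mem_univ _⟩
  obtain ⟨S, hS, hSmin⟩ := Finset.exists_min_image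
    (Finset.univ.filter fun S : Submodule k M => f S = f S₀) (fun S => finrank k S)
    ⟨S₀, by simp⟩
  rw [Finset.mem_filter] at hS
  refine ⟨S, fun x v hv => ?_, fun T => ?_⟩
  swap
  · have := hS₀ T (Finset.mem_univ _)
    rw [← hS.2] at this
    simp only [f] at this
    omega
  by_cases hx : x = 0
  · rw [hx, map_zero, LinearMap.zero_apply]; exact zero_mem _
  set S' := S.map (Y x) with hS'
  have hYi : Function.Injective (Y x) := (injective_iff_map_eq_zero _).2 (hinj x hx)
  have hdim : finrank k S' = finrank k S :=
    (Submodule.equivMapOfInjective (Y x) hYi S).finrank_eq.symm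
  have hr : finrank k (restr E S') ≤ finrank k (restr E S) := by
    let φ : (S' →ₗ[k] N) →ₗ[k] (S →ₗ[k] N) :=
      LinearMap.lcomp k N ((Y x).restrict fun v hv => Submodule.mem_map_of_mem hv : S →ₗ[k] S')
    have hφ : Function.Injective φ := by
      intro a b hab
      refine LinearMap.ext fun y => ?_
      obtain ⟨v, hv, hvy⟩ := y.2
      have := LinearMap.congr_fun hab ⟨v, hv⟩
      have e : y = ((Y x).restrict (fun v hv => Submodule.mem_map_of_mem hv) : S →ₗ[k] S') ⟨v, hv⟩ :=
        Subtype.ext hvy.symm
      rw [e]
      exact this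
    rw [(Submodule.equivMapOfInjective φ hφ (restr E S')).finrank_eq]
    refine Submodule.finrank_mono ?_
    rintro _ ⟨_, ⟨e, he, rfl⟩, rfl⟩
    exact ⟨e.comp (Y x), hE x e he, rfl⟩
  have h1 := finrank_restr_sup_add_inf E S S'
  have h2 := Submodule.finrank_sup_add_finrank_inf_eq S S'
  have h3 := hS₀ (S ⊔ S') (Finset.mem_univ _)
  have h4 := hS₀ (S ⊓ S') (Finset.mem_univ _)
  rw [← hS.2] at h3 h4
  simp only [f] at h3 h4
  have h5 : f (S ⊓ S') = f S₀ := by
    rw [← hS.2]; simp only [f]; omega
  have h6 := hSmin _ (Finset.mem_filter.2 ⟨Finset.mem_univ _, h5⟩)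
  have h7 : S ⊓ S' = S := Submodule.eq_of_le_of_finrank_le inf_le_left h6
  have h8 : S = S' := Submodule.eq_of_le_of_finrank_le (h7 ▸ inf_le_right) hdim.le
  rw [h8]
  exact Submodule.mem_map_of_mem hv

include hk hinj hfix hE in
/-- The restriction to a subspace has at least the rank of the subspace. -/
theorem finrank_le_restr
    (hbound : ∀ S : Submodule k M, finrank k S ≤ finrank k (restr E S) + finrank k Λ)
    (T : Submodule k M) : finrank k T ≤ finrank k (restr E T) := by
  classical
  obtain ⟨S, hSinv, hSmin⟩ := exists_minimal_invariant E Y hinj hE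
  by_contra hT
  set s := finrank k S with hs
  set t := finrank k (restr E S) with ht
  have hts : t < s := by have := hSmin T; omega
  obtain ⟨g, hg⟩ := Nat.exists_eq_add_of_le hts.le
  have hg0 : 1 ≤ g := by omega
  have hga : g ≤ finrank k Λ := by have := hbound S; omega
  let X : Λ →ₗ[k] Module.End k S :=
    { toFun := fun x => (Y x).restrict (hSinv x)
      map_add' := fun x y => LinearMap.ext fun v => Subtype.ext (by simp)
      map_smul' := fun c x => LinearMap.ext fun v => Subtype.ext (by simp) }
  have hXE : ∀ x, ∀ e ∈ restr E S, e.comp (X x) ∈ restr E S := by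
    rintro x _ ⟨e, he, rfl⟩
    exact ⟨e.comp (Y x), hE x e he, rfl⟩
  let XE : Λ →ₗ[k] Module.End k (restr E S) :=
    { toFun := fun x => (LinearMap.lcomp k N (X x)).restrict (hXE x)
      map_add' := fun x y => LinearMap.ext fun e => Subtype.ext (LinearMap.ext fun v => by
        show (e : S →ₗ[k] N) (X (x + y) v) = (e : S →ₗ[k] N) (X x v) + (e : S →ₗ[k] N) (X y v)
        rw [map_add, LinearMap.add_apply, map_add])
      map_smul' := fun c x => LinearMap.ext fun e => Subtype.ext (LinearMap.ext fun v => by
        show (e : S →ₗ[k] N) (X (c • x) v) = c • (e : S →ₗ[k] N) (X x v)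
        rw [map_smul, LinearMap.smul_apply, map_smul]) }
  -- kernels of polynomials
  have hker : ∀ x (p : k[X]), finrank k (LinearMap.ker (aeval (XE x) p)) ≤
      finrank k (LinearMap.ker (aeval (X x) p)) := by
    intro x p
    have hp : ∀ (p : k[X]) (e : restr E S),
        ((aeval (XE x) p e : restr E S) : S →ₗ[k] N) = (e : S →ₗ[k] N).comp (aeval (X x) p) := by
      intro p
      induction p using Polynomial.induction_on' with
      | add a b ha hb => intro e; simp [ha, hb, LinearMap.comp_add]
      | monomial i c =>
        intro e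
        simp only [aeval_monomial, Module.End.mul_apply, Module.algebraMap_end_apply,
          Submodule.coe_smul]
        have hpow : ((XE x ^ i) e : S →ₗ[k] N) = (e : S →ₗ[k] N).comp (X x ^ i) := by
          induction i with
          | zero => rfl
          | succ i ih =>
            rw [pow_succ', Module.End.mul_apply, pow_succ, Module.End.mul_eq_comp (X x ^ i) (X x),
              ← LinearMap.comp_assoc, ← ih]
            rfl
        rw [hpow]
        exact LinearMap.ext fun v => by simp
    set I := (LinearMap.range (aeval (X x) p)).map S.subtype with hI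
    have hIS : I ≤ S := Submodule.map_subtype_le _ _
    let φ : (S →ₗ[k] N) →ₗ[k] (I →ₗ[k] N) := LinearMap.lcomp k N (Submodule.inclusion hIS)
    let ψ := φ.comp (restr E S).subtype
    have hψr : LinearMap.range ψ = restr E I := by
      rw [LinearMap.range_comp, Submodule.range_subtype]
      exact (Submodule.map_comp _ _ _).symm
    have hψk : LinearMap.ker ψ = LinearMap.ker (aeval (XE x) p) := by
      ext e
      rw [LinearMap.mem_ker, LinearMap.mem_ker, ← Submodule.coe_eq_zero, hp]
      constructor
      · intro h
        exact LinearMap.ext fun v => LinearMap.congr_fun h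
          ⟨((aeval (X x) p v : S) : M), ⟨_, ⟨v, rfl⟩, rfl⟩⟩
      · intro h
        refine LinearMap.ext fun y => ?_
        obtain ⟨_, ⟨v, rfl⟩, hv⟩ := y.2
        have : Submodule.inclusion hIS y = aeval (X x) p v := Subtype.ext hv.symm
        show (e : S →ₗ[k] N) (Submodule.inclusion hIS y) = 0
        rw [this]
        exact LinearMap.congr_fun h v
    have h1 := LinearMap.finrank_range_add_finrank_ker ψ
    rw [hψr, hψk] at h1
    have h2 := LinearMap.finrank_range_add_finrank_ker (aeval (X x) p)
    rw [← Submodule.finrank_map_subtype_eq S, ← hI] at h2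
    have h3 := hSmin I
    omega
  -- polynomial families
  set b := Module.finBasis k Λ
  set P := LinearMap.polyCharpoly X b with hP
  set Q := LinearMap.polyCharpoly XE b with hQ
  have hQm : Q.Monic := LinearMap.polyCharpoly_monic _ _
  have hdeg : ∀ i, i ≤ g → ((P /ₘ Q).coeff i).totalDegree ≤ g - i := by
    refine totalDegree_coeff_divByMonic hQm hg (LinearMap.polyCharpoly_natDegree _ _)
      (fun i hi => ?_) (fun i hi => ?_) (LinearMap.polyCharpoly_natDegree _ _).le
    · exact (LinearMap.polyCharpoly_coeff_isHomogeneous XE b i (t - i) (by omega)).totalDegree_le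
    · exact (LinearMap.polyCharpoly_coeff_isHomogeneous X b i (s - i) (by omega)).totalDegree_le
  set H := ∑ i ∈ Finset.Icc 1 g, (P /ₘ Q).coeff i with hH
  have hHdeg : H.totalDegree < finrank k Λ := by
    refine lt_of_le_of_lt (MvPolynomial.totalDegree_finsetSum_le (d := g - 1) fun i hi => ?_)
      (by omega)
    rw [Finset.mem_Icc] at hi
    exact (hdeg i hi.2).trans (by omega)
  have hsum := MvPolynomial.sum_eval_eq_zero H
    (by rw [hk, Fintype.card_fin]; simpa using hHdeg)
  have htwo : ∀ c : k, c ≠ 0 → c = 1 := by
    intro c hc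
    have := FiniteField.pow_card_sub_one_eq_one c hc
    rwa [hk, pow_one] at this
  have heval : ∀ x : Λ, MvPolynomial.eval (b.repr x : Fin (finrank k Λ) → k) H =
      if x = 0 then 1 else 0 := by
    intro x
    set π := (X x).charpoly /ₘ (XE x).charpoly with hπ
    have hπc : ∀ i, MvPolynomial.eval (b.repr x : Fin (finrank k Λ) → k) ((P /ₘ Q).coeff i) =
        π.coeff i := by
      intro i
      rw [← coeff_map, map_divByMonic _ hQm, hP, hQ, LinearMap.polyCharpoly_map_eq_charpoly,
        LinearMap.polyCharpoly_map_eq_charpoly]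
    have hπd : π.natDegree = g := by
      rw [hπ, natDegree_divByMonic _ (LinearMap.charpoly_monic _), LinearMap.charpoly_natDegree,
        LinearMap.charpoly_natDegree]
      omega
    rw [hH, map_sum, Finset.sum_congr rfl fun i _ => hπc i]
    split_ifs with hx
    · subst hx
      have e : π = Polynomial.X ^ g := by
        rw [hπ, map_zero, map_zero, LinearMap.charpoly_zero, LinearMap.charpoly_zero, ← hs, ← ht,
          hg, pow_add, mul_divByMonic_cancel_left _ (monic_X_pow t)]
      rw [e, Finset.sum_eq_single g (fun i _ hi => by rw [coeff_X_pow, if_neg hi])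
        (fun h => absurd (Finset.mem_Icc.2 ⟨hg0, le_rfl⟩) h), coeff_X_pow_self]
    · obtain ⟨π', hπ'⟩ := charpoly_dvd_of_finrank_ker_le (X x) (XE x) (hker x)
      have e : π = π' := by
        rw [hπ, hπ', mul_divByMonic_cancel_left _ (LinearMap.charpoly_monic _)]
      have hev : ∀ μ : k, (∀ v : S, X x v = μ • v → v = 0) → π.eval μ = 1 := by
        intro μ h
        refine htwo _ fun h0 => ?_
        have hr : (X x).charpoly.IsRoot μ := by
          rw [IsRoot, hπ', eval_mul, ← e, h0, mul_zero]
        obtain ⟨v, hv⟩ := ((Module.End.hasEigenvalue_iff_isRoot_charpoly _ _).2 hr).exists_hasEigenvector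
        exact hv.2 (h v hv.apply_eq_smul)
      have h1 : π.eval 1 = 1 := hev 1 fun v hv => Subtype.ext (hfix x hx v (by
        rw [one_smul] at hv; exact congrArg Subtype.val hv))
      have h0 : π.eval 0 = 1 := hev 0 fun v hv => Subtype.ext (hinj x hx v (by
        rw [zero_smul] at hv; exact congrArg Subtype.val hv))
      rw [eval_eq_sum_range, hπd, Finset.sum_range_succ'] at h1
      simp only [one_pow, mul_one] at h1
      rw [← coeff_zero_eq_eval_zero] at h0
      rw [h0, add_eq_right] at h1
      rw [← h1, Finset.range_eq_Ico]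
      refine (Finset.sum_nbij' (fun i => i - 1) (fun i => i + 1) ?_ ?_ ?_ ?_ ?_)
      · intro i hi; simp at hi ⊢; omega
      · intro i hi; simp at hi ⊢; omega
      · intro i hi; simp at hi; omega
      · intro i hi; omega
      · intro i hi; simp at hi; rw [Nat.sub_add_cancel hi.1]
  let e : (Fin (finrank k Λ) → k) ≃ Λ := b.equivFun.symm.toEquiv
  have : Finite Λ := Module.finite_of_finite k
  have : Fintype Λ := Fintype.ofFinite Λ
  rw [← Equiv.sum_comp e.symm] at hsum
  rw [Finset.sum_congr rfl fun x _ => (show MvPolynomial.eval (e.symm x) H = _ from heval x),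
    Finset.sum_ite_eq' Finset.univ (0 : Λ) fun _ => (1 : k), if_pos (Finset.mem_univ _)] at hsum
  exact one_ne_zero hsum

end Two

end Cfsg.Agent.CharP.DeficitPolynomial
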