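import Cfsg.Agent.Lib.CharP.S3FreeSplit

/-!
Composition factors that are Suzuki groups, `PSL₂(3 ^ (2 n + 1))` or of odd order: quotients, normal
subgroups and extensions.
-/

set_option autoImplicit false
set_option linter.unusedSectionVars false

namespace Cfsg.Agent.CharP.FactorList

open Subgroup
open Cfsg.Agent.CharP.S3FreeSplit (OddOr)

universe u

variable {G G' : Type u} [Group G] [Group G']

theorem oddOr_of_equiv {X Y : Type u} [Group X] [Group Y] (e : X ≃* Y) (h : OddOr Y) : OddOr X := by
  rcases h with (⟨F, i1, i2, m, hm, hF, ⟨g⟩⟩ | ⟨F, i1, i2, n, hF, ⟨g⟩⟩) | h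
  · exact Or.inl (Or.inl ⟨F, i1, i2, m, hm, hF, ⟨e.trans g⟩⟩)
  · exact Or.inl (Or.inr ⟨F, i1, i2, n, hF, ⟨e.trans g⟩⟩)
  · exact Or.inr (by rwa [Nat.card_congr e.toEquiv])

/-- The composition factors are in the list. -/
abbrev Listed (G : Type u) [Group G] : Prop := Cfsg.IsCompositionKGroupWith OddOr G

theorem of_kGroup (h : Cfsg.IsCompositionKGroupWith Cfsg.IsSuzukiOrPSL2OddPowerThree G) :
    Listed G := fun H hH N _ hs hn => Or.inl (h H hH N hs hn)

theorem apply (h : Listed G) {H : Subgroup G} (hH : H.IsSubnormal) {X : Type u} [Group X]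
    [hs : IsSimpleGroup X] (hna : ¬ IsMulCommutative X) (f : H →* X) (hf : Function.Surjective f) :
    OddOr X := by
  let e := QuotientGroup.quotientKerEquivOfSurjective f hf
  haveI : IsSimpleGroup (H ⧸ f.ker) := e.isSimpleGroup
  refine oddOr_of_equiv e.symm (h H hH f.ker inferInstance fun hc => hna ?_)
  exact ⟨⟨fun a b => e.symm.injective (by rw [map_mul, map_mul]; exact hc.is_comm.comm _ _)⟩⟩

theorem quotient (h : Listed G) {f : G →* G'} (hf : Function.Surjective f) : Listed G' := by
  intro H hH N _ hs hna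
  refine apply h (hH.comap f) hna ((QuotientGroup.mk' N).comp (f.subgroupComap H)) ?_
  exact (QuotientGroup.mk'_surjective N).comp (f.subgroupComap_surjective_of_surjective H hf)

theorem of_injective (h : Listed G) {f : G' →* G} (hf : Function.Injective f)
    (hsn : f.range.IsSubnormal) : Listed G' := by
  intro H hH N _ hs hna
  let e := equivMapOfInjective H f hf
  have hHG : (H.map f).IsSubnormal := by
    refine IsSubnormal.trans (K := f.range) (map_le_range f H) ?_ hsn
    have h1 := hH.map f.rangeRestrict_surjective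
    convert h1 using 1
    ext ⟨x, hx⟩
    simp [mem_subgroupOf, Subtype.ext_iff]
  exact apply h hHG hna ((QuotientGroup.mk' N).comp e.symm.toMonoidHom)
    ((QuotientGroup.mk'_surjective N).comp e.symm.surjective)

theorem of_subnormal (h : Listed G) {K : Subgroup G} (hK : K.IsSubnormal) : Listed ↥K :=
  of_injective h K.subtype_injective (by rwa [range_subtype])

/-- Extensions. -/
theorem extension {f : G →* G'} (hf : Function.Surjective f) (hK : Listed ↥f.ker) (hQ : Listed G') :
    Listed G := by
  intro H hH N _ hs hna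
  set KH : Subgroup H := f.ker.subgroupOf H with hKH
  have hn : (KH.map (QuotientGroup.mk' N)).Normal :=
    (inferInstance : KH.Normal).map _ (QuotientGroup.mk'_surjective N)
  rcases hn.eq_bot_or_eq_top with h0 | h0
  · -- the factor is one of the quotient
    rw [Subgroup.map_eq_bot_iff, QuotientGroup.ker_mk'] at h0
    let q : H →* H.map f := f.subgroupMap H
    have hq : Function.Surjective q := f.subgroupMap_surjective H
    have hker : q.ker ≤ N := fun z hz => h0 (mem_subgroupOf.2 (MonoidHom.mem_ker.2 (congrArg Subtype.val hz)))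
    refine apply hQ (hH.map hf) hna
      (q.liftOfSurjective hq ⟨QuotientGroup.mk' N, by rwa [QuotientGroup.ker_mk']⟩) ?_
    intro z
    obtain ⟨a, rfl⟩ := QuotientGroup.mk'_surjective N z
    exact ⟨q a, MonoidHom.liftOfRightInverse_comp_apply q _ _ _ a⟩
  · -- the factor is one of the kernel
    let g : (H.subgroupOf f.ker) →* H ⧸ N := (QuotientGroup.mk' N).comp
      { toFun := fun z => ⟨((z : f.ker) : G), z.2⟩
        map_one' := rfl
        map_mul' := fun _ _ => rfl }
    refine apply hK (hH.subgroupOf (K := f.ker)) hna g ?_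
    intro z
    obtain ⟨⟨w, hwH⟩, hw, rfl⟩ := h0.ge (mem_top z)
    exact ⟨⟨⟨w, mem_subgroupOf.1 hw⟩, hwH⟩, rfl⟩

variable [Finite G]

theorem of_isPGroup (h : IsPGroup 2 G) : Listed G := by
  intro H hH N _ hs hna
  haveI : Fact (Nat.Prime 2) := ⟨Nat.prime_two⟩
  haveI : Group.IsNilpotent (H ⧸ N) := ((h.to_subgroup H).to_quotient N).isNilpotent
  exact absurd ⟨⟨fun a b => IsSimpleGroup.comm_iff_isSolvable.2 inferInstance a b⟩⟩ hna

theorem of_odd (h : Odd (Nat.card G)) : Listed G := by
  intro H hH N _ hs hna
  exact Or.inr (h.of_dvd_nat ((card_quotient_dvd_card N).trans H.card_subgroup_dvd_card))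

end Cfsg.Agent.CharP.FactorList
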