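import Cfsg.Agent.Lib.CharP.CharInner

/-!
A saturated system is constrained or has a noninner subsystem over the same group with larger core.
-/

set_option autoImplicit false
set_option linter.unusedSectionVars false
set_option linter.style.haveILetI false

universe u

namespace Cfsg.Agent.CharP.Sparse

open Cfsg Cfsg.FusionSystem Cfsg.Agent.Fusion.Basic Cfsg.Agent.Fusion.Saturation
  Cfsg.Agent.Fusion.Normal Cfsg.Agent.Fusion.CentricExt Cfsg.Agent.Fusion.KNormalizer
  Cfsg.Agent.Fusion.Factor Cfsg.Agent.Fusion.FactorExists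
  Cfsg.Agent.CharP.LocalControl Cfsg.Agent.CharP.Climbing Cfsg.Agent.CharP.InnerControl
  Cfsg.Agent.CharP.CharInner

variable {Ω : Type u} [Group Ω] {S : Subgroup Ω} [Finite S] {p : ℕ} [Fact p.Prime]

theorem exists_retype {T : Subgroup Ω} [Finite T] (h : T = S) (N : FusionSystem T) :
    ∃ E : FusionSystem S, (∀ P f, IsMap E P f ↔ IsMap N P f) ∧
      (N.IsSaturated p → E.IsSaturated p) ∧ ∀ W, N.IsNormal W → E.IsNormal W := by
  subst h
  exact ⟨N, fun _ _ => Iff.rfl, id, fun _ => id⟩

/-- The normalizer system of a normal subgroup of `S`, as a system over `S`. -/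
theorem exists_normSystem (hS : IsPGroup p S) {F : FusionSystem S} (hF : F.IsSaturated p)
    {V : Subgroup Ω} (hV : V ≤ S) (hnorm : ∀ s ∈ S, s ∈ Subgroup.normalizer (V : Set Ω)) :
    ∃ E : FusionSystem S, E.IsSaturated p ∧ E ≤ F ∧ E.IsNormal V ∧
      ∀ (N : FusionSystem (normalizerIn S V)), F.IsNormalizerSystem V N →
        AllP p E → AllP p N := by
  obtain ⟨N, hN⟩ := exists_normalizerSystem (F := F) hV
  have hfin : Finite (normalizerIn S V) := finite_of_le normalizerIn_le
  have hNs := normalizerSystem_saturated hS hF (fullyNormalized_of_top hV hnorm) hN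
  obtain ⟨E, hmap, hsat, hnor⟩ := exists_retype (p := p) (normalizerIn_eq_self hnorm) N
  refine ⟨E, hsat hNs, fun P φ hφ => ?_, hnor _ (normalizer_isNormal hV hN), fun N' hN' hall => ?_⟩
  · obtain ⟨-, g, hg, hge, -⟩ := (isMap_normalizer_iff hN).1 ((hmap _ _).1 (IsMap.of_hom hφ))
    exact ((hg.restrict le_sup_left).congr hge).hom_mem fun x => (ext_apply φ x).symm
  · exact hall.of_maps (fun P f hf => (hmap P f).2
      ((isMap_normalizer_iff hN).2 ((isMap_normalizer_iff hN').1 hf))) normalizerIn_le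

theorem allP_of_hom_eq (hS : IsPGroup p S) {F : FusionSystem S}
    (h : ∀ P : Subgroup Ω, F.Hom P = (innerFusionSystem S).Hom P) : AllP p F :=
  (allP_inner hS).of_maps (fun P f hf => by
    obtain ⟨φ, hφ, he⟩ := hf
    exact ⟨φ, h P ▸ hφ, he⟩) le_rfl

/-- Maps preserving a subgroup with inner normalizer system are inner. -/
theorem isMap_inner_of_allP (hS : IsPGroup p S) {F : FusionSystem S} (hF : F.IsSaturated p)
    {W : Subgroup Ω} (hW : W ≤ S) (hnorm : ∀ s ∈ S, s ∈ Subgroup.normalizer (W : Set Ω))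
    {N : FusionSystem (normalizerIn S W)} (hN : F.IsNormalizerSystem W N) (h : AllP p N)
    {P : Subgroup Ω} {f : Ω → Ω} (hf : IsMap F P f) (hWP : W ≤ P) (himg : img f W = W) :
    IsMap (innerFusionSystem S) P f := by
  have hfin : Finite (normalizerIn S W) := finite_of_le normalizerIn_le
  have heq := h.eq_inner (hS.to_le normalizerIn_le)
    (normalizerSystem_saturated hS hF (fullyNormalized_of_top hW hnorm) hN)
  have hfN : IsMap N P f := (isMap_normalizer_iff hN).2
    ⟨fun x hx => ⟨hf.le hx, hnorm x (hf.le hx)⟩, f, by rwa [sup_eq_left.2 hWP],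
      fun _ _ => rfl, himg⟩
  rw [heq] at hfN
  obtain ⟨s, hs, hse⟩ := InnerControl.isMap_inner hfN
  exact (isMap_cj (F := innerFusionSystem S) hf.le hs.1).congr fun x hx => (hse x hx).symm

theorem constrained_or_bigger (hS : IsPGroup p S) {F : FusionSystem S} (hF : F.IsSaturated p)
    (hp : p ≠ 2 ∨ F.IsSectionFree p (Equiv.Perm (Fin 4))) :
    F.IsConstrained p ∨ ∃ (V : Subgroup Ω) (E : FusionSystem S),
      F.core < V ∧ E ≤ F ∧ E.IsSaturated p ∧ E.IsNormal V ∧ ¬ AllP p E := by
  classical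
  by_contra hcon
  simp only [not_or, not_exists, not_and, not_not] at hcon
  obtain ⟨hnc, hsmall⟩ := hcon
  refine hnc ?_
  have hQn : F.IsNormal F.core := core_isNormal
  have hsc := normal_stronglyClosed hQn
  haveI : (F.core.subgroupOf S).Normal :=
    Subgroup.normal_subgroupOf_of_le_normalizer (le_normalizer_of_stronglyClosed hsc)
  let θ : S →* S ⧸ F.core.subgroupOf S := QuotientGroup.mk' _
  have hker : ∀ s : S, θ s = 1 ↔ (s : Ω) ∈ F.core := fun s => by
    rw [QuotientGroup.mk'_apply, QuotientGroup.eq_one_iff, Subgroup.mem_subgroupOf]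
  set S' : Subgroup (S ⧸ F.core.subgroupOf S) := ⊤ with hS'def
  have hrange : θ.range = S' := QuotientGroup.range_mk' _
  obtain ⟨E, hE⟩ := exists_factorSystem (F := F) hsc hker hrange
  have hq := isQuot_of_factorSystem hsc hE
  have hfinE : Finite S' := hq.finite
  have hpE := hq.isPGroup hS
  have hEs := hq.saturated hS hF
  -- maps preserving a normal subgroup of the quotient are inner
  have key : ∀ W : Subgroup (S ⧸ F.core.subgroupOf S), W ≠ ⊥ →
      (∀ y ∈ S', y ∈ Subgroup.normalizer (W : Set (S ⧸ F.core.subgroupOf S))) → ∀ P f, IsMap E P f → W ≤ P → img f W = W →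
        IsMap (innerFusionSystem S') P f := by
    intro W hW0 hWn P f hf hWP himg
    set V := preimageAlong θ W with hVdef
    have hVS : V ≤ S := preimageAlong_le _
    have hVnorm : ∀ t ∈ S, t ∈ Subgroup.normalizer (V : Set Ω) := fun t ht => by
      have : Finite V := finite_of_le hVS
      refine mem_normalizer_of_forall fun x hx => ?_
      obtain ⟨hxS, hxW⟩ := mem_preimageAlong.1 hx
      refine mem_preimageAlong.2 ⟨S.mul_mem (S.mul_mem ht hxS) (S.inv_mem ht), ?_⟩
      rw [along_mul θ (S.mul_mem ht hxS) (S.inv_mem ht), along_mul θ ht hxS, along_inv θ ht]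
      exact (Subgroup.mem_normalizer_iff.1 (hWn _ (Subgroup.mem_top _)) _).1 hxW
    have hlt : F.core < V := by
      refine SetLike.lt_iff_le_and_exists.2 ⟨hq.le_preimage _, ?_⟩
      obtain ⟨⟨y, hy⟩, hy1⟩ := W.ne_bot_iff_exists_ne_one.1 hW0
      obtain ⟨x, hx, rfl⟩ := exists_along_eq hrange (Subgroup.mem_top y)
      refine ⟨x, mem_preimageAlong.2 ⟨hx, hy⟩, fun hxQ => hy1 (Subtype.ext ?_)⟩
      show along θ x = 1
      rw [along_of_mem θ hx]
      exact (hker _).2 hxQ
    obtain ⟨E', hE's, hE'le, hE'V, hall⟩ := exists_normSystem hS hF hVS hVnorm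
    obtain ⟨NV, hNV⟩ := exists_normalizerSystem (F := F) hVS
    obtain ⟨NW, hNW⟩ := exists_normalizerSystem (F := E) (le_top : W ≤ S')
    exact isMap_inner_of_allP hpE hEs le_top hWn hNW
      (allP_normalizer_quot hq le_top hNV (hall NV hNV (hsmall V E' hlt hE'le hE's hE'V))
        (fun t ht => ⟨ht, hVnorm t ht⟩) hNW) hf hWP himg
  refine constrained_of_quot hS hF hq ?_
  refine (?_ : AllP p E).eq_inner hpE hEs
  by_cases hS'0 : S' = ⊥
  · intro P hP α
    refine ⟨0, Subtype.ext (MulEquiv.ext fun x => Subtype.ext ?_)⟩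
    have h1 : ∀ y : P, (y : S ⧸ F.core.subgroupOf S) = 1 := fun y =>
      Subgroup.mem_bot.1 (hS'0 ▸ hP y.2)
    rw [h1, h1]
  set Z := S' ⊓ Subgroup.centralizer (S' : Set (S ⧸ F.core.subgroupOf S)) with hZdef
  have hnt : Nontrivial S' := S'.nontrivial_iff_ne_bot.2 hS'0
  have hZ0 : Z ≠ ⊥ := fun h0 => by
    obtain ⟨⟨z, hz⟩, hz1⟩ := (Subgroup.center S').ne_bot_iff_exists_ne_one.1
      ((Subgroup.nontrivial_iff_ne_bot _).1 hpE.center_nontrivial)
    have hzZ : (z : S ⧸ F.core.subgroupOf S) ∈ Z := ⟨z.2, fun y hy =>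
      congrArg Subtype.val (Subgroup.mem_center_iff.1 hz ⟨y, hy⟩)⟩
    rw [h0, Subgroup.mem_bot] at hzZ
    exact hz1 (Subtype.ext (Subtype.ext hzZ))
  have hJ0 : thompsonSubgroupAOf S' ≠ ⊥ := fun h0 => hZ0 (eq_bot_iff.2 fun z hz =>
    h0 ▸ centralizerIn_J_le S'
      ⟨hz.1, fun y hy => hz.2 y (Wof_le (W := LocalJ.J.{u}) S' hy)⟩)
  refine allP_of_hom_eq hpE (InnerThompson.inner_of_models hpE hEs
    (LocalModel.altModels_of_free hpE hEs (hp.imp_right fun hfree =>
      Fusion.SectionFreeQuot.sectionFree_quot hS hF hQn hq hfree)) ?_ ?_)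
  · intro P f hf hZP hfix
    refine key Z hZ0 (fun y hy => Subgroup.centralizer_le_normalizer _ fun z hz => (hz.2 y hy).symm)
      P f hf hZP ?_
    rw [img_congr (f := f) (g := id) hfix, img_id]
  · intro P f hf hJP himg
    exact key _ hJ0 (fun y hy => normalizer_le_Wof LocalJ.isoInv_J hpE (Subgroup.le_normalizer hy))
      P f hf hJP himg

/-- For odd primes: a constrained noninner subsystem over `S`. -/
theorem exists_constrained (hS : IsPGroup p S) (hp : p ≠ 2) {F : FusionSystem S}
    (hF : F.IsSaturated p) (hne : ¬ AllP p F) :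
    ∃ E : FusionSystem S, E ≤ F ∧ E.IsConstrained p ∧ ¬ AllP p E := by
  induction hn : Nat.card S - Nat.card F.core using Nat.strong_induction_on generalizing F with
  | _ n ih =>
  rcases constrained_or_bigger hS hF (Or.inl hp) with h | ⟨V, E, hlt, hle, hEs, hEV, hEne⟩
  · exact ⟨F, fun _ => subset_rfl, h, hne⟩
  have hVE : V ≤ E.core := le_core hEV
  have hfinE : Finite E.core := finite_of_le (core_isNormal (F := E)).1
  have hfinV : Finite V := finite_of_le hEV.1
  have h1 := card_lt_card hlt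
  have h2 := card_le_card hVE
  have h3 := card_le_card (core_isNormal (F := E)).1
  obtain ⟨E', hle', hc, hne'⟩ := ih _ (by omega) hEs hEne rfl
  exact ⟨E', fun P => (hle' P).trans (hle P), hc, hne'⟩

end Cfsg.Agent.CharP.Sparse
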