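import Cfsg.Agent.Lib.PLocal.StronglyClosedZJ
import Cfsg.Agent.Lib.CharP.Sparse

/-!
The nilpotency criterion for a family of abelian subgroups with replacement.
-/

set_option autoImplicit false
set_option linter.all false
set_option maxHeartbeats 1000000

universe u

namespace Cfsg.Agent.CharP.FamilyCriterion

open Subgroup Cfsg Cfsg.Agent.PLocal
open scoped commutatorElement

variable {p : ℕ} [Fact p.Prime]

/-- `g` maps the intersection of the members in `U` into itself, for all `U` that contain one. -/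
def Invariant {G : Type u} [Group G] (S : Subgroup G) (𝒜 : Set (Subgroup G)) : Prop :=
  ∀ U : Subgroup G, U ≤ S → (∃ A ∈ 𝒜, A ≤ U) → ∀ g ∈ normalizer (U : Set G), ∀ x : G,
    (∀ A ∈ 𝒜, A ≤ U → x ∈ A) → ∀ A ∈ 𝒜, A ≤ U → g * x * g⁻¹ ∈ A

/-- The replacement property. -/
def Replacement {G : Type u} [Group G] (S : Subgroup G) (𝒜 : Set (Subgroup G)) : Prop :=
  ∀ B : Subgroup G, B ≤ S → ⁅⁅B, B⁆, B⁆ = ⊥ → (∃ A ∈ 𝒜, ⁅B, B⁆ ≤ A ∧ ¬ B ≤ A) →
    ∃ A ∈ 𝒜, ⁅B, B⁆ ≤ A ∧ ¬ B ≤ A ∧ B ≤ normalizer (A : Set G)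

section Stable

variable {G : Type u} [Group G] [Finite G] (S : Sylow p G) {𝒜 : Set (Subgroup G)}
  (hA : ∀ A ∈ 𝒜, A ≤ (S : Subgroup G) ∧ ∀ x ∈ A, ∀ y ∈ A, x * y = y * x)
  (hne : 𝒜.Nonempty) (hinv : Invariant (S : Subgroup G) 𝒜)
  (hrep : Replacement (S : Subgroup G) 𝒜)
  (hst : ∀ (P : Subgroup G) [P.Normal], IsPGroup p P → IsPStableOn p P)

include hA hne hinv in
theorem sylow_le_normalizer :
    (S : Subgroup G) ≤ normalizer ((sInf 𝒜 : Subgroup G) : Set G) := fun s hs =>
  GlaubermanReplacement.mem_normalizer_of_conj_mem fun x hx => by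
    obtain ⟨A, hA'⟩ := hne
    refine mem_sInf.2 fun B hB => ?_
    exact hinv S le_rfl ⟨A, hA', (hA A hA').1⟩ s (le_normalizer hs) x
      (fun C hC _ => mem_sInf.1 hx C hC) B hB (hA B hB).1

include hA hne hinv hrep hst in
theorem inf_normal :
    ∀ n : ℕ, ∀ B : Subgroup G, Nat.card B = n → B.Normal → IsPGroup p B →
      (sInf 𝒜 ⊓ B).Normal := by
  intro n
  induction n using Nat.strong_induction_on with
  | _ n IH =>
  intro B hn hBn hBp
  haveI := hBn
  set Z := sInf 𝒜 with hZ
  set Z0 := Z ⊓ B with hZ0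
  by_contra hnot
  obtain ⟨A₁, hA₁⟩ := hne
  have hcomm : ∀ x ∈ Z, ∀ y ∈ Z, x * y = y * x := fun x hx y hy =>
    (hA A₁ hA₁).2 x (mem_sInf.1 hx A₁ hA₁) y (mem_sInf.1 hy A₁ hA₁)
  have hBS : B ≤ S := hBp.le_sylow_of_normal S
  have hSZ : (S : Subgroup G) ≤ normalizer (Z : Set G) := sylow_le_normalizer S hA ⟨A₁, hA₁⟩ hinv
  have hSZ0 : (S : Subgroup G) ≤ normalizer (Z0 : Set G) := fun s hs =>
    GlaubermanReplacement.mem_normalizer_of_conj_mem fun x hx =>
      mem_inf.mpr ⟨(mem_normalizer_iff.mp (hSZ hs) x).mp (mem_inf.mp hx).1,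
        hBn.conj_mem x (mem_inf.mp hx).2 s⟩
  have hsmall : ∀ V : Subgroup G, V.Normal → V < B → (Z ⊓ V).Normal := fun V hV hlt =>
    IH _ (hn ▸ (by
      rcases Nat.lt_or_ge (Nat.card V) (Nat.card B) with h | h
      · exact h
      · exact absurd (eq_of_le_of_card_ge hlt.le h) hlt.ne)) V rfl hV (hBp.to_le hlt.le)
  -- `B` is generated by the conjugates of `Z0`
  have hgen : normalClosure (Z0 : Set G) = B := by
    refine le_antisymm (normalClosure_le_normal inf_le_right) ?_
    by_contra hlt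
    have hlt' : normalClosure (Z0 : Set G) < B :=
      lt_of_le_not_ge (normalClosure_le_normal inf_le_right) hlt
    have := hsmall _ inferInstance hlt'
    refine hnot ?_
    have he : Z ⊓ normalClosure (Z0 : Set G) = Z0 :=
      le_antisymm (inf_le_inf_left _ hlt'.le) (le_inf inf_le_left subset_normalClosure)
    rwa [he] at this
  -- `B' ≤ Z`
  have hnb : B ≠ ⊥ := by
    rintro rfl
    exact hnot (by rw [hZ0, inf_bot_eq]; infer_instance)
  have hlt : ⁅B, B⁆ < B := by
    refine lt_of_le_of_ne (commutator_le_left B B) fun he => ?_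
    haveI : Nontrivial B := (nontrivial_iff_ne_bot B).mpr hnb
    haveI := hBp.isNilpotent
    have h1 := IsSolvable.commutator_lt_top_of_nontrivial B
    refine h1.ne ((map_injective B.subtype_injective) ?_)
    rw [map_subtype_commutator, he, ← MonoidHom.range_eq_map, range_subtype]
  set M := Z ⊓ ⁅B, B⁆ with hM
  haveI hMn : M.Normal := hsmall _ inferInstance hlt
  have hBB : ⁅B, B⁆ ≤ M := by
    set q := QuotientGroup.mk' M
    have h0 : ⁅Z0, B⁆ ≤ M := by
      refine le_inf ?_ (commutator_mono inf_le_right le_rfl)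
      rw [commutator_le]
      intro z hz b hb
      rw [commutatorElement_def, mul_assoc, mul_assoc, ← mul_assoc b]
      exact mul_mem (mem_inf.mp hz).1 ((mem_normalizer_iff.mp (hSZ (hBS hb)) _).mp (inv_mem (mem_inf.mp hz).1))
    have h1 : B ≤ (centralizer (B.map q : Set (G ⧸ M))).comap q := by
      haveI : (B.map q).Normal := Subgroup.Normal.map hBn q (QuotientGroup.mk'_surjective M)
      conv_lhs => rw [← hgen]
      refine normalClosure_le_normal fun z hz => ?_
      rw [SetLike.mem_coe, mem_comap]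
      rintro _ ⟨b, hb, rfl⟩
      have h2 := h0 (commutator_mem_commutator hz hb)
      rw [← QuotientGroup.eq_one_iff] at h2
      change q ⁅z, b⁆ = 1 at h2
      rw [map_commutatorElement, commutatorElement_eq_one_iff_mul_comm] at h2
      exact h2.symm
    rw [commutator_le]
    intro x hx y hy
    have h2 := h1 hx (q y) ⟨y, hy, rfl⟩
    rw [← QuotientGroup.eq_one_iff]
    change q ⁅x, y⁆ = 1
    rw [map_commutatorElement, commutatorElement_eq_one_iff_mul_comm]
    exact h2.symm
  have hclass : ⁅⁅B, B⁆, B⁆ = ⊥ := by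
    rw [commutator_eq_bot_iff_le_centralizer]
    refine hBB.trans fun m hm b hb => ?_
    have hle : B ≤ centralizer (M : Set G) := by
      conv_lhs => rw [← hgen]
      exact normalClosure_le_normal fun z hz y hy =>
        hcomm y (mem_inf.1 hy).1 z (mem_inf.1 hz).1
    exact (hle hb m hm).symm
  -- the kernel of the action on `Z0`, made normal
  set L := (normalizer (Z0 : Set G)).normalCore with hL
  haveI : L.Normal := normalCore_normal _
  set E := (pCore p (G ⧸ centralizer (B : Set G))).comap (QuotientGroup.mk' _) with hE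
  have hEL : E ≤ L := by
    haveI : (pCore p (G ⧸ centralizer (B : Set G))).Normal := inferInstance
    haveI : E.Normal := Subgroup.Normal.comap inferInstance _
    refine normal_le_normalCore.mpr ((ZJ.comap_pCore_le_sup S _).trans (sup_le hSZ0 ?_))
    intro c hc
    refine GlaubermanReplacement.mem_normalizer_of_conj_mem fun x hx => ?_
    rw [← hc x (mem_inf.mp hx).2, mul_inv_cancel_right]
    exact hx
  set U := (S : Subgroup G) ⊓ L with hU
  have hBX : ∀ A ∈ 𝒜, A ≤ L → B ≤ A := by
    intro A hA' hAL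
    conv_lhs => rw [← hgen]
    refine (closure_le _).mpr ?_
    intro y hy
    obtain ⟨z, hz, hzy⟩ := Group.mem_conjugatesOfSet_iff.mp hy
    obtain ⟨g, rfl⟩ := isConj_iff.mp hzy
    obtain ⟨k, hk, l, hl, rfl⟩ := ZJ.frattini_inf S L g
    have hAU : A ≤ U := le_inf (hA A hA').1 hAL
    have hzl : l * z * l⁻¹ ∈ Z0 := (mem_normalizer_iff.mp (normalCore_le _ hl) z).mp hz
    have h := hinv U inf_le_left ⟨A, hA', hAU⟩ k hk (l * z * l⁻¹)
      (fun C hC _ => mem_sInf.1 (mem_inf.1 hzl).1 C hC) A hA' hAU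
    rw [SetLike.mem_coe, show k * l * z * (k * l)⁻¹ = k * (l * z * l⁻¹) * k⁻¹ by group]
    exact h
  by_cases hall : ∀ A ∈ 𝒜, B ≤ A
  · refine hnot ?_
    have : B ≤ Z := le_sInf hall
    rw [hZ0, inf_eq_right.mpr this]; exact hBn
  push Not at hall
  obtain ⟨A₀, hA₀, hA₀B⟩ := hall
  obtain ⟨A, hA', -, hBA, hBN⟩ := hrep B hBS hclass
    ⟨A₀, hA₀, (hBB.trans inf_le_left).trans (sInf_le hA₀), hA₀B⟩
  refine hBA (hBX A hA' fun a ha => hEL ?_)
  exact hst B hBp a (ZJ.quad_of_normalizes hBN (hA A hA').2 ha)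

include hA hne hinv hrep hst in
theorem family_normal (hc : centralizer (pCore p G : Set G) ≤ pCore p G) :
    (sInf 𝒜 : Subgroup G).Normal := by
  have hle : sInf 𝒜 ≤ pCore p G := by
    intro z hz
    set Q := pCore p G with hQ
    have hQn : Q.Normal := inferInstance
    have hQS : Q ≤ normalizer ((sInf 𝒜 : Subgroup G) : Set G) :=
      (Cores.pCore_le_sylow S).trans (sylow_le_normalizer S hA hne hinv)
    obtain ⟨A₁, hA₁⟩ := id hne
    have h := hst Q Cores.isPGroup_pCore z (ZJ.quad_of_normalizes hQS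
      (fun x hx y hy => (hA A₁ hA₁).2 x (mem_sInf.1 hx A₁ hA₁) y (mem_sInf.1 hy A₁ hA₁)) hz)
    set C := centralizer (Q : Set G) with hC
    haveI hEn : ((pCore p (G ⧸ C)).comap (QuotientGroup.mk' C)).Normal :=
      Subgroup.Normal.comap inferInstance _
    refine Cores.le_pCore (N := (pCore p (G ⧸ C)).comap (QuotientGroup.mk' C)) ?_ h
    exact (Cores.isPGroup_pCore).comap_of_ker_isPGroup _
      (by rw [QuotientGroup.ker_mk']; exact Cores.isPGroup_pCore.to_le hc)
  have := inf_normal S hA hne hinv hrep hst _ (pCore p G) rfl inferInstance Cores.isPGroup_pCore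
  rwa [inf_eq_left.mpr hle] at this

end Stable

open Cfsg.Agent.Techniques.Functor Cfsg.Agent.Transfer.NormalPComplement in
/-- The criterion for groups of characteristic `p`. -/
theorem hnc_family (hp2 : p ≠ 2) : ∀ n : ℕ, ∀ (G : Type u) [Group G] [Finite G], Nat.card G = n →
    ∀ (S : Sylow p G) (𝒜 : Set (Subgroup G)),
      (∀ A ∈ 𝒜, A ≤ (S : Subgroup G) ∧ ∀ x ∈ A, ∀ y ∈ A, x * y = y * x) → 𝒜.Nonempty →
      Invariant (S : Subgroup G) 𝒜 → Replacement (S : Subgroup G) 𝒜 →
      centralizer (pCore p G : Set G) ≤ pCore p G →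
      HasNormalPComplement p ↥(normalizer ((sInf 𝒜 : Subgroup G) : Set G)) →
      HasNormalPComplement p G := by
  intro n
  induction n using Nat.strong_induction_on with
  | _ n IH =>
  intro G _ _ hn S 𝒜 hA hne hinv hrep hc hN
  by_contra hG
  set Z := (sInf 𝒜 : Subgroup G) with hZdef
  have hnn : ¬ Z.Normal := fun h => hG <| by
    rw [normalizer_eq_top_iff.mpr h] at hN
    exact (hasNormalPComplement_congr topEquiv).mp hN
  set Q := pCore p G with hQdef
  have hQS : Q ≤ (S : Subgroup G) := Cores.pCore_le_sylow S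
  -- the proper subgroups over `S`
  have hLS : ∀ L : Subgroup G, (S : Subgroup G) ≤ L → L ≠ ⊤ → HasNormalPComplement p L := by
    intro L hSL hL
    have hAL : ∀ A ∈ 𝒜, A ≤ L := fun A h => (hA A h).1.trans hSL
    have hmap : ∀ U : Subgroup L, (U.map L.subtype).subgroupOf L = U := fun U =>
      comap_map_eq_self_of_injective L.subtype_injective U
    refine IH (Nat.card L) (hn ▸ lt_of_not_ge fun h => hL (Subgroup.eq_top_of_le_card _ h)) L rfl
      (S.subtype hSL) ((fun A => A.subgroupOf L) '' 𝒜) ?_ (hne.image _) ?_ ?_ ?_ ?_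
    · rintro _ ⟨A, hA', rfl⟩
      exact ⟨fun x hx => (hA A hA').1 hx, fun x hx y hy => Subtype.ext ((hA A hA').2 x hx y hy)⟩
    · rintro U hU ⟨_, ⟨A, hA', rfl⟩, hAU⟩ g hg x hx _ ⟨C, hC, rfl⟩ hCU
      have himg : ∀ D ∈ 𝒜, D ≤ U.map L.subtype → D.subgroupOf L ≤ U := fun D _ h y hy =>
        (hmap U).le (h hy)
      have hAU' : ∀ D ∈ 𝒜, D.subgroupOf L ≤ U → D ≤ U.map L.subtype := fun D hD h d hd =>
        ⟨⟨d, hAL D hD hd⟩, h hd, rfl⟩
      exact hinv (U.map L.subtype) (by rintro _ ⟨u, hu, rfl⟩; exact hU hu) ⟨A, hA', hAU' A hA' hAU⟩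
        g (le_normalizer_map L.subtype (mem_map_of_mem _ hg)) x
        (fun D hD hDU => hx _ ⟨D, hD, rfl⟩ (himg D hD hDU)) C hC (hAU' C hC hCU)
    · intro B hB hclass hex
      obtain ⟨_, ⟨A, hA', rfl⟩, hle, hnle⟩ := hex
      have hc' : ⁅B.map L.subtype, B.map L.subtype⁆ = ⁅B, B⁆.map L.subtype :=
        (map_commutator _ _ _).symm
      obtain ⟨C, hC, h1, h2, h3⟩ := hrep (B.map L.subtype)
        (by rintro _ ⟨b, hb, rfl⟩; exact hB hb)
        (by rw [hc', ← map_commutator, hclass, Subgroup.map_bot])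
        ⟨A, hA', by rw [hc']; rintro _ ⟨b, hb, rfl⟩; exact hle hb,
          fun h => hnle fun b hb => h (mem_map_of_mem _ hb)⟩
      refine ⟨_, ⟨C, hC, rfl⟩, fun b hb => h1 (hc' ▸ mem_map_of_mem _ hb), fun h => h2 ?_,
        fun b hb => ?_⟩
      · rintro _ ⟨b, hb, rfl⟩; exact h hb
      · refine mem_normalizer_iff.2 fun y => ?_
        exact mem_normalizer_iff.1 (h3 (mem_map_of_mem _ hb)) y
    · intro x hx
      have hQL : Q ≤ L := hQS.trans hSL
      have hle : Q.subgroupOf L ≤ pCore p L :=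
        Cores.le_pCore (Cores.isPGroup_pCore.comap_subtype (K := L))
      refine hle ?_
      refine hc (mem_centralizer_iff.2 fun q hq => ?_)
      exact congrArg Subtype.val (mem_centralizer_iff.1 hx ⟨q, hQL hq⟩ (hle hq))
    · have hZ : (sInf ((fun A => A.subgroupOf L) '' 𝒜) : Subgroup L) = Z.subgroupOf L := by
        ext x
        simp only [mem_sInf, Set.forall_mem_image, mem_subgroupOf, hZdef]
      rw [hZ]
      refine (hasNormalPComplement_congr
        ((normalizer (Z.subgroupOf L : Set L)).equivMapOfInjective _ L.subtype_injective)).mpr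
        (HasNormalPComplement.of_le ?_ hN)
      refine (le_normalizer_map L.subtype).trans ?_
      have hZL : Z ≤ L := by
        obtain ⟨A, hA'⟩ := hne
        exact (sInf_le hA').trans (hAL A hA')
      rw [map_subgroupOf_eq_of_le hZL]
  -- the quotient
  have hquo : HasNormalPComplement p (G ⧸ Q) := by
    set f := QuotientGroup.mk' Q with hf
    let Sb : Sylow p (G ⧸ Q) := S.mapSurjective (QuotientGroup.mk'_surjective _)
    have hcl : Cfsg.IsStronglyClosed (Sb : Subgroup (G ⧸ Q)) (Sb : Subgroup (G ⧸ Q)) :=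
      ⟨le_rfl, fun x _ g hg => hg⟩
    refine StronglyClosedZJ.hnc_of_core hp2 (dvd_zero p) _ _ rfl Sb _ hcl ?_
    set V := MaxAbelian.core 0 (Sb : Subgroup (G ⧸ Q)) with hV
    set L := (normalizer (V : Set (G ⧸ Q))).comap f with hLdef
    have hSL : (S : Subgroup G) ≤ L := by
      rw [hLdef, ← map_le_iff_le_comap, ← Sylow.coe_mapSurjective (QuotientGroup.mk'_surjective _) S]
      exact le_normalizer.trans (MaxAbelian.normalizer_le_normalizer_core 0 _)
    by_cases hSb : (Sb : Subgroup (G ⧸ Q)) = ⊥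
    · exfalso
      have hSQ : (S : Subgroup G) ≤ Q := by
        have : (S : Subgroup G).map f = ⊥ := hSb
        rwa [Subgroup.map_eq_bot_iff, QuotientGroup.ker_mk'] at this
      have hSn : (S : Subgroup G).Normal := le_antisymm hQS hSQ ▸ inferInstance
      refine hnn ⟨fun x hx g => ?_⟩
      obtain ⟨A, hA'⟩ := hne
      refine mem_sInf.2 fun B hB => ?_
      exact hinv S le_rfl ⟨A, hA', (hA A hA').1⟩ g
        (by rw [normalizer_eq_top_iff.mpr hSn]; exact mem_top g) x
        (fun C hC _ => mem_sInf.1 hx C hC) B hB (hA B hB).1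
    have hne' : L ≠ ⊤ := by
      intro e0
      have h0 : normalizer (V : Set (G ⧸ Q)) = ⊤ :=
        comap_injective (QuotientGroup.mk'_surjective _) (e0.trans (comap_top f).symm)
      have : V.Normal := normalizer_eq_top_iff.mp h0
      have hV0 : V = ⊥ := le_bot_iff.mp ((Cores.le_pCore (Sb.2.to_le (MaxAbelian.core_le 0 _))).trans
        (Cores.pCore_quotient_pCore).le)
      exact StronglyClosedZJ.core_ne_bot (dvd_zero p) Sb.2 hSb hV0
    have h1 := HasNormalPComplement.of_surjective (f.subgroupMap_surjective L) (hLS L hSL hne')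
    refine HasNormalPComplement.of_le ?_ h1
    rw [hLdef, map_comap_eq_self_of_surjective (QuotientGroup.mk'_surjective _)]
  have hK : pPrimeCore p G = ⊥ := by
    refine le_bot_iff.1 fun x hx => ?_
    have hKn : (pPrimeCore p G).Normal := inferInstance
    have hdis : Disjoint (pPrimeCore p G) Q := Subgroup.disjoint_of_coprime_natCard (by
      obtain ⟨a, ha⟩ := (Cores.isPGroup_pCore (p := p) (G := G)).exists_card_eq
      rw [show Nat.card Q = p ^ a from ha]
      exact Cores.coprime_card_pPrimeCore.pow_right a)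
    refine hdis.le_bot ⟨hx, hc fun y hy => ?_⟩
    exact (commute_of_normal_of_disjoint _ _ inferInstance hKn hdis.symm y x hy hx).eq
  obtain ⟨-, hco⟩ := constrained_coatom S hG hK hquo hLS
  let W : ∀ (Q : Type u) [Group Q], Subgroup Q := fun _ _ => ⊤
  have hSn : ¬ (inducedFunctor (G := G) W (S : Subgroup G)).Normal := by
    intro h
    have hS : inducedFunctor (G := G) W (S : Subgroup G) = S := by
      show (⊤ : Subgroup (S : Subgroup G)).map (S : Subgroup G).subtype = _
      rw [← MonoidHom.range_eq_map, range_subtype]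
    rw [hS] at h
    refine hnn ⟨fun x hx g => ?_⟩
    obtain ⟨A, hA'⟩ := hne
    refine mem_sInf.2 fun B hB => ?_
    exact hinv S le_rfl ⟨A, hA', (hA A hA').1⟩ g
      (by rw [normalizer_eq_top_iff.mpr h]; exact mem_top g) x
      (fun C hC _ => mem_sInf.1 hx C hC) B hB (hA B hB).1
  have hab := CriticalCase.abelianTwo_of_critical hp2 (W := W) (S := S) ⟨hc, hquo, hco, hSn⟩
  exact hnn (family_normal S hA hne hinv hrep
    (fun V _ hV => PLocal.StableNormal.of_abelianTwo hp2 hab V hV) hc)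

end Cfsg.Agent.CharP.FamilyCriterion
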