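import Cfsg.Agent.Lib.CharP.LocalControl

/-!
The local control statement for the Thompson subgroup generated by abelian subgroups of largest order.
-/

set_option autoImplicit false
set_option linter.unusedSectionVars false
set_option linter.style.haveILetI false

universe u

namespace Cfsg.Agent.CharP.LocalJ

open Cfsg Cfsg.Agent.Fusion.Basic Cfsg.Agent.CharP.LocalControl Cfsg.Agent.PLocal
open scoped commutatorElement

/-- The Thompson subgroup as a functor. -/
def J : ∀ (Q : Type u) [Group Q], Subgroup Q := fun Q _ => thompsonSubgroupA Q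

theorem Wof_J {G : Type u} [Group G] (R : Subgroup G) : Wof J.{u} R = thompsonSubgroupAOf R := rfl

variable {p : ℕ} [Fact p.Prime]

theorem isoInv_J : IsoInv.{u} p J := by
  intro Q R _ _ _ _ φ
  haveI : Finite R := Finite.of_equiv Q φ.toEquiv
  show (thompsonSubgroupA Q).map φ.toMonoidHom = thompsonSubgroupA R
  rw [thompsonSubgroupA, thompsonSubgroupA, ← MaxAbelian.family_top_zero,
    ← MaxAbelian.family_top_zero, ← Subgroup.map_top_of_surjective φ.toMonoidHom φ.surjective,
    MaxAbelian.family_map 0 (f := φ.toMonoidHom) φ.injective]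
  apply le_antisymm
  · rw [Subgroup.map_le_iff_le_comap]
    exact sSup_le fun A hA => Subgroup.map_le_iff_le_comap.mp (le_sSup ⟨A, hA, rfl⟩)
  · refine sSup_le ?_
    rintro _ ⟨A, hA, rfl⟩
    exact Subgroup.map_mono (le_sSup hA)

theorem center_le_J {Q : Type u} [Group Q] [Finite Q] : Subgroup.center Q ≤ J Q := by
  intro z hz
  obtain ⟨A, hA⟩ := MaxAbelian.family_nonempty 0 (⊤ : Subgroup Q)
  have hA' : A ∈ maxAbelianSubgroups Q := by rw [← MaxAbelian.family_top_zero (G := Q)]; exact hA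
  refine le_sSup (α := Subgroup Q) hA' ?_
  have hg : MaxAbelian.Good 0 (A ⊔ Subgroup.zpowers z) := by
    refine MaxAbelian.good_zero_iff.2 ?_
    rw [← Subgroup.le_centralizer_iff_isMulCommutative]
    have hc : ∀ a ∈ A, ∀ b ∈ A, b * a = a * b := fun a ha b hb => hA.2.1.1 b hb a ha
    refine sup_le ?_ ?_ <;> rw [Subgroup.le_centralizer_iff] <;> refine sup_le ?_ ?_
    · exact fun a ha b hb => hc a ha b hb
    · exact Subgroup.zpowers_le.2 fun b _ => Subgroup.mem_center_iff.1 hz b
    · exact fun a _ b hb => by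
        obtain ⟨k, rfl⟩ := hb
        exact ((Subgroup.mem_center_iff.1 ((Subgroup.center Q).zpow_mem hz k)) a).symm
    · exact Subgroup.zpowers_le.2 fun b _ => Subgroup.mem_center_iff.1 hz b
  have hcard := hA.2.2 _ le_top hg
  exact (Subgroup.eq_of_le_of_card_ge le_sup_left hcard).ge
    (Subgroup.mem_sup_right (Subgroup.mem_zpowers z))

/-- Abelian subgroups of largest order lie in the core when quadratic elements do. -/
theorem key_J (G : Type u) [Group G] [Finite G] (P : Sylow p G) (V : Subgroup G) (hVn : V.Normal)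
    (hVc : IsMulCommutative V) (hVQ : V ≤ pCore p G)
    (hquad : QuadIn (P : Subgroup G) (pCore p G) V)
    (hcent : ∀ v ∈ V, ∀ q ∈ pCore p G, q * v = v * q) : (Wof J (P : Subgroup G)).Normal := by
  classical
  haveI hQn : (pCore p G).Normal := Cores.pCore_normal p
  have hQP : pCore p G ≤ (P : Subgroup G) := Cores.pCore_le_sylow P
  have hle : ∀ A ∈ MaxAbelian.family 0 (P : Subgroup G), A ≤ pCore p G := by
    by_contra hcon
    push Not at hcon
    obtain ⟨A₀, hA₀, hA₀Q⟩ := hcon
    obtain ⟨A, ⟨hA, hAQ⟩, hmax⟩ := Set.exists_max_image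
      {A | A ∈ MaxAbelian.family 0 (P : Subgroup G) ∧ ¬ A ≤ pCore p G}
      (fun A => Nat.card ↥(A ⊓ V)) (Set.toFinite _) ⟨A₀, hA₀, hA₀Q⟩
    obtain ⟨hAP, hAg, hAmax⟩ := hA
    have hnn : ¬ V ≤ Subgroup.normalizer (A : Set G) := by
      intro hVA
      refine hAQ fun a ha => hquad a (hAP ha) fun v hv => ?_
      have h1 : a * v * a⁻¹ * v⁻¹ ∈ A := by
        rw [mul_assoc, mul_assoc, ← mul_assoc v]
        exact A.mul_mem ha ((Subgroup.mem_normalizer_iff.1 (hVA hv) a⁻¹).1 (A.inv_mem ha))
      exact hAg.1 a ha _ h1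
    have hVP : V ≤ (P : Subgroup G) := hVQ.trans hQP
    let B : Subgroup (P : Subgroup G) := V.subgroupOf P
    haveI hBn : B.Normal := hVn.subgroupOf _
    have hBc : IsMulCommutative B := ⟨⟨fun a b => Subtype.ext (Subtype.ext
      (show ((a : (P : Subgroup G)) : G) * (b : (P : Subgroup G)) = (b : (P : Subgroup G)) *
        (a : (P : Subgroup G)) from
        congrArg Subtype.val (hVc.is_comm.comm ⟨_, a.2⟩ ⟨_, b.2⟩)))⟩⟩
    let A' : Subgroup (P : Subgroup G) := A.subgroupOf P
    have hA'c : IsMulCommutative A' :=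
      ⟨⟨fun a b => Subtype.ext (Subtype.ext (hAg.1 _ a.2 _ b.2))⟩⟩
    have hBB : ⁅B, B⁆ ≤ A' := by
      rw [Subgroup.commutator_le]
      intro x hx y hy
      have : ⁅x, y⁆ = 1 := commutatorElement_eq_one_iff_mul_comm.2
        (congrArg Subtype.val (hBc.is_comm.comm ⟨x, hx⟩ ⟨y, hy⟩))
      rw [this]
      exact A'.one_mem
    have hnot : ¬ B ≤ Subgroup.normalizer (A' : Set (P : Subgroup G)) := by
      intro h
      refine hnn fun v hv => GlaubermanReplacement.mem_normalizer_of_conj_mem fun a ha => ?_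
      exact (Subgroup.mem_normalizer_iff.1 (h (show ⟨v, hVP hv⟩ ∈ B from hv))
        ⟨a, hAP ha⟩).1 ha
    obtain ⟨b, hb, hbN, hbA⟩ := S0649.result P.isPGroup' B (fun _ => hBc) A' hA'c hBB hnot
    obtain ⟨hcard, hscomm, -, hlt, -, -, hsN, -, -, -⟩ :=
      GlaubermanReplacement.replacement P.isPGroup' (fun _ => hBc) hA'c hBB hnot hb hbN hbA
    set A₂ := (GlaubermanReplacement.star A' b).map (P : Subgroup G).subtype with hA₂
    have hA₂P : A₂ ≤ (P : Subgroup G) := Subgroup.map_subtype_le _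
    have hA₂g : MaxAbelian.Good 0 A₂ := MaxAbelian.Good.map (MaxAbelian.good_zero_iff.2 hscomm) _
    have hA₂card : Nat.card A₂ = Nat.card A := by
      rw [hA₂, Subgroup.card_map_of_injective (P : Subgroup G).subtype_injective, hcard]
      exact Nat.card_congr (Subgroup.subgroupOfEquivOfLe hAP).toEquiv
    have hA₂f : A₂ ∈ MaxAbelian.family 0 (P : Subgroup G) :=
      ⟨hA₂P, hA₂g, fun C hC hCg => hA₂card ▸ hAmax C hC hCg⟩
    have hlt' : Nat.card ↥(A ⊓ V) < Nat.card ↥(A₂ ⊓ V) := by
      have h1 : A ⊓ V = (A' ⊓ B).map (P : Subgroup G).subtype := by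
        rw [Subgroup.map_inf _ _ _ (P : Subgroup G).subtype_injective,
          Subgroup.map_subgroupOf_eq_of_le hAP, Subgroup.map_subgroupOf_eq_of_le hVP]
      have h2 : A₂ ⊓ V = (GlaubermanReplacement.star A' b ⊓ B).map (P : Subgroup G).subtype := by
        rw [Subgroup.map_inf _ _ _ (P : Subgroup G).subtype_injective,
          Subgroup.map_subgroupOf_eq_of_le hVP]
      rw [h1, h2, Subgroup.card_map_of_injective (P : Subgroup G).subtype_injective,
        Subgroup.card_map_of_injective (P : Subgroup G).subtype_injective]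
      by_contra hge
      exact hlt.ne (Subgroup.eq_of_le_of_card_ge hlt.le (not_lt.1 hge))
    have hA₂Q : A₂ ≤ pCore p G := by
      by_contra h
      exact absurd (hmax A₂ ⟨hA₂f, h⟩) (not_le.2 hlt')
    -- `A₂` contains `V`
    have hg : MaxAbelian.Good 0 (A₂ ⊔ V) := by
      refine MaxAbelian.good_zero_iff.2 ?_
      rw [← Subgroup.le_centralizer_iff_isMulCommutative]
      refine sup_le ?_ ?_ <;> rw [Subgroup.le_centralizer_iff] <;> refine sup_le ?_ ?_
      · exact fun a ha c hc => hA₂g.1 c hc a ha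
      · exact fun v hv c hc => hcent v hv c (hA₂Q hc)
      · exact fun a ha v hv => (hcent v hv a (hA₂Q ha)).symm
      · exact fun v hv w hw => congrArg Subtype.val (hVc.is_comm.comm ⟨w, hw⟩ ⟨v, hv⟩)
    have hVA₂ : V ≤ A₂ := by
      have := Subgroup.eq_of_le_of_card_ge (le_sup_left : A₂ ≤ A₂ ⊔ V)
        (hA₂f.2.2 _ (sup_le hA₂P hVP) hg)
      rw [this]; exact le_sup_right
    refine hnot fun v hv => hsN ?_
    obtain ⟨w, hw, hwv⟩ := hVA₂ hv
    exact (Subtype.ext hwv : w = v) ▸ hw
  refine ⟨fun x hx g => ?_⟩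
  have hJ : Wof J (P : Subgroup G) = sSup (MaxAbelian.family 0 (P : Subgroup G)) :=
    ThompsonTransfer.ja_eq_sSup _
  rw [hJ] at hx ⊢
  suffices sSup (MaxAbelian.family 0 (P : Subgroup G)) ≤
      (sSup (MaxAbelian.family 0 (P : Subgroup G))).comap (MulAut.conj g).toMonoidHom from this hx
  refine sSup_le fun A hA => Subgroup.map_le_iff_le_comap.1 (le_sSup ?_)
  refine ⟨?_, hA.2.1.map _, fun C hC hCg => ?_⟩
  · rintro _ ⟨a, ha, rfl⟩
    exact hQP (hQn.conj_mem a (hle A hA ha) g)
  · rw [Subgroup.card_map_of_injective (MulAut.conj g).injective]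
    exact hA.2.2 C hC hCg

theorem local_J : Local.{u} p 1 J False :=
  local_of_quad isoInv_J fun G _ _ P V hVn hVc hVQ hcent _ hq => key_J G P V hVn hVc hVQ hq hcent

end Cfsg.Agent.CharP.LocalJ
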