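import Cfsg.Agent.Lib.CharP.ClimbingFree
import Cfsg.Agent.Lib.CharP.LocalJ
import Cfsg.Agent.Lib.CharP.InnerControl
import Cfsg.Agent.Lib.CharP.WeakClosureControl

/-!
The two local statements for the Thompson subgroup in groups that are free of the symmetric group of
degree four (or for odd `p`): inner control and control of central elements.
-/

set_option autoImplicit false
set_option linter.unusedSectionVars false
set_option linter.style.haveILetI false

universe u

namespace Cfsg.Agent.CharP.LocalThompson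

open Cfsg Cfsg.Agent.Fusion.Basic Cfsg.Agent.CharP.LocalControl Cfsg.Agent.CharP.ClimbingFree

variable {p : ℕ} [Fact p.Prime]

section

variable {G : Type u} [Group G] [Finite G]

/-- A group of characteristic `p` with a normal `p`-complement is a `p`-group. -/
theorem sylow_eq_top (hchar : Subgroup.centralizer ((pCore p G : Subgroup G) : Set G) ≤ pCore p G)
    (h : HasNormalPComplement p G) (P : Sylow p G) : (P : Subgroup G) = ⊤ := by
  obtain ⟨R, K, hKn, hK⟩ := h
  have hKcop : (Nat.card K).Coprime p := by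
    rw [Nat.coprime_comm, (Fact.out : p.Prime).coprime_iff_not_dvd]
    intro hd
    exact R.not_dvd_index (by rw [hK.index_eq_card]; exact hd)
  haveI hQn : (pCore p G).Normal := Cores.pCore_normal p
  have hdis : Disjoint K (pCore p G) := Subgroup.disjoint_of_coprime_natCard (by
    obtain ⟨a, ha⟩ := (Cores.pCore_isPGroup p).exists_card_eq (G := pCore p G)
    rw [ha]
    exact hKcop.pow_right a)
  have hKC : K ≤ Subgroup.centralizer ((pCore p G : Subgroup G) : Set G) := fun x hx y hy =>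
    (Subgroup.commute_of_normal_of_disjoint _ _ hQn hKn hdis.symm y x hy hx).eq
  have hKbot : K = ⊥ := le_bot_iff.1 (fun x hx => hdis.le_bot ⟨hx, hchar (hKC hx)⟩)
  have hR : (R : Subgroup G) = ⊤ := by
    have h1 := hK.sup_eq_top
    rwa [hKbot, bot_sup_eq] at h1
  obtain ⟨c, hc⟩ := MulAction.exists_smul_eq G R P
  refine eq_top_iff.2 fun x _ => ?_
  rw [← hc, Sylow.coe_subgroup_smul, hR, Subgroup.mem_pointwise_smul_iff_inv_smul_mem]
  trivial

/-- If the good conjugations are inner, a subgroup with good conjugations has a normal complement. -/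
theorem hnc_of_good {P : Sylow p G} {N₀ : Subgroup G} [N₀.Normal] (hN₀ : N₀ ≤ (P : Subgroup G))
    {M : Subgroup G} (hPM : (P : Subgroup G) ≤ M)
    (h : ∀ A g, InP (P : Subgroup G) A g → g ∈ M → N₀ ≤ A →
      ∃ s ∈ (P : Subgroup G), ∀ a ∈ A, g * a * g⁻¹ = s * a * s⁻¹) :
    HasNormalPComplement p M := by
  refine Transfer.Frobenius.hasNormalPComplement_of_condition
    (Transfer.Frobenius.Condition.of_sylow (P.subtype hPM) ?_)
  intro Q hQ g hgQ hord q hq
  let A : Subgroup G := Q.map M.subtype ⊔ N₀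
  have hQP : Q.map M.subtype ≤ (P : Subgroup G) := by
    rintro _ ⟨x, hx, rfl⟩
    exact hQ hx
  have hAg : ∀ a ∈ A, (g : G) * a * (g : G)⁻¹ ∈ A := by
    have : A ≤ A.comap (MulAut.conj (g : G)).toMonoidHom := by
      refine sup_le ?_ fun a ha => Subgroup.mem_sup_right (Subgroup.Normal.conj_mem ‹_› a ha g)
      rintro _ ⟨x, hx, rfl⟩
      exact Subgroup.mem_sup_left ⟨g * x * g⁻¹, (Subgroup.mem_normalizer_iff.1 hgQ x).1 hx, rfl⟩
    exact fun a ha => this ha
  have hAP : A ≤ (P : Subgroup G) := sup_le hQP hN₀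
  obtain ⟨s, hs, hse⟩ := h A g ⟨hAP, fun a ha => hAP (hAg a ha)⟩ g.2 le_sup_right
  have hiter : ∀ n : ℕ, ∀ a ∈ A, (g : G) ^ n * a * ((g : G) ^ n)⁻¹ = s ^ n * a * (s ^ n)⁻¹ ∧
      (g : G) ^ n * a * ((g : G) ^ n)⁻¹ ∈ A := by
    intro n
    induction n with
    | zero => intro a ha; exact ⟨by simp, by simpa using ha⟩
    | succ n ih =>
      intro a ha
      obtain ⟨h1, h2⟩ := ih a ha
      have e : (g : G) ^ (n + 1) * a * ((g : G) ^ (n + 1))⁻¹ =
          g * ((g : G) ^ n * a * ((g : G) ^ n)⁻¹) * (g : G)⁻¹ := by rw [pow_succ']; group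
      refine ⟨?_, e ▸ hAg _ h2⟩
      rw [e, hse _ h2, h1, pow_succ']
      group
  obtain ⟨k, hk⟩ := P.isPGroup' ⟨s, hs⟩
  have hk' : s ^ p ^ k = 1 := congrArg Subtype.val hk
  have hqA : (q : G) ∈ A := Subgroup.mem_sup_left ⟨q, hq, rfl⟩
  have h1 := (hiter (p ^ k) _ hqA).1
  rw [hk', one_mul, inv_one, mul_one, mul_inv_eq_iff_eq_mul] at h1
  obtain ⟨j, hj⟩ := exists_pow_eq_self_of_coprime (hord.pow_right k).symm
  have hcomm : Commute (((g : G) ^ p ^ k) ^ j) (q : G) :=
    (show Commute ((g : G) ^ p ^ k) (q : G) from h1).pow_left j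
  rw [show ((g : G) ^ p ^ k) ^ j = (g : G) from congrArg Subtype.val hj] at hcomm
  exact Subtype.ext hcomm.eq.symm

end

/-- Inner control by `C(Z(P))` and `N(J(P))`. -/
theorem local_inner {G : Type u} [Group G] [Finite G] (P : Sylow p G)
    (hchar : Subgroup.centralizer ((pCore p G : Subgroup G) : Set G) ≤ pCore p G)
    (halt : p ≠ 2 ∨ ¬ Involves (Equiv.Perm (Fin 4)) G) (U₀ N₀ : Subgroup G)
    (hU : U₀ ≤ powerClosure p 0 ((P : Subgroup G) ⊓ Subgroup.centralizer (P : Set G))) :
    ControlIn LocalJ.J.{u} False True U₀ N₀ (P : Subgroup G) := by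
  intro hN₀n hN₀ good _ hres hCp hNp _ hinn A g hA
  have hUZ : U₀ ≤ (P : Subgroup G) ⊓ Subgroup.centralizer (P : Set G) :=
    hU.trans (LocalControl.powerClosure_le 0 _)
  have hfixgood : ∀ B k, InP (P : Subgroup G) B k → (∀ u ∈ U₀, k * u * k⁻¹ = u) → good B k := by
    intro B k hB hk
    have hU0 : InP (P : Subgroup G) U₀ k := ⟨hUZ.trans inf_le_left,
      fun u hu => by rw [cj_apply, hk u hu]; exact (hUZ hu).1⟩
    exact hres _ _ _ le_sup_left (hB.sup hU0) (hCp _ _ (hB.sup hU0) le_sup_right hk)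
  have hJgood : ∀ B k, InP (P : Subgroup G) B k →
      k ∈ Subgroup.normalizer (Wof LocalJ.J.{u} (P : Subgroup G) : Set G) → good B k := by
    intro B k hB hk
    have hJ : InP (P : Subgroup G) (Wof LocalJ.J.{u} (P : Subgroup G)) k :=
      ⟨Wof_le _, fun a ha => Wof_le _ ((Subgroup.mem_normalizer_iff.1 hk a).1 ha)⟩
    exact hres _ _ _ le_sup_left (hB.sup hJ) (hNp _ _ (hB.sup hJ) le_sup_right hk)
  have hPJ : (P : Subgroup G) ≤ Subgroup.normalizer (Wof LocalJ.J.{u} (P : Subgroup G) : Set G) :=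
    Subgroup.le_normalizer.trans (normalizer_le_Wof LocalJ.isoInv_J P.isPGroup')
  have hG : HasNormalPComplement p G := by
    refine WeakClosureJ.hasNormalPComplement_of_controls P halt ?_ ?_
    · refine hnc_of_good hN₀ (fun s hs z hz => (hz.2 s hs).symm) fun B k hB hk hNB =>
        hinn trivial B k hB hNB (hfixgood B k hB fun u hu => ?_)
      rw [← hk u (hUZ hu), mul_inv_cancel_right]
    · exact hnc_of_good hN₀ hPJ fun B k hB hk hNB => hinn trivial B k hB hNB (hJgood B k hB hk)
  exact hJgood A g hA (hPJ (by rw [sylow_eq_top hchar hG P]; trivial))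

/-- Control of central elements by `N(J(P))`. -/
theorem local_center {G : Type u} [Group G] [Finite G] (P : Sylow p G)
    (hchar : Subgroup.centralizer ((pCore p G : Subgroup G) : Set G) ≤ pCore p G)
    (halt : p ≠ 2 ∨ ¬ Involves (Equiv.Perm (Fin 4)) G) (U₀ N₀ : Subgroup G)
    (hU : U₀ ≤ powerClosure p 0 ((P : Subgroup G) ⊓ Subgroup.centralizer (P : Set G))) :
    ControlIn LocalJ.J.{u} True False U₀ N₀ (P : Subgroup G) := by
  intro _ _ good _ hres hCp hNp hfix _ A g hA
  have hUZ : U₀ ≤ (P : Subgroup G) ⊓ Subgroup.centralizer (P : Set G) :=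
    hU.trans (LocalControl.powerClosure_le 0 _)
  have hUW : U₀ ≤ Wof LocalJ.J.{u} (P : Subgroup G) := fun u hu =>
    ⟨⟨u, (hUZ hu).1⟩, LocalJ.center_le_J (Subgroup.mem_center_iff.2 fun y =>
      Subtype.ext ((hUZ hu).2 y y.2)), rfl⟩
  haveI hQn : (pCore p G).Normal := Cores.pCore_normal p
  have hcen : ∀ u ∈ U₀, u ∈ Subgroup.center G := by
    intro u hu
    haveI : (Subgroup.centralizer ((pCore p G : Subgroup G) : Set G)).Normal :=
      Subgroup.normal_centralizer
    have huC : u ∈ Subgroup.centralizer ((pCore p G : Subgroup G) : Set G) :=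
      fun q hq => (hUZ hu).2 q (Cores.pCore_le_sylow P hq)
    refine WeakClosureJ.central_of_controls P
      (pCore p G ⊓ Subgroup.centralizer ((pCore p G : Subgroup G) : Set G))
      ((Cores.pCore_isPGroup p).to_le inf_le_left) (fun a ha b hb => hb.2 a ha.1)
      ⟨hchar huC, huC⟩ (fun t ht => (hUZ hu).2 t ht) (fun n hn => ?_) ?_
    · have hin : InP (P : Subgroup G) (Wof LocalJ.J (P : Subgroup G)) n :=
        ⟨Wof_le _, fun a ha => Wof_le _ ((Subgroup.mem_normalizer_iff.1 hn a).1 ha)⟩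
      exact Subgroup.mem_centralizer_singleton_iff.2
        (mul_inv_eq_iff_eq_mul.1 (hfix trivial _ _ hin hUW (hNp _ _ hin le_rfl hn) u hu))
    · exact halt.elim Or.inl fun h => Or.inr (Or.inr h)
  have hfixG : ∀ u ∈ U₀, g * u * g⁻¹ = u := fun u hu => by
    rw [Subgroup.mem_center_iff.1 (hcen u hu) g, mul_inv_cancel_right]
  have hU0 : InP (P : Subgroup G) U₀ g := ⟨hUZ.trans inf_le_left, fun u hu => by
    rw [cj_apply, hfixG u hu]; exact (hUZ hu).1⟩
  exact hres _ _ _ le_sup_left (hA.sup hU0) (hCp _ _ (hA.sup hU0) le_sup_right hfixG)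

end Cfsg.Agent.CharP.LocalThompson
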