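import Cfsg.Agent.Lib.CharP.FamilyCriterion
import Cfsg.Agent.Lib.CharP.LocalThompson
import Cfsg.Agent.Lib.Fusion.Normal

/-!
A system is inner iff the normalizer system of the intersection of a family with replacement is.
-/

set_option autoImplicit false
set_option linter.all false
set_option maxHeartbeats 1000000

universe u

namespace Cfsg.Agent.CharP.FamilyInner

open Cfsg Cfsg.FusionSystem Cfsg.Agent.Fusion.Basic Cfsg.Agent.Fusion.Saturation
  Cfsg.Agent.Fusion.Normal Cfsg.Agent.Fusion.CentricExt Cfsg.Agent.Fusion.KNormalizer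
  Cfsg.Agent.CharP.LocalControl Cfsg.Agent.CharP.Climbing Cfsg.Agent.CharP.InnerControl
  Cfsg.Agent.CharP.CharInner

variable {p : ℕ} [Fact p.Prime] {Ω : Type u} [Group Ω] {S : Subgroup Ω} [Finite S]

/-- The criterion. -/
theorem inner_iff (hS : IsPGroup p S) (F : FusionSystem S) (hF : F.IsSaturated p) (hp : p ≠ 2)
    (𝒜 : Set (Subgroup Ω)) (h𝒜 : ∀ A ∈ 𝒜, A ≤ S ∧ ∀ x ∈ A, ∀ y ∈ A, x * y = y * x)
    (hne : 𝒜.Nonempty)
    (hinv : ∀ Q : Subgroup Ω, Q ≤ S → (∃ A ∈ 𝒜, A ≤ Q) → ∀ α ∈ F.autGroup Q, ∀ x ∈ Q,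
      (∀ A ∈ 𝒜, A ≤ Q → x ∈ A) → ∀ A ∈ 𝒜, A ≤ Q → autFun α x ∈ A)
    (hrep : ∀ B : Subgroup Ω, B ≤ S → ⁅⁅B, B⁆, B⁆ = ⊥ → (∃ A ∈ 𝒜, ⁅B, B⁆ ≤ A ∧ ¬ B ≤ A) →
      ∃ A ∈ 𝒜, ⁅B, B⁆ ≤ A ∧ ¬ B ≤ A ∧ B ≤ Subgroup.normalizer (A : Set Ω))
    {I : Subgroup Ω} (hI : ∀ x, x ∈ I ↔ ∀ A ∈ 𝒜, x ∈ A) :
    (∀ P : Subgroup Ω, F.Hom P = (innerFusionSystem S).Hom P) ↔
      ∀ N : FusionSystem (normalizerIn S I), F.IsNormalizerSystem I N → ∀ P : Subgroup Ω,
        N.Hom P = (innerFusionSystem (normalizerIn S I)).Hom P := by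
  obtain ⟨A₀, hA₀⟩ := id hne
  have hIS : I ≤ S := fun x hx => (h𝒜 A₀ hA₀).1 ((hI x).1 hx A₀ hA₀)
  have hInorm : ∀ s ∈ S, s ∈ Subgroup.normalizer (I : Set Ω) := by
    intro s hs
    have : Finite I := finite_of_le hIS
    refine mem_normalizer_of_forall fun x hx => (hI _).2 fun A hA => ?_
    obtain ⟨α, hα, he⟩ := (isMap_cj (F := F) le_rfl hs).exists_aut
      (img_cj_eq_of_mem_normalizer (Subgroup.le_normalizer hs))
    have h1 := hinv S le_rfl ⟨A₀, hA₀, (h𝒜 A₀ hA₀).1⟩ α hα x (hIS hx)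
      (fun C hC _ => (hI x).1 hx C hC) A hA (h𝒜 A hA).1
    rwa [he x (hIS hx)] at h1
  constructor
  · intro h N hN P
    refine Set.ext fun φ => ⟨fun hφ => ?_, fun hφ => ?_⟩
    · obtain ⟨-, g, hg, hge, -⟩ := (isMap_normalizer_iff hN).1 (IsMap.of_hom hφ)
      have hm : φ ∈ (innerFusionSystem S).Hom P := h P ▸
        ((hg.restrict le_sup_left).congr hge).hom_mem fun x => (ext_apply φ x).symm
      obtain ⟨-, s, hs, hse⟩ := hm
      exact ⟨(N.le_of_mem hφ).1, s, ⟨hs, hInorm s hs⟩, hse⟩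
    · obtain ⟨hP, s, hs, hse⟩ := hφ
      exact (isMap_cj (F := N) hP hs).hom_mem fun x => hse x
  intro hN
  by_contra hcon
  have hnall : ¬ AllP p F := fun h => hcon fun P => by rw [h.eq_inner hS hF]
  obtain ⟨E, hEF, hEc, hEne⟩ := Sparse.exists_constrained hS hp hF hnall
  have hEs := hEc.1
  have hEFm : ∀ P f, IsMap E P f → IsMap F P f := fun P f hf => isMap_mono hEF hf
  set Q := E.core with hQdef
  have hQn : E.IsNormal Q := core_isNormal
  have hQS : Q ≤ S := hQn.1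
  have hQnorm : ∀ s ∈ S, s ∈ Subgroup.normalizer (Q : Set Ω) := fun s hs =>
    le_normalizer_of_stronglyClosed (normal_stronglyClosed hQn) hs
  have hQc : centralizerIn S Q ≤ Q := by
    obtain ⟨-, C, hCn, hCc⟩ := hEc
    have hle : C ≤ Q := le_core hCn
    exact fun x hx => hle (hCc.2 C (isConj_refl hCn.1) ⟨hx.1, fun y hy => hx.2 y (hle hy)⟩)
  have hQfn : E.IsFullyNormalized Q := fullyNormalized_of_top hQS hQnorm
  have hR := normalizerIn_eq_self hQnorm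
  set R := normalizerIn S Q with hRdef
  obtain ⟨G, _, hfinG, ι, T, ⟨hι, hT, hchar, -, hmodel, hmaps⟩, -⟩ :=
    LocalModel.exists_localModel.{u, u} hS hEs hQfn
  have hfinR : Finite R := finite_of_le normalizerIn_le
  have hRS : R ≤ S := normalizerIn_le
  have hSR : S ≤ R := hR.symm.le
  set push : Subgroup Ω → Subgroup G := fun A => (A.subgroupOf R).map ι with hpush
  set pull : Subgroup G → Subgroup Ω := fun U => (U.comap ι).map R.subtype with hpull
  have hmem : ∀ (A : Subgroup Ω) (r : R), ι r ∈ push A ↔ (r : Ω) ∈ A := fun A r =>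
    Subgroup.mem_map_iff_mem hι
  have hpullmem : ∀ (U : Subgroup G) (r : R), (r : Ω) ∈ pull U ↔ ι r ∈ U := fun U r =>
    Subgroup.mem_map_iff_mem R.subtype_injective
  have hpushT : ∀ A, push A ≤ (T : Subgroup G) := fun A => hT ▸ Subgroup.map_le_range ι _
  have hpullS : ∀ U, pull U ≤ S := fun U => (Subgroup.map_subtype_le _).trans hRS
  have hpushpull : ∀ A ∈ 𝒜, ∀ U : Subgroup G, push A ≤ U ↔ A ≤ pull U := by
    intro A hA U
    refine ⟨fun h a ha => (hpullmem U ⟨a, hSR ((h𝒜 A hA).1 ha)⟩).2 (h ((hmem A _).2 ha)), ?_⟩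
    rintro h _ ⟨r, hr, rfl⟩
    exact (hpullmem U r).1 (h hr)
  -- automorphisms induced by the group
  have haut : ∀ U : Subgroup G, U ≤ (T : Subgroup G) → ∀ g ∈ Subgroup.normalizer (U : Set G),
      ∃ α ∈ F.autGroup (pull U), ∀ r : R, ι r ∈ U →
        ∃ h : autFun α r ∈ R, ι ⟨autFun α r, h⟩ = g * ι r * g⁻¹ := by
    intro U hU g hg
    obtain ⟨f, hf, hfe⟩ := hmaps g U fun a ha =>
      hT ▸ hU ((Subgroup.mem_normalizer_iff.1 hg a).1 ha)
    have hfin : Finite (pull U) := finite_of_le (hpullS U)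
    have himg : img f (pull U) = pull U := by
      refine eq_of_le_card (img_le ?_) hf.card_img.ge
      rintro _ ⟨r, hr, rfl⟩
      obtain ⟨h1, h2⟩ := hfe r hr
      refine (hpullmem U ⟨_, h1⟩).2 ?_
      rw [h2]
      exact (Subgroup.mem_normalizer_iff.1 hg _).1 hr
    obtain ⟨α, hα, hαe⟩ := (hEFm _ _ hf).exists_aut himg
    refine ⟨α, hα, fun r hr => ?_⟩
    obtain ⟨h1, h2⟩ := hfe r hr
    have e1 : autFun α r = f r := hαe _ ((hpullmem U r).2 hr)
    exact ⟨e1 ▸ h1, by rw [← h2]; exact congrArg ι (Subtype.ext e1)⟩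
  have hnc : HasNormalPComplement p G := by
    refine FamilyCriterion.hnc_family hp _ G rfl T (push '' 𝒜) ?_ (hne.image _) ?_ ?_ hchar ?_
    · rintro _ ⟨A, hA, rfl⟩
      refine ⟨hpushT A, ?_⟩
      rintro _ ⟨x, hx, rfl⟩ _ ⟨y, hy, rfl⟩
      rw [← map_mul, ← map_mul,
        show x * y = y * x from Subtype.ext ((h𝒜 A hA).2 _ hx _ hy)]
    · rintro U hU ⟨_, ⟨A, hA, rfl⟩, hAU⟩ g hg x hx _ ⟨C, hC, rfl⟩ hCU
      obtain ⟨r, hr, rfl⟩ := hx (push A) ⟨A, hA, rfl⟩ hAU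
      obtain ⟨α, hα, hαe⟩ := haut U hU g hg
      obtain ⟨h1, h2⟩ := hαe r (hAU ((hmem A r).2 hr))
      rw [← h2]
      refine (hmem C ⟨_, h1⟩).2 (hinv (pull U) (hpullS U) ⟨A, hA, (hpushpull A hA U).1 hAU⟩ α hα r
        ((hpullmem U r).2 (hAU ((hmem A r).2 hr))) (fun D hD hDU => ?_) C hC
        ((hpushpull C hC U).1 hCU))
      exact (hmem D r).1 (hx _ ⟨D, hD, rfl⟩ ((hpushpull D hD U).2 hDU))
    · intro B hB hclass hex
      obtain ⟨_, ⟨A, hA, rfl⟩, hle, hnle⟩ := hex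
      have hB' : (B.comap ι).map ι = B := Subgroup.map_comap_eq_self (hT ▸ hB)
      set B₀ := B.comap ι with hB₀
      have hcomm : ⁅B, B⁆ = ⁅B₀, B₀⁆.map ι := by rw [Subgroup.map_commutator, hB']
      have hclass₀ : ⁅⁅B₀, B₀⁆, B₀⁆ = ⊥ := by
        refine Subgroup.map_injective hι ?_
        rw [Subgroup.map_commutator, ← hcomm, hB', hclass, Subgroup.map_bot]
      obtain ⟨C, hC, h1, h2, h3⟩ := hrep (pull B) (hpullS B)
        (by rw [hpull, ← Subgroup.map_commutator, ← Subgroup.map_commutator, hclass₀, Subgroup.map_bot])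
        ⟨A, hA, by
          rw [hpull, ← Subgroup.map_commutator]
          rintro _ ⟨r, hr, rfl⟩
          exact (hmem A r).1 (hle (hcomm ▸ Subgroup.mem_map_of_mem ι hr)),
          fun h => hnle fun b hb => by
            obtain ⟨r, hr, rfl⟩ := hB'.ge hb
            exact (hmem A r).2 (h ((hpullmem B r).2 hr))⟩
      refine ⟨_, ⟨C, hC, rfl⟩, ?_, fun h => h2 ?_, ?_⟩
      · rw [hcomm]
        rintro _ ⟨r, hr, rfl⟩
        refine (hmem C r).2 (h1 ?_)
        rw [hpull, ← Subgroup.map_commutator]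
        exact Subgroup.mem_map_of_mem _ hr
      · rintro _ ⟨r, hr, rfl⟩
        exact (hmem C r).1 (h hr)
      · rw [← hB']
        refine (Subgroup.map_mono (fun r hr => ?_)).trans (Subgroup.le_normalizer_map ι)
        refine Subgroup.mem_normalizer_iff.2 fun y => ?_
        exact Subgroup.mem_normalizer_iff.1 (h3 ((hpullmem B r).2 hr)) y
    · have hTN : (T : Subgroup G) ≤
          Subgroup.normalizer ((sInf (push '' 𝒜) : Subgroup G) : Set G) := by
        intro t ht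
        rw [hT] at ht
        obtain ⟨r, rfl⟩ := ht
        refine PLocal.GlaubermanReplacement.mem_normalizer_of_conj_mem fun x hx => ?_
        obtain ⟨y, hy, rfl⟩ := Subgroup.mem_sInf.1 hx (push A₀) ⟨A₀, hA₀, rfl⟩
        refine Subgroup.mem_sInf.2 ?_
        rintro _ ⟨C, hC, rfl⟩
        rw [← map_inv, ← map_mul, ← map_mul, hmem]
        have hyI : (y : Ω) ∈ I := (hI _).2 fun D hD =>
          (hmem D y).1 (Subgroup.mem_sInf.1 hx (push D) ⟨D, hD, rfl⟩)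
        exact (hI _).1 ((Subgroup.mem_normalizer_iff.1 (hInorm r (hRS r.2)) _).1 hyI) C hC
      refine LocalThompson.hnc_of_good (P := T) (N₀ := ⊥) bot_le hTN fun A g hAg hg _ => ?_
      set Z := (sInf (push '' 𝒜) : Subgroup G) with hZ
      have hZI : ∀ r : R, ι r ∈ Z ↔ (r : Ω) ∈ I := fun r => by
        rw [hI, hZ, Subgroup.mem_sInf]
        constructor
        · exact fun h D hD => (hmem D r).1 (h _ ⟨D, hD, rfl⟩)
        · rintro h _ ⟨D, hD, rfl⟩
          exact (hmem D r).2 (h D hD)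
      have hZT : Z ≤ (T : Subgroup G) := (sInf_le (Set.mem_image_of_mem push hA₀)).trans (hpushT A₀)
      have hAZ : A ⊔ Z ≤ ι.range.comap (MulAut.conj g).toMonoidHom :=
        sup_le (fun a ha => hT ▸ hAg.2 a ha)
          fun z hz => hT ▸ hZT ((Subgroup.mem_normalizer_iff.1 hg z).1 hz)
      obtain ⟨f, hf, hfe⟩ := hmaps g (A ⊔ Z) fun a ha => hAZ ha
      have hID : I ≤ pull (A ⊔ Z) := fun x hx =>
        (hpullmem _ ⟨x, hSR (hIS hx)⟩).2 (Subgroup.mem_sup_right ((hZI _).2 hx))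
      have hfI : img f I = I := by
        have : Finite I := finite_of_le hIS
        refine eq_of_le_card (img_le fun x hx => ?_) (hf.restrict hID).card_img.ge
        obtain ⟨h1, h2⟩ := hfe ⟨x, hSR (hIS hx)⟩ (Subgroup.mem_sup_right ((hZI _).2 hx))
        refine (hZI ⟨_, h1⟩).1 ?_
        rw [h2]
        exact (Subgroup.mem_normalizer_iff.1 hg _).1 ((hZI _).2 hx)
      obtain ⟨N, hNs⟩ := exists_normalizerSystem (F := F) hIS
      have hfN : IsMap N (pull (A ⊔ Z)) f := (isMap_normalizer_iff hNs).2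
        ⟨fun x hx => ⟨hpullS _ hx, hInorm x (hpullS _ hx)⟩, f,
          by rw [sup_eq_left.2 hID]; exact hEFm _ _ hf, fun _ _ => rfl, hfI⟩
      obtain ⟨φ, hφ, hφe⟩ := hfN
      rw [hN N hNs] at hφ
      obtain ⟨-, s, hs, hse⟩ := hφ
      refine ⟨ι ⟨s, hSR hs.1⟩, hT ▸ ⟨_, rfl⟩, fun a ha => ?_⟩
      obtain ⟨r, hr⟩ := (hT ▸ hAg.1 ha : a ∈ ι.range)
      subst hr
      have hra : (r : Ω) ∈ pull (A ⊔ Z) := (hpullmem _ r).2 (Subgroup.mem_sup_left ha)
      obtain ⟨h1, h2⟩ := hfe r (Subgroup.mem_sup_left ha)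
      rw [← h2, ← map_inv, ← map_mul, ← map_mul]
      refine congrArg ι (Subtype.ext ?_)
      show f (r : Ω) = s * r * s⁻¹
      rw [← hse ⟨r, hra⟩]
      exact (hφe ⟨r, hra⟩).symm
  have hTtop := LocalThompson.sylow_eq_top hchar hnc T
  refine hEne ((allP_inner hS).of_maps (fun P f hf => ?_) le_rfl)
  obtain ⟨g, hg, hge, hgQ⟩ := (isNormal_iff.1 hQn).2 P f hf
  have hX : Q ⊔ centralizerIn S Q = Q := sup_eq_left.2 hQc
  have hPQR : P ⊔ Q ≤ R := hg.le.trans hSR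
  obtain ⟨g₀, hg₀⟩ := hmodel (P ⊔ Q) g hg (hX.le.trans le_sup_right) hPQR hgQ (hX.symm ▸ hgQ)
  obtain ⟨r, rfl⟩ : g₀ ∈ ι.range := by rw [← hT, hTtop]; exact Subgroup.mem_top _
  refine (isMap_cj (F := innerFusionSystem S) hf.le (hRS r.2)).congr fun x hx => ?_
  obtain ⟨h1, h2⟩ := hg₀ ⟨x, hPQR (Subgroup.mem_sup_left hx)⟩ (Subgroup.mem_sup_left hx)
  rw [← map_inv, ← map_mul, ← map_mul] at h2
  rw [cj_apply, ← hge x hx]
  exact (congrArg Subtype.val (hι h2)).symm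

end Cfsg.Agent.CharP.FamilyInner
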