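import Cfsg.Agent.Lib.PGroups.UniqueSubgroup
import Cfsg.Agent.Lib.Coprime.Generation
import Cfsg.Agent.Lib.Perm.AutQuaternion
import Cfsg.Agent.Lib.Cores.Nilpotent
import Cfsg.Agent.Lib.Cores.Basic
import Cfsg.Agent.Lib.CharP.Basic
import Cfsg.Agent.BlocksChars.GagolaSolvable
import Cfsg.Prelude.Def_Transfer

/-! A 2-group with an elementary group of automorphisms of odd order having few fixed involutions. -/

set_option autoImplicit false

namespace Cfsg.FewFixed

open Subgroup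
open scoped commutatorElement

variable {W : Type*} [Group W]

/-- fixed points of an automorphism -/
def fixOf (e : MulAut W) : Subgroup W := MonoidHom.eqLocus e.toMonoidHom (MonoidHom.id W)

theorem mem_fixOf {e : MulAut W} {x : W} : x ∈ fixOf e ↔ e x = x := Iff.rfl

/-- automorphisms fixing `Q` pointwise, inside `E` -/
def fixing (E : Subgroup (MulAut W)) (Q : Subgroup W) : Subgroup (MulAut W) where
  carrier := {f | f ∈ E ∧ ∀ x ∈ Q, f x = x}
  one_mem' := ⟨one_mem E, fun _ _ => rfl⟩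
  mul_mem' := fun {a b} ha hb => ⟨mul_mem ha.1 hb.1, fun x hx => by
    rw [MulAut.mul_apply, hb.2 x hx, ha.2 x hx]⟩
  inv_mem' := fun {a} ha => ⟨inv_mem ha.1, fun x hx => by
    have h := congrArg (⇑a⁻¹) (ha.2 x hx)
    rwa [MulAut.inv_apply_self, eq_comm] at h⟩

/-- restriction to the fixed points of an element -/
def restr (E : Subgroup (MulAut W)) [IsMulCommutative ↥E] (e : ↥E) :
    ↥E →* MulAut ↥(fixOf (e : MulAut W)) :=
  have hm : ∀ (f : ↥E) (x : W), x ∈ fixOf (e : MulAut W) → (f : MulAut W) x ∈ fixOf (e : MulAut W) := by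
    intro f x hx
    have h : (e : MulAut W) * (f : MulAut W) = (f : MulAut W) * (e : MulAut W) :=
      congrArg Subtype.val (IsMulCommutative.is_comm.comm e f)
    show (e : MulAut W) ((f : MulAut W) x) = (f : MulAut W) x
    rw [← MulAut.mul_apply, h, MulAut.mul_apply, mem_fixOf.1 hx]
  MonoidHom.mk'
    (fun f =>
      { toFun := fun x => ⟨(f : MulAut W) x, hm f x x.2⟩
        invFun := fun x => ⟨((f⁻¹ : ↥E) : MulAut W) x, hm f⁻¹ x x.2⟩
        left_inv := fun x => Subtype.ext (by simp)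
        right_inv := fun x => Subtype.ext (by simp)
        map_mul' := fun a b => Subtype.ext (map_mul (f : MulAut W) _ _) })
    (fun a b => MulEquiv.ext fun x => Subtype.ext rfl)

theorem restr_apply (E : Subgroup (MulAut W)) [IsMulCommutative ↥E] (e f : ↥E)
    (x : ↥(fixOf (e : MulAut W))) : ((restr E e f) x : W) = (f : MulAut W) x := rfl

/-- Generation by fixed points. -/
theorem le_closure_fixed [Finite W] (E : Subgroup (MulAut W)) [IsMulCommutative ↥E]
    (hnc : ¬ IsCyclic ↥E) (hcop : (Nat.card E).Coprime (Nat.card W))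
    (K : Subgroup W) (hK : ∀ f ∈ E, ∀ x ∈ K, f x ∈ K) :
    K ≤ Subgroup.closure {y | y ∈ K ∧ ∃ e ∈ E, e ≠ 1 ∧ e y = y} := by
  haveI : Finite (MulAut W) := Finite.of_injective (fun (f : MulAut W) => (f : W → W))
    (fun a b h => MulEquiv.ext (congrFun h))
  set inl : W →* SemidirectProduct W ↥E E.subtype := SemidirectProduct.inl
  set inr : ↥E →* SemidirectProduct W ↥E E.subtype := SemidirectProduct.inr
  haveI : Finite (SemidirectProduct W ↥E E.subtype) :=
    Finite.of_equiv _ SemidirectProduct.equivProd.symm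
  set A := inr.range
  set K' := K.map inl with hK'
  haveI : IsMulCommutative ↥A := ⟨⟨fun a b => by
    obtain ⟨a', ha⟩ := a.2
    obtain ⟨b', hb⟩ := b.2
    apply Subtype.ext
    rw [Subgroup.coe_mul, Subgroup.coe_mul, ← ha, ← hb, ← map_mul, ← map_mul,
      IsMulCommutative.is_comm.comm a' b']⟩⟩
  have hA : ¬ IsCyclic ↥A := fun h => hnc
    ((MonoidHom.ofInjective (f := inr) SemidirectProduct.inr_injective).isCyclic.2 h)
  have hAK : A ≤ Subgroup.normalizer (K' : Set _) := by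
    rw [Subgroup.le_normalizer_iff]
    rintro _ ⟨f, rfl⟩ _ ⟨x, hx, rfl⟩
    refine ⟨(f : MulAut W) x, hK f f.2 x hx, ?_⟩
    show SemidirectProduct.inl (E.subtype f x) = SemidirectProduct.inr f * SemidirectProduct.inl x * (SemidirectProduct.inr f)⁻¹
    rw [SemidirectProduct.inl_aut, map_inv]
  have hcop' : (Nat.card A).Coprime (Nat.card K') := by
    rw [Nat.card_congr (MonoidHom.ofInjective (f := inr) SemidirectProduct.inr_injective).symm.toEquiv,
      Subgroup.card_map_of_injective SemidirectProduct.inl_injective]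
    exact hcop.coprime_dvd_right (Subgroup.card_subgroup_dvd_card K)
  have hgen := Cfsg.Agent.Coprime.fixedGen_eq (A := A) (K := K') hA hAK hcop'
  have hle : K' ≤ (Subgroup.closure {y | y ∈ K ∧ ∃ e ∈ E, e ≠ 1 ∧ e y = y}).map inl := by
    rw [← hgen]
    refine iSup₂_le ?_
    rintro a ⟨⟨f, rfl⟩, ha1⟩ g ⟨⟨y, hy, rfl⟩, hc⟩
    refine ⟨y, Subgroup.subset_closure ⟨hy, f, f.2, ?_, ?_⟩, rfl⟩
    · intro h
      exact ha1 (by rw [show f = 1 from Subtype.ext h, map_one])
    · have h := Subgroup.mem_centralizer_iff.1 hc (inr f) (Set.mem_singleton _)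
      have h2 : inl ((f : MulAut W) y) = inl y := by
        show SemidirectProduct.inl (E.subtype f y) = _
        rw [SemidirectProduct.inl_aut, map_inv]
        exact mul_inv_eq_iff_eq_mul.2 h
      exact SemidirectProduct.inl_injective h2
  exact (Subgroup.map_le_map_iff_of_injective SemidirectProduct.inl_injective).1 hle

theorem q8_sq : ∀ x : QuaternionGroup 2, x * x = 1 ∨ x * x = .a 2 := by decide +kernel
theorem q8_centre : ∀ x : QuaternionGroup 2, (∀ y, x * y = y * x) → x = 1 ∨ x = .a 2 := by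
  decide +kernel
theorem q8_comm : ∀ x y : QuaternionGroup 2, x * y * x⁻¹ * y⁻¹ = 1 ∨ x * y * x⁻¹ * y⁻¹ = .a 2 := by
  decide +kernel
theorem q8_noncomm : ∃ x y : QuaternionGroup 2, x * y ≠ y * x := by decide +kernel
theorem q8_coset : ∀ x : QuaternionGroup 2, x ≠ 1 → x ≠ .a 2 → ∀ y u : QuaternionGroup 2,
    (y ≠ 1 ∧ y ≠ x ∧ y ≠ .a 2 ∧ y ≠ x * .a 2) → (u ≠ 1 ∧ u ≠ x ∧ u ≠ .a 2 ∧ u ≠ x * .a 2) →
    y⁻¹ * u = 1 ∨ y⁻¹ * u = x ∨ y⁻¹ * u = .a 2 ∨ y⁻¹ * u = x * .a 2 := by decide +kernel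
theorem q8_gen : ∀ x u : QuaternionGroup 2, x ≠ 1 → x ≠ .a 2 →
    (u ≠ 1 ∧ u ≠ x ∧ u ≠ .a 2 ∧ u ≠ x * .a 2) → ∀ y : QuaternionGroup 2,
    y = 1 ∨ y = .a 2 ∨ y = x ∨ y = x * .a 2 ∨ y = u ∨ y = u * .a 2 ∨ y = x * u ∨ y = x * u * .a 2 := by
  decide +kernel
theorem q8_pow4 : ∀ x : QuaternionGroup 2, x * x * x * x = 1 := by decide +kernel

theorem fix_dichotomy [Finite W] (hW : IsPGroup 2 W) {p : ℕ} [Fact p.Prime] (hp : p ≠ 2)
    (E : Subgroup (MulAut W)) [IsMulCommutative ↥E] (hE : IsPGroup p ↥E) (e : ↥E)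
    (huniq : ∀ x y : W, (e : MulAut W) x = x → (e : MulAut W) y = y → x * x = 1 → y * y = 1 →
      x ≠ 1 → y ≠ 1 → x = y) :
    (∀ f : ↥E, restr E e f = 1) ∨
      (p = 3 ∧ Nonempty (↥(fixOf (e : MulAut W)) ≃* QuaternionGroup 2) ∧
        ∀ f : ↥E, restr E e f ^ 3 = 1) := by
  haveI : Fact (Nat.Prime 2) := ⟨Nat.prime_two⟩
  have hC2 : IsPGroup 2 ↥(fixOf (e : MulAut W)) := hW.to_subgroup _
  have htriv : IsPGroup 2 (MulAut ↥(fixOf (e : MulAut W))) → ∀ f : ↥E, restr E e f = 1 := by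
    intro h f
    obtain ⟨a, ha⟩ := hE f
    obtain ⟨b, hb⟩ := h (restr E e f)
    have h1 : orderOf (restr E e f) ∣ p ^ a :=
      orderOf_dvd_of_pow_eq_one (by rw [← map_pow, ha, map_one])
    have h2 : orderOf (restr E e f) ∣ 2 ^ b := orderOf_dvd_of_pow_eq_one hb
    exact orderOf_eq_one_iff.1 (Nat.eq_one_of_dvd_coprimes
      (((Nat.coprime_primes Fact.out Nat.prime_two).2 hp).pow a b) h1 h2)
  have hu : ∀ H K : Subgroup ↥(fixOf (e : MulAut W)), Nat.card H = 2 → Nat.card K = 2 → H = K := by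
    intro H K hH hK
    haveI : Nontrivial ↥H := Finite.one_lt_card_iff_nontrivial.1 (by omega)
    haveI : Nontrivial ↥K := Finite.one_lt_card_iff_nontrivial.1 (by omega)
    obtain ⟨h, hh⟩ := exists_ne (1 : ↥H)
    obtain ⟨k, hk⟩ := exists_ne (1 : ↥K)
    have hh2 : h * h = 1 := by rw [← pow_two, ← hH]; exact pow_card_eq_one'
    have hk2 : k * k = 1 := by rw [← pow_two, ← hK]; exact pow_card_eq_one'
    have he : (h : ↥(fixOf (e : MulAut W))) = k := Subtype.ext (huniq _ _ h.1.2 k.1.2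
      (by simpa using congrArg (fun q : ↥H => ((q : ↥(fixOf (e : MulAut W))) : W)) hh2)
      (by simpa using congrArg (fun q : ↥K => ((q : ↥(fixOf (e : MulAut W))) : W)) hk2)
      (fun e1 => hh (Subtype.ext (Subtype.ext e1))) (fun e1 => hk (Subtype.ext (Subtype.ext e1))))
    have hH' : zpowers (h : ↥(fixOf (e : MulAut W))) = H := by
      refine eq_of_le_of_card_ge (zpowers_le.2 h.2) ?_
      rw [hH, Nat.card_zpowers, orderOf_eq_prime (by rw [pow_two]; exact congrArg Subtype.val hh2)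
        (fun e1 => hh (Subtype.ext e1))]
    have hK' : zpowers (k : ↥(fixOf (e : MulAut W))) = K := by
      refine eq_of_le_of_card_ge (zpowers_le.2 k.2) ?_
      rw [hK, Nat.card_zpowers, orderOf_eq_prime (by rw [pow_two]; exact congrArg Subtype.val hk2)
        (fun e1 => hk (Subtype.ext e1))]
    rw [← hH', ← hK', he]
  rcases Cfsg.Agent.PGroups.UniqueSubgroup.isCyclic_or_quaternion hC2 hu with hc | ⟨-, n, ⟨φ⟩⟩
  · haveI := hc
    exact Or.inl (htriv (Cfsg.Agent.InvChar.Solvable.isPGroup_mulAut_of_isCyclic hC2))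
  rcases n with _ | _ | n
  · haveI : IsCyclic ↥(fixOf (e : MulAut W)) := by
      have : IsCyclic (QuaternionGroup (2 ^ 0)) := QuaternionGroup.quaternionGroup_one_isCyclic
      exact φ.isCyclic.2 this
    exact Or.inl (htriv (Cfsg.Agent.InvChar.Solvable.isPGroup_mulAut_of_isCyclic hC2))
  · by_cases h : ∀ f : ↥E, restr E e f = 1
    · exact Or.inl h
    push Not at h
    obtain ⟨f, hf⟩ := h
    have hcard : Nat.card (MulAut ↥(fixOf (e : MulAut W))) = 24 := by
      rw [← Cfsg.Agent.Perm.AutQuaternion.natCard_mulAut]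
      exact Nat.card_congr (MulAut.congr φ).toEquiv
    haveI : Finite (MulAut ↥(fixOf (e : MulAut W))) :=
      Nat.finite_of_card_ne_zero (by rw [hcard]; norm_num)
    have hp3 : p = 3 := by
      obtain ⟨a, ha⟩ := hE f
      obtain ⟨k, -, hk⟩ := (Nat.dvd_prime_pow Fact.out).1
        (orderOf_dvd_of_pow_eq_one (show restr E e f ^ p ^ a = 1 by rw [← map_pow, ha, map_one]))
      have hk0 : k ≠ 0 := by
        rintro rfl
        exact hf (orderOf_eq_one_iff.1 (by simpa using hk))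
      have hd : p ∣ 2 ^ 3 * 3 := by
        rw [show 2 ^ 3 * 3 = 24 from rfl, ← hcard]
        exact ((dvd_pow_self p hk0).trans hk.symm.dvd).trans (orderOf_dvd_natCard _)
      rcases (Nat.Prime.dvd_mul Fact.out).1 hd with h | h
      · exact absurd ((Nat.prime_dvd_prime_iff_eq Fact.out Nat.prime_two).1
          ((Fact.out : p.Prime).dvd_of_dvd_pow h)) hp
      · exact (Nat.prime_dvd_prime_iff_eq Fact.out Nat.prime_three).1 h
    subst hp3
    refine Or.inr ⟨rfl, ⟨φ⟩, fun g => ?_⟩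
    obtain ⟨a, ha⟩ := hE g
    obtain ⟨k, -, hk⟩ := (Nat.dvd_prime_pow Fact.out).1
      (orderOf_dvd_of_pow_eq_one (show restr E e g ^ 3 ^ a = 1 by rw [← map_pow, ha, map_one]))
    have hd : 3 ^ k ∣ 24 := by rw [← hk, ← hcard]; exact orderOf_dvd_natCard _
    have hk1 : k ≤ 1 := by
      by_contra hlt
      have := (pow_dvd_pow 3 (show 2 ≤ k by omega)).trans hd
      norm_num at this
    exact orderOf_dvd_iff_pow_eq_one.1 (hk.dvd.trans (by
      simpa using pow_dvd_pow 3 hk1))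
  · refine Or.inl (htriv ?_)
    exact (Cfsg.Agent.BlocksChars.GagolaSolvable.isPGroup_mulAut_quaternion
      (show 2 ≤ n + 1 + 1 by omega)).of_equiv (MulAut.congr φ).symm

theorem main [Finite W] (hW : IsPGroup 2 W) {p : ℕ} [Fact p.Prime] (hp : p ≠ 2)
    (E : Subgroup (MulAut W)) [IsMulCommutative ↥E] (hE : IsPGroup p ↥E) (hnc : ¬ IsCyclic ↥E)
    (hfix : ∀ e ∈ E, e ≠ 1 → ∀ x y : W, orderOf x = 2 → orderOf y = 2 → e x = x → e y = y → x = y) :
    Nat.card ↥E = 9 ∧ Cfsg.IsExtraspecial 2 W ∧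
      (Nat.card W = 2 ^ 5 ∨ Nat.card W = 2 ^ 7 ∨ Nat.card W = 2 ^ 9) ∧
      {x : W | ∀ e ∈ E, e x = x} = (Subgroup.center W : Set W) := by
  classical
  haveI : Fact (Nat.Prime 2) := ⟨Nat.prime_two⟩
  haveI : Finite (MulAut W) := Finite.of_injective (fun (f : MulAut W) => (f : W → W))
    (fun a b h => MulEquiv.ext (congrFun h))
  haveI : Group.IsNilpotent W := hW.isNilpotent
  have hcop : (Nat.card E).Coprime (Nat.card W) := by
    obtain ⟨a, ha⟩ := IsPGroup.iff_card.1 hE
    obtain ⟨b, hb⟩ := IsPGroup.iff_card.1 hW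
    rw [ha, hb]
    exact ((Nat.coprime_primes Fact.out Nat.prime_two).2 hp).pow a b
  have hu : ∀ e : ↥E, e ≠ 1 → ∀ x y : W, (e : MulAut W) x = x → (e : MulAut W) y = y → x * x = 1 →
      y * y = 1 → x ≠ 1 → y ≠ 1 → x = y := fun e he x y hx hy hxx hyy hx1 hy1 =>
    hfix e e.2 (fun h => he (Subtype.ext h)) x y (orderOf_eq_prime (by rw [pow_two, hxx]) hx1)
      (orderOf_eq_prime (by rw [pow_two, hyy]) hy1) hx hy
  have hdich := fun (e : ↥E) (he : e ≠ 1) => fix_dichotomy hW hp E hE e (hu e he)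
  have gen := le_closure_fixed E hnc hcop
  let Moved : ↥E → Prop := fun e => e ≠ 1 ∧ ¬ ∀ f : ↥E, restr E e f = 1
  have hsome : ∃ e, Moved e := by
    by_contra hno
    push Not at hno
    apply hnc
    have hbot : E = ⊥ := by
      refine (Subgroup.eq_bot_iff_forall _).2 fun g hg => MulEquiv.ext fun x => ?_
      have hx := gen ⊤ (fun _ _ _ _ => mem_top _) (mem_top x)
      refine (closure_le (fixOf g)).2 ?_ hx
      rintro y ⟨-, f, hf, hf1, hfy⟩
      have h2 : restr E ⟨f, hf⟩ ⟨g, hg⟩ = 1 := by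
        by_contra h2
        exact hno ⟨f, hf⟩ ⟨fun h => hf1 (congrArg Subtype.val h), fun hall => h2 (hall _)⟩
      exact congrArg Subtype.val (DFunLike.congr_fun h2 ⟨y, hfy⟩)
    subst hbot
    infer_instance
  obtain ⟨e0, he0⟩ := hsome
  obtain ⟨hp3, ⟨φ0⟩, -⟩ := (hdich e0 he0.1).resolve_left he0.2
  subst hp3
  set z : W := Subtype.val (φ0.symm (.a 2)) with hz
  have hzz : z * z = 1 := by
    rw [hz, ← Subgroup.coe_mul, ← map_mul,
      show QuaternionGroup.a 2 * QuaternionGroup.a 2 = (1 : QuaternionGroup 2) from by decide,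
      map_one, Subgroup.coe_one]
  have hz1 : z ≠ 1 := by
    intro h
    have h2 : φ0.symm (.a 2) = 1 := Subtype.ext h
    exact absurd ((MulEquiv.map_eq_one_iff φ0.symm).1 h2) (by decide)
  have hzfix : ∀ f : ↥E, (f : MulAut W) z = z := fun f =>
    hu e0 he0.1 _ _ (restr E e0 f (φ0.symm (.a 2))).2 (φ0.symm (.a 2)).2
      (by rw [← map_mul, hzz, map_one]) hzz
      (fun h => hz1 ((MulEquiv.map_eq_one_iff (f : MulAut W)).1 h)) hz1
  have hinv : ∀ e : ↥E, e ≠ 1 → ∀ x, (e : MulAut W) x = x → x * x = 1 → x = 1 ∨ x = z :=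
    fun e he x hx hxx => or_iff_not_imp_left.2 fun h => hu e he x z hx (hzfix e) hxx hzz h hz1
  have hzi : z⁻¹ = z := inv_eq_of_mul_eq_one_right hzz
  -- facts about the moved fixed-point subgroups
  have facts : ∀ e, Moved e → ∃ φ : ↥(fixOf (e : MulAut W)) ≃* QuaternionGroup 2,
      φ ⟨z, hzfix e⟩ = .a 2 ∧ ∀ f : ↥E, restr E e f ^ 3 = 1 := by
    intro e he
    obtain ⟨-, ⟨φ⟩, h3⟩ := (hdich e he.1).resolve_left he.2
    refine ⟨φ, Cfsg.Agent.Perm.AutQuaternion.two_unique _ ?_ ?_, h3⟩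
    · rw [← map_mul, show (⟨z, hzfix e⟩ : ↥(fixOf (e : MulAut W))) * ⟨z, hzfix e⟩ = 1 from
        Subtype.ext hzz, map_one]
    · intro h
      exact hz1 (congrArg Subtype.val ((MulEquiv.map_eq_one_iff φ).1 h))
  -- transport helper
  have two : ∀ (e : ↥E) (φ : ↥(fixOf (e : MulAut W)) ≃* QuaternionGroup 2),
      φ ⟨z, hzfix e⟩ = .a 2 → ∀ x : ↥(fixOf (e : MulAut W)),
      (φ x = 1 ∨ φ x = .a 2) ↔ ((x : W) = 1 ∨ (x : W) = z) := by
    intro e φ hφ x
    constructor
    · rintro (h | h)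
      · exact Or.inl (congrArg Subtype.val ((MulEquiv.map_eq_one_iff φ).1 h))
      · exact Or.inr (congrArg Subtype.val (φ.injective (h.trans hφ.symm)))
    · rintro (h | h)
      · left; rw [show x = 1 from Subtype.ext h, map_one]
      · right; rw [show x = ⟨z, hzfix e⟩ from Subtype.ext h, hφ]
  have Qcard : ∀ e, Moved e → Nat.card ↥(fixOf (e : MulAut W)) = 8 := fun e he => by
    obtain ⟨φ, -, -⟩ := facts e he
    rw [Nat.card_congr φ.toEquiv, Nat.card_eq_fintype_card]; rfl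
  have Qsq : ∀ e, Moved e → ∀ x ∈ fixOf (e : MulAut W), x * x = 1 ∨ x * x = z := fun e he x hx => by
    obtain ⟨φ, hφ, -⟩ := facts e he
    exact (two e φ hφ (⟨x, hx⟩ * ⟨x, hx⟩)).1 (by rw [map_mul]; exact q8_sq _)
  have Qcomm : ∀ e, Moved e → ∀ x ∈ fixOf (e : MulAut W), ∀ y ∈ fixOf (e : MulAut W),
      x * y * x⁻¹ * y⁻¹ = 1 ∨ x * y * x⁻¹ * y⁻¹ = z := fun e he x hx y hy => by
    obtain ⟨φ, hφ, -⟩ := facts e he
    exact (two e φ hφ (⟨x, hx⟩ * ⟨y, hy⟩ * ⟨x, hx⟩⁻¹ * ⟨y, hy⟩⁻¹)).1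
      (by simp only [map_mul, map_inv]; exact q8_comm _ _)
  have Qz : ∀ e, Moved e → ∀ x ∈ fixOf (e : MulAut W), z * x = x * z := fun e he x hx => by
    obtain ⟨φ, hφ, -⟩ := facts e he
    refine congrArg Subtype.val (φ.injective (a₁ := ⟨z, hzfix e⟩ * ⟨x, hx⟩) (a₂ := ⟨x, hx⟩ * ⟨z, hzfix e⟩) ?_)
    rw [map_mul, map_mul, hφ]
    exact (show ∀ q : QuaternionGroup 2, .a 2 * q = q * .a 2 by decide) _
  have Qcentre : ∀ e, Moved e → ∀ x ∈ fixOf (e : MulAut W),
      (∀ y ∈ fixOf (e : MulAut W), x * y = y * x) → x = 1 ∨ x = z := fun e he x hx h => by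
    obtain ⟨φ, hφ, -⟩ := facts e he
    refine (two e φ hφ ⟨x, hx⟩).1 (q8_centre _ fun q => ?_)
    rw [← φ.apply_symm_apply q, ← map_mul, ← map_mul]
    exact congrArg φ (Subtype.ext (h _ (φ.symm q).2))
  have Qnc : ∀ e, Moved e → ∃ x ∈ fixOf (e : MulAut W), ∃ y ∈ fixOf (e : MulAut W), x * y ≠ y * x := by
    intro e he
    obtain ⟨φ, -, -⟩ := facts e he
    obtain ⟨a, b, hab⟩ := q8_noncomm
    refine ⟨_, (φ.symm a).2, _, (φ.symm b).2, fun h => hab ?_⟩
    apply φ.symm.injective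
    rw [map_mul, map_mul]
    exact Subtype.ext h
  have Qcube : ∀ e, Moved e → ∀ (f : ↥E), ∀ x ∈ fixOf (e : MulAut W),
      (f : MulAut W) ((f : MulAut W) ((f : MulAut W) x)) = x := by
    intro e he f x hx
    obtain ⟨φ, -, h3⟩ := facts e he
    have := congrArg Subtype.val (DFunLike.congr_fun (h3 f) ⟨x, hx⟩)
    simpa [pow_succ, MulAut.mul_apply, restr_apply] using this
  -- a moving element has no fixed coset of ⟨z⟩ outside ⟨z⟩
  have Qfix : ∀ e, Moved e → ∀ f : ↥E, restr E e f ≠ 1 → ∀ x ∈ fixOf (e : MulAut W),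
      ((f : MulAut W) x = x ∨ (f : MulAut W) x = x * z) → x = 1 ∨ x = z := by
    intro e he f hf x hx hfx
    by_contra hxz
    obtain ⟨φ, hφ, -⟩ := facts e he
    have hc := Qcube e he f x hx
    have hfx' : (f : MulAut W) x = x := by
      rcases hfx with h | h
      · exact h
      · rw [h, map_mul, h, hzfix, mul_assoc, hzz, mul_one, h] at hc
        exact (hz1 (mul_eq_left.1 hc)).elim
    apply hf
    have hx' : φ ⟨x, hx⟩ ≠ 1 ∧ φ ⟨x, hx⟩ ≠ .a 2 :=
      ⟨fun h => hxz ((two e φ hφ ⟨x, hx⟩).1 (Or.inl h)), fun h => hxz ((two e φ hφ ⟨x, hx⟩).1 (Or.inr h))⟩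
    have hψz : restr E e f ⟨z, hzfix e⟩ = ⟨z, hzfix e⟩ := Subtype.ext (hzfix f)
    have hψx : restr E e f ⟨x, hx⟩ = ⟨x, hx⟩ := Subtype.ext hfx'
    apply MulEquiv.ext
    rintro ⟨y, hy⟩
    apply Subtype.ext
    show (f : MulAut W) y = y
    by_cases hy4 : y = 1 ∨ y = x ∨ y = z ∨ y = x * z
    · rcases hy4 with rfl | rfl | rfl | rfl
      · exact map_one _
      · exact hfx'
      · exact hzfix f
      · rw [map_mul, hfx', hzfix]
    have hQy : (f : MulAut W) y ∈ fixOf (e : MulAut W) := (restr E e f ⟨y, hy⟩).2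
    have key : ∀ w : W, ∀ hw : w ∈ fixOf (e : MulAut W), ¬ (w = 1 ∨ w = x ∨ w = z ∨ w = x * z) →
        φ ⟨w, hw⟩ ≠ 1 ∧ φ ⟨w, hw⟩ ≠ φ ⟨x, hx⟩ ∧ φ ⟨w, hw⟩ ≠ .a 2 ∧ φ ⟨w, hw⟩ ≠ φ ⟨x, hx⟩ * .a 2 := by
      intro w hw hne
      refine ⟨fun h => hne (Or.inl ?_), fun h => hne (Or.inr (Or.inl ?_)),
        fun h => hne (Or.inr (Or.inr (Or.inl ?_))), fun h => hne (Or.inr (Or.inr (Or.inr ?_)))⟩
      · exact congrArg Subtype.val ((MulEquiv.map_eq_one_iff φ).1 h)
      · exact congrArg Subtype.val (φ.injective h)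
      · exact congrArg Subtype.val (φ.injective (h.trans hφ.symm))
      · rw [← hφ, ← map_mul] at h
        exact congrArg Subtype.val (φ.injective h)
    have hfy : ¬ ((f : MulAut W) y = 1 ∨ (f : MulAut W) y = x ∨ (f : MulAut W) y = z ∨
        (f : MulAut W) y = x * z) := by
      intro h
      apply hy4
      rcases h with h | h | h | h
      · exact Or.inl ((MulEquiv.map_eq_one_iff _).1 h)
      · exact Or.inr (Or.inl ((f : MulAut W).injective (h.trans hfx'.symm)))
      · exact Or.inr (Or.inr (Or.inl ((f : MulAut W).injective (h.trans (hzfix f).symm))))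
      · exact Or.inr (Or.inr (Or.inr ((f : MulAut W).injective
          (h.trans (by rw [map_mul, hfx', hzfix])))))
    have hk := q8_coset _ hx'.1 hx'.2 _ _ (key y hy hy4) (key _ hQy hfy)
    have ht : ∃ t, (f : MulAut W) y = y * t ∧ (f : MulAut W) t = t ∧ t * t * t * t = 1 := by
      refine ⟨y⁻¹ * (f : MulAut W) y, by group, ?_, ?_⟩
      · have : (⟨y, hy⟩ : ↥(fixOf (e : MulAut W)))⁻¹ * ⟨_, hQy⟩ ∈
            ({1, ⟨x, hx⟩, ⟨z, hzfix e⟩, ⟨x, hx⟩ * ⟨z, hzfix e⟩} : Set ↥(fixOf (e : MulAut W))) := by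
          simp only [Set.mem_insert_iff, Set.mem_singleton_iff]
          rw [← map_inv, ← map_mul, ← hφ, ← map_mul] at hk
          rcases hk with h | h | h | h
          · exact Or.inl ((MulEquiv.map_eq_one_iff φ).1 h)
          · exact Or.inr (Or.inl (φ.injective h))
          · exact Or.inr (Or.inr (Or.inl (φ.injective h)))
          · exact Or.inr (Or.inr (Or.inr (φ.injective h)))
        simp only [Set.mem_insert_iff, Set.mem_singleton_iff] at this
        rcases this with h | h | h | h <;> have h' := congrArg Subtype.val h <;>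
          simp only [Subgroup.coe_mul, Subgroup.coe_inv, Subgroup.coe_one] at h' <;> rw [h']
        · exact map_one _
        · exact hfx'
        · exact hzfix f
        · rw [map_mul, hfx', hzfix]
      · have := q8_pow4 (φ (⟨y, hy⟩⁻¹ * ⟨_, hQy⟩))
        rw [← map_mul, ← map_mul, ← map_mul, MulEquiv.map_eq_one_iff] at this
        simpa using congrArg Subtype.val this
    obtain ⟨t, ht1, ht2, ht4⟩ := ht
    have h3 := Qcube e he f y hy
    rw [ht1, map_mul, ht1, ht2, map_mul, map_mul, ht1, ht2] at h3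
    have h3' : t * t * t = 1 := by
      rw [mul_assoc, mul_assoc] at h3
      rw [mul_assoc]
      exact mul_eq_left.1 h3
    rw [h3', one_mul] at ht4
    rw [ht1, ht4, mul_one]
  -- kernels
  let Qs : Finset (Subgroup W) :=
    @Finset.filter _ (fun Q => ∃ e, Moved e ∧ Q = fixOf (e : MulAut W)) (Classical.decPred _)
      (@Finset.univ _ (Fintype.ofFinite _))
  have memQs : ∀ Q, Q ∈ Qs ↔ ∃ e, Moved e ∧ Q = fixOf (e : MulAut W) := fun Q => by simp [Qs]
  have hmoved_of_not : ∀ (e : ↥E), e ≠ 1 → ∀ x, (e : MulAut W) x = x → ¬ (x = 1 ∨ x = z) → Moved e := by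
    intro e he x hx hxz
    refine ⟨he, fun hall => ?_⟩
    have hxQ : x ∈ fixOf (e0 : MulAut W) :=
      congrArg Subtype.val (DFunLike.congr_fun (hall e0) (⟨x, hx⟩ : ↥(fixOf (e : MulAut W))))
    have := he0.2
    push Not at this
    obtain ⟨f, hf⟩ := this
    exact hxz (Qfix e0 he0 f hf x hxQ
      (Or.inl (congrArg Subtype.val (DFunLike.congr_fun (hall f) (⟨x, hx⟩ : ↥(fixOf (e : MulAut W)))))))
  have hN1 : ∀ e, Moved e → (e : MulAut W) ∈ fixing E (fixOf (e : MulAut W)) :=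
    fun e _ => ⟨e.2, fun x hx => hx⟩
  have hNker : ∀ (e f : ↥E), (f : MulAut W) ∈ fixing E (fixOf (e : MulAut W)) ↔ restr E e f = 1 :=
    fun e f => ⟨fun h => MulEquiv.ext fun x => Subtype.ext (h.2 x x.2),
      fun h => ⟨f.2, fun x hx => congrArg Subtype.val (DFunLike.congr_fun h (⟨x, hx⟩ : ↥(fixOf (e : MulAut W))))⟩⟩
  have hNfix : ∀ e, Moved e → ∀ f : ↥E, f ≠ 1 →
      (f : MulAut W) ∈ fixing E (fixOf (e : MulAut W)) → fixOf (f : MulAut W) = fixOf (e : MulAut W) := by
    intro e he f hf1 hf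
    have hle : fixOf (e : MulAut W) ≤ fixOf (f : MulAut W) := fun x hx => hf.2 x hx
    have hmf : Moved f := by
      refine ⟨hf1, fun hall => he.2 fun g => MulEquiv.ext fun x => Subtype.ext ?_⟩
      have h := congrArg Subtype.val (DFunLike.congr_fun (hall g) ⟨x, hle x.2⟩)
      exact h
    exact (eq_of_le_of_card_ge hle (by rw [Qcard e he, Qcard f hmf])).symm
  have hdisj : ∀ Q ∈ Qs, ∀ Q' ∈ Qs, Q ≠ Q' → fixing E Q ⊓ fixing E Q' = ⊥ := by
    intro Q hQ Q' hQ' hne
    obtain ⟨e, he, rfl⟩ := (memQs Q).1 hQ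
    obtain ⟨e', he', rfl⟩ := (memQs Q').1 hQ'
    refine (Subgroup.eq_bot_iff_forall _).2 fun f hf => ?_
    by_contra hf1
    have hf1' : (⟨f, hf.1.1⟩ : ↥E) ≠ 1 := fun h => hf1 (congrArg Subtype.val h)
    exact hne ((hNfix e he _ hf1' hf.1).symm.trans (hNfix e' he' _ hf1' hf.2))
  have hindex : ∀ Q ∈ Qs, Nat.card E ≤ 3 * Nat.card ↥(fixing E Q) := by
    intro Q hQ
    obtain ⟨e, he, rfl⟩ := (memQs Q).1 hQ
    obtain ⟨φ, -, h3⟩ := facts e he
    have hcard : Nat.card (MulAut ↥(fixOf (e : MulAut W))) = 24 := by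
      rw [← Cfsg.Agent.Perm.AutQuaternion.natCard_mulAut]
      exact Nat.card_congr (MulAut.congr φ).toEquiv
    haveI : Finite (MulAut ↥(fixOf (e : MulAut W))) :=
      Nat.finite_of_card_ne_zero (by rw [hcard]; norm_num)
    have hr : IsPGroup 3 ↥(restr E e).range := by
      rintro ⟨_, f, rfl⟩
      exact ⟨1, Subtype.ext (by simpa using h3 f)⟩
    obtain ⟨k, hk⟩ := IsPGroup.iff_card.1 hr
    have hd : 3 ^ k ∣ 24 := by rw [← hk, ← hcard]; exact card_subgroup_dvd_card _
    have hk1 : k ≤ 1 := by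
      by_contra hlt
      have := (pow_dvd_pow 3 (show 2 ≤ k by omega)).trans hd
      norm_num at this
    have hki : (restr E e).ker.index ≤ 3 := by
      rw [index_ker, hk]
      simpa using Nat.pow_le_pow_right (show 3 > 0 by norm_num) hk1
    have hkc : Nat.card ↥(restr E e).ker ≤ Nat.card ↥(fixing E (fixOf (e : MulAut W))) :=
      Nat.card_le_card_of_injective (fun f => ⟨(f.1 : MulAut W), (hNker e f.1).2 f.2⟩)
        (fun a b h => Subtype.ext (Subtype.ext (congrArg Subtype.val h :)))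
    rw [← (restr E e).ker.card_mul_index, mul_comm]
    exact Nat.mul_le_mul hki hkc
  -- z generates a central subgroup
  set Z := zpowers z with hZ
  have memZ : ∀ x, x ∈ Z ↔ x = 1 ∨ x = z := by
    intro x
    constructor
    · rintro ⟨n, rfl⟩
      rcases Int.even_or_odd n with ⟨m, rfl⟩ | ⟨m, rfl⟩
      · left
        show z ^ (m + m) = 1
        rw [zpow_add, ← Commute.mul_zpow rfl, hzz, one_zpow]
      · right
        show z ^ (2 * m + 1) = z
        rw [zpow_add_one, zpow_mul, zpow_ofNat, pow_two, hzz, one_zpow, one_mul]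
    · rintro (rfl | rfl)
      exacts [one_mem _, mem_zpowers z]
  have hgenW : ∀ S : Subgroup W, z ∈ S → (∀ Q ∈ Qs, Q ≤ S) → S = ⊤ := by
    intro S hzS hS
    refine eq_top_iff.2 ((gen ⊤ (fun _ _ _ _ => mem_top _)).trans ((closure_le S).2 ?_))
    rintro y ⟨-, f, hf, hf1, hfy⟩
    by_cases hy : y = 1 ∨ y = z
    · rcases hy with rfl | rfl
      exacts [one_mem S, hzS]
    · exact hS _ ((memQs _).2 ⟨⟨f, hf⟩,
        hmoved_of_not ⟨f, hf⟩ (fun h => hf1 (congrArg Subtype.val h)) y hfy hy, rfl⟩) hfy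
  have hzc : ∀ w, z * w = w * z := by
    intro w
    have := hgenW (centralizer {z}) (mem_centralizer_singleton_iff.2 rfl) fun Q hQ => by
      obtain ⟨e, he, rfl⟩ := (memQs Q).1 hQ
      exact fun x hx => mem_centralizer_singleton_iff.2 (Qz e he x hx).symm
    exact (mem_centralizer_singleton_iff.1 (this ▸ mem_top w)).symm
  haveI hZn : Z.Normal := ⟨fun a ha g => by
    rcases (memZ a).1 ha with rfl | rfl
    · simp
    · rw [← hzc g, mul_inv_cancel_right]; exact ha⟩
  -- two distinct subgroups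
  have htwo : ∀ Q ∈ Qs, ∃ Q' ∈ Qs, Q' ≠ Q := by
    intro Q hQ
    by_contra hno
    push Not at hno
    obtain ⟨e, he, rfl⟩ := (memQs Q).1 hQ
    refine he.1 (Subtype.ext (MulEquiv.ext fun x => ?_))
    have := hgenW (fixOf (e : MulAut W)) (hzfix e) fun Q' hQ' => (hno Q' hQ').le
    exact (this ▸ mem_top x : x ∈ fixOf (e : MulAut W))
  have hQe0 : fixOf (e0 : MulAut W) ∈ Qs := (memQs _).2 ⟨e0, he0, rfl⟩
  have hE9 : Nat.card E = 9 := by
    obtain ⟨Q', hQ', hne⟩ := htwo _ hQe0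
    have hmul : Nat.card ↥(fixing E (fixOf (e0 : MulAut W))) * Nat.card ↥(fixing E Q') ≤ Nat.card E := by
      rw [← Nat.card_prod]
      refine Nat.card_le_card_of_injective (fun q => ⟨q.1.1 * q.2.1, mul_mem q.1.2.1 q.2.2.1⟩) ?_
      rintro ⟨a, b⟩ ⟨c, d⟩ h
      have h' : a.1 * b.1 = c.1 * d.1 := congrArg Subtype.val h
      have e1 : c.1⁻¹ * a.1 = d.1 * b.1⁻¹ := by
        rw [eq_mul_inv_iff_mul_eq, mul_assoc, h', inv_mul_cancel_left]
      have h1 : c.1⁻¹ * a.1 ∈ fixing E (fixOf (e0 : MulAut W)) ⊓ fixing E Q' :=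
        ⟨mul_mem ((fixing E _).inv_mem c.2) a.2, e1 ▸ mul_mem d.2 ((fixing E _).inv_mem b.2)⟩
      rw [hdisj _ hQe0 _ hQ' hne.symm, mem_bot] at h1
      refine Prod.ext (Subtype.ext (inv_mul_eq_one.1 h1).symm) (Subtype.ext ?_)
      rw [h1, eq_comm, mul_inv_eq_one] at e1
      exact e1.symm
    obtain ⟨a, ha⟩ := IsPGroup.iff_card.1 hE
    have h1 := hindex _ hQe0
    have h2 := hindex _ hQ'
    have ha2 : 2 ≤ a := by
      by_contra hlt
      apply hnc
      interval_cases a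
      · exact @isCyclic_of_subsingleton _ _ ((Nat.card_eq_one_iff_unique.1 (by simpa using ha)).1)
      · exact isCyclic_of_prime_card (p := 3) (by simpa using ha)
    have hle9 : Nat.card E ≤ 9 := by
      have := Nat.card_pos (α := E)
      nlinarith
    refine le_antisymm hle9 ?_
    rw [ha]
    exact (show 3 ^ 2 = 9 from rfl) ▸ Nat.pow_le_pow_right (by norm_num) ha2
  have hNcard : ∀ Q ∈ Qs, 3 ≤ Nat.card ↥(fixing E Q) := fun Q hQ => by
    have := hindex Q hQ; omega
  -- pairs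
  have pair : ∀ Q ∈ Qs, ∀ Q' ∈ Qs, Q ≠ Q' → ∀ y ∈ Q', (∀ x ∈ Q, ⁅x, y⁆ ∈ Z) → ∀ x ∈ Q, x * y = y * x := by
    intro Q hQ Q' hQ' hne y hy hc x hx
    obtain ⟨e, he, rfl⟩ := (memQs Q).1 hQ
    obtain ⟨e', he', rfl⟩ := (memQs Q').1 hQ'
    have hmove : restr E e e' ≠ 1 := by
      intro h
      have h1 : (e' : MulAut W) ∈ fixing E (fixOf (e : MulAut W)) ⊓ fixing E (fixOf (e' : MulAut W)) :=
        ⟨(hNker e e').2 h, hN1 e' he'⟩
      rw [hdisj _ hQ _ hQ' hne, mem_bot] at h1
      exact he'.1 (Subtype.ext h1)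
    set g : MulAut W := (e' : MulAut W) with hg
    have hgy : g y = y := hy
    have hgx : ∀ w ∈ fixOf (e : MulAut W), g w ∈ fixOf (e : MulAut W) := fun w hw =>
      (restr E e e' ⟨w, hw⟩).2
    have hcm : ∀ a b : W, ⁅b, y⁆ ∈ Z → ⁅a * b, y⁆ = ⁅b, y⁆ * ⁅a, y⁆ := by
      intro a b hb
      have hcen : a * ⁅b, y⁆ * a⁻¹ = ⁅b, y⁆ := by
        rcases (memZ _).1 hb with h | h <;> rw [h]
        · simp
        · rw [← hzc a, mul_inv_cancel_right]
      calc ⁅a * b, y⁆ = (a * ⁅b, y⁆ * a⁻¹) * ⁅a, y⁆ := by simp [commutatorElement_def, mul_assoc]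
        _ = _ := by rw [hcen]
    have hcg : ∀ w ∈ fixOf (e : MulAut W), ⁅g w, y⁆ = ⁅w, y⁆ := by
      intro w hw
      have h1 : g ⁅w, y⁆ = ⁅w, y⁆ := by
        rcases (memZ _).1 (hc w hw) with h | h <;> rw [h]
        exacts [map_one g, hzfix e']
      rwa [map_commutatorElement, hgy] at h1
    set m := x * (g x * g (g x)) with hm
    have hmQ : m ∈ fixOf (e : MulAut W) := mul_mem hx (mul_mem (hgx x hx) (hgx _ (hgx x hx)))
    have hmz : m = 1 ∨ m = z := by
      refine Qfix e he e' hmove m hmQ ?_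
      have h1 : g m = x⁻¹ * m * x := by
        rw [hm, map_mul, map_mul, Qcube e he e' x hx]; group
      have h2 := Qcomm e he m⁻¹ (inv_mem hmQ) x⁻¹ (inv_mem hx)
      rw [show (e' : MulAut W) m = g m from rfl, h1]
      rcases h2 with h | h
      · left
        calc x⁻¹ * m * x = m * (m⁻¹ * x⁻¹ * m⁻¹⁻¹ * x⁻¹⁻¹) := by group
          _ = m := by rw [h, mul_one]
      · right
        calc x⁻¹ * m * x = m * (m⁻¹ * x⁻¹ * m⁻¹⁻¹ * x⁻¹⁻¹) := by group
          _ = m * z := by rw [h]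
    have hm1 : ⁅m, y⁆ = 1 := by
      rcases hmz with h | h <;> rw [h, commutatorElement_def]
      · group
      · rw [hzc y]; group
    rw [hm, hcm _ _ (hc _ (mul_mem (hgx x hx) (hgx _ (hgx x hx)))), hcm _ _ (hc _ (hgx _ (hgx x hx))),
      hcg _ (hgx x hx), hcg x hx] at hm1
    rw [← commutatorElement_eq_one_iff_mul_comm]
    rcases (memZ _).1 (hc x hx) with h | h
    · exact h
    · rw [h, hzz, one_mul] at hm1
      exact absurd hm1 hz1
  -- the commutator subgroup
  have hcommZ : commutator W ≤ Z := by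
    by_contra hnle
    set D := commutator W ⊔ Z with hD
    set π := QuotientGroup.mk' Z with hπ
    haveI : (D.map π).Normal := Subgroup.Normal.map inferInstance π (QuotientGroup.mk'_surjective Z)
    have hDne : D.map π ≠ ⊥ := by
      rw [Ne, Subgroup.map_eq_bot_iff, QuotientGroup.ker_mk']
      exact fun h => hnle (le_sup_left.trans h)
    obtain ⟨q, hq, hq1⟩ :=
      (bot_or_exists_ne_one _).resolve_left (Cfsg.Agent.Cores.inf_center_ne_bot hDne)
    obtain ⟨d, hd, rfl⟩ := hq.1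
    set L := D ⊓ (Subgroup.center (W ⧸ Z)).comap π with hL
    have hLc : ∀ x ∈ L, ∀ y : W, ⁅x, y⁆ ∈ Z := by
      intro x hx y
      rw [← QuotientGroup.eq_one_iff]
      show π ⁅x, y⁆ = 1
      rw [map_commutatorElement, commutatorElement_eq_one_iff_mul_comm]
      exact (mem_center_iff.1 hx.2 (π y)).symm
    have hfZ : ∀ f ∈ E, ∀ w ∈ Z, f w ∈ Z := by
      intro f hf w hw
      rcases (memZ w).1 hw with rfl | rfl
      · rw [map_one]; exact one_mem _
      · rw [show f z = z from hzfix ⟨f, hf⟩]; exact mem_zpowers z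
    have hLinv : ∀ f ∈ E, ∀ x ∈ L, f x ∈ L := by
      intro f hf x hx
      refine ⟨?_, ?_⟩
      · have h1 : D.map f.toMonoidHom ≤ D := by
          rw [hD, Subgroup.map_sup]
          refine sup_le_sup ?_ ?_
          · rw [_root_.commutator_def, Subgroup.map_commutator]
            exact commutator_mono le_top le_top
          · rintro _ ⟨w, hw, rfl⟩
            exact hfZ f hf w hw
        exact h1 ⟨x, hx.1, rfl⟩
      · show π (f x) ∈ Subgroup.center (W ⧸ Z)
        rw [mem_center_iff]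
        intro q
        obtain ⟨y, rfl⟩ := QuotientGroup.mk'_surjective Z q
        rw [eq_comm, ← commutatorElement_eq_one_iff_mul_comm, ← map_commutatorElement,
          hπ, QuotientGroup.mk'_apply, QuotientGroup.eq_one_iff]
        have h2 := hfZ f hf _ (hLc x hx (f.symm y))
        rwa [map_commutatorElement, MulEquiv.apply_symm_apply] at h2
    have hdL : d ∈ L := ⟨hd, hq.2⟩
    have hdZ : d ∉ Z := fun h => hq1 ((QuotientGroup.eq_one_iff d).2 h)
    obtain ⟨x, ⟨hxL, f, hf, hf1, hfx⟩, hxZ⟩ : ∃ x, (x ∈ L ∧ ∃ e ∈ E, e ≠ 1 ∧ e x = x) ∧ x ∉ Z := by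
      by_contra hno
      push Not at hno
      exact hdZ ((closure_le Z).2 (fun y hy => hno y hy) (gen L hLinv hdL))
    have hxz : ¬ (x = 1 ∨ x = z) := fun h => hxZ ((memZ x).2 h)
    set e : ↥E := ⟨f, hf⟩ with he_def
    have he : Moved e := hmoved_of_not e (fun h => hf1 (congrArg Subtype.val h)) x hfx hxz
    obtain ⟨g, hg⟩ : ∃ g, restr E e g ≠ 1 := by
      by_contra hno
      push Not at hno
      exact he.2 hno
    set Q := fixOf (e : MulAut W) with hQdef
    obtain ⟨φ, hφ, -⟩ := facts e he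
    have hQ : Q ∈ Qs := (memQs _).2 ⟨e, he, rfl⟩
    have hxQ : x ∈ Q := hfx
    have huQ : (g : MulAut W) x ∈ Q := (restr E e g ⟨x, hxQ⟩).2
    have hzL : z ∈ L := by
      refine ⟨mem_sup_right (mem_zpowers z), ?_⟩
      show π z ∈ Subgroup.center (W ⧸ Z)
      rw [show π z = 1 from (QuotientGroup.eq_one_iff z).2 (mem_zpowers z)]
      exact one_mem _
    have hQL : Q ≤ L := by
      intro y hy
      have hx1 : φ ⟨x, hxQ⟩ ≠ 1 := fun h => hxz ((two e φ hφ ⟨x, hxQ⟩).1 (Or.inl h))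
      have hx2 : φ ⟨x, hxQ⟩ ≠ .a 2 := fun h => hxz ((two e φ hφ ⟨x, hxQ⟩).1 (Or.inr h))
      have hu4 : φ ⟨_, huQ⟩ ≠ 1 ∧ φ ⟨_, huQ⟩ ≠ φ ⟨x, hxQ⟩ ∧ φ ⟨_, huQ⟩ ≠ .a 2 ∧
          φ ⟨_, huQ⟩ ≠ φ ⟨x, hxQ⟩ * .a 2 := by
        refine ⟨fun h => hxz (Or.inl ?_), fun h => hxz (Qfix e he g hg x hxQ (Or.inl ?_)),
          fun h => hxz (Or.inr ?_), fun h => hxz (Qfix e he g hg x hxQ (Or.inr ?_))⟩
        · exact (MulEquiv.map_eq_one_iff _).1 (congrArg Subtype.val ((MulEquiv.map_eq_one_iff φ).1 h) :)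
        · exact congrArg Subtype.val (φ.injective h)
        · exact (g : MulAut W).injective
            ((congrArg Subtype.val (φ.injective (h.trans hφ.symm)) :).trans (hzfix g).symm)
        · rw [← hφ, ← map_mul] at h
          exact congrArg Subtype.val (φ.injective h)
      have hgL := hLinv g g.2 x hxL
      have hall := q8_gen _ _ hx1 hx2 hu4 (φ ⟨y, hy⟩)
      rw [← hφ] at hall
      simp only [← map_mul] at hall
      rcases hall with h | h | h | h | h | h | h | h
      · rw [show y = 1 from congrArg Subtype.val ((MulEquiv.map_eq_one_iff φ).1 h)]; exact one_mem L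
      all_goals
        have h' := congrArg Subtype.val (φ.injective h)
        simp only [Subgroup.coe_mul] at h'
        rw [h']
      · exact hzL
      · exact hxL
      · exact mul_mem hxL hzL
      · exact hgL
      · exact mul_mem hgL hzL
      · exact mul_mem hxL hgL
      · exact mul_mem (mul_mem hxL hgL) hzL
    set H : Subgroup W := Z ⊔ ⨆ Q' ∈ {Q' : Subgroup W | Q' ∈ Qs ∧ Q' ≠ Q}, Q' with hH
    have hH1 : H ⊔ commutator W = ⊤ := by
      refine hgenW _ (mem_sup_left (mem_sup_left (mem_zpowers z))) fun Q' hQ' => ?_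
      by_cases hQQ : Q' = Q
      · rw [hQQ]
        refine (hQL.trans inf_le_left).trans ?_
        exact sup_le le_sup_right (le_sup_left.trans le_sup_left)
      · exact le_trans (le_trans (le_iSup₂ (f := fun Q'' _ => Q'') Q' ⟨hQ', hQQ⟩) le_sup_right) le_sup_left
    have hHtop : H = ⊤ := by
      refine Cfsg.Agent.Coprime.eq_of_le_of_sup_commutator_eq le_top ?_
      rw [← _root_.commutator_def]; exact hH1
    obtain ⟨a, ha, b, hb, hab⟩ := Qnc e he
    apply hab
    have hle : H ≤ centralizer {a} := by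
      refine sup_le (zpowers_le.2 ?_) (iSup₂_le ?_)
      · exact mem_centralizer_singleton_iff.2 (hzc a)
      · rintro Q' ⟨hQ', hne⟩ y hy
        exact mem_centralizer_singleton_iff.2
          (pair Q hQ Q' hQ' (Ne.symm hne) y hy (fun w hw => hLc w (hQL hw) y) a ha).symm
    exact (mem_centralizer_singleton_iff.1 (hle (hHtop ▸ mem_top b))).symm
  have hcZ : ∀ a b : W, ⁅a, b⁆ ∈ Z := fun a b =>
    hcommZ (commutator_mem_commutator (mem_top a) (mem_top b))
  have hpair : ∀ Q ∈ Qs, ∀ Q' ∈ Qs, Q ≠ Q' → ∀ y ∈ Q', ∀ x ∈ Q, x * y = y * x :=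
    fun Q hQ Q' hQ' hne y hy => pair Q hQ Q' hQ' hne y hy fun w _ => hcZ w y
  -- centre
  have hcenter : Subgroup.center W = Z := by
    refine le_antisymm ?_ (zpowers_le.2 (mem_center_iff.2 fun g => (hzc g).symm))
    have hinvc : ∀ f ∈ E, ∀ x ∈ Subgroup.center W, f x ∈ Subgroup.center W := by
      intro f _ x hx
      rw [mem_center_iff] at hx ⊢
      intro g
      have := congrArg (⇑f) (hx (f.symm g))
      simpa using this
    refine (gen _ hinvc).trans ((closure_le Z).2 ?_)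
    rintro y ⟨hy, f, hf, hf1, hfy⟩
    refine (memZ y).2 ?_
    by_contra hyz
    exact hyz (Qcentre ⟨f, hf⟩ (hmoved_of_not _ (fun h => hf1 (congrArg Subtype.val h)) y hfy hyz)
      y hfy (fun w _ => (mem_center_iff.1 hy w).symm))
  have hfixed : {x : W | ∀ e ∈ E, e x = x} = (Subgroup.center W : Set W) := by
    rw [hcenter]
    ext x
    simp only [Set.mem_ofPred_eq, SetLike.mem_coe, memZ]
    constructor
    · intro hx
      have := he0.2
      push Not at this
      obtain ⟨f, hf⟩ := this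
      exact Qfix e0 he0 f hf x (hx e0 e0.2) (Or.inl (hx f f.2))
    · rintro (rfl | rfl) f hf
      exacts [map_one f, hzfix ⟨f, hf⟩]
  have hcomm : commutator W = Z := by
    refine le_antisymm hcommZ (zpowers_le.2 ?_)
    obtain ⟨a, ha, b, hb, hab⟩ := Qnc e0 he0
    rcases (memZ _).1 (hcZ a b) with h | h
    · exact absurd (commutatorElement_eq_one_iff_mul_comm.1 h) hab
    · rw [← h]; exact commutator_mem_commutator (mem_top a) (mem_top b)
  have hsqZ : ∀ w : W, w ^ 2 ∈ Z := by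
    let S : Subgroup W :=
      { carrier := {w | w ^ 2 ∈ Z}
        one_mem' := by simp
        mul_mem' := by
          intro a b ha hb
          show (a * b) ^ 2 ∈ Z
          have e : (a * b) ^ 2 = a ^ 2 * (a⁻¹ * ⁅b, a⁆ * a) * b ^ 2 := by
            simp [commutatorElement_def, pow_two, mul_assoc]
          rw [e]
          exact mul_mem (mul_mem ha (by simpa using hZn.conj_mem _ (hcZ b a) a⁻¹)) hb
        inv_mem' := by
          intro a ha
          show a⁻¹ ^ 2 ∈ Z
          rw [inv_pow]; exact inv_mem ha }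
    have hS : S = ⊤ := hgenW S (show z ^ 2 ∈ Z by rw [pow_two, hzz]; exact one_mem _) fun Q hQ => by
      obtain ⟨e, he, rfl⟩ := (memQs Q).1 hQ
      intro x hx
      show x ^ 2 ∈ Z
      rw [pow_two]; exact (memZ _).2 (Qsq e he x hx)
    exact fun w => (hS ▸ mem_top w : w ∈ S)
  have hfrat : frattini W = Z := by
    refine le_antisymm ?_ (zpowers_le.2 ?_)
    · refine (Cfsg.Agent.CharP.frattini_le_ker (p := 2) (QuotientGroup.mk' Z) ?_ ?_).trans
        (QuotientGroup.ker_mk' Z).le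
      · intro a b
        rw [commute_iff_eq, ← commutatorElement_eq_one_iff_mul_comm, ← map_commutatorElement]
        exact (QuotientGroup.eq_one_iff _).2 (hcZ a b)
      · intro a
        rw [← map_pow]
        exact (QuotientGroup.eq_one_iff _).2 (hsqZ a)
    · obtain ⟨a, ha, b, hb, hab⟩ := Qnc e0 he0
      rcases Qsq e0 he0 a ha with h | h
      · rcases hinv e0 he0.1 a ha h with rfl | rfl
        · simp at hab
        · exact absurd (hzc b) hab
      · rw [← h, ← pow_two]; exact Cfsg.Agent.Solvable.Basics.pow_mem_frattini hW a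
  have hZcard : Nat.card Z = 2 := by
    rw [Nat.card_zpowers, orderOf_eq_prime (by rw [pow_two, hzz]) hz1]
  -- order
  have hord : ∀ T : Finset (Subgroup W), T ⊆ Qs →
      Nat.card ↥(Z ⊔ T.sup id) = 2 * 4 ^ T.card ∧
        ∀ Q ∈ Qs, Q ∉ T → ∀ y ∈ Z ⊔ T.sup id, ∀ x ∈ Q, x * y = y * x := by
    intro T hT
    induction T using Finset.induction with
    | empty =>
      refine ⟨by simp [hZcard], fun Q _ _ y hy x _ => ?_⟩
      rw [Finset.sup_empty, sup_bot_eq] at hy
      rcases (memZ y).1 hy with rfl | rfl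
      · simp
      · exact (hzc x).symm
    | @insert Q T hQT ih =>
      obtain ⟨ih1, ih2⟩ := ih (fun a ha => hT (Finset.mem_insert_of_mem ha))
      have hQ : Q ∈ Qs := hT (Finset.mem_insert_self _ _)
      have hK : Z ⊔ (insert Q T).sup id = Q ⊔ (Z ⊔ T.sup id) := by
        rw [Finset.sup_insert, id_eq, sup_left_comm]
      set K := Z ⊔ T.sup id with hKdef
      haveI hKn : K.Normal := ⟨fun k hk g => by
        have h := mul_mem ((hcZ g k |> fun h => (le_sup_left : Z ≤ K) h)) hk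
        rwa [commutatorElement_def, inv_mul_cancel_right] at h⟩
      refine ⟨?_, ?_⟩
      · obtain ⟨e, he, hQe⟩ := (memQs Q).1 hQ
        have hinf : Q ⊓ K = Z := by
          refine le_antisymm (fun x hx => (memZ x).2 ?_) (le_inf ?_ le_sup_left)
          · rw [hQe] at hx
            exact Qcentre e he x hx.1 fun y hy =>
              (ih2 Q hQ hQT x hx.2 y (hQe ▸ hy)).symm
          · rw [hQe]; exact zpowers_le.2 (hzfix e)
        have h := Cfsg.Agent.Cores.card_sup_mul_card_inf Q K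
        rw [hinf, hZcard, hQe, Qcard e he, ih1] at h
        rw [hK, Finset.card_insert_of_notMem hQT, hQe, pow_succ]
        omega
      · intro Q' hQ' hQ'T y hy x hx
        have hne : Q' ≠ Q := fun h => hQ'T (h ▸ Finset.mem_insert_self _ _)
        have hle : Z ⊔ (insert Q T).sup id ≤ centralizer {x} := by
          rw [hK]
          refine sup_le (fun w hw => mem_centralizer_singleton_iff.2 ?_)
            (fun w hw => mem_centralizer_singleton_iff.2 ?_)
          · exact (hpair Q' hQ' Q hQ hne w hw x hx).symm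
          · exact (ih2 Q' hQ' (fun h => hQ'T (Finset.mem_insert_of_mem h)) w hw x hx).symm
        exact (mem_centralizer_singleton_iff.1 (hle hy)).symm
  obtain ⟨hWc, -⟩ := hord Qs subset_rfl
  have htop : Z ⊔ Qs.sup id = ⊤ :=
    hgenW _ (mem_sup_left (mem_zpowers z)) fun Q hQ => (Finset.le_sup (f := id) hQ).trans le_sup_right
  rw [htop, Subgroup.card_top] at hWc
  have hk2 : 2 ≤ Qs.card := by
    obtain ⟨Q', hQ', hne⟩ := htwo _ hQe0
    exact Finset.one_lt_card.2 ⟨_, hQ', _, hQe0, hne⟩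
  have hk4 : Qs.card ≤ 4 := by
    haveI := Fintype.ofFinite (MulAut W)
    let N : Subgroup W → Finset (MulAut W) := fun Q => (fixing E Q : Set (MulAut W)).toFinite.toFinset \ {1}
    have hN : ∀ Q ∈ Qs, 2 ≤ (N Q).card := fun Q hQ => by
      have h1 : ((fixing E Q : Set (MulAut W)).toFinite.toFinset).card = Nat.card ↥(fixing E Q) := by
        rw [← Set.ncard_eq_toFinset_card _, ← Nat.card_coe_set_eq]; rfl
      simp only [N]
      rw [Finset.sdiff_singleton_eq_erase, Finset.card_erase_of_mem (by simp [one_mem]), h1]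
      have := hNcard Q hQ; omega
    have hd : (Qs : Set (Subgroup W)).PairwiseDisjoint N := by
      intro Q hQ Q' hQ' hne
      simp only [Function.onFun, Finset.disjoint_left]
      intro f hf hf'
      simp only [N, Finset.mem_sdiff, Set.Finite.mem_toFinset, SetLike.mem_coe,
        Finset.mem_singleton] at hf hf'
      have h1 : f ∈ fixing E Q ⊓ fixing E Q' := ⟨hf.1, hf'.1⟩
      rw [hdisj Q hQ Q' hQ' hne, mem_bot] at h1
      exact hf.2 h1
    have h1 : (Qs.biUnion N).card ≤ 8 := by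
      have hsub : Qs.biUnion N ⊆ (E : Set (MulAut W)).toFinite.toFinset.erase 1 := by
        intro f hf
        simp only [Finset.mem_biUnion, N, Finset.mem_sdiff, Set.Finite.mem_toFinset, SetLike.mem_coe,
          Finset.mem_singleton] at hf
        obtain ⟨Q, -, hf1, hf2⟩ := hf
        simp only [Finset.mem_erase, Set.Finite.mem_toFinset, SetLike.mem_coe]
        exact ⟨hf2, hf1.1⟩
      refine (Finset.card_le_card hsub).trans ?_
      rw [Finset.card_erase_of_mem (by simp [one_mem]), ← Set.ncard_eq_toFinset_card _,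
        ← Nat.card_coe_set_eq, show Nat.card ↥(E : Set (MulAut W)) = Nat.card E from rfl, hE9]
    rw [Finset.card_biUnion hd] at h1
    have := Finset.card_nsmul_le_sum Qs (fun Q => (N Q).card) 2 hN
    simp only [smul_eq_mul] at this
    omega
  refine ⟨hE9, ⟨⟨hW, hfrat.trans hcenter.symm, hcomm.trans hcenter.symm⟩, by rw [hcenter, hZcard]⟩,
    ?_, hfixed⟩
  rw [hWc]
  interval_cases Qs.card <;> norm_num

end Cfsg.FewFixed
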