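import Cfsg.Prelude.Def_Amalgam
import Cfsg.Agent.Lib.Cores.Residual
import Cfsg.Agent.Lib.Coprime.PGroup
import Cfsg.Agent.SolvStruct.Primitive
import Cfsg.Agent.Solvable.Gaschutz
import Cfsg.Agent.Lib.CharP.SubnormalResidual

/-!
Groups with `O_p = 1`: nilpotent normal subgroups are `p'`-groups, and the Frattini subgroup is
that of `O^p`.
-/

set_option autoImplicit false

namespace Cfsg.Agent.CharP

open Subgroup

variable {G H : Type*} [Group G] [Group H]

theorem coprime_card_of_nilpotent [Finite H] {p : ℕ} [hp : Fact p.Prime]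
    (hO : Cfsg.pCore p H = ⊥) (N : Subgroup H) [N.Normal] [Group.IsNilpotent N] :
    (Nat.card N).Coprime p := by
  obtain ⟨P⟩ : Nonempty (Sylow p N) := inferInstance
  have hPn : (P : Subgroup N).Normal :=
    Sylow.normal_of_normalizerCondition Group.normalizerCondition_of_isNilpotent P
  haveI := P.characteristic_of_normal hPn
  haveI : ((P : Subgroup N).map N.subtype).Normal := Cores.normal_map_subtype N P
  have h := Cores.le_pCore (N := (P : Subgroup N).map N.subtype) (P.2.map N.subtype)
  rw [hO, le_bot_iff, Subgroup.map_eq_bot_iff, ker_subtype, le_bot_iff] at h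
  have h1 := P.not_dvd_index
  rw [h, index_bot] at h1
  exact (hp.out.coprime_iff_not_dvd.2 h1).symm

theorem le_pResidual_of_coprime {p : ℕ} (N : Subgroup H) (h : (Nat.card N).Coprime p) :
    N ≤ Cfsg.pResidual p H := fun x hx =>
  Cores.mem_pResidual_of_coprime (h.coprime_dvd_left (by
    have := orderOf_dvd_natCard (⟨x, hx⟩ : N); rwa [orderOf_mk] at this))

theorem map_frattini_of_ker_le {f : G →* H} (hf : Function.Surjective f)
    (hk : f.ker ≤ frattini G) : (frattini H).comap f = frattini G := by
  refine le_antisymm ?_ (frattini_le_comap_frattini_of_surjective hf)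
  change _ ≤ Order.radical (Subgroup G)
  rw [Order.radical]
  refine le_iInf₂ fun M hM => ?_
  have hkM : f.ker ≤ M := hk.trans (frattini_le_coatom hM)
  have hcm : (M.map f).comap f = M := comap_map_eq_self hkM
  have hco : IsCoatom (M.map f) := by
    refine ⟨fun h => hM.1 (by rw [← hcm, h, comap_top]), fun K hK => ?_⟩
    have h1 : M < K.comap f := hcm ▸ (comap_lt_comap_of_surjective hf).2 hK
    rw [← map_comap_eq_self_of_surjective hf K, hM.2 _ h1, map_top_of_surjective f hf]
  exact (comap_mono (frattini_le_coatom hco)).trans hcm.le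

/-- `O_p(H) = 1` gives `Φ(H) = Φ(O^p(H))`. -/
theorem frattini_eq_of_pCore_eq_bot [Finite H] {p : ℕ} [hp : Fact p.Prime]
    (hO : Cfsg.pCore p H = ⊥) :
    frattini H = (frattini ↥(Cfsg.pResidual p H)).map (Cfsg.pResidual p H).subtype := by
  set O := Cfsg.pResidual p H with hOdef
  set Ph := (frattini ↥O).map O.subtype with hPh
  refine le_antisymm ?_ (SolvStruct.Primitive.map_frattini_le_frattini O)
  haveI : Ph.Normal := Cores.normal_map_subtype O _
  set π := QuotientGroup.mk' Ph
  have hπ : Function.Surjective π := QuotientGroup.mk'_surjective _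
  set Ob := O.map π
  haveI : Ob.Normal := Subgroup.Normal.map inferInstance π hπ
  have hPhO : Ph ≤ O := map_subtype_le _
  have hOb : frattini ↥Ob = ⊥ := by
    have hs := π.subgroupMap_surjective O
    refine comap_injective hs ?_
    rw [MonoidHom.comap_bot, map_frattini_of_ker_le hs]
    · ext x
      rw [MonoidHom.mem_ker, Subtype.ext_iff]
      change x ∈ frattini ↥O ↔ π (x : H) = 1
      rw [QuotientGroup.mk'_apply, QuotientGroup.eq_one_iff, hPh]
      exact (mem_map_iff_mem O.subtype_injective).symm
    · intro x hx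
      rw [MonoidHom.mem_ker, Subtype.ext_iff] at hx
      have hx' : (x : H) ∈ Ph := (QuotientGroup.eq_one_iff (x : H)).1 hx
      exact (mem_map_iff_mem O.subtype_injective).1 hx'
  haveI : Group.IsNilpotent (frattini H) := frattini_nilpotent
  have hcop := coprime_card_of_nilpotent hO (frattini H)
  set F := (frattini H).map π
  haveI : F.Normal := Subgroup.Normal.map inferInstance π hπ
  have hFO : F ≤ Ob := map_mono (le_pResidual_of_coprime _ hcop)
  have hFcard : Nat.card F ∣ Nat.card (frattini H) := card_map_dvd _ _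
  -- `F` is abelian
  haveI : Group.IsNilpotent F :=
    Group.nilpotent_of_surjective (π.subgroupMap (frattini H)) (π.subgroupMap_surjective _)
  set F' := F.subgroupOf Ob
  haveI : Group.IsNilpotent F' :=
    Group.isNilpotent_congr (subgroupOfEquivOfLe hFO) |>.2 inferInstance
  haveI : F'.Normal := normal_subgroupOf
  have hcomm : commutator F' = ⊥ := by
    have h := (map_mono (f := F'.subtype) (Coprime.commutator_le_frattini F')).trans
      (SolvStruct.Primitive.map_frattini_le_frattini F')
    rw [hOb, le_bot_iff, Subgroup.map_eq_bot_iff, ker_subtype, le_bot_iff] at h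
    exact h
  haveI : IsMulCommutative F' := (_root_.commutator_eq_bot_iff _).1 hcomm
  haveI : IsMulCommutative F := ⟨⟨fun a b => Subtype.ext (by
    have h := congrArg (fun z : F' => ((z : Ob) : H ⧸ Ph)) (IsMulCommutative.is_comm.comm
      (⟨⟨a, hFO a.2⟩, a.2⟩ : F') ⟨⟨b, hFO b.2⟩, b.2⟩)
    simpa using h)⟩⟩
  obtain ⟨W, hW, hWd⟩ := SolvStruct.Primitive.exists_complement_of_abelian hOb F'
  have hFW : F ⊔ W.map Ob.subtype = Ob := by
    conv_lhs => rw [← map_subgroupOf_eq_of_le hFO]
    rw [← Subgroup.map_sup, hW, ← MonoidHom.range_eq_map, range_subtype]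
  have hWF : W.map Ob.subtype ⊓ F = ⊥ := by
    rw [← map_subgroupOf_eq_of_le hFO, ← map_inf _ _ _ Ob.subtype_injective, inf_comm, hWd,
      Subgroup.map_bot]
  have hidx : (Nat.card F).Coprime Ob.index := by
    obtain ⟨n, hn⟩ := Cores.pResidual_index (G := H) p
    have h1 : Ob.index ∣ p ^ n := hn ▸ index_map_dvd O hπ
    exact (Nat.Coprime.pow_right n (hcop.coprime_dvd_left hFcard)).coprime_dvd_right h1
  obtain ⟨C, hC⟩ := Solvable.Gaschutz.exists_complement' (K := F) (U := Ob)
    (A := W.map Ob.subtype) hFO hidx (map_subtype_le _) hWF hFW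
  have hFΦ : F ≤ frattini (H ⧸ Ph) :=
    map_le_iff_le_comap.2 (frattini_le_comap_frattini_of_surjective hπ)
  have hCtop : C = ⊤ := frattini_nongenerating (top_le_iff.1
    (hC.sup_eq_top ▸ sup_le (hFΦ.trans le_sup_right) le_sup_left))
  have hFbot : F = ⊥ := by
    have := hC.disjoint.eq_bot
    rwa [hCtop, inf_top_eq] at this
  intro x hx
  have h : π x ∈ F := mem_map_of_mem π hx
  rw [hFbot, mem_bot, QuotientGroup.mk'_apply, QuotientGroup.eq_one_iff] at h
  exact h

/-- In a group with `O_p = 1` generated by its `p`-elements the centre lies in the Frattini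
subgroup. -/
theorem center_le_frattini_of_pCore_eq_bot [Finite H] {p : ℕ} [hp : Fact p.Prime]
    (hO : Cfsg.pCore p H = ⊥) (htop : Cfsg.pElementClosure p (⊤ : Subgroup H) = ⊤) :
    center H ≤ frattini H := by
  change _ ≤ Order.radical (Subgroup H)
  rw [Order.radical]
  refine le_iInf₂ fun M hM => ?_
  by_contra hZ
  have hsup : M ⊔ center H = ⊤ := hM.2 _ (left_lt_sup.2 hZ)
  haveI : Group.IsNilpotent (center H) := ⟨⟨1, by
    rw [Subgroup.upperCentralSeries_one, eq_top_iff]
    exact fun a _ => mem_center_iff.2 fun b => Subtype.ext (mem_center_iff.1 a.2 b)⟩⟩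
  have hcop := coprime_card_of_nilpotent hO (center H)
  refine hM.1 (top_le_iff.1 (htop ▸ ?_))
  rw [Cfsg.pElementClosure, closure_le]
  rintro x ⟨-, k, hk⟩
  obtain ⟨m, hm, z, hz, rfl⟩ := mem_sup_of_normal_right.1 (show x ∈ M ⊔ center H from hsup ▸ trivial)
  have hz1 : z ^ Nat.card (center H) = 1 := by
    have := pow_card_eq_one' (x := (⟨z, hz⟩ : center H))
    exact congrArg Subtype.val this
  have h1 : (m * z) ^ Nat.card (center H) ∈ M := by
    rw [Commute.mul_pow (mem_center_iff.1 hz m), hz1, mul_one]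
    exact pow_mem hm _
  have h2 : (m * z) ^ p ^ k ∈ M := by rw [← hk, pow_orderOf_eq_one]; exact one_mem _
  have h3 := pow_gcd_mem _ h1 h2
  rwa [Nat.Coprime.pow_right k hcop, pow_one] at h3

end Cfsg.Agent.CharP
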