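import Cfsg.Agent.Lib.Components.Layer
import Cfsg.Agent.Lib.Coprime.Commutator
import Cfsg.Agent.Lib.CharP.TrivialCore

/-!
A `p`-group acting on subnormal subgroups of `F*(H)` when `O_p(H) = 1`.
-/

set_option autoImplicit false

namespace Cfsg.Agent.CharP

open Subgroup
open scoped commutatorElement

universe u

variable {G : Type u} [Group G]

theorem le_normalizer_map_subtype_of_characteristic {L Y : Subgroup G}
    (hY : Y ≤ normalizer (L : Set G)) (C : Subgroup L) [C.Characteristic] :
    Y ≤ normalizer ((C.map L.subtype : Subgroup G) : Set G) :=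
  hY.trans (le_normalizer_resOf.normalizer_le_normalizer_map_subtype L C)

/-- `E = [E, Y] C_E(Y)` for the layer `E` of a `Y`-invariant subgroup. -/
theorem layer_map_le_commutator_sup [Finite G] {L Y : Subgroup G}
    (hY : Y ≤ normalizer (L : Set G)) :
    (Cfsg.layer ↥L).map L.subtype ≤
      ⁅(Cfsg.layer ↥L).map L.subtype, Y⁆ ⊔ (L ⊓ centralizer (Y : Set G)) := by
  set E := (Cfsg.layer ↥L).map L.subtype with hE
  have hYE : Y ≤ normalizer (E : Set G) := le_normalizer_map_subtype_of_characteristic hY _
  have hle : ⁅E, Y⁆ ≤ E := Coprime.commutator_le_of_le_normalizer hYE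
  have hEL : E ≤ L := map_subtype_le _
  have hsn : (⁅E, Y⁆.subgroupOf L).IsSubnormal := by
    have h1 : ((⁅E, Y⁆.subgroupOf L).subgroupOf (Cfsg.layer ↥L)).Normal := by
      refine normal_subgroupOf_of_le_normalizer fun x hx => ?_
      have hxE : (x : G) ∈ E := mem_map_of_mem _ hx
      have h := normalizer_commutator_ge_left E Y hxE
      rw [mem_normalizer_iff] at h ⊢
      intro z
      exact h z
    refine IsSubnormal.trans (fun x hx => ?_) h1.isSubnormal
      (inferInstance : (Cfsg.layer ↥L).Normal).isSubnormal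
    exact (mem_map_iff_mem L.subtype_injective).1 (hle hx)
  rw [hE, map_le_iff_le_comap]
  refine Components.Basic.layer_le fun K hK => map_le_iff_le_comap.1 ?_
  have hKE : K.map L.subtype ≤ E := map_mono (Components.Basic.le_layer hK)
  rcases Components.Basic.component_le_or_commutator_eq_bot hK hsn with h | h
  · have h' := map_mono (f := L.subtype) h
    rw [map_subgroupOf_eq_of_le (hle.trans hEL)] at h'
    exact h'.trans le_sup_left
  · have hK' : ⁅K.map L.subtype, K.map L.subtype⁆ = K.map L.subtype := by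
      rw [← map_commutator, Components.Basic.component_commutator_self hK]
    have h' : ⁅K.map L.subtype, ⁅E, Y⁆⁆ = ⊥ := by
      have := congrArg (Subgroup.map L.subtype) h
      rwa [map_commutator, map_subgroupOf_eq_of_le (hle.trans hEL), Subgroup.map_bot] at this
    have h'' : ⁅⁅K.map L.subtype, Y⁆, K.map L.subtype⁆ = ⊥ := by
      rw [commutator_comm]
      exact le_bot_iff.1 ((commutator_mono le_rfl (commutator_mono hKE le_rfl)).trans h'.le)
    have hc := Components.Basic.commutator_eq_bot_of_perfect hK' h''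
    exact le_trans (le_inf (map_subtype_le _) (commutator_eq_bot_iff_le_centralizer.1 hc))
      le_sup_right

variable [Finite G] {p : ℕ} [hp : Fact p.Prime]

/-- `L = [L,Y] C_L(Y)` and `[L,Y,Y] = [L,Y]` for a `p`-group `Y` acting on `L` with `F*(L) = L`
and `F(L)` a `p'`-group. -/
theorem commutator_sup_centralizer_of_genFitting {L Y : Subgroup G}
    (hYL : Y ≤ normalizer (L : Set G)) (hY : IsPGroup p Y)
    (htop : Cfsg.generalizedFittingSubgroup ↥L = ⊤)
    (hcop : (Nat.card (Cfsg.fittingSubgroup ↥L)).Coprime p) :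
    ⁅L, Y⁆ ⊔ (L ⊓ centralizer (Y : Set G)) = L ∧ ⁅L, Y⁆ = ⁅⁅L, Y⁆, Y⁆ := by
  have hle : ⁅L, Y⁆ ≤ L := Coprime.commutator_le_of_le_normalizer hYL
  set F := (Cfsg.fittingSubgroup ↥L).map L.subtype
  have hYF : Y ≤ normalizer (F : Set G) := le_normalizer_map_subtype_of_characteristic hYL _
  have hcop' : (Nat.card Y).Coprime (Nat.card F) := by
    obtain ⟨n, hn⟩ := IsPGroup.iff_card.1 hY
    rw [hn]
    exact (Nat.Coprime.pow_left n (hcop.coprime_dvd_left (card_map_dvd _ _)).symm)
  have hFL : F ≤ L := map_subtype_le _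
  have hEL : (Cfsg.layer ↥L).map L.subtype ≤ L := map_subtype_le _
  have h1 : L ≤ ⁅L, Y⁆ ⊔ (L ⊓ centralizer (Y : Set G)) := by
    calc L = (Cfsg.generalizedFittingSubgroup ↥L).map L.subtype := by
          rw [htop, ← MonoidHom.range_eq_map, range_subtype]
      _ ≤ _ := by
        rw [Cfsg.generalizedFittingSubgroup, Subgroup.map_sup]
        refine sup_le ?_ ?_
        · exact (layer_map_le_commutator_sup hYL).trans
            (sup_le_sup_right (commutator_mono hEL le_rfl) _)
        · refine (Coprime.commutator_sup_inf_centralizer hYF hcop' ?_).ge.trans ?_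
          · haveI := Components.Fitting.fitting_isNilpotent (G := ↥L)
            exact Or.inr (Group.isSolvable_of_isSolvable_injective
              (f := (equivMapOfInjective (Cfsg.fittingSubgroup ↥L) L.subtype
                L.subtype_injective).symm.toMonoidHom) (MulEquiv.injective _))
          · exact sup_le_sup (commutator_mono hFL le_rfl) (inf_le_inf_right _ hFL)
  refine ⟨le_antisymm (sup_le hle inf_le_left) h1, le_antisymm ?_ (commutator_mono hle le_rfl)⟩
  refine Coprime.commutator_le_of_forall_eq_mul fun k hk => ?_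
  have hk' := h1 hk
  rw [← SetLike.mem_coe, sup_comm, coe_mul_of_left_le_normalizer_right _ _
    (inf_le_left.trans (normalizer_commutator_ge_left L Y))] at hk'
  obtain ⟨c, hc, x, hx, rfl⟩ := hk'
  refine ⟨c * x * c⁻¹, ?_, c, hc.2, by group⟩
  exact (mem_normalizer_iff.1 (normalizer_commutator_ge_left L Y hc.1) x).1 hx

omit hp in
/-- `F*(H) ⊓ K = F*(K)` for subnormal `K`. -/
theorem genFitting_inf_eq_map_of_isSubnormal {K : Subgroup G} (hK : K.IsSubnormal) :
    Cfsg.generalizedFittingSubgroup G ⊓ K =
      (Cfsg.generalizedFittingSubgroup ↥K).map K.subtype := by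
  refine le_antisymm ?_ (Components.Fitting.map_genFitting_subtype_le hK)
  have hsn : (Cfsg.generalizedFittingSubgroup G ⊓ K).IsSubnormal :=
    IsSubnormal.inf (inferInstance : (Cfsg.generalizedFittingSubgroup G).Normal).isSubnormal hK
  refine (Components.Fitting.le_layerIn_sup_fitting inf_le_left hsn).trans
    (sup_le (sSup_le fun L hL => ?_) ?_)
  · rw [← map_subgroupOf_eq_of_le (hL.2.trans inf_le_right)]
    exact map_mono (Components.Fitting.component_le_genFitting
      (Components.Basic.component_subgroupOf hL.1 (hL.2.trans inf_le_right)))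
  · refine le_trans ?_ (map_mono Components.Fitting.fitting_le_genFitting)
    rw [Components.Fitting.map_fitting_subtype hK]
    exact inf_le_inf_left _ inf_le_right

omit hp in
/-- A subnormal subgroup of `F*(H)` is its own generalized Fitting subgroup. -/
theorem genFitting_eq_top_of_le {S : Subgroup G} (hS : S ≤ Cfsg.generalizedFittingSubgroup G)
    (hsn : S.IsSubnormal) : Cfsg.generalizedFittingSubgroup ↥S = ⊤ := by
  rw [← map_subtype_inj, ← genFitting_inf_eq_map_of_isSubnormal hsn, inf_eq_right.2 hS,
    ← MonoidHom.range_eq_map, range_subtype]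

theorem coprime_card_fitting (hO : Cfsg.pCore p G = ⊥) :
    (Nat.card (Cfsg.fittingSubgroup G)).Coprime p := by
  haveI := Components.Fitting.fitting_isNilpotent (G := G)
  exact coprime_card_of_nilpotent hO _

theorem coprime_card_fitting_of_isSubnormal (hO : Cfsg.pCore p G = ⊥) {S : Subgroup G}
    (hsn : S.IsSubnormal) : (Nat.card (Cfsg.fittingSubgroup ↥S)).Coprime p := by
  refine (coprime_card_fitting hO).coprime_dvd_left ?_
  rw [Nat.card_congr (equivMapOfInjective (Cfsg.fittingSubgroup ↥S) S.subtype
    S.subtype_injective).toEquiv, Components.Fitting.map_fitting_subtype hsn]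
  exact card_dvd_of_le inf_le_left

/-- A `p`-group acting on a subnormal `S ≤ F*(G)` when `O_p(G) = 1`. -/
theorem commutator_sup_centralizer_of_le_genFitting (hO : Cfsg.pCore p G = ⊥) {S Y : Subgroup G}
    (hS : S ≤ Cfsg.generalizedFittingSubgroup G) (hsn : S.IsSubnormal)
    (hY : IsPGroup p Y) (hYS : Y ≤ normalizer (S : Set G)) :
    ⁅S, Y⁆ ⊔ (S ⊓ centralizer (Y : Set G)) = S ∧ ⁅S, Y⁆ = ⁅⁅S, Y⁆, Y⁆ :=
  commutator_sup_centralizer_of_genFitting hYS hY (genFitting_eq_top_of_le hS hsn)
    (coprime_card_fitting_of_isSubnormal hO hsn)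

theorem commutator_genFitting_eq (hO : Cfsg.pCore p G = ⊥) {Y : Subgroup G} (hY : IsPGroup p Y) :
    ⁅Cfsg.generalizedFittingSubgroup G, Y⁆ ⊔
        (Cfsg.generalizedFittingSubgroup G ⊓ centralizer (Y : Set G)) =
      Cfsg.generalizedFittingSubgroup G ∧
    ⁅Cfsg.generalizedFittingSubgroup G, Y⁆ =
      ⁅⁅Cfsg.generalizedFittingSubgroup G, Y⁆, Y⁆ :=
  commutator_sup_centralizer_of_le_genFitting hO le_rfl
    (inferInstance : (Cfsg.generalizedFittingSubgroup G).Normal).isSubnormal hY
    le_normalizer_of_normal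

/-- A `p`-subgroup centralizing `F*(G)` is trivial when `O_p(G) = 1`. -/
theorem eq_bot_of_le_centralizer_genFitting (hO : Cfsg.pCore p G = ⊥) {Y : Subgroup G}
    (hY : IsPGroup p Y) (hc : Y ≤ centralizer (Cfsg.generalizedFittingSubgroup G : Set G)) :
    Y = ⊥ := by
  set C := centralizer (Cfsg.generalizedFittingSubgroup G : Set G)
  haveI : IsMulCommutative C := ⟨⟨fun a b => Subtype.ext
    (mem_centralizer_iff.1 b.2 a (Components.Fitting.centralizer_genFitting_le a.2))⟩⟩
  haveI := Components.Fitting.isNilpotent_of_isMulCommutative C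
  obtain ⟨n, hn⟩ := IsPGroup.iff_card.1 hY
  have h := (coprime_card_of_nilpotent hO C).coprime_dvd_left (card_dvd_of_le hc)
  rw [hn] at h
  rw [← card_eq_one, hn]
  exact Nat.eq_one_of_dvd_coprimes (Nat.Coprime.pow_right n h) dvd_rfl dvd_rfl

omit hp [Finite G] in
theorem le_of_isSubnormal_of_commutator_eq {X Y K : Subgroup G} (hK : K.IsSubnormal)
    (hYK : Y ≤ K) (h : ⁅X, Y⁆ = X) : X ≤ K := by
  induction hK with
  | top => exact le_top
  | step H K hHK _ hn ih =>
    have h1 : ⁅K, H⁆ ≤ H := by
      rw [commutator_comm]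
      exact Subgroup.le_normalizer_iff_commutator_le_left.1
        ((normal_subgroupOf_iff_le_normalizer hHK).1 hn)
    exact h.ge.trans ((commutator_mono (ih (hYK.trans hHK)) hYK).trans h1)

end Cfsg.Agent.CharP
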