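import Cfsg.Agent.Lib.CharP.FrakLQuotient
import Cfsg.Agent.Lib.Suzuki.Solubilizer

/-!
The module `O_p(L)/C` of a member `L` of `𝔏_G(Y_M)`: elements which are not `p`-elements act without fixed
points.
-/

set_option autoImplicit false
set_option linter.style.haveILetI false
set_option linter.unusedSectionVars false

namespace Cfsg.Agent.CharP.FrakLMod

open Subgroup

local notation:70 A:70 " ⊛ " g:71 => Subgroup.map (MulEquiv.toMonoidHom (MulAut.conj g)) A

variable {X : Type*} [Group X] {M : Type*} [AddCommGroup M] [DistribMulAction X M]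

/-- The configuration: `D` is centralised by `Y`, contains the commutators with `Y`, and is complemented
by each translate under an element outside the normalizer. -/
structure Spread (Y : Subgroup X) (D : AddSubgroup M) : Prop where
  fixes : ∀ y ∈ Y, ∀ d ∈ D, y • d = d
  move : ∀ y ∈ Y, ∀ m : M, y • m - m ∈ D
  inter : ∀ g : X, g ∉ normalizer (Y : Set X) → ∀ d ∈ D, g • d ∈ D → d = 0
  span : ∀ g : X, g ∉ normalizer (Y : Set X) → ∀ m : M, ∃ d ∈ D, ∃ e ∈ D, m = d + g • e
  gen : ∀ g : X, g ∉ normalizer (Y : Set X) → Y ⊔ Y ⊛ g = ⊤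
  proper : normalizer (Y : Set X) ≠ ⊤

variable {Y : Subgroup X} {D : AddSubgroup M}

theorem fixed_of_gen {A B : Subgroup X} (h : A ⊔ B = ⊤) {m : M} (hA : ∀ a ∈ A, a • m = m)
    (hB : ∀ b ∈ B, b • m = m) (g : X) : g • m = m := by
  have hle : A ⊔ B ≤ MulAction.stabilizer X m := sup_le hA hB
  exact hle (h ▸ mem_top g)

theorem Spread.mem_of_fixed (c : Spread Y D) {m : M} (h : ∀ y ∈ Y, y • m = m) : m ∈ D := by
  obtain ⟨g, -, hg⟩ := SetLike.exists_of_lt (lt_top_iff_ne_top.2 c.proper)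
  obtain ⟨d, hd, e, he, rfl⟩ := c.span g hg m
  have hall : ∀ x : X, x • (g • e) = g • e := fixed_of_gen (c.gen g hg)
    (fun y hy => by
      have := h y hy
      rw [smul_add, c.fixes y hy d hd] at this
      exact add_left_cancel this)
    (by
      rintro _ ⟨y, hy, rfl⟩
      show (g * y * g⁻¹) • g • e = g • e
      rw [smul_smul, inv_mul_cancel_right, mul_smul, c.fixes y hy e he])
  have hge : g • e = e := by
    have := hall g⁻¹
    rw [inv_smul_smul] at this
    exact this.symm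
  rw [c.inter g hg e he (hge.symm ▸ he), smul_zero, add_zero]
  exact hd

theorem Spread.map (c : Spread Y D) {X' : Type*} [Group X'] [DistribMulAction X' M] (e : X ≃* X')
    (he : ∀ (x : X) (m : M), e x • m = x • m) : Spread (Y.map e.toMonoidHom) D := by
  have hn : normalizer ((Y.map e.toMonoidHom : Subgroup X') : Set X') =
      (normalizer (Y : Set X)).map e.toMonoidHom := (map_equiv_normalizer_eq _ _).symm
  have hpre : ∀ g : X', g ∉ normalizer ((Y.map e.toMonoidHom : Subgroup X') : Set X') →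
      e.symm g ∉ normalizer (Y : Set X) := fun g hg h => hg (hn ▸ ⟨_, h, e.apply_symm_apply g⟩)
  have hact : ∀ (g : X') (m : M), g • m = e.symm g • m := fun g m => by
    rw [← he, e.apply_symm_apply]
  refine ⟨?_, ?_, fun g hg d hd h => c.inter _ (hpre g hg) d hd (hact g d ▸ h),
    fun g hg m => ?_, fun g hg => ?_, fun h => c.proper ?_⟩
  · rintro _ ⟨y, hy, rfl⟩ d hd; rw [MulEquiv.coe_toMonoidHom, he]; exact c.fixes y hy d hd
  · rintro _ ⟨y, hy, rfl⟩ m; rw [MulEquiv.coe_toMonoidHom, he]; exact c.move y hy m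
  · obtain ⟨d, hd, a, ha, hm⟩ := c.span _ (hpre g hg) m
    exact ⟨d, hd, a, ha, by rw [hact]; exact hm⟩
  · rw [show Y.map e.toMonoidHom ⊛ g = (Y ⊛ e.symm g).map e.toMonoidHom by
      rw [map_map, map_map]; congr 1; ext y; simp, ← Subgroup.map_sup, c.gen _ (hpre g hg),
      map_top_of_surjective _ e.surjective]
  · apply map_injective (f := e.toMonoidHom) e.injective
    rw [← hn, h, map_top_of_surjective _ e.surjective]

/-- Translate the configuration by an element. -/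
theorem Spread.conj (c : Spread Y D) (g : X) :
    Spread (Y ⊛ g) (D.map (DistribSMul.toAddMonoidHom M g)) := by
  have hn := FrakLQuot.normalizer_conj Y g
  have hpre : ∀ x, x ∉ normalizer ((Y ⊛ g : Subgroup X) : Set X) →
      g⁻¹ * x * g ∉ normalizer (Y : Set X) := fun x hx h => hx (hn ▸ ⟨_, h, by simp [mul_assoc]⟩)
  refine ⟨?_, ?_, fun x hx => ?_, fun x hx m => ?_, fun x hx => ?_, fun h => c.proper ?_⟩
  · rintro _ ⟨y, hy, rfl⟩ _ ⟨d, hd, rfl⟩
    show (g * y * g⁻¹) • g • d = g • d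
    rw [smul_smul, inv_mul_cancel_right, mul_smul, c.fixes y hy d hd]
  · rintro _ ⟨y, hy, rfl⟩ m
    refine ⟨y • (g⁻¹ • m) - g⁻¹ • m, c.move y hy _, ?_⟩
    show g • (y • (g⁻¹ • m) - g⁻¹ • m) = (g * y * g⁻¹) • m - m
    rw [smul_sub, smul_inv_smul, mul_smul, mul_smul]
  · rintro _ ⟨d, hd, rfl⟩ ⟨d', hd', he⟩
    have he' : g • d' = x • g • d := he
    have h0 := c.inter _ (hpre x hx) d hd (by
      rw [mul_smul, mul_smul, ← he', inv_smul_smul]; exact hd')
    show g • d = 0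
    rw [h0, smul_zero]
  · obtain ⟨d, hd, e, he, hm⟩ := c.span _ (hpre x hx) (g⁻¹ • m)
    refine ⟨g • d, ⟨d, hd, rfl⟩, g • e, ⟨e, he, rfl⟩, ?_⟩
    have := congrArg (g • ·) hm
    simpa [smul_add, smul_smul, mul_assoc] using this
  · have := congrArg (Subgroup.map (MulAut.conj g).toMonoidHom) (c.gen _ (hpre x hx))
    rw [Subgroup.map_sup, map_top_of_surjective _ (MulAut.conj g).surjective, conj_map_map,
      show g * (g⁻¹ * x * g) = x * g by simp [mul_assoc]] at this
    rwa [conj_map_map]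
  · rw [hn] at h
    apply map_injective (f := (MulAut.conj g).toMonoidHom) (MulAut.conj g).injective
    rw [h, map_top_of_surjective _ (MulAut.conj g).surjective]

/-! ### `SL₂` -/

section sl2

open Matrix
open scoped MatrixGroups
open Cfsg.Agent.CharP.SL2Natural Cfsg.Agent.CharP.FrakLQuot

variable {p : ℕ} [Fact p.Prime] {F : Type*} [Field F] [Fintype F] [CharP F p]
  {V : Type*} [AddCommGroup V] [Finite V] [DistribMulAction SL(2, F) V] {E : AddSubgroup V}

theorem pow_eq_one_of_fixes (c : Spread (UU F) E) {g : SL(2, F)} {v : V} (hv : v ≠ 0)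
    (hg : g • v = v) : g ^ p = 1 := by
  have hE : ∀ w : V, w ∈ fixedU F V ↔ w ∈ E := fun w =>
    ⟨fun h => c.mem_of_fixed (by rintro _ ⟨a, rfl⟩; exact h a), fun h a => c.fixes _ ⟨a, rfl⟩ w h⟩
  have hww : (ww : SL(2, F)) ∉ normalizer (UU F : Set SL(2, F)) := by
    intro h
    obtain ⟨b, hb⟩ := (mem_normalizer_iff.1 h (uu 1)).1 ⟨1, rfl⟩
    rw [mul_inv_eq_iff_eq_mul] at hb
    have := congrArg (fun g : SL(2, F) => (g : Matrix (Fin 2) (Fin 2) F) 1 1) hb
    simp only [coe_mul'] at this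
    simp [uu, ww, mul_fin_two] at this
  have hdisj : ∀ w ∈ fixedU F V, ww (F := F) • w ∈ fixedU F V → w = 0 := fun w h1 h2 =>
    c.inter _ hww w ((hE w).1 h1) ((hE _).1 h2)
  have hspan : ∀ m : V, m ∈ coreSpan F V := fun m => by
    obtain ⟨d, hd, e, he, hm⟩ := c.span _ hww m
    exact ⟨d, ⟨(hE d).2 hd, fun a => (hE _).2 (c.move _ ⟨a, rfl⟩ _)⟩,
      e, ⟨(hE e).2 he, fun a => (hE _).2 (c.move _ ⟨a, rfl⟩ _)⟩, hm⟩
  obtain ⟨k, ψ, hψ⟩ := exists_natural hdisj hspan
  obtain ⟨i, hi⟩ : ∃ i, ψ v i ≠ 0 := by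
    by_contra h
    push Not at h
    exact hv (ψ.injective (by rw [map_zero]; exact funext h))
  have hdet : ((g : Matrix (Fin 2) (Fin 2) F) - 1).det = 0 := by
    refine exists_mulVec_eq_zero_iff.1 ⟨ψ v i, hi, ?_⟩
    rw [sub_mulVec, one_mulVec, ← hψ, hg, sub_self]
  have hdg : (g : Matrix (Fin 2) (Fin 2) F).det = 1 := g.2
  set A := (g : Matrix (Fin 2) (Fin 2) F) with hA
  rw [det_fin_two] at hdet hdg
  simp only [Matrix.sub_apply, one_apply_eq, Fin.isValue, ne_eq, one_apply_ne,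
    zero_ne_one, not_false_eq_true, sub_zero, one_ne_zero] at hdet
  have htr : A 0 0 + A 1 1 = 2 := by linear_combination hdg - hdet
  have hsq : (A - 1) ^ 2 = 0 := by
    ext i j
    fin_cases i <;> fin_cases j <;> simp [sq, Matrix.mul_apply, Fin.sum_univ_two]
    · linear_combination (A 0 0 - 1) * htr - hdet
    · linear_combination A 0 1 * htr
    · linear_combination A 1 0 * htr
    · linear_combination (A 1 1 - 1) * htr - hdet
  haveI : CharP (Matrix (Fin 2) (Fin 2) F) p := inferInstance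
  have hp2 : 2 ≤ p := (Fact.out : p.Prime).two_le
  have h := sub_pow_char_of_commute (R := Matrix (Fin 2) (Fin 2) F) (p := p) (Commute.one_right A)
  rw [pow_eq_zero_of_le hp2 hsq, one_pow, eq_comm, sub_eq_zero] at h
  exact sl_ext (by rw [Matrix.SpecialLinearGroup.coe_pow]; exact h)

theorem SL2_pgroup {Y : Subgroup SL(2, F)} (c : Spread Y E) (hY : IsPGroup p ↥Y)
    (hc : Nat.card Y = Fintype.card F) {g : SL(2, F)} {v : V} (hv : v ≠ 0) (hg : g • v = v) :
    g ^ p = 1 := by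
  obtain ⟨x, hx⟩ := exists_conj_UU (p := p) hY hc
  have c' := c.conj x
  rw [hx] at c'
  have h := pow_eq_one_of_fixes (p := p) c' (g := x * g * x⁻¹) (v := x • v)
    ((smul_ne_zero_iff_ne _).2 hv) (by rw [smul_smul, inv_mul_cancel_right, mul_smul, hg])
  rwa [conj_pow, conj_eq_one_iff] at h

end sl2

/-! ### Characteristic two -/

/-- If odd elements are inverted by involutions in conjugates of `Y` then only `2`-elements fix points. -/
theorem Spread.two_element [Finite X] (c : Spread Y D) (hexp : ∀ d ∈ D, d + d = 0)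
    (hYe : ∀ y ∈ Y, y ^ 2 = 1) (hO : Cfsg.pCore 2 X = ⊥)
    (hmax : ∀ Z : Subgroup X, Y ≤ Z → Z ≠ ⊤ → Z ≤ normalizer (Y : Set X))
    (hreal : ∀ x : X, x ≠ 1 → Odd (orderOf x) → ∃ t g : X, g⁻¹ * t * g ∈ Y ∧ t ≠ 1 ∧ t * x * t⁻¹ = x⁻¹)
    {x : X} (hx1 : x ≠ 1) (hxo : Odd (orderOf x)) {v : M} (hxv : x • v = v) : v = 0 := by
  have hM : ∀ m : M, m + m = 0 := fun m => by
    obtain ⟨g, -, hg⟩ := SetLike.exists_of_lt (lt_top_iff_ne_top.2 c.proper)
    obtain ⟨d, hd, e, he, rfl⟩ := c.span g hg m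
    rw [add_add_add_comm, hexp d hd, ← smul_add, hexp e he, smul_zero, add_zero]
  -- an involution of `Y` fixes only `D`
  have hfix : ∀ t ∈ Y, t ≠ 1 → ∀ m : M, t • m = m → m ∈ D := by
    intro t ht ht1 m hm
    obtain ⟨g, hg⟩ : ∃ g, t ∉ (normalizer (Y : Set X)) ⊛ g := by
      by_contra h
      push Not at h
      set N₀ := (normalizer (Y : Set X)).normalCore with hN₀
      have htN : t ∈ N₀ := fun g => by
        obtain ⟨n, hn, hne⟩ := h g⁻¹
        rw [← hne]
        simpa [mul_assoc] using hn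
      have h1 : N₀ ≤ normalizer ((N₀ ⊓ Y : Subgroup X) : Set X) :=
        (le_inf le_normalizer (normalCore_le _)).trans inf_normalizer_le_normalizer_inf
      have h2 : N₀ ⊓ Y ≤ Cfsg.pCoreOf 2 N₀ := le_pCoreOf inf_le_left h1
        (fun z => ⟨1, Subtype.ext (by rw [pow_one]; exact hYe _ (mem_inf.1 z.2).2)⟩)
      have h3 := pCoreOf_mono_of_normal (p := 2) le_top
        ((normalizer_eq_top (H := N₀)).ge)
      rw [pCoreOf_top, hO] at h3
      exact ht1 (mem_bot.1 ((h2.trans h3) ⟨htN, ht⟩))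
    have hgn : g ∉ normalizer (Y : Set X) := fun h => hg (by
      rw [conj_map_of_mem (le_normalizer h)]; exact le_normalizer ht)
    obtain ⟨d, hd, e, he, rfl⟩ := c.span g hgn m
    have hgen : zpowers t ⊔ Y ⊛ g = ⊤ := by
      by_contra h
      refine hg ?_
      set Z := (zpowers t ⊔ Y ⊛ g) ⊛ g⁻¹ with hZ
      have hYZ : Y ≤ Z := by
        refine le_trans (le_of_eq ?_) (map_mono le_sup_right)
        rw [conj_map_map, inv_mul_cancel, conj_map_one]
      have hZt : Z ≠ ⊤ := fun h' => h (map_injective (MulAut.conj g⁻¹).injective (h'.trans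
        (map_top_of_surjective _ (MulAut.conj g⁻¹).surjective).symm))
      have h4 := map_mono (f := (MulAut.conj g).toMonoidHom) (hmax Z hYZ hZt)
      rw [hZ, conj_map_map, mul_inv_cancel, conj_map_one] at h4
      exact h4 (mem_sup_left (mem_zpowers t))
    have hall : ∀ x : X, x • (g • e) = g • e := fixed_of_gen hgen
      (fun a ha => by
        have hts : t ∈ MulAction.stabilizer X (g • e) := by
          rw [smul_add, c.fixes t ht d hd] at hm
          exact add_left_cancel hm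
        exact (zpowers_le.2 hts) ha)
      (by
        rintro _ ⟨y, hy, rfl⟩
        show (g * y * g⁻¹) • g • e = g • e
        rw [smul_smul, inv_mul_cancel_right, mul_smul, c.fixes y hy e he])
    have hge : g • e = e := by
      have := hall g⁻¹
      rw [inv_smul_smul] at this
      exact this.symm
    rw [c.inter g hgn e he (hge.symm ▸ he), smul_zero, add_zero]
    exact hd
  by_contra hv
  obtain ⟨t, g, htg, ht1, hinv⟩ := hreal x hx1 hxo
  set s := g⁻¹ * t * g with hs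
  have hs1 : s ≠ 1 := fun h => ht1 (by
    have : g * s * g⁻¹ = t := by simp [hs, mul_assoc]
    rw [← this, h, mul_one, mul_inv_cancel])
  have ht2 : t * t = 1 := by
    have h := hYe s htg
    rw [sq] at h
    calc t * t = g * (s * s) * g⁻¹ := by simp [hs, mul_assoc]
      _ = 1 := by rw [h, mul_one, mul_inv_cancel]
  have htinv : t⁻¹ = t := inv_eq_of_mul_eq_one_right ht2
  -- a common fixed point of `x` and `t`
  obtain ⟨w, hw, hxw, htw⟩ : ∃ w : M, w ≠ 0 ∧ x • w = w ∧ t • w = w := by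
    have hxt : x • t • v = t • v := by
      have h : x * t = t * x⁻¹ := by
        rw [← hinv, htinv, ← mul_assoc, ← mul_assoc, ht2, one_mul]
      rw [smul_smul, h, mul_smul]
      exact congrArg (t • ·) (inv_smul_eq_iff.2 hxv.symm)
    by_cases h : v + t • v = 0
    · exact ⟨v, hv, hxv, (eq_neg_of_add_eq_zero_right h).trans (eq_neg_of_add_eq_zero_left (hM v)).symm⟩
    · exact ⟨_, h, by rw [smul_add, hxv, hxt], by rw [smul_add, smul_smul, ht2, one_smul, add_comm]⟩
  have hwD : g⁻¹ • w ∈ D := hfix s htg hs1 _ (by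
    rw [smul_smul, hs, mul_inv_cancel_right, mul_smul, htw])
  have hxn : g⁻¹ * x * g ∈ normalizer (Y : Set X) := by
    by_contra h
    have := c.inter _ h _ hwD (by rw [smul_smul, mul_inv_cancel_right, mul_smul, hxw]; exact hwD)
    exact hw ((smul_eq_zero_iff_eq _).1 this)
  set z := g⁻¹ * x * g with hz
  have hzz : z ^ 2 ∈ Y := by
    have h1 : z⁻¹ = s * z * s⁻¹ := by
      rw [hz, show (g⁻¹ * x * g)⁻¹ = g⁻¹ * x⁻¹ * g by simp [mul_assoc], ← hinv]
      simp [hs, mul_assoc]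
    have h2 : s * z * s⁻¹ * z⁻¹ ∈ Y := by
      rw [mul_assoc, mul_assoc, ← mul_assoc z]
      exact Y.mul_mem htg ((mem_normalizer_iff.1 hxn s⁻¹).1 (Y.inv_mem htg))
    rw [← h1, ← mul_inv_rev, ← sq] at h2
    exact inv_mem_iff.1 h2
  have h4 := hYe _ hzz
  rw [← pow_mul] at h4
  have ho : orderOf z = orderOf x := by
    have e : MulAut.conj g⁻¹ x = z := by simp [hz]
    rw [← e, MulEquiv.orderOf_eq]
  have h5 : orderOf x ∣ 4 := ho ▸ orderOf_dvd_of_pow_eq_one h4
  have h6 : orderOf x = 1 := Nat.eq_one_of_dvd_coprimes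
    ((Nat.coprime_two_right.2 hxo).pow_right 2) dvd_rfl h5
  exact hx1 (orderOf_eq_one_iff.1 h6)

/-- In a Suzuki group every element of odd order is inverted by an involution. -/
theorem sz_real {F : Type*} [Field F] [Fintype F] [CharP F 2] {m : ℕ} (hm : 1 ≤ m)
    (hF : Fintype.card F = 2 ^ (2 * m + 1)) {x : Cfsg.Sz F m} (hx1 : x ≠ 1) (hxo : Odd (orderOf x)) :
    ∃ t : Cfsg.Sz F m, orderOf t = 2 ∧ t * x * t⁻¹ = x⁻¹ := by
  haveI : Fact (Nat.Prime 2) := ⟨Nat.prime_two⟩
  rcases Suzuki.trType_or_isTor hm hF hx1 with h | h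
  · exact absurd (h.even_orderOf hm hF) (fun h2 => Nat.not_even_iff_odd.2 hxo (even_iff_two_dvd.2 h2))
  · set T := Subgroup.centralizer ({x} : Set (Cfsg.Sz F m))
    have hd : 2 ∣ Nat.card (normalizer (T : Set (Cfsg.Sz F m))) := by
      rcases h.cases hm hF with ⟨-, -, h2⟩ | ⟨-, -, h2⟩ <;> rw [h2]
      exacts [dvd_mul_right 2 _, Dvd.dvd.mul_right (by norm_num) _]
    obtain ⟨⟨z, hz⟩, hzo⟩ := exists_prime_orderOf_dvd_card' (G := ↥(normalizer (T : Set (Cfsg.Sz F m)))) 2 hd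
    rw [← Subgroup.orderOf_coe] at hzo
    refine ⟨z, hzo, ?_⟩
    rw [inv_eq_of_mul_eq_one_right (by rw [← sq, ← hzo, pow_orderOf_eq_one] : z * z = 1)]
    exact h.inverted hm hF hz hzo (mem_centralizer_singleton_iff.2 rfl)

/-- An involution of a Suzuki group is conjugate into every elementary abelian subgroup of order `q`. -/
theorem sz_conj_mem {F : Type*} [Field F] [Fintype F] [CharP F 2] {m : ℕ} (hm : 1 ≤ m)
    (hF : Fintype.card F = 2 ^ (2 * m + 1)) {Y : Subgroup (Cfsg.Sz F m)}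
    (hY : Cfsg.IsElementaryAbelian 2 Y) (hc : Nat.card Y = Fintype.card F)
    {t : Cfsg.Sz F m} (ht : orderOf t = 2) : ∃ g : Cfsg.Sz F m, g⁻¹ * t * g ∈ Y := by
  haveI : Fact (Nat.Prime 2) := ⟨Nat.prime_two⟩
  have key : ∀ V : Subgroup (Cfsg.Sz F m), IsPGroup 2 ↥V → (∀ v ∈ V, v ^ 2 = 1) →
      ∃ g : Cfsg.Sz F m, ∀ v ∈ V, ∃ b, g * v * g⁻¹ = Suzuki.tr hF 0 b := by
    intro V hV hV2
    obtain ⟨P₀, hP₀⟩ := Suzuki.exists_sylow hm hF
    obtain ⟨P₁, hP₁⟩ := hV.exists_le_sylow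
    obtain ⟨g, hg⟩ := MulAction.exists_smul_eq (Cfsg.Sz F m) P₁ P₀
    refine ⟨g, fun v hv => ?_⟩
    have hv' : g * v * g⁻¹ ∈ Suzuki.U hF := by
      rw [← hP₀, ← hg, Sylow.coe_subgroup_smul]
      exact ⟨v, hP₁ hv, rfl⟩
    obtain ⟨a, b, hab⟩ := hv'
    refine ⟨b, hab.trans ?_⟩
    have h : (g * v * g⁻¹) ^ 2 = 1 := by rw [conj_pow, hV2 v hv, mul_one, mul_inv_cancel]
    rw [hab, sq, Suzuki.tr_mul, ← Suzuki.tr_zero hF] at h
    have h2 := (Suzuki.tr_injective hF h).2
    rw [CharTwo.add_self_eq_zero, zero_add, ← pow_succ, pow_eq_zero_iff (Nat.succ_ne_zero _)] at h2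
    rw [h2]
  obtain ⟨g, hg⟩ := key Y (isPGroup_of_isElementaryAbelian hY) hY.2
  obtain ⟨k, hk⟩ := key (zpowers t) (IsPGroup.of_card (n := 1) (by rw [Nat.card_zpowers, ht, pow_one]))
    (fun v hv => orderOf_dvd_iff_pow_eq_one.1 (ht ▸ orderOf_dvd_of_mem_zpowers hv))
  obtain ⟨b, hb⟩ := hk t (mem_zpowers t)
  choose f hf using fun y : ↥Y => hg y y.2
  have hinj : Function.Injective f := fun y y' h => Subtype.ext (mul_left_cancel (mul_right_cancel ((hf y).trans (h ▸ (hf y').symm))))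
  obtain ⟨y, hy⟩ := (hinj.bijective_of_nat_card_le (by rw [Nat.card_eq_fintype_card, hc])).2 b
  refine ⟨k⁻¹ * g, ?_⟩
  have h1 : g * (y : Cfsg.Sz F m) * g⁻¹ = k * t * k⁻¹ := by rw [hf y, hy, hb]
  have e : (k⁻¹ * g)⁻¹ * t * (k⁻¹ * g) = g⁻¹ * (k * t * k⁻¹) * g := by simp [mul_assoc]
  rw [e, ← h1]
  simp [mul_assoc]

end Cfsg.Agent.CharP.FrakLMod
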