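import Cfsg.Agent.Lib.CharP.SL2Natural
import Cfsg.Agent.Lib.CharP.Parabolic
import Cfsg.Agent.Lib.Classical.GL2
import Cfsg.Agent.Lib.Suzuki.LieEquiv
import Cfsg.Agent.Lib.Involutions.BaerSuzuki

/-!
The normalizer of a Sylow-central elementary abelian subgroup of `SL₂`, a Suzuki group or a dihedral group
has a unique elementary abelian normal subgroup.
-/

set_option autoImplicit false
set_option linter.style.haveILetI false
set_option linter.unusedSectionVars false

namespace Cfsg.Agent.CharP.FrakLQuot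

open Subgroup

local notation:70 A:70 " ⊛ " g:71 => Subgroup.map (MulEquiv.toMonoidHom (MulAut.conj g)) A

variable {p : ℕ} [Fact p.Prime] {X : Type*} [Group X]

/-- `Y` is the only nontrivial elementary abelian normal `p`-subgroup of its normalizer. -/
def UniqueEA (p : ℕ) (Y : Subgroup X) : Prop :=
  ∀ V : Subgroup X, V ≤ normalizer (Y : Set X) → normalizer (Y : Set X) ≤ normalizer (V : Set X) →
    Cfsg.IsElementaryAbelian p V → V ≠ ⊥ → V = Y

theorem isEA_map {X' : Type*} [Group X'] (f : X →* X') {V : Subgroup X}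
    (hV : Cfsg.IsElementaryAbelian p V) : Cfsg.IsElementaryAbelian p (V.map f) := by
  refine ⟨⟨⟨?_⟩⟩, ?_⟩
  · rintro ⟨_, a, ha, rfl⟩ ⟨_, b, hb, rfl⟩
    apply Subtype.ext
    show f a * f b = f b * f a
    rw [← map_mul, ← map_mul]
    exact congrArg f (congrArg Subtype.val (hV.1.is_comm.comm ⟨a, ha⟩ ⟨b, hb⟩))
  · rintro _ ⟨a, ha, rfl⟩
    rw [← map_pow, hV.2 a ha, map_one]

theorem normalizer_conj (A : Subgroup X) (g : X) :
    normalizer ((A ⊛ g : Subgroup X) : Set X) = (normalizer (A : Set X)) ⊛ g := by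
  refine le_antisymm ?_ ?_
  · intro x hx
    refine ⟨g⁻¹ * x * g, ?_, by simp [mul_assoc]⟩
    have h := conj_mem_normalizer_map g⁻¹ hx
    rw [conj_map_map, inv_mul_cancel, conj_map_one] at h
    simpa using h
  · rintro _ ⟨x, hx, rfl⟩
    exact conj_mem_normalizer_map g hx

theorem uniqueEA_of_conj {Y : Subgroup X} (g : X) (h : UniqueEA p (Y ⊛ g)) : UniqueEA p Y := by
  intro V hV hVn hVe hV1
  refine map_injective (MulAut.conj g).injective (h (V ⊛ g) ?_ ?_ (isEA_map _ hVe)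
    ((map_eq_bot_iff_of_injective _ (f := (MulAut.conj g).toMonoidHom) (MulAut.conj g).injective).not.2 hV1))
  · rw [normalizer_conj]; exact map_mono hV
  · rw [normalizer_conj, normalizer_conj]; exact map_mono hVn

/-! ### Order two -/

/-- A group with an involution `t` outside `O_2` whose normalizer is the only maximal subgroup over it
is dihedral of twice odd order. -/
theorem exists_inverting [Finite X] {Y : Subgroup X} (hY : Nat.card Y = 2)
    (hmax : ∀ Z : Subgroup X, Y ≤ Z → Z ≠ ⊤ → Z ≤ normalizer (Y : Set X))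
    (h0 : Cfsg.pCore 2 X = ⊥) : ∃ t x : X, t ∈ Y ∧ orderOf t = 2 ∧ Odd (orderOf x) ∧
      t * x * t⁻¹ = x⁻¹ ∧ Y ≤ normalizer (zpowers x : Set X) ∧ Y ⊔ zpowers x = ⊤ ∧
      Nat.card X = 2 * orderOf x := by
  haveI : Fact (Nat.Prime 2) := ⟨Nat.prime_two⟩
  obtain ⟨t, ht1, hgen⟩ : ∃ t : X, orderOf t = 2 ∧ Y = zpowers t := by
    obtain ⟨⟨t, htY⟩, ht⟩ := exists_prime_orderOf_dvd_card' (G := ↥Y) 2 (by rw [hY])
    have ht' : orderOf t = 2 := by rwa [← Subgroup.orderOf_coe] at ht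
    exact ⟨t, ht', (eq_of_le_of_card_ge (zpowers_le.2 htY) (by rw [hY, Nat.card_zpowers, ht'])).symm⟩
  have htY : t ∈ Y := hgen ▸ mem_zpowers t
  obtain ⟨x, hx1, hxo, hxt⟩ := Cfsg.Agent.Involutions.BaerSuzuki.exists_inverted_odd t ht1
    fun N hN hN2 htN => by
      have h := (le_pCore hN hN2) htN
      rw [h0, mem_bot] at h
      rw [h, orderOf_one] at ht1
      omega
  have hxn : Y ≤ normalizer (zpowers x : Set X) := by
    rw [hgen, zpowers_le]
    refine mem_normalizer_of_conj_map ?_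
    rw [MonoidHom.map_zpowers]
    show zpowers (t * x * t⁻¹) = _
    rw [hxt, zpowers_inv]
  have htop : Y ⊔ zpowers x = ⊤ := by
    by_contra h
    have h1 := hmax _ le_sup_left h (mem_sup_right (mem_zpowers x))
    -- then `x` commutes with `t`
    have h2 : x * t * x⁻¹ = t := by
      have h3 := (mem_normalizer_iff.1 h1 t).1 htY
      rw [hgen, mem_zpowers_iff] at h3
      obtain ⟨k, hk⟩ := h3
      rcases Int.even_or_odd k with ⟨j, rfl⟩ | ⟨j, rfl⟩
      · exfalso
        rw [← two_mul, zpow_mul, zpow_two, ← sq, ← ht1, pow_orderOf_eq_one, one_zpow] at hk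
        have : t = 1 := conj_eq_one_iff.1 hk.symm
        rw [this, orderOf_one] at ht1
        omega
      · rw [zpow_add, zpow_one, zpow_mul, zpow_two, ← sq, ← ht1, pow_orderOf_eq_one, one_zpow,
          one_mul] at hk
        exact hk.symm
    have h4 : x⁻¹ = x := by
      rw [← hxt]
      calc t * x * t⁻¹ = (x * t * x⁻¹) * x * t⁻¹ := by rw [h2]
        _ = x := by simp [mul_assoc]
    have h5 : x ^ 2 = 1 := by rw [sq]; nth_rw 1 [← h4]; exact inv_mul_cancel x
    have h6 := orderOf_dvd_of_pow_eq_one h5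
    rcases (Nat.dvd_prime Nat.prime_two).1 h6 with h7 | h7
    · exact hx1 (orderOf_eq_one_iff.1 h7)
    · rw [h7] at hxo; exact absurd hxo (by decide)
  have hcard : Nat.card X = 2 * orderOf x := by
    refine le_antisymm ?_ ?_
    · have hs : Function.Surjective (fun q : ↥Y × ↥(zpowers x) => (q.1 : X) * q.2) := fun g => by
        have hg : g ∈ Y ⊔ zpowers x := htop ▸ mem_top g
        rw [← SetLike.mem_coe, coe_mul_of_left_le_normalizer_right _ _ hxn] at hg
        obtain ⟨a, ha, b, hb, rfl⟩ := hg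
        exact ⟨(⟨a, ha⟩, ⟨b, hb⟩), rfl⟩
      have := Nat.card_le_card_of_surjective _ hs
      rwa [Nat.card_prod, hY, Nat.card_zpowers] at this
    · refine Nat.le_of_dvd Nat.card_pos (Nat.Coprime.mul_dvd_of_dvd_of_dvd ?_ ?_ (orderOf_dvd_natCard x))
      · exact Nat.coprime_two_left.2 hxo
      · exact hY ▸ card_subgroup_dvd_card Y
  exact ⟨t, x, htY, ht1, hxo, hxt, hxn, htop, hcard⟩

theorem uniqueEA_two [Finite X] {Y : Subgroup X} (hY : Nat.card Y = 2)
    (hmax : ∀ Z : Subgroup X, Y ≤ Z → Z ≠ ⊤ → Z ≤ normalizer (Y : Set X))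
    (h0 : Cfsg.pCore 2 X = ⊥) : UniqueEA 2 Y := by
  haveI : Fact (Nat.Prime 2) := ⟨Nat.prime_two⟩
  intro V hV hVn hVe hV1
  obtain ⟨t, x, -, -, hxo, -, -, -, hcard⟩ := exists_inverting hY hmax h0
  have hp : IsPGroup 2 ↥(V ⊔ Y : Subgroup X) := (isPGroup_of_isElementaryAbelian hVe).to_sup_of_normal_right'
    (IsPGroup.of_card (n := 1) (by rw [hY, pow_one])) hV
  obtain ⟨k, hk⟩ := IsPGroup.iff_card.1 hp
  have hle : Nat.card ↥(V ⊔ Y : Subgroup X) ≤ 2 := by
    have h1 : 2 ^ k ∣ 2 * orderOf x := hcard ▸ hk ▸ card_subgroup_dvd_card _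
    rcases k with _ | _ | k
    · rw [hk]; norm_num
    · rw [hk]; norm_num
    · exfalso
      rw [pow_succ'] at h1
      have h2 := Nat.dvd_of_mul_dvd_mul_left (by norm_num) h1
      exact Nat.not_even_iff_odd.2 hxo (even_iff_two_dvd.2 ((dvd_pow_self 2 k.succ_ne_zero).trans h2))
  have hYV : Y = V ⊔ Y := eq_of_le_of_card_ge le_sup_right (by rw [hY]; exact hle)
  have hVY : V ≤ Y := le_sup_left.trans hYV.ge
  refine eq_of_le_of_card_ge hVY ?_
  rw [hY]
  exact (one_lt_card_iff_ne_bot V).2 hV1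

/-! ### `SL₂` -/

section sl2

open Matrix
open scoped MatrixGroups
open Cfsg.Agent.CharP.SL2Natural

variable {F : Type*} [Field F] [Fintype F] [CharP F p]

theorem exists_sq_add_sq (x : F) : ∃ a b : F, a ^ 2 + b ^ 2 = x := by
  classical
  by_cases h2 : ringChar F = 2
  · obtain ⟨a, rfl⟩ := FiniteField.isSquare_of_char_two h2 x
    exact ⟨a, 0, by simp [sq]⟩
  · have hodd : Fintype.card F % 2 = 1 := FiniteField.odd_card_of_char_ne_two h2
    obtain ⟨a, b, hab⟩ := FiniteField.exists_root_sum_quadratic (R := F) (f := Polynomial.X ^ 2)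
      (g := Polynomial.X ^ 2 - Polynomial.C x) (Polynomial.degree_X_pow 2)
      (Polynomial.degree_X_pow_sub_C (by norm_num) x) hodd
    exact ⟨a, b, by simpa [← add_sub_assoc, sub_eq_zero] using hab⟩

/-- The upper unitriangular subgroup. -/
def UU (F : Type*) [Field F] : Subgroup SL(2, F) where
  carrier := {g | ∃ a, g = uu a}
  one_mem' := ⟨0, uu_zero.symm⟩
  mul_mem' := by rintro _ _ ⟨a, rfl⟩ ⟨b, rfl⟩; exact ⟨_, uu_mul a b⟩
  inv_mem' := by rintro _ ⟨a, rfl⟩; exact ⟨_, uu_inv a⟩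

theorem uu_injective : Function.Injective (uu : F → SL(2, F)) := fun a b h => by
  have := congrArg (fun g : SL(2, F) => (g : Matrix (Fin 2) (Fin 2) F) 0 1) h
  simpa [uu] using this

theorem card_UU : Nat.card (UU F) = Fintype.card F := by
  rw [← Nat.card_eq_fintype_card]
  exact (Nat.card_eq_of_bijective (fun a : F => (⟨uu a, a, rfl⟩ : UU F))
    ⟨fun a b h => uu_injective (congrArg Subtype.val h), fun ⟨g, a, ha⟩ => ⟨a, Subtype.ext ha.symm⟩⟩).symm

theorem isSylIn_of_card {T : Subgroup SL(2, F)} (hT : IsPGroup p ↥T)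
    (hTc : Nat.card T = Fintype.card F) : IsSylIn p T ⊤ := by
  obtain ⟨n, -, hn⟩ := FiniteField.card F p
  refine isSylIn_of_not_dvd hT le_top ?_
  have h1 : T.relIndex ⊤ = (Fintype.card F - 1) * (Fintype.card F + 1) := by
    rw [relIndex_top_right]
    refine Nat.eq_of_mul_eq_mul_left (Fintype.card_pos (α := F)) ?_
    rw [← Classical.GL2.natCard_SL_two, ← hTc]
    exact T.card_mul_index
  rw [h1]
  intro hd
  have hp : p.Prime := Fact.out
  have hdq : p ∣ Fintype.card F := hn ▸ dvd_pow_self p n.pos.ne'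
  rcases hp.dvd_mul.1 hd with h | h
  · have := Nat.dvd_sub hdq h
    rw [Nat.sub_sub_self Fintype.card_pos] at this
    exact hp.one_lt.ne' (Nat.dvd_one.1 this)
  · exact hp.one_lt.ne' (Nat.dvd_one.1 ((Nat.dvd_add_right hdq).1 h))

theorem isPGroup_UU : IsPGroup p ↥(UU F) := by
  obtain ⟨n, -, hn⟩ := FiniteField.card F p
  exact IsPGroup.of_card (n := (n : ℕ)) (by rw [card_UU, hn])

theorem exists_conj_UU {Y : Subgroup SL(2, F)} (hY : IsPGroup p ↥Y) (hc : Nat.card Y = Fintype.card F) :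
    ∃ g : SL(2, F), Y ⊛ g = UU F := by
  obtain ⟨g, -, hg⟩ := (isSylIn_of_card hY hc).exists_conj (isSylIn_of_card isPGroup_UU card_UU)
  exact ⟨g, hg⟩

theorem uniqueEA_SL2 {Y : Subgroup SL(2, F)} (hY : IsPGroup p ↥Y)
    (hcard : Nat.card Y = Fintype.card F) : UniqueEA p Y := by
  obtain ⟨g, hg⟩ := exists_conj_UU (p := p) hY hcard
  have hU : IsPGroup p ↥(UU F) := isPGroup_UU
  refine uniqueEA_of_conj g ?_
  rw [hg]
  intro V hV hVn hVe hV1
  have hVU : V ≤ UU F := by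
    have h := ((isPGroup_of_isElementaryAbelian hVe).to_sup_of_normal_right' hU hV)
    rw [← (isSylIn_of_card hU card_UU).eq_of_le h le_top le_sup_right]
    exact le_sup_left
  have htt : ∀ a : Fˣ, tt a ∈ normalizer (UU F : Set SL(2, F)) := fun a => by
    refine mem_normalizer_of_conj_map (eq_of_le_of_card_ge ?_
      (card_map_of_injective (MulAut.conj (tt a)).injective).ge)
    rintro _ ⟨_, ⟨b, rfl⟩, rfl⟩
    refine ⟨(a : F) * a * b, ?_⟩
    show tt a * uu b * (tt a)⁻¹ = _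
    rw [mul_inv_eq_iff_eq_mul, uu_mul_tt]
    simp [← mul_assoc]
  let S : Set F := {b | uu b ∈ V}
  have hadd : ∀ b c, b ∈ S → c ∈ S → b + c ∈ S := fun b c hb hc => by
    show uu (b + c) ∈ V
    rw [← uu_mul]; exact mul_mem hb hc
  have hsq : ∀ (a : F) (b : F), b ∈ S → a ^ 2 * b ∈ S := by
    intro a b hb
    by_cases ha : a = 0
    · show uu (a ^ 2 * b) ∈ V
      rw [ha, zero_pow two_ne_zero, zero_mul, uu_zero]; exact one_mem V
    · have h := (mem_normalizer_iff.1 (hVn (htt (Units.mk0 a ha))) _).1 hb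
      rw [show tt (Units.mk0 a ha) * uu b * (tt (Units.mk0 a ha))⁻¹ = uu (a ^ 2 * b) from by
        rw [mul_inv_eq_iff_eq_mul, uu_mul_tt]
        simp [sq, ← mul_assoc, ha]] at h
      exact h
  obtain ⟨v, hv, hv1⟩ := (bot_or_exists_ne_one V).resolve_left hV1
  obtain ⟨b, rfl⟩ := hVU hv
  have hb : b ≠ 0 := fun h => hv1 (h ▸ uu_zero)
  refine le_antisymm hVU ?_
  rintro _ ⟨c, rfl⟩
  obtain ⟨a₁, a₂, ha⟩ := exists_sq_add_sq (c / b)
  have h := hadd _ _ (hsq a₁ b hv) (hsq a₂ b hv)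
  rwa [← add_mul, ha, div_mul_cancel₀ c hb] at h

end sl2

/-! ### Suzuki groups -/

section sz

open Cfsg.Agent.Suzuki

variable {F : Type*} [Field F] [Fintype F] [CharP F 2] {m : ℕ}

theorem uniqueEA_Sz (hm : 1 ≤ m) (hF : Fintype.card F = 2 ^ (2 * m + 1))
    {Y : Subgroup (Cfsg.Sz F m)} (hY : Cfsg.IsElementaryAbelian 2 Y)
    (hcard : Nat.card Y = Fintype.card F) : UniqueEA 2 Y := by
  haveI : Fact (Nat.Prime 2) := ⟨Nat.prime_two⟩
  haveI : Finite (Cfsg.Sz F m) := inferInstance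
  obtain ⟨P₀, hP₀⟩ := exists_sylow hm hF
  obtain ⟨P₁, hP₁⟩ := (isPGroup_of_isElementaryAbelian hY).exists_le_sylow
  obtain ⟨g, hg⟩ := MulAction.exists_smul_eq (Cfsg.Sz F m) P₁ P₀
  refine uniqueEA_of_conj g ?_
  have hY' : Y ⊛ g ≤ U hF := by
    rw [← hP₀, ← hg, Sylow.coe_subgroup_smul]
    exact map_mono hP₁
  set Y' := Y ⊛ g
  have hY'e : Cfsg.IsElementaryAbelian 2 Y' := isEA_map _ hY
  have hY'c : Nat.card Y' = Fintype.card F := (card_map_of_injective (MulAut.conj g).injective).trans hcard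
  let C : Subgroup (Cfsg.Sz F m) :=
    { carrier := {x | ∃ b, x = tr hF 0 b}
      one_mem' := ⟨0, (tr_zero hF).symm⟩
      mul_mem' := by
        rintro _ _ ⟨b, rfl⟩ ⟨d, rfl⟩
        exact ⟨b + d, by rw [tr_mul]; simp⟩
      inv_mem' := by
        rintro _ ⟨b, rfl⟩
        exact ⟨b, by rw [tr_inv]; simp⟩ }
  have hinv : ∀ V : Subgroup (Cfsg.Sz F m), Cfsg.IsElementaryAbelian 2 V → V ≤ U hF → V ≤ C := by
    intro V hV hVU v hv
    obtain ⟨a, b, rfl⟩ := hVU hv
    refine ⟨b, ?_⟩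
    have h := hV.2 _ hv
    rw [sq, tr_mul, ← tr_zero hF] at h
    have h2 := (tr_injective hF h).2
    rw [CharTwo.add_self_eq_zero, zero_add, ← pow_succ, pow_eq_zero_iff (Nat.succ_ne_zero _)] at h2
    rw [h2]
  have hCY : C ≤ Y' := by
    have hCc : Nat.card C = Fintype.card F := by
      rw [← Nat.card_eq_fintype_card]
      exact (Nat.card_eq_of_bijective (fun b : F => (⟨tr hF 0 b, b, rfl⟩ : C))
        ⟨fun a b h => (tr_injective hF (congrArg Subtype.val h)).2,
          fun ⟨x, b, hb⟩ => ⟨b, Subtype.ext hb.symm⟩⟩).symm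
    exact (eq_of_le_of_card_ge (hinv Y' hY'e hY') (by rw [hCc, hY'c])).ge
  have hYC : Y' = C := le_antisymm (hinv Y' hY'e hY') hCY
  rw [hYC]
  intro V hV hVn hVe hV1
  have hUn : U hF ≤ normalizer (C : Set (Cfsg.Sz F m)) := by
    rintro _ ⟨a, b, rfl⟩
    refine mem_normalizer_of_conj_map (eq_of_le_of_card_ge ?_
      (card_map_of_injective (MulAut.conj _).injective).ge)
    rintro _ ⟨_, ⟨d, rfl⟩, rfl⟩
    refine ⟨d, ?_⟩
    show tr hF a b * tr hF 0 d * (tr hF a b)⁻¹ = _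
    rw [mul_inv_eq_iff_eq_mul, tr_mul, tr_mul]
    simp [add_comm]
  have hVU : V ≤ U hF := by
    have h := (isPGroup_of_isElementaryAbelian hVe).to_sup_of_normal_left'
      (IsPGroup.of_card (n := 2 * (2 * m + 1)) (by rw [card_U hF, hF, ← pow_mul, mul_comm]))
      (hUn.trans hVn)
    have h2 := P₀.3 h (by rw [hP₀]; exact le_sup_right)
    exact le_sup_left.trans (h2.le.trans hP₀.le)
  have hVC : V ≤ C := hinv V hVe hVU
  obtain ⟨v, hv, hv1⟩ := (bot_or_exists_ne_one V).resolve_left hV1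
  obtain ⟨b, rfl⟩ := hVC hv
  have hb : b ≠ 0 := fun h => hv1 (h ▸ tr_zero hF)
  have htor : ∀ s : Fˣ, tor hF s ∈ normalizer (C : Set (Cfsg.Sz F m)) := fun s => by
    refine mem_normalizer_of_conj_map (eq_of_le_of_card_ge ?_
      (card_map_of_injective (MulAut.conj _).injective).ge)
    rintro _ ⟨_, ⟨d, rfl⟩, rfl⟩
    exact ⟨_, (conj_tr hF s 0 d).trans (by rw [mul_zero])⟩
  refine le_antisymm hVC ?_
  rintro _ ⟨d, rfl⟩
  by_cases hd : d = 0
  · rw [hd, tr_zero]; exact one_mem V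
  -- solve `s ^ (2 ^ (m + 1) + 2) = d / b`
  have hcop : (Nat.card Fˣ).Coprime (2 ^ (m + 1) + 2) := by
    rw [Nat.card_units, Nat.card_eq_fintype_card, hF]
    exact pow_sub_one_coprime m
  obtain ⟨k, hk⟩ := exists_pow_eq_self_of_coprime
    (x := Units.mk0 (d / b) (div_ne_zero hd hb))
    (hcop.symm.coprime_dvd_right (orderOf_dvd_natCard _))
  have h := (mem_normalizer_iff.1 (hVn (htor ((Units.mk0 (d / b) (div_ne_zero hd hb)) ^ k))) _).1 hv
  rw [conj_tr, mul_zero] at h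
  have e : ((Units.mk0 (d / b) (div_ne_zero hd hb)) ^ k : Fˣ).val ^ 2 ^ (m + 1) *
      ((Units.mk0 (d / b) (div_ne_zero hd hb)) ^ k : Fˣ).val ^ 2 = d / b := by
    rw [← pow_add, ← Units.val_pow_eq_pow_val, ← pow_mul, mul_comm, pow_mul, hk, Units.val_mk0]
  rwa [e, div_mul_cancel₀ d hb] at h
where
  pow_sub_one_coprime (m : ℕ) : (2 ^ (2 * m + 1) - 1).Coprime (2 ^ (m + 1) + 2) := by
    have h2 : (2 ^ (m + 1) + 2) = 2 * (2 ^ m + 1) := by ring
    rw [h2]
    refine Nat.Coprime.mul_right ?_ ?_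
    · refine Nat.coprime_two_right.2 (Nat.Even.sub_odd Nat.one_le_two_pow ?_ odd_one)
      exact even_two.pow_of_ne_zero (by omega)
    · -- `2 ^ (2m+1) - 1 = 2 (2^m + 1) (2^m - 1) + 1`
      obtain ⟨c, hc⟩ : ∃ c, 2 ^ m = c + 1 := ⟨2 ^ m - 1, (Nat.sub_add_cancel Nat.one_le_two_pow).symm⟩
      have e : 2 ^ (2 * m + 1) - 1 = 1 + (2 ^ m + 1) * (2 * c) := by
        rw [pow_succ, pow_mul', hc]
        have : (c + 1) ^ 2 * 2 = 1 + (1 + (c + 1 + 1) * (2 * c)) := by ring
        omega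
      rw [e, Nat.coprime_add_mul_left_left]
      exact Nat.coprime_one_left _

end sz

end Cfsg.Agent.CharP.FrakLQuot
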