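import Mathlib
import Cfsg.Prelude.Def_LocalEven
import Cfsg.Prelude.Def_Transfer
import Cfsg.Agent.Lib.Classical.GL2
import Cfsg.Agent.Lib.CharP.Sylow

/-!
Coordinates on `Qd(F)`, its translation subgroup and its Heisenberg Sylow subgroup.
-/

set_option autoImplicit false

namespace Cfsg.Agent.CharP.QdBasic

open Matrix
open scoped MatrixGroups

variable {F : Type*} [Field F]

/-- The affine matrix with linear part `A` and translation part `x`. -/
def aff (A : SL(2, F)) (x : Fin 2 → F) : SL(3, F) :=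
  ⟨!![A.1 0 0, A.1 0 1, x 0; A.1 1 0, A.1 1 1, x 1; 0, 0, 1], by
    have h := A.2
    rw [det_fin_two] at h
    rw [det_fin_three]
    simp
    linear_combination h⟩

theorem aff_mem (A : SL(2, F)) (x : Fin 2 → F) : aff A x ∈ Cfsg.qdOver F :=
  Subgroup.subset_closure ⟨rfl, rfl, rfl⟩

/-- The element of `Qd(F)` with linear part `A` and translation part `x`. -/
def el (A : SL(2, F)) (x : Fin 2 → F) : ↥(Cfsg.qdOver F) := ⟨aff A x, aff_mem A x⟩

theorem aff_mul (A B : SL(2, F)) (x y : Fin 2 → F) :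
    aff A x * aff B y = aff (A * B) (x + A.1 *ᵥ y) := by
  apply Subtype.ext
  show (aff A x).1 * (aff B y).1 = _
  ext i j
  fin_cases i <;> fin_cases j <;>
    simp [aff, Matrix.mul_apply, Fin.sum_univ_three, Fin.sum_univ_two, Matrix.mulVec, dotProduct,
      Matrix.vecMul] <;> ring

theorem el_mul (A B : SL(2, F)) (x y : Fin 2 → F) :
    el A x * el B y = el (A * B) (x + A.1 *ᵥ y) :=
  Subtype.ext (aff_mul A B x y)

theorem el_inj {A B : SL(2, F)} {x y : Fin 2 → F} : el A x = el B y ↔ A = B ∧ x = y := by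
  refine ⟨fun h => ?_, fun h => by rw [h.1, h.2]⟩
  have e : (aff A x).1 = (aff B y).1 := congrArg (fun M : ↥(Cfsg.qdOver F) => (M : SL(3, F)).1) h
  have f := fun i j => congrFun (congrFun e i) j
  refine ⟨Subtype.ext ?_, ?_⟩
  · ext i j
    fin_cases i <;> fin_cases j
    · simpa [aff] using f 0 0
    · simpa [aff] using f 0 1
    · simpa [aff] using f 1 0
    · simpa [aff] using f 1 1
  · ext i
    fin_cases i
    · simpa [aff] using f 0 2
    · simpa [aff] using f 1 2

theorem el_one : el (1 : SL(2, F)) 0 = 1 := by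
  apply Subtype.ext
  apply Subtype.ext
  show (aff (1 : SL(2, F)) 0).1 = 1
  ext i j
  fin_cases i <;> fin_cases j <;> simp [aff]

theorem el_inv (A : SL(2, F)) (x : Fin 2 → F) :
    (el A x)⁻¹ = el A⁻¹ (-((A⁻¹ : SL(2, F)).1 *ᵥ x)) := by
  refine inv_eq_of_mul_eq_one_left ?_
  rw [el_mul, inv_mul_cancel, neg_add_cancel, el_one]

theorem exists_el (M : ↥(Cfsg.qdOver F)) : ∃ A x, el A x = M := by
  obtain ⟨M, hM⟩ := M
  induction hM using Subgroup.closure_induction with
  | mem M h =>
    obtain ⟨h0, h1, h2⟩ := h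
    refine ⟨⟨!![M.1 0 0, M.1 0 1; M.1 1 0, M.1 1 1], ?_⟩, ![M.1 0 2, M.1 1 2], ?_⟩
    · have h := M.2
      rw [det_fin_three, h0, h1, h2] at h
      rw [det_fin_two_of]
      linear_combination h
    · apply Subtype.ext
      apply Subtype.ext
      ext i j
      fin_cases i <;> fin_cases j <;> simp [el, aff, h0, h1, h2]
  | one => exact ⟨1, 0, el_one⟩
  | mul a b _ _ ha hb =>
    obtain ⟨A, x, hA⟩ := ha
    obtain ⟨B, y, hB⟩ := hb
    exact ⟨_, _, ((el_mul A B x y).symm.trans (by rw [hA, hB]; rfl))⟩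
  | inv a _ ha =>
    obtain ⟨A, x, hA⟩ := ha
    exact ⟨_, _, ((el_inv A x).symm.trans (by rw [hA]; rfl))⟩

/-- `Qd(F)` is parametrised by pairs (linear part, translation part). -/
noncomputable def coord : SL(2, F) × (Fin 2 → F) ≃ ↥(Cfsg.qdOver F) :=
  Equiv.ofBijective (fun a => el a.1 a.2)
    ⟨fun a b h => Prod.ext (el_inj.1 h).1 (el_inj.1 h).2,
      fun M => by obtain ⟨A, x, h⟩ := exists_el M; exact ⟨(A, x), h⟩⟩

theorem coord_symm_el (A : SL(2, F)) (x : Fin 2 → F) : coord.symm (el A x) = (A, x) :=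
  coord.symm_apply_eq.2 rfl

/-- The linear part. -/
noncomputable def linPart : ↥(Cfsg.qdOver F) →* SL(2, F) where
  toFun M := (coord.symm M).1
  map_one' := by rw [← el_one, coord_symm_el]
  map_mul' M N := by
    obtain ⟨A, x, rfl⟩ := exists_el M
    obtain ⟨B, y, rfl⟩ := exists_el N
    rw [el_mul, coord_symm_el, coord_symm_el, coord_symm_el]

theorem linPart_el (A : SL(2, F)) (x : Fin 2 → F) : linPart (el A x) = A := by
  show (coord.symm (el A x)).1 = A
  rw [coord_symm_el]

theorem linPart_surjective : Function.Surjective (linPart (F := F)) :=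
  fun A => ⟨el A 0, linPart_el A 0⟩

/-- The translations. -/
def trans : Multiplicative (Fin 2 → F) →* ↥(Cfsg.qdOver F) where
  toFun x := el 1 x.toAdd
  map_one' := el_one
  map_mul' x y := by
    rw [el_mul, one_mul, toAdd_mul, Matrix.SpecialLinearGroup.coe_one, one_mulVec]

/-- The linear complement. -/
def lin : SL(2, F) →* ↥(Cfsg.qdOver F) where
  toFun A := el A 0
  map_one' := el_one
  map_mul' A B := by rw [el_mul, mulVec_zero, add_zero]

theorem trans_injective : Function.Injective (trans (F := F)) := fun x y h =>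
  Multiplicative.toAdd.injective (el_inj.1 (h : el 1 x.toAdd = el 1 y.toAdd)).2

theorem lin_injective : Function.Injective (lin (F := F)) := fun A B h =>
  (el_inj.1 (h : el A 0 = el B 0)).1

theorem mem_ker_linPart_iff {M : ↥(Cfsg.qdOver F)} :
    M ∈ (linPart (F := F)).ker ↔ M ∈ (trans (F := F)).range := by
  obtain ⟨A, x, rfl⟩ := exists_el M
  rw [MonoidHom.mem_ker, linPart_el]
  refine ⟨fun h => ⟨Multiplicative.ofAdd x, by rw [h]; rfl⟩, ?_⟩
  rintro ⟨y, hy⟩
  exact (el_inj.1 hy).1.symm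

theorem conj_trans (A : SL(2, F)) (x y : Fin 2 → F) :
    el A x * el 1 y * (el A x)⁻¹ = el 1 (A.1 *ᵥ y) := by
  rw [mul_inv_eq_iff_eq_mul, el_mul, el_mul, one_mul, mul_one,
    Matrix.SpecialLinearGroup.coe_one, one_mulVec, add_comm]

/-- The matrix interchanging the two axes up to sign. -/
def swapSL : SL(2, F) := ⟨!![0, -1; 1, 0], by simp [det_fin_two]⟩

section finite

variable [Fintype F]

theorem natCard_qdOver :
    Nat.card ↥(Cfsg.qdOver F) = Nat.card SL(2, F) * Fintype.card F ^ 2 := by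
  rw [← Nat.card_congr (coord (F := F)), Nat.card_prod, Nat.card_fun, Nat.card_fin,
    Nat.card_eq_fintype_card (α := F)]

variable (p : ℕ) [Fact p.Prime] [CharP F p]

theorem isPGroup_trans : IsPGroup p (trans (F := F)).range := by
  obtain ⟨n, -, hq⟩ := FiniteField.card F p
  refine IsPGroup.of_card (n := n * 2) ?_
  rw [← Nat.card_congr (MonoidHom.ofInjective trans_injective).toEquiv, Nat.card_congr
    Multiplicative.toAdd, Nat.card_fun, Nat.card_fin, Nat.card_eq_fintype_card, hq, pow_mul]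

theorem eq_bot_of_normal_sl (N : Subgroup SL(2, F)) (hN : N.Normal) (hp : IsPGroup p N) :
    N = ⊥ := by
  obtain ⟨Q, hQ⟩ := hp.exists_le_sylow
  have h1 : ∀ g : SL(2, F), ∀ x ∈ N, g * x * g⁻¹ ∈ Classical.GL2.U F := by
    obtain ⟨a, ha⟩ := Classical.GL2.exists_eq_conj_U p Q
    intro g x hx
    have h := hQ (hN.conj_mem _ (hN.conj_mem x hx g) a)
    rw [ha, Sylow.coe_subgroup_smul, Subgroup.mem_pointwise_smul_iff_inv_smul_mem,
      Classical.GL2.coe_sylowSL] at h
    simpa [mul_assoc] using h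
  rw [eq_bot_iff]
  intro x hx
  obtain ⟨c, hc⟩ := h1 1 x hx
  obtain ⟨d, hd⟩ := h1 swapSL x hx
  rw [one_mul, inv_one, mul_one] at hc
  rw [← hc, eq_mul_inv_iff_mul_eq] at hd
  have e : (0 : F) = c.toAdd := by
    have h00 := congrArg (fun g : SL(2, F) => g.1 1 1) hd
    simp only [Matrix.SpecialLinearGroup.coe_mul, Classical.GL2.coe_uniHom] at h00
    simpa [swapSL, Matrix.mul_apply, Fin.sum_univ_two] using h00
  rw [Subgroup.mem_bot, ← hc, show c = 1 from Multiplicative.toAdd.injective e.symm, map_one]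

theorem pCore_eq : Cfsg.pCore p ↥(Cfsg.qdOver F) = (trans (F := F)).range := by
  have hker : (linPart (F := F)).ker = (trans (F := F)).range :=
    SetLike.ext fun _ => mem_ker_linPart_iff
  refine le_antisymm ?_ (le_pCore (hker ▸ MonoidHom.normal_ker _) (isPGroup_trans p))
  rw [← hker, ← Subgroup.map_eq_bot_iff]
  exact eq_bot_of_normal_sl p _ (((inferInstance : (Cfsg.pCore p ↥(Cfsg.qdOver F)).Normal)).map _ linPart_surjective)
    ((isPGroup_pCore p _).map _)

end finite

/-- The Heisenberg element. -/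
def heis (c a b : F) : ↥(Cfsg.qdOver F) := el (Classical.GL2.uniSL c) ![a, b]

theorem heis_mul (c a b c' a' b' : F) :
    heis c a b * heis c' a' b' = heis (c + c') (a + a' + c * b') (b + b') := by
  rw [heis, heis, el_mul, Classical.GL2.uniSL_mul, heis, el_inj]
  refine ⟨rfl, ?_⟩
  ext i
  fin_cases i <;> simp [Classical.GL2.coe_uniSL, Matrix.mulVec, dotProduct, Fin.sum_univ_two] <;>
    ring

theorem heis_inj {c a b c' a' b' : F} :
    heis c a b = heis c' a' b' ↔ c = c' ∧ a = a' ∧ b = b' := by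
  refine ⟨fun h => ?_, fun h => by rw [h.1, h.2.1, h.2.2]⟩
  obtain ⟨h1, h2⟩ := el_inj.1 h
  refine ⟨?_, ?_, ?_⟩
  · simpa [Classical.GL2.coe_uniSL] using congrArg (fun g : SL(2, F) => g.1 0 1) h1
  · simpa using congrFun h2 0
  · simpa using congrFun h2 1

theorem heis_zero : heis (0 : F) 0 0 = 1 := by
  rw [heis, Classical.GL2.uniSL_zero, ← el_one]
  congr 1
  ext i; fin_cases i <;> rfl

theorem heis_inv (c a b : F) : (heis c a b)⁻¹ = heis (-c) (-a + c * b) (-b) := by
  refine inv_eq_of_mul_eq_one_right ?_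
  rw [heis_mul, ← heis_zero, heis_inj]
  refine ⟨by ring, by ring, by ring⟩

/-- The Heisenberg subgroup. -/
def heisGroup : Subgroup ↥(Cfsg.qdOver F) where
  carrier := {M | ∃ c a b, heis c a b = M}
  one_mem' := ⟨0, 0, 0, heis_zero⟩
  mul_mem' := by
    rintro _ _ ⟨c, a, b, rfl⟩ ⟨c', a', b', rfl⟩
    exact ⟨_, _, _, (heis_mul c a b c' a' b').symm⟩
  inv_mem' := by
    rintro _ ⟨c, a, b, rfl⟩
    exact ⟨_, _, _, (heis_inv c a b).symm⟩

theorem exists_heis (h : ↥(heisGroup (F := F))) :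
    ∃ c a b, (⟨heis c a b, c, a, b, rfl⟩ : ↥(heisGroup (F := F))) = h := by
  obtain ⟨_, c, a, b, rfl⟩ := h
  exact ⟨c, a, b, rfl⟩

/-- Coordinates on the Heisenberg subgroup. -/
noncomputable def heisEquiv : F × F × F ≃ ↥(heisGroup (F := F)) :=
  Equiv.ofBijective (fun t => ⟨heis t.1 t.2.1 t.2.2, _, _, _, rfl⟩)
    ⟨fun s t h => by
      obtain ⟨h1, h2, h3⟩ := heis_inj.1 (congrArg Subtype.val h)
      exact Prod.ext h1 (Prod.ext h2 h3),
    fun M => by obtain ⟨c, a, b, h⟩ := exists_heis M; exact ⟨(c, a, b), h⟩⟩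

section finite

variable [Fintype F] (p : ℕ) [Fact p.Prime] [CharP F p]

theorem natCard_heisGroup : Nat.card ↥(heisGroup (F := F)) = Fintype.card F ^ 3 := by
  rw [← Nat.card_congr (heisEquiv (F := F)), Nat.card_prod, Nat.card_prod,
    Nat.card_eq_fintype_card]
  ring

theorem isPGroup_heisGroup : IsPGroup p ↥(heisGroup (F := F)) := by
  obtain ⟨n, -, hq⟩ := FiniteField.card F p
  exact IsPGroup.of_card (n := n * 3) (by rw [natCard_heisGroup, hq, pow_mul])

theorem not_dvd_index_heisGroup : ¬ p ∣ (heisGroup (F := F)).index := by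
  have h := Subgroup.card_mul_index (heisGroup (F := F))
  rw [natCard_heisGroup, natCard_qdOver, Classical.GL2.natCard_SL_two] at h
  have e : (heisGroup (F := F)).index = (Fintype.card F - 1) * (Fintype.card F + 1) := by
    refine Nat.eq_of_mul_eq_mul_left (Nat.pow_pos (n := 3) (Fintype.card_pos (α := F))) (h.trans ?_)
    ring
  rw [e, (Fact.out : p.Prime).dvd_mul]
  rintro (h' | h')
  · exact Classical.GL2.not_dvd_pred p h'
  · exact Classical.GL2.not_dvd_succ p h'

/-- The Heisenberg Sylow subgroup. -/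
noncomputable def sylow : Sylow p ↥(Cfsg.qdOver F) :=
  (isPGroup_heisGroup p).toSylow (not_dvd_index_heisGroup p)

theorem coe_sylow : ((sylow p : Sylow p ↥(Cfsg.qdOver F)) : Subgroup _) = heisGroup (F := F) :=
  rfl

end finite

end Cfsg.Agent.CharP.QdBasic
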