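import Cfsg.Agent.Lib.CharP.FreeSolvable
import Cfsg.Agent.Lib.CharP.WFunctor
import Cfsg.Agent.Lib.CharP.S4FreeFusion
import Cfsg.Agent.Lib.Fusion.ModelExists

/-!
`Qd(p)`-free systems, for every prime `p`: a functor value that is normal, solvability, models.
-/

set_option autoImplicit false
set_option linter.unusedSectionVars false
set_option linter.style.haveILetI false

universe u

namespace Cfsg.Agent.CharP.FreeNormal

open Cfsg Cfsg.FusionSystem Cfsg.Agent.Fusion.Normal Cfsg.Agent.CharP.LocalControl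

variable {p : ℕ} [Fact p.Prime] {Ω : Type u} [Group Ω] {S : Subgroup Ω} [Finite S]

variable (p) in
/-- A functor normal in every `Qd(p)`-free group of characteristic `p`. -/
theorem exists_functor : ∃ W : ∀ (Q : Type u) [Group Q], Subgroup Q, IsCharPFunctor p W ∧
    ∀ (G : Type u) [Group G] [Finite G] (P : Sylow p G),
      Subgroup.centralizer ((pCore p G : Subgroup G) : Set G) ≤ pCore p G →
      ¬ Involves ↥(qd p) G → (Wof W (P : Subgroup G)).Normal := by
  by_cases hp : p = 2
  · subst hp
    exact ⟨WFunctor.wFunctor, WFunctor.isCharPFunctor_w, fun G _ _ P hc hqd =>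
      WFunctor.normal_induced (fun h => hqd (S4FreeFusion.exists_qd_two h)) hc P⟩
  · refine ⟨Techniques.SL2.ZJFusion.zj, Techniques.SL2.ZJFusion.isCharPFunctor_zj,
      fun G _ _ P hc hqd => ?_⟩
    rw [← InnerControlZJ.centerThompsonAOf_eq (U := (P : Subgroup G)) P.isPGroup']
    exact Techniques.SL2.ZJFusion.zj_normal_of_free hp (fun h' => hqd h') hc P

theorem Wof_characteristic {W : ∀ (Q : Type u) [Group Q], Subgroup Q} (hW : IsoInv p W)
    (hS : IsPGroup p S) : ((Wof W S).subgroupOf S).Characteristic := by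
  rw [show (Wof W S).subgroupOf S = W ↥S from
    Subgroup.comap_map_eq_self_of_injective S.subtype_injective _]
  exact Subgroup.characteristic_iff_map_eq.2 fun φ => hW ↥S ↥S hS φ

/-- A nontrivial characteristic subgroup of `S` that is normal in every free system. -/
theorem exists_char_normal (hS : IsPGroup p S) (hS0 : S ≠ ⊥) :
    ∃ W : Subgroup Ω, W ≤ S ∧ W ≠ ⊥ ∧ (W.subgroupOf S).Characteristic ∧
      ∀ F : FusionSystem S, F.IsSaturated p → F.IsSectionFree p ↥(qd p) → F.IsNormal W := by
  obtain ⟨W, hW, hloc⟩ := exists_functor.{u} p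
  exact ⟨Wof W S, Wof_le S, InnerControl.Wof_ne_bot hW hS le_rfl hS0,
    Wof_characteristic hW.2 hS,
    fun F hF hfree => NormalFunctor.isNormal_Wof hW hloc hS hF hfree⟩

theorem hasNormal : FreeSolvable.HasNormal.{u, 0} ↥(qd p) p := by
  intro Ω _ S _ hS hS0 F hF hfree h0
  obtain ⟨W, hWS, hW0, -, hn⟩ := exists_char_normal hS hS0
  exact hW0 (le_bot_iff.1 (h0 ▸ le_core (hn F hF hfree)))

/-- A free system is solvable and has a model. -/
theorem solvable_model (hS : IsPGroup p S) {F : FusionSystem S} (hF : F.IsSaturated p)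
    (hfree : F.IsSectionFree p ↥(qd p)) :
    F.IsRealizable p ∧ F.IsSolvableSystem := by
  obtain ⟨hsol, hcon⟩ := FreeSolvable.solvable hasNormal hS hF hfree
  obtain ⟨G, iG, ι, hfin, hreal, hT, -⟩ := Fusion.Model.exists_model hS hcon
  exact ⟨⟨G, iG, hfin, ι, hreal, hT⟩, hsol⟩

end Cfsg.Agent.CharP.FreeNormal
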