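import Cfsg.Agent.Lib.CharP.InnerControl
import Cfsg.Agent.Lib.CharP.LocalJ
import Cfsg.Agent.Techniques.SL2.ZJFusion

/-!
Innerness of saturated systems controlled by `Z(J)` of a strongly closed subgroup, for odd primes.
-/

set_option autoImplicit false
set_option linter.unusedSectionVars false
set_option linter.style.haveILetI false

universe u

namespace Cfsg.Agent.CharP.InnerControlZJ

open Cfsg Cfsg.FusionSystem Cfsg.Agent.Fusion.Basic Cfsg.Agent.Fusion.Saturation
  Cfsg.Agent.CharP.LocalControl Cfsg.Agent.CharP.InnerControl Cfsg.Agent.CharP.Climbing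
  Cfsg.Agent.Techniques.SL2.ZJFusion

variable {p : ℕ} [Fact p.Prime] {Ω : Type u} [Group Ω]

theorem centerThompsonAOf_eq {U : Subgroup Ω} [Finite U] (hU : IsPGroup p U) :
    centerThompsonAOf U = Wof zj.{u} U := by
  have hJ : thompsonSubgroupAOf (⊤ : Subgroup U) = thompsonSubgroupA U := by
    have h := LocalJ.isoInv_J.{u} (p := p) (↥(⊤ : Subgroup U)) U (hU.to_subgroup ⊤) Subgroup.topEquiv
    exact h
  show _ = (PLocal.MaxAbelian.core 0 (⊤ : Subgroup U)).map U.subtype
  rw [← PLocal.MaxAbelian.centerThompsonA_eq, centerThompsonAOf, centerThompsonAOf, hJ]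
  ext x
  constructor
  · rintro ⟨⟨y, hy, rfl⟩, hxC⟩
    exact ⟨y, ⟨hy, fun z hz => Subtype.ext (hxC _ ⟨z, hz, rfl⟩)⟩, rfl⟩
  · rintro ⟨y, ⟨hy, hyC⟩, rfl⟩
    refine ⟨⟨y, hy, rfl⟩, ?_⟩
    rintro _ ⟨z, hz, rfl⟩
    exact congrArg Subtype.val (hyC z hz)

variable {S : Subgroup Ω} [Finite S]

/-- For odd `p`, a system is inner iff the normalizer system of `Z(J(D))` is, `D` strongly closed. -/
theorem inner_iff (hp : p ≠ 2) (hS : IsPGroup p S) (F : FusionSystem S) (hF : F.IsSaturated p)
    (D : Subgroup Ω) (hD : F.StronglyClosed D) :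
    (∀ P : Subgroup Ω, F.Hom P = (innerFusionSystem S).Hom P) ↔
      ∀ N : FusionSystem (normalizerIn S (centerThompsonAOf D)),
        F.IsNormalizerSystem (centerThompsonAOf D) N → ∀ P : Subgroup Ω,
          N.Hom P = (innerFusionSystem (normalizerIn S (centerThompsonAOf D))).Hom P := by
  have hfinD : Finite D := finite_of_le hD.1
  rw [centerThompsonAOf_eq (hS.to_le hD.1)]
  constructor
  · intro h N hN P
    refine Set.ext fun φ => ⟨fun hφ => ?_, fun hφ => ?_⟩
    · obtain ⟨-, g, hg, hge, -⟩ := (isMap_normalizer_iff hN).1 (IsMap.of_hom hφ)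
      have hm : φ ∈ (innerFusionSystem S).Hom P := h P ▸
        ((hg.restrict le_sup_left).congr hge).hom_mem fun x => (ext_apply φ x).symm
      obtain ⟨-, s, hs, hse⟩ := hm
      exact ⟨(N.le_of_mem hφ).1, s, ⟨hs, normalizer_le_Wof isCharPFunctor_zj.2 (hS.to_le hD.1)
        (Fusion.Normal.le_normalizer_of_stronglyClosed hD hs)⟩, hse⟩
    · obtain ⟨hP, s, hs, hse⟩ := hφ
      refine (isMap_cj (F := N) hP hs).hom_mem fun x => hse x
  · intro h P
    have hall : AllP p F := allP_of_control isCharPFunctor_zj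
      (fun G _ _ T E _ hE hN => by
        refine PLocal.StronglyClosedZJ.hnc_of_core hp (dvd_zero p) _ G rfl T E hE ?_
        have h0 : Wof zj.{u} E = PLocal.MaxAbelian.core 0 E :=
          (induced_zj E).trans (PLocal.MaxAbelian.centerThompsonA_eq E)
        rwa [← h0])
      hS hF hD fun N hN => by
        refine (allP_inner (hS.to_le normalizerIn_le)).of_maps (fun Q f hf => ?_) le_rfl
        obtain ⟨φ, hφ, he⟩ := hf
        exact ⟨φ, h N hN Q ▸ hφ, he⟩
    rw [hall.eq_inner hS hF]

end Cfsg.Agent.CharP.InnerControlZJ
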