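import Cfsg.Agent.Lib.CharP.NormalFunctor
import Cfsg.Agent.Lib.Fusion.Solvable
import Cfsg.Agent.Techniques.SL2.ZJFusion
import Cfsg.Agent.Lib.CharP.InnerControlZJ

/-!
Section-free systems are solvable when every nontrivial one has a nontrivial normal subgroup.
-/

set_option autoImplicit false
set_option linter.unusedSectionVars false
set_option linter.style.haveILetI false

universe u v

namespace Cfsg.Agent.CharP.FreeSolvable

open Cfsg Cfsg.FusionSystem Cfsg.Agent.Fusion.Basic Cfsg.Agent.Fusion.Saturation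
  Cfsg.Agent.Fusion.Normal Cfsg.Agent.Fusion.Factor Cfsg.Agent.Fusion.FactorExists
  Cfsg.Agent.Fusion.Solvable Cfsg.Agent.CharP.LocalControl

variable {H : Type v} [Group H] {p : ℕ} [Fact p.Prime]
  {Ω : Type u} [Group Ω] {S : Subgroup Ω} [Finite S]

variable (H p) in
/-- Every nontrivial free saturated system has a nontrivial normal subgroup. -/
def HasNormal : Prop :=
  ∀ (Ω : Type u) [Group Ω] (S : Subgroup Ω) [Finite S], IsPGroup p S → S ≠ ⊥ →
    ∀ F : FusionSystem S, F.IsSaturated p → F.IsSectionFree p H → F.core ≠ ⊥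

theorem hasChain (hN : HasNormal.{u, v} H p) (hS : IsPGroup p S) {F : FusionSystem S}
    (hF : F.IsSaturated p) (hfree : F.IsSectionFree p H) : HasChain F ⊥ := by
  suffices ∀ (n : ℕ) (Ω : Type u) [Group Ω] (S : Subgroup Ω) [Finite S], IsPGroup p S →
      Nat.card S = n → ∀ F : FusionSystem S, F.IsSaturated p → F.IsSectionFree p H →
      HasChain F ⊥ from this _ Ω S hS rfl F hF hfree
  clear! S
  intro n
  induction n using Nat.strong_induction_on with
  | _ n IH =>
  intro Ω _ S _ hS hn F hF hfree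
  by_cases hS0 : S = ⊥
  · refine ⟨0, fun _ => S, hS0, rfl, monotone_const, fun _ => stronglyClosed_self F,
      fun i hi => absurd hi (Nat.not_lt_zero _)⟩
  set C := F.core with hCdef
  have hC0 : C ≠ ⊥ := hN Ω S hS hS0 F hF hfree
  set Q := C ⊓ Subgroup.centralizer (C : Set Ω) with hQdef
  have hCn : F.IsNormal C := core_isNormal
  have hfinC : Finite C := finite_of_le hCn.1
  have hQn : F.IsNormal Q := isNormal_of_char hCn inf_le_left (by
    have hQeq : Q.subgroupOf C = Subgroup.center C := by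
      ext z
      simp only [Q, Subgroup.mem_subgroupOf, Subgroup.mem_inf, Subgroup.mem_center_iff,
        Subgroup.mem_centralizer_iff, SetLike.coe_mem, true_and]
      exact ⟨fun hz y => Subtype.ext (hz y y.2), fun hz y hy => congrArg Subtype.val (hz ⟨y, hy⟩)⟩
    exact hQeq ▸ Subgroup.centerCharacteristic)
  have hQ0 : Q ≠ ⊥ := fun h0 => by
    have : Nontrivial C := C.nontrivial_iff_ne_bot.2 hC0
    obtain ⟨⟨z, hz⟩, hz1⟩ := (Subgroup.center C).ne_bot_iff_exists_ne_one.1
      ((Subgroup.nontrivial_iff_ne_bot _).1 (hS.to_le hCn.1).center_nontrivial)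
    have hzQ : (z : Ω) ∈ Q := ⟨z.2, fun y hy =>
      congrArg Subtype.val (Subgroup.mem_center_iff.1 hz ⟨y, hy⟩)⟩
    rw [h0, Subgroup.mem_bot] at hzQ
    exact hz1 (Subtype.ext (Subtype.ext hzQ))
  have hQS := hQn.1
  have hsc := normal_stronglyClosed hQn
  haveI : (Q.subgroupOf S).Normal :=
    Subgroup.normal_subgroupOf_of_le_normalizer (le_normalizer_of_stronglyClosed hsc)
  let θ : S →* S ⧸ Q.subgroupOf S := QuotientGroup.mk' _
  have hker : ∀ s : S, θ s = 1 ↔ (s : Ω) ∈ Q := fun s => by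
    rw [QuotientGroup.mk'_apply, QuotientGroup.eq_one_iff, Subgroup.mem_subgroupOf]
  set S' : Subgroup (S ⧸ Q.subgroupOf S) := ⊤ with hS'def
  have hrange : θ.range = S' := QuotientGroup.range_mk' _
  obtain ⟨E, hE⟩ := exists_factorSystem (F := F) hsc hker hrange
  have hq := isQuot_of_factorSystem hsc hE
  have hfinE : Finite S' := hq.finite
  have hcard : Nat.card S' < n := by
    rw [Subgroup.card_top, ← hn,
      Subgroup.card_eq_card_quotient_mul_card_subgroup (Q.subgroupOf S)]
    refine (Nat.lt_mul_iff_one_lt_right Nat.card_pos).2 ((Subgroup.one_lt_card_iff_ne_bot _).2 ?_)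
    intro h0
    rw [Subgroup.subgroupOf_eq_bot, disjoint_iff, inf_eq_left.2 hQS] at h0
    exact hQ0 h0
  obtain ⟨m, B, B0, Bm, Bmono, Bsc, Bcomm⟩ := IH _ hcard _ S' (hq.isPGroup hS) rfl E
    (hq.saturated hS hF) (Fusion.SectionFreeQuot.sectionFree_quot hS hF hQn hq hfree)
  have hpre : HasChain F (preimageAlong θ (B 0)) := by
    refine ⟨m, fun i => preimageAlong θ (B i), rfl, ?_, fun i j hij x hx => ?_,
      fun i => preimage_stronglyClosed hS hF hq (Bsc i), fun i hi x hx y hy => ?_⟩
    · show preimageAlong θ (B m) = S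
      refine le_antisymm (preimageAlong_le _) fun x hx => mem_preimageAlong.2 ⟨hx, ?_⟩
      rw [Bm]
      exact Subgroup.mem_top _
    · exact mem_preimageAlong.2 ⟨(mem_preimageAlong.1 hx).1, Bmono hij (mem_preimageAlong.1 hx).2⟩
    · obtain ⟨hxS, hxB⟩ := mem_preimageAlong.1 hx
      obtain ⟨hyS, hyB⟩ := mem_preimageAlong.1 hy
      refine mem_preimageAlong.2 ⟨S.mul_mem (S.mul_mem (S.mul_mem hxS hyS) (S.inv_mem hxS))
        (S.inv_mem hyS), ?_⟩
      rw [along_comm θ hxS hyS]
      exact Bcomm i hi _ hxB _ hyB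
  have hQeq : preimageAlong θ (B 0) = Q := by
    rw [B0]
    refine le_antisymm (fun x hx => ?_) (hq.le_preimage _)
    obtain ⟨hxS, hxb⟩ := mem_preimageAlong.1 hx
    rw [Subgroup.mem_bot, along_of_mem θ hxS] at hxb
    exact (hker _).1 hxb
  refine hasChain_cons (normal_stronglyClosed isNormal_bot) bot_le (fun x hx y hy => ?_)
    (hQeq ▸ hpre)
  rw [Subgroup.mem_bot, hy.2 x hx.1, mul_inv_cancel_right, mul_inv_cancel]

theorem solvable (hN : HasNormal.{u, v} H p) (hS : IsPGroup p S) {F : FusionSystem S}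
    (hF : F.IsSaturated p) (hfree : F.IsSectionFree p H) :
    F.IsSolvableSystem ∧ F.IsConstrained p :=
  ⟨(solvable_iff hS hF).2 (hasChain hN hS hF hfree),
    hF, F.core, core_isNormal, core_centric hS hF (hasChain hN hS hF hfree)⟩

/-- For odd `p` the free systems have nontrivial core. -/
theorem hasNormal_qd (hp : p ≠ 2) : HasNormal.{u, 0} ↥(qd p) p := by
  intro Ω _ S _ hS hS0 F hF hfree h0
  have hW := Techniques.SL2.ZJFusion.isCharPFunctor_zj.{u} (p := p)
  refine InnerControl.Wof_ne_bot hW hS le_rfl hS0 (le_bot_iff.1 ?_)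
  rw [← h0]
  refine le_core (NormalFunctor.isNormal_Wof hW (fun G _ _ T hchar hqd => ?_) hS hF hfree)
  have h := InnerControlZJ.centerThompsonAOf_eq (U := (T : Subgroup G)) T.isPGroup'
  rw [← h]
  exact Techniques.SL2.ZJFusion.zj_normal_of_free hp (fun h' => hqd h') hchar T

end Cfsg.Agent.CharP.FreeSolvable
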