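import Cfsg.Prelude.Def_SylowControl
import Cfsg.Agent.Lib.CharP.Sylow

/-!
Equivariance of `sylowMembers` and products along chains.
-/

set_option autoImplicit false

namespace Cfsg.Agent.CharP

open Subgroup

variable {G : Type*} [Group G]

theorem subgroupConjRight_mul (a b : G) (X : Subgroup G) :
    Cfsg.subgroupConjRight b (Cfsg.subgroupConjRight a X) = Cfsg.subgroupConjRight (a * b) X := by
  rw [Cfsg.subgroupConjRight, Cfsg.subgroupConjRight, Cfsg.subgroupConjRight, conj_map_map,
    mul_inv_rev]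

theorem subgroupConjRight_one (X : Subgroup G) : Cfsg.subgroupConjRight 1 X = X := by
  rw [Cfsg.subgroupConjRight, inv_one, conj_map_one]

theorem subgroupConjRight_sylow [Finite G] {p : ℕ} [Fact p.Prime] (S : Sylow p G) (g : G) :
    ((g⁻¹ • S : Sylow p G) : Subgroup G) = Cfsg.subgroupConjRight g (S : Subgroup G) := by
  rw [Sylow.coe_subgroup_smul, Cfsg.subgroupConjRight]
  ext x
  constructor <;> rintro ⟨y, hy, rfl⟩ <;> exact ⟨y, hy, rfl⟩

theorem sylowMembers_conj [Finite G] {p : ℕ} [Fact p.Prime] {F : Set (Subgroup G)}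
    (hF : Cfsg.IsNormalSet F) {S X : Subgroup G} (g : G) (h : X ∈ Cfsg.sylowMembers p F S) :
    Cfsg.subgroupConjRight g X ∈ Cfsg.sylowMembers p F (Cfsg.subgroupConjRight g S) := by
  refine ⟨hF X h.1 g, ?_⟩
  have h1 : IsSylIn p (S ⊓ X) X := h.2
  have h2 := h1.conj g⁻¹
  rw [map_inf _ _ _ (MulAut.conj g⁻¹).injective] at h2
  exact h2

theorem mem_subgroupConjRight {g x : G} {X : Subgroup G} :
    x ∈ Cfsg.subgroupConjRight g X ↔ g * x * g⁻¹ ∈ X := by
  constructor
  · rintro ⟨y, hy, rfl⟩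
    simpa [mul_assoc] using hy
  · intro h
    exact ⟨_, h, by simp [mul_assoc]⟩

theorem conjRight_subset_iff {g : G} {A : Set G} {X : Subgroup G} :
    Cfsg.conjRight g A ⊆ (X : Set G) ↔ A ⊆ (Cfsg.subgroupConjRight g⁻¹ X : Set G) := by
  rw [Cfsg.conjRight, Set.image_subset_iff]
  constructor <;> intro h a ha
  · rw [SetLike.mem_coe, mem_subgroupConjRight, inv_inv]
    exact h ha
  · have := h ha
    rwa [SetLike.mem_coe, mem_subgroupConjRight, inv_inv] at this

theorem conjRight_subset_sylow {p : ℕ} {g : G} {A : Set G} {S : Sylow p G} :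
    Cfsg.conjRight g A ⊆ (S : Set G) ↔
      A ⊆ (Cfsg.subgroupConjRight g⁻¹ (S : Subgroup G) : Set G) :=
  conjRight_subset_iff

theorem prod_take_ofFn_succ {n : ℕ} (y : Fin n → G) (i : Fin n) :
    ((List.ofFn y).take (i.val + 1)).prod = ((List.ofFn y).take i.val).prod * y i := by
  rw [List.prod_take_succ _ _ (by simp)]
  simp

theorem prod_ofFn_eq_take {n : ℕ} (y : Fin n → G) :
    (List.ofFn y).prod = ((List.ofFn y).take n).prod := by
  rw [List.take_of_length_le (by simp)]

end Cfsg.Agent.CharP
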