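import Mathlib

/-!
Recognition of `S₄` and `S₄ × 2` from a self-centralising elementary abelian normal subgroup of order
four or eight and index six.
-/

set_option autoImplicit false
set_option linter.unusedSectionVars false

namespace Cfsg.Agent.CharP.RecognizeS4

open Subgroup
open scoped Pointwise

variable {G : Type*} [Group G] [Finite G] (Q : Subgroup G) [Q.Normal]

/-- The product of the three conjugates under powers of `p`. -/
def norm3 (p x : G) : G := x * (p * x * p⁻¹) * (p * p * x * (p * p)⁻¹)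

variable {Q}

theorem comm_of_sq (h : ∀ x ∈ Q, x * x = 1) {a b : G} (ha : a ∈ Q) (hb : b ∈ Q) : a * b = b * a := by
  have h1 : (a * b)⁻¹ = a * b := inv_eq_of_mul_eq_one_right (h _ (mul_mem ha hb))
  rw [← h1, mul_inv_rev, inv_eq_of_mul_eq_one_right (h a ha), inv_eq_of_mul_eq_one_right (h b hb)]

theorem conjQ {x : G} (hx : x ∈ Q) (g : G) : g * x * g⁻¹ ∈ Q :=
  Normal.conj_mem inferInstance x hx g

theorem norm3_mul (h : ∀ x ∈ Q, x * x = 1) {p a b : G} (ha : a ∈ Q) (hb : b ∈ Q) :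
    norm3 p (a * b) = norm3 p a * norm3 p b := by
  have c : ∀ {x y : G}, x ∈ Q → y ∈ Q → ∀ z : G, x * (y * z) = y * (x * z) := fun hx hy z => by
    rw [← mul_assoc, comm_of_sq h hx hy, mul_assoc]
  have e1 : p * (a * b) * p⁻¹ = (p * a * p⁻¹) * (p * b * p⁻¹) := by group
  have e2 : p * p * (a * b) * (p * p)⁻¹ = (p * p * a * (p * p)⁻¹) * (p * p * b * (p * p)⁻¹) := by group
  unfold norm3
  rw [e1, e2]
  set a1 := p * a * p⁻¹
  set b1 := p * b * p⁻¹
  set a2 := p * p * a * (p * p)⁻¹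
  set b2 := p * p * b * (p * p)⁻¹
  have ha1 : a1 ∈ Q := conjQ ha p
  have hb1 : b1 ∈ Q := conjQ hb p
  have ha2 : a2 ∈ Q := conjQ ha (p * p)
  simp only [mul_assoc]
  rw [c hb ha1, c hb1 ha2, c hb ha2]

theorem norm3_mem (p : G) {x : G} (hx : x ∈ Q) : norm3 p x ∈ Q :=
  mul_mem (mul_mem hx (conjQ hx p)) (conjQ hx (p * p))

theorem norm3_fixed (h : ∀ x ∈ Q, x * x = 1) {p : G} (hp : p ^ 3 = 1) {x : G} (hx : x ∈ Q) :
    p * norm3 p x * p⁻¹ = norm3 p x := by
  have hp' : p * p * p = 1 := by rwa [pow_three, ← mul_assoc] at hp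
  have e : p * norm3 p x * p⁻¹ =
      (p * x * p⁻¹) * (p * p * x * (p * p)⁻¹) * (p * p * p * x * (p * p * p)⁻¹) := by
    unfold norm3; group
  rw [e, hp', one_mul, inv_one, mul_one]
  unfold norm3
  rw [mul_assoc x, comm_of_sq h hx (mul_mem (conjQ hx p) (conjQ hx (p * p)))]

theorem norm3_of_commute (h : ∀ x ∈ Q, x * x = 1) {p z : G} (hz : z ∈ Q) (hc : p * z = z * p) :
    norm3 p z = z := by
  unfold norm3
  rw [show p * p * z * (p * p)⁻¹ = p * (p * z * p⁻¹) * p⁻¹ by group, hc, mul_inv_cancel_right, hc,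
    mul_inv_cancel_right, h z hz, one_mul]

/-- The data attached to a Sylow 3-subgroup. -/
structure Data (Q : Subgroup G) (P : Sylow 3 G) (p : G) : Prop where
  pow : p ^ 3 = 1
  mem : p ∈ (P : Subgroup G)
  gen : (P : Subgroup G) = zpowers p
  normalizerQ : ∀ x ∈ Q, x ∈ normalizer ((P : Subgroup G) : Set G) → p * x = x * p
  cover : ∀ g : G, ∃ a ∈ Q, ∃ n ∈ normalizer ((P : Subgroup G) : Set G), g = a * n
  central : ∀ x ∈ Q, p * x = x * p → ∀ g : G, g * x = x * g
  cardZ : Nat.card ↥(Q ⊓ centralizer ((P : Subgroup G) : Set G)) * 4 = Nat.card Q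
  sylows : Nat.card (Sylow 3 G) = 4
  ker : ∀ k : G, (∀ P' : Sylow 3 G, k • P' = P') → k ∈ Q ∧ p * k = k * p

theorem exists_data (hQ : ∀ x ∈ Q, x * x = 1) (hC : centralizer (Q : Set G) ≤ Q) (hi : Q.index = 6)
    (hcard : Nat.card Q = 4 ∨ Nat.card Q = 8) : ∃ (P : Sylow 3 G) (p : G), Data Q P p := by
  classical
  have : Fact (Nat.Prime 3) := ⟨Nat.prime_three⟩
  have hG : Nat.card G = Nat.card Q * 6 := by rw [← hi, card_mul_index]
  let P : Sylow 3 G := Classical.arbitrary _
  have hPc : Nat.card (P : Subgroup G) = 3 := by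
    rw [P.card_eq_multiplicity, hG]
    rcases hcard with h | h <;> rw [h]
    · rw [show 4 * 6 = 3 ^ 1 * 8 by norm_num, Nat.factorization_mul (by norm_num) (by norm_num),
        Finsupp.add_apply, Nat.Prime.factorization_pow Nat.prime_three, Finsupp.single_eq_same,
        Nat.factorization_eq_zero_of_not_dvd (by norm_num : ¬ 3 ∣ 8)]
      rfl
    · rw [show 8 * 6 = 3 ^ 1 * 16 by norm_num, Nat.factorization_mul (by norm_num) (by norm_num),
        Finsupp.add_apply, Nat.Prime.factorization_pow Nat.prime_three, Finsupp.single_eq_same,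
        Nat.factorization_eq_zero_of_not_dvd (by norm_num : ¬ 3 ∣ 16)]
      rfl
  have hcyc : IsCyclic (P : Subgroup G) := isCyclic_of_prime_card hPc
  obtain ⟨⟨p, hp⟩, hgen⟩ := hcyc.exists_generator
  have hgen' : (P : Subgroup G) = zpowers p := by
    refine le_antisymm (fun x hx => ?_) (zpowers_le.2 hp)
    obtain ⟨i, hi'⟩ := mem_zpowers_iff.1 (hgen ⟨x, hx⟩)
    exact mem_zpowers_iff.2 ⟨i, congrArg Subtype.val hi'⟩
  have hp3 : p ^ 3 = 1 := by
    have := pow_card_eq_one' (x := (⟨p, hp⟩ : (P : Subgroup G)))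
    rw [hPc] at this
    exact congrArg Subtype.val this
  have hQP : ∀ x ∈ Q, x ∈ (P : Subgroup G) → x = 1 := fun x hx hxP => by
    have h1 := pow_card_eq_one' (x := (⟨x, hxP⟩ : (P : Subgroup G)))
    rw [hPc] at h1
    have h2 : x ^ 3 = 1 := congrArg Subtype.val h1
    rwa [pow_three, hQ x hx, mul_one] at h2
  have hpnot : ¬ ∀ x ∈ Q, p * x = x * p := fun h => by
    have h1 : p ∈ Q := hC (mem_centralizer_iff.2 fun x hx => (h x hx).symm)
    have := hQP p h1 hp
    rw [hgen', this, zpowers_one_eq_bot, card_bot] at hPc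
    omega
  have hNQ : ∀ x ∈ Q, x ∈ normalizer ((P : Subgroup G) : Set G) → p * x = x * p := by
    intro x hx hn
    have h1 : x * p * x⁻¹ * p⁻¹ = 1 := hQP _ (by
      rw [mul_assoc, mul_assoc]
      exact mul_mem hx (by simpa [mul_assoc] using conjQ (inv_mem hx) p))
      (mul_mem ((mem_normalizer_iff.1 hn p).1 hp) (inv_mem hp))
    rw [mul_inv_eq_one, mul_inv_eq_iff_eq_mul] at h1
    exact h1.symm
  set Z := Q ⊓ centralizer ((P : Subgroup G) : Set G) with hZ
  have hmemZ : ∀ x, x ∈ Z ↔ x ∈ Q ∧ p * x = x * p := fun x => by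
    rw [hZ, mem_inf]
    refine and_congr_right fun _ => ⟨fun h => mem_centralizer_iff.1 h p hp, fun h => ?_⟩
    refine mem_centralizer_iff.2 fun y hy => ?_
    rw [SetLike.mem_coe, hgen'] at hy
    obtain ⟨i, rfl⟩ := mem_zpowers_iff.1 hy
    exact (show Commute p x from h).zpow_left i
  have hmod : Nat.card Q ≡ Nat.card Z [MOD 3] := by
    let _ : MulAction ↥(P : Subgroup G) ↥Q :=
      MulAction.compHom _ ((MulAut.conjNormal (H := Q)).comp (P : Subgroup G).subtype)
    have h1 := P.isPGroup'.card_modEq_card_fixedPoints (α := ↥Q)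
    have e : Nat.card (MulAction.fixedPoints ↥(P : Subgroup G) ↥Q) = Nat.card Z := by
      refine Nat.card_congr
        { toFun := fun x => ⟨x.1.1, (hmemZ _).2 ⟨x.1.2, ?_⟩⟩
          invFun := fun z => ⟨⟨z.1, ((hmemZ _).1 z.2).1⟩, fun y => Subtype.ext ?_⟩
          left_inv := fun x => rfl
          right_inv := fun z => rfl }
      · have h2 := congrArg Subtype.val (x.2 ⟨p, hp⟩)
        change p * x.1.1 * p⁻¹ = x.1.1 at h2
        exact mul_inv_eq_iff_eq_mul.1 h2
      · show (y : G) * z.1 * (y : G)⁻¹ = z.1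
        rw [mul_inv_eq_iff_eq_mul]
        exact (mem_centralizer_iff.1 z.2.2 y y.2)
    rwa [e] at h1
  have hZdvd : Nat.card Z ∣ Nat.card Q := card_dvd_of_le inf_le_left
  have hZne : Nat.card Z ≠ Nat.card Q := fun h => hpnot fun x hx =>
    ((hmemZ x).1 (by have e : Z = Q := eq_of_le_of_card_ge inf_le_left h.ge
                     rw [e]; exact hx)).2
  have hcZ : Nat.card Z * 4 = Nat.card Q := by
    rcases hcard with h | h <;> rw [h] at hmod hZdvd hZne ⊢
    all_goals
      have := Nat.le_of_dvd (by norm_num) hZdvd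
      interval_cases hh : Nat.card Z <;> first | rfl | (exfalso; revert hmod hZdvd hZne; decide)
  -- number of Sylow subgroups
  set N := normalizer ((P : Subgroup G) : Set G) with hN
  have hindex : Nat.card (Sylow 3 G) = N.index := P.card_eq_index_normalizer
  have hPN : (P : Subgroup G) ≤ N := le_normalizer
  have hZN : Z ≤ N := inf_le_right.trans (centralizer_le_normalizer _)
  have hnN : N.index * Nat.card N = Nat.card G := by rw [mul_comm, card_mul_index]
  have h3N : 3 ∣ Nat.card N := hPc ▸ card_dvd_of_le hPN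
  have hNi1 : N.index ≠ 1 := fun h => by
    rw [index_eq_one] at h
    exact hpnot fun x hx => hNQ x hx (h ▸ mem_top x : x ∈ N)
  have hmod1 := card_sylow_modEq_one 3 G
  rw [hindex] at hmod1
  have hcN : Nat.card N = Nat.card Z * 6 ∧ N.index = 4 := by
    obtain ⟨k, hk⟩ := h3N
    have hk' : N.index * k * 3 = Nat.card G := by rw [← hnN, hk]; ring
    rw [hG] at hk'
    rcases hcard with h | h
    · rw [h] at hk' hcZ
      have h8 : N.index * k = 8 := by omega
      have hle : N.index ≤ 8 := Nat.le_of_dvd (by norm_num) (Dvd.intro _ h8)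
      have hki : k * N.index = 8 := by rw [mul_comm]; exact h8
      unfold Nat.ModEq at hmod1
      interval_cases hh : N.index <;> omega
    · rw [h] at hk' hcZ
      have h8 : N.index * k = 16 := by omega
      have hle : N.index ≤ 16 := Nat.le_of_dvd (by norm_num) (Dvd.intro _ h8)
      have h2 : 2 ∣ Nat.card N := (show Nat.card Z = 2 by omega) ▸ card_dvd_of_le hZN
      unfold Nat.ModEq at hmod1
      interval_cases hh : N.index <;> omega
  have hcover : ∀ g : G, ∃ a ∈ Q, ∃ n ∈ N, g = a * n := by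
    have hZQN : Q ⊓ N = Z := le_antisymm (fun x hx => (hmemZ x).2 ⟨hx.1, hNQ x hx.1 hx.2⟩)
      (le_inf inf_le_left hZN)
    have h1 : Nat.card Z * Q.relIndex N = Nat.card N := by
      rw [← inf_relIndex_right Q N, hZQN, ← relIndex_bot_left, relIndex_mul_relIndex ⊥ Z N bot_le hZN,
        relIndex_bot_left]
    rw [hcN.1] at h1
    have h2 : Q.relIndex N = 6 := Nat.eq_of_mul_eq_mul_left Nat.card_pos h1
    have h3 : N.map (QuotientGroup.mk' Q) = ⊤ := by
      refine eq_top_of_card_eq _ ?_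
      rw [← relIndex_ker, QuotientGroup.ker_mk', h2, ← index_eq_card, hi]
    intro g
    obtain ⟨n, hn, hgn⟩ := h3.ge (mem_top (g : G ⧸ Q))
    refine ⟨g * n⁻¹, ?_, n, hn, by group⟩
    rw [← QuotientGroup.eq_one_iff]
    change (QuotientGroup.mk' Q) (g * n⁻¹) = 1
    rw [map_mul, map_inv, hgn]
    exact mul_inv_cancel _
  have hcentral : ∀ x ∈ Q, p * x = x * p → ∀ g : G, g * x = x * g := by
    intro x hx hpx g
    have hxZ : x ∈ Z := (hmemZ x).2 ⟨hx, hpx⟩
    have hN' : ∀ n ∈ N, n * x = x * n := by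
      intro n hn
      have h1 : n * x * n⁻¹ ∈ Z := by
        refine ⟨conjQ hx n, mem_centralizer_iff.2 fun y hy => ?_⟩
        have h2 : n⁻¹ * y * n ∈ (P : Subgroup G) := (mem_normalizer_iff''.1 hn y).1 hy
        have h3 := mem_centralizer_iff.1 hxZ.2 _ h2
        calc y * (n * x * n⁻¹) = n * (n⁻¹ * y * n * x) * n⁻¹ := by group
          _ = n * (x * (n⁻¹ * y * n)) * n⁻¹ := by rw [h3]
          _ = n * x * n⁻¹ * y := by group
      by_cases hx1 : x = 1
      · simp [hx1]
      have hle : Nat.card Z ≤ 2 := by rcases hcard with h | h <;> omega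
      have h4 : n * x * n⁻¹ = x := by
        by_contra hne
        have hne1 : n * x * n⁻¹ ≠ 1 := fun h => hx1 (conj_eq_one_iff.1 h)
        let f : Fin 3 → Z := ![1, ⟨x, hxZ⟩, ⟨n * x * n⁻¹, h1⟩]
        have hf : Function.Injective f := by
          intro i j hij
          have h' := congrArg Subtype.val hij
          fin_cases i <;> fin_cases j <;> simp [f] at h' <;> first
            | rfl
            | exact absurd h' hx1
            | exact absurd h'.symm hx1
            | exact absurd h' hne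
            | exact absurd h'.symm hne
            | exact absurd h' hne1
            | exact absurd h'.symm hne1
        have := Nat.card_le_card_of_injective f hf
        simp at this
        omega
      exact mul_inv_eq_iff_eq_mul.1 h4
    obtain ⟨a, ha, n, hn, rfl⟩ := hcover g
    rw [mul_assoc, hN' n hn, ← mul_assoc, comm_of_sq hQ ha hx, mul_assoc]
  refine ⟨P, p, hp3, hp, hgen', hNQ, hcover, hcentral, hcZ, hindex.trans hcN.2, fun k hk => ?_⟩
  have hkN : k ∈ N := Sylow.smul_eq_iff_mem_normalizer.1 (hk P)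
  let K := (MulAction.toPermHom G (Sylow 3 G)).ker
  have hkK : k ∈ K := by
    rw [MonoidHom.mem_ker]
    exact Equiv.ext hk
  have hKN : ∀ y ∈ K, y ∈ N := fun y hy => Sylow.smul_eq_iff_mem_normalizer.1
    (congrArg (fun σ : Equiv.Perm (Sylow 3 G) => σ P) (MonoidHom.mem_ker.1 hy))
  have hKn : K.Normal := MonoidHom.normal_ker _
  -- an element commuting with `p` and acting trivially modulo `Z` lies in `Q`
  have key : ∀ y ∈ K, p * y = y * p → y ∈ Q := by
    intro y hy hyp
    refine hC (mem_centralizer_iff.2 fun q hq => ?_)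
    have hf : ∀ a ∈ Q, y * a * y⁻¹ * a⁻¹ ∈ Q ∧ p * (y * a * y⁻¹ * a⁻¹) = y * a * y⁻¹ * a⁻¹ * p := by
      intro a ha
      have h1 : y * a * y⁻¹ * a⁻¹ ∈ Q := mul_mem (conjQ ha y) (inv_mem ha)
      refine ⟨h1, hNQ _ h1 (hKN _ ?_)⟩
      rw [mul_assoc, mul_assoc]
      exact mul_mem hy (by simpa [mul_assoc] using hKn.conj_mem _ (inv_mem hy) a)
    set c := y * q * y⁻¹ * q⁻¹ with hc
    obtain ⟨hcQ, hcp⟩ := hf q hq
    have hzc : ∀ g, g * c = c * g := hcentral c hcQ hcp
    have hyq : y * q * y⁻¹ = c * q := by rw [hc]; group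
    have hnQ := norm3_mem p hq
    have hnorm : y * norm3 p q * y⁻¹ = norm3 p q :=
      mul_inv_eq_iff_eq_mul.2 (hcentral _ hnQ (mul_inv_eq_iff_eq_mul.1 (norm3_fixed hQ hp3 hq)) y)
    have h2 : y * norm3 p q * y⁻¹ = norm3 p (c * q) := by
      rw [← hyq]
      unfold norm3
      have e1 : y * (p * q * p⁻¹) * y⁻¹ = p * (y * q * y⁻¹) * p⁻¹ := by
        calc y * (p * q * p⁻¹) * y⁻¹ = (y * p) * q * (y * p)⁻¹ := by group
          _ = (p * y) * q * (p * y)⁻¹ := by rw [hyp]
          _ = p * (y * q * y⁻¹) * p⁻¹ := by group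
      have hpp : (p * p) * y = y * (p * p) := by rw [mul_assoc, hyp, ← mul_assoc, hyp, mul_assoc]
      have e2 : y * (p * p * q * (p * p)⁻¹) * y⁻¹ = p * p * (y * q * y⁻¹) * (p * p)⁻¹ := by
        calc y * (p * p * q * (p * p)⁻¹) * y⁻¹ = (y * (p * p)) * q * (y * (p * p))⁻¹ := by group
          _ = ((p * p) * y) * q * ((p * p) * y)⁻¹ := by rw [hpp]
          _ = p * p * (y * q * y⁻¹) * (p * p)⁻¹ := by group
      rw [← e1, ← e2]
      group
    rw [hnorm, norm3_mul hQ hcQ hq, norm3_of_commute hQ hcQ hcp] at h2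
    have hc1 : c = 1 := mul_eq_right.1 h2.symm
    rw [hc, mul_inv_eq_one, mul_inv_eq_iff_eq_mul] at hc1
    exact hc1.symm
  have hpK : p ∉ K := fun h => by
    have := hQP p (key p h rfl) hp
    rw [hgen', this, zpowers_one_eq_bot, card_bot] at hPc
    omega
  have hcomm : p * k = k * p := by
    have h1 : k * p * k⁻¹ * p⁻¹ ∈ K := by
      rw [mul_assoc, mul_assoc]
      exact mul_mem hkK (by simpa [mul_assoc] using hKn.conj_mem _ (inv_mem hkK) p)
    have h2 : k * p * k⁻¹ * p⁻¹ ∈ (P : Subgroup G) :=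
      mul_mem ((mem_normalizer_iff.1 hkN p).1 hp) (inv_mem hp)
    rw [hgen'] at h2
    obtain ⟨i, hi'⟩ := mem_zpowers_iff.1 h2
    rw [← hi'] at h1
    by_cases h3 : (3 : ℤ) ∣ i
    · obtain ⟨j, rfl⟩ := h3
      rw [zpow_mul, show p ^ (3 : ℤ) = 1 by exact_mod_cast hp3, one_zpow, eq_comm,
        mul_inv_eq_one, mul_inv_eq_iff_eq_mul] at hi'
      exact hi'.symm
    · exfalso
      apply hpK
      have hco : IsCoprime (3 : ℤ) i := (Prime.coprime_iff_not_dvd (by norm_num)).2 h3
      obtain ⟨u, v, huv⟩ := hco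
      have : p = (p ^ i) ^ v := by
        conv_lhs => rw [← zpow_one p, ← huv, zpow_add, mul_comm u, zpow_mul,
          show p ^ (3 : ℤ) = 1 by exact_mod_cast hp3, one_zpow, one_mul, mul_comm v, zpow_mul]
      rw [this]
      exact zpow_mem h1 v
  exact ⟨key k hkK hcomm, hcomm⟩

/-- The action on the Sylow 3-subgroups as a homomorphism to `S₄`. -/
theorem exists_hom {P : Sylow 3 G} {p : G} (hd : Data Q P p) :
    ∃ φ : G →* Equiv.Perm (Fin 4), ∀ k, φ k = 1 → k ∈ Q ∧ p * k = k * p := by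
  have := Fintype.ofFinite (Sylow 3 G)
  let e : Sylow 3 G ≃ Fin 4 := Finite.equivFinOfCardEq hd.sylows
  refine ⟨e.permCongrHom.toMonoidHom.comp (MulAction.toPermHom G (Sylow 3 G)), fun k hk => hd.ker k ?_⟩
  intro P'
  have h1 : MulAction.toPermHom G (Sylow 3 G) k = 1 := by
    apply e.permCongrHom.injective
    rw [map_one]
    exact hk
  exact congrArg (fun σ : Equiv.Perm (Sylow 3 G) => σ P') h1

theorem natCard_perm : Nat.card (Equiv.Perm (Fin 4)) = 24 := by
  rw [Nat.card_perm, Nat.card_fin]; rfl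

theorem iso_four (hQ : ∀ x ∈ Q, x * x = 1) (hC : centralizer (Q : Set G) ≤ Q) (hi : Q.index = 6)
    (hcard : Nat.card Q = 4) : Nonempty (G ≃* Equiv.Perm (Fin 4)) := by
  obtain ⟨P, p, hd⟩ := exists_data hQ hC hi (Or.inl hcard)
  obtain ⟨φ, hφ⟩ := exists_hom hd
  have hinj : Function.Injective φ := (injective_iff_map_eq_one φ).2 fun k hk => by
    obtain ⟨h1, h2⟩ := hφ k hk
    have hZ : Nat.card ↥(Q ⊓ centralizer ((P : Subgroup G) : Set G)) = 1 :=
      Nat.eq_of_mul_eq_mul_right (by norm_num : 0 < 4) (by rw [hd.cardZ, hcard])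
    have hkZ : k ∈ Q ⊓ centralizer ((P : Subgroup G) : Set G) := by
      refine ⟨h1, mem_centralizer_iff.2 fun y hy => ?_⟩
      rw [SetLike.mem_coe, hd.gen] at hy
      obtain ⟨i, rfl⟩ := mem_zpowers_iff.1 hy
      exact (show Commute p k from h2).zpow_left i
    rwa [card_eq_one.1 hZ, mem_bot] at hkZ
  exact ⟨MulEquiv.ofBijective φ ((Nat.bijective_iff_injective_and_card φ).2
    ⟨hinj, by rw [natCard_perm, ← card_mul_index Q, hcard, hi]⟩)⟩

theorem card_sup_le {A B : Subgroup G} (h : B ≤ normalizer (A : Set G)) :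
    Nat.card ↥(A ⊔ B) ≤ Nat.card A * Nat.card B := by
  have e := coe_mul_of_right_le_normalizer_left A B h
  calc Nat.card ↥(A ⊔ B) = Nat.card ((A : Set G) * (B : Set G) : Set G) := by
        show Nat.card (((A ⊔ B : Subgroup G) : Set G)) = _
        rw [e]
    _ ≤ Nat.card (A : Set G) * Nat.card (B : Set G) := Set.natCard_mul_le

theorem iso_eight (hQ : ∀ x ∈ Q, x * x = 1) (hC : centralizer (Q : Set G) ≤ Q) (hi : Q.index = 6)
    (hcard : Nat.card Q = 8) {m : G} (hm : m ∉ Q) (hm2 : m * m = 1) :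
    Nonempty (G ≃* Equiv.Perm (Fin 4) × Multiplicative (ZMod 2)) := by
  obtain ⟨P, p, hd⟩ := exists_data hQ hC hi (Or.inr hcard)
  obtain ⟨φ, hφ⟩ := exists_hom hd
  set Z := Q ⊓ centralizer ((P : Subgroup G) : Set G) with hZdef
  have hmemZ : ∀ x, x ∈ Q → p * x = x * p → x ∈ Z := fun x hx hpx =>
    ⟨hx, mem_centralizer_iff.2 fun y hy => by
      rw [SetLike.mem_coe, hd.gen] at hy
      obtain ⟨i, rfl⟩ := mem_zpowers_iff.1 hy
      exact (show Commute p x from hpx).zpow_left i⟩
  have hZp : ∀ x ∈ Z, p * x = x * p := fun x hx => mem_centralizer_iff.1 hx.2 p hd.mem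
  have hZ2 : Nat.card Z = 2 := by
    have : Nat.card Z * 4 = 8 := hd.cardZ.trans hcard
    omega
  let N₁ : Subgroup G :=
    { carrier := {x | x ∈ Q ∧ norm3 p x = 1}
      one_mem' := ⟨one_mem Q, by simp [norm3]⟩
      mul_mem' := fun {a b} ha hb => ⟨mul_mem ha.1 hb.1, by rw [norm3_mul hQ ha.1 hb.1, ha.2, hb.2, one_mul]⟩
      inv_mem' := fun {a} ha => by rwa [inv_eq_of_mul_eq_one_right (hQ a ha.1)] }
  have hN₁ : ∀ x, x ∈ N₁ ↔ x ∈ Q ∧ norm3 p x = 1 := fun x => Iff.rfl
  have hsplit : ∀ x ∈ Q, ∃ a ∈ N₁, ∃ b ∈ Z, x = a * b := by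
    intro x hx
    have hn := norm3_mem p hx
    have hc : p * norm3 p x = norm3 p x * p := mul_inv_eq_iff_eq_mul.1 (norm3_fixed hQ hd.pow hx)
    refine ⟨x * norm3 p x, ⟨mul_mem hx hn, ?_⟩, norm3 p x, hmemZ _ hn hc, by
      rw [mul_assoc, hQ _ hn, mul_one]⟩
    rw [norm3_mul hQ hx hn, norm3_of_commute hQ hn hc, hQ _ hn]
  have hdisj : ∀ x ∈ N₁, x ∈ Z → x = 1 := fun x hx hxZ => by
    rw [← hx.2, norm3_of_commute hQ hxZ.1 (hZp x hxZ)]
  have hN₁le : Nat.card N₁ ≤ 4 := by
    have hle : N₁ ≤ Q := fun x hx => hx.1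
    let f : N₁ × Z → Q := fun y => ⟨y.1.1 * y.2.1, mul_mem y.1.2.1 y.2.2.1⟩
    have hf : Function.Injective f := by
      rintro ⟨a, b⟩ ⟨a', b'⟩ h
      have h1 : a.1 * b.1 = a'.1 * b'.1 := congrArg Subtype.val h
      have h2 : a'.1⁻¹ * a.1 = b'.1 * b.1⁻¹ := by
        rw [inv_mul_eq_iff_eq_mul, ← mul_assoc, ← h1, mul_inv_cancel_right]
      have h3 := hdisj _ (mul_mem (inv_mem a'.2) a.2) (h2 ▸ mul_mem b'.2 (inv_mem b.2))
      have h4 : a = a' := Subtype.ext (inv_mul_eq_one.1 h3).symm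
      subst h4
      exact Prod.ext rfl (Subtype.ext (mul_left_cancel h1))
    have := Nat.card_le_card_of_injective f hf
    rw [Nat.card_prod, hZ2, hcard] at this
    omega
  obtain ⟨q₀, hq₀, l, hl, hml⟩ := hd.cover m
  have hlQ : l ∉ Q := fun h => hm (hml ▸ mul_mem hq₀ h)
  have hlc : ∀ x ∈ Q, norm3 p (l * x * l⁻¹) = norm3 p x := by
    intro x hx
    obtain ⟨a, ha, b, hb, rfl⟩ := hsplit x hx
    rw [show l * (a * b) * l⁻¹ = (l * a * l⁻¹) * (l * b * l⁻¹) by group,
      norm3_mul hQ (conjQ ha.1 l) (conjQ hb.1 l), norm3_mul hQ ha.1 hb.1, ha.2,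
      mul_inv_eq_iff_eq_mul.2 (hd.central b hb.1 (hZp b hb) l)]
    congr 1
    -- the conjugate of an element of norm one has norm one
    have h2 : l⁻¹ * p * l ∈ (P : Subgroup G) := (mem_normalizer_iff''.1 hl p).1 hd.mem
    rw [hd.gen] at h2
    obtain ⟨i, hi'⟩ := mem_zpowers_iff.1 h2
    have hmem := conjQ ha.1 l
    have hcn : p * norm3 p (l * a * l⁻¹) = norm3 p (l * a * l⁻¹) * p :=
      mul_inv_eq_iff_eq_mul.1 (norm3_fixed hQ hd.pow hmem)
    have e : ∀ j : G, j * a * j⁻¹ = l⁻¹ * ((l * j * l⁻¹) * (l * a * l⁻¹) * (l * j * l⁻¹)⁻¹) * l := by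
      intro j; group
    have hn : l⁻¹ * norm3 p (l * a * l⁻¹) * l = norm3 p (l * a * l⁻¹) := by
      rw [mul_assoc, ← hd.central _ (norm3_mem p hmem) hcn l, inv_mul_cancel_left]
    rw [← hn]
    have e2 : l⁻¹ * norm3 p (l * a * l⁻¹) * l = norm3 (l⁻¹ * p * l) a := by
      unfold norm3; group
    rw [e2, ← hi', ← ha.2]
    -- only the residue of the exponent matters
    have hp3 : p ^ (3 : ℤ) = 1 := by exact_mod_cast hd.pow
    have hi3 : i = 3 * (i / 3) + i % 3 := (Int.mul_ediv_add_emod i 3).symm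
    rw [hi3, zpow_add, zpow_mul, hp3, one_zpow, one_mul]
    rcases (show i % 3 = 0 ∨ i % 3 = 1 ∨ i % 3 = 2 by omega) with h | h | h <;> rw [h]
    · exfalso
      rw [hi3, zpow_add, zpow_mul, hp3, one_zpow, one_mul, h, zpow_zero] at hi'
      have h3 : p = 1 := by
        have := congrArg (fun z => l * z * l⁻¹) hi'
        simpa [mul_assoc] using this.symm
      have h4 := hd.central
      have : Nat.card (P : Subgroup G) = 1 := by rw [hd.gen, h3, zpowers_one_eq_bot, card_bot]
      have hall : ∀ x ∈ Q, x ∈ Z := fun x hx => hmemZ x hx (by rw [h3, one_mul, mul_one])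
      have := card_le_of_le (show Q ≤ Z from hall)
      omega
    · rw [zpow_one]
    · unfold norm3
      have hp' : p * p * (p * p) = p := by
        rw [show p * p * (p * p) = p ^ 3 * p by rw [pow_three]; simp only [mul_assoc], hd.pow, one_mul]
      rw [show (p ^ (2 : ℤ)) = p * p by rw [zpow_two], hp']
      rw [mul_assoc a, mul_assoc a, comm_of_sq hQ (conjQ ha.1 (p * p)) (conjQ ha.1 p)]
  have hl2 : l * l = 1 := by
    have h1 : q₀ * (l * q₀ * l⁻¹) * (l * l) = 1 := by
      rw [← hm2, hml]; group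
    have h2 : q₀ * (l * q₀ * l⁻¹) ∈ Q := mul_mem hq₀ (conjQ hq₀ l)
    have h3 : l * l = (q₀ * (l * q₀ * l⁻¹))⁻¹ := (inv_eq_of_mul_eq_one_right h1).symm
    rw [inv_eq_of_mul_eq_one_right (hQ _ h2)] at h3
    have h4 : l * l ∈ Q := h3 ▸ h2
    have h5 := hd.normalizerQ _ h4 (mul_mem hl hl)
    rw [← norm3_of_commute hQ h4 h5, h3, norm3_mul hQ hq₀ (conjQ hq₀ l), hlc q₀ hq₀,
      hQ _ (norm3_mem p hq₀)]
  set L := (P : Subgroup G) ⊔ zpowers l with hL
  set H := N₁ ⊔ L with hH
  have hLn : L ≤ normalizer (N₁ : Set G) := by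
    refine sup_le ?_ (zpowers_le.2 ?_)
    · rw [hd.gen, zpowers_le]
      refine mem_normalizer_iff_map_conj_eq.2 (eq_of_le_of_card_ge ?_ ?_)
      · rintro _ ⟨x, hx, rfl⟩
        refine ⟨conjQ hx.1 p, ?_⟩
        have e : norm3 p (p * x * p⁻¹) = p * norm3 p x * p⁻¹ := by unfold norm3; group
        show norm3 p (p * x * p⁻¹) = 1
        rw [e, hx.2, mul_one, mul_inv_cancel]
      · rw [card_map_of_injective (MulAut.conj p).injective]
    · refine mem_normalizer_iff_map_conj_eq.2 (eq_of_le_of_card_ge ?_ ?_)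
      · rintro _ ⟨x, hx, rfl⟩
        exact ⟨conjQ hx.1 l, (hlc x hx.1).trans hx.2⟩
      · rw [card_map_of_injective (MulAut.conj l).injective]
  have hPc : Nat.card (P : Subgroup G) ≤ 3 := by
    rw [hd.gen, Nat.card_zpowers]
    exact Nat.le_of_dvd (by norm_num) (orderOf_dvd_of_pow_eq_one hd.pow)
  have hH24 : Nat.card H ≤ 24 := by
    have h1 : Nat.card L ≤ 3 * 2 := (card_sup_le (zpowers_le.2 hl)).trans
      (Nat.mul_le_mul hPc (by
        rw [Nat.card_zpowers]
        exact Nat.le_of_dvd two_pos (orderOf_dvd_of_pow_eq_one (by rw [pow_two, hl2]))))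
    exact (card_sup_le hLn).trans (Nat.mul_le_mul hN₁le h1)
  -- together with `Z` it is everything
  have hQHZ : Q ≤ H ⊔ Z := fun x hx => by
    obtain ⟨a, ha, b, hb, rfl⟩ := hsplit x hx
    exact mul_mem (mem_sup_left (mem_sup_left ha)) (mem_sup_right hb)
  have hZn : ∀ z ∈ Z, ∀ g : G, g * z = z * g := fun z hz => hd.central z hz.1 (hZp z hz)
  have htop : H ⊔ Z = ⊤ := by
    set K := H ⊔ Z
    have hlK : l ∈ K := mem_sup_left (mem_sup_right (mem_sup_right (mem_zpowers l)))
    have hPK : (P : Subgroup G) ≤ K := (le_sup_left.trans le_sup_right).trans le_sup_left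
    have h2 : 16 ∣ Nat.card K := by
      set R := Q ⊔ zpowers l
      have hR : Nat.card R = 16 := by
        have h1 := relIndex_mul_relIndex ⊥ Q R bot_le le_sup_left
        rw [relIndex_bot_left, relIndex_bot_left] at h1
        have h2 : Q.relIndex R ∣ 6 := hi ▸ relIndex_dvd_index_of_normal Q R
        have h3 : Nat.card R ≤ 8 * 2 := (card_sup_le le_normalizer_of_normal).trans
          (Nat.mul_le_mul hcard.le (by
            rw [Nat.card_zpowers]
            exact Nat.le_of_dvd two_pos (orderOf_dvd_of_pow_eq_one (by rw [pow_two, hl2]))))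
        have h4 : Q.relIndex R ≠ 1 := fun h => hlQ (relIndex_eq_one.1 h (mem_sup_right (mem_zpowers l)))
        rw [hcard] at h1
        have h5 : Q.relIndex R ≤ 2 := by omega
        have h6 : 1 ≤ Q.relIndex R := Nat.pos_of_ne_zero index_ne_zero_of_finite
        omega
      exact hR ▸ card_dvd_of_le (sup_le hQHZ (zpowers_le.2 hlK))
    have h3 : 3 ∣ Nat.card K := by
      refine dvd_trans ?_ (card_dvd_of_le hPK)
      rw [hd.gen, Nat.card_zpowers]
      refine ((Nat.dvd_prime Nat.prime_three).1 (orderOf_dvd_of_pow_eq_one hd.pow)).resolve_left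
        (fun h => ?_) ▸ dvd_rfl
      have hp1 : p = 1 := orderOf_eq_one_iff.1 h
      have hall : ∀ x ∈ Q, x ∈ Z := fun x hx => hmemZ x hx (by rw [hp1, one_mul, mul_one])
      have := card_le_of_le (show Q ≤ Z from hall)
      omega
    have hcG : Nat.card G = 48 := by rw [← card_mul_index Q, hcard, hi]
    refine eq_top_of_card_eq _ ?_
    have h5 : 48 ∣ Nat.card K := (Nat.Coprime.mul_dvd_of_dvd_of_dvd (by norm_num) h2 h3)
    have h6 := card_le_card_group K
    have h7 := Nat.le_of_dvd Nat.card_pos h5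
    omega
  have hcG : Nat.card G = 48 := by rw [← card_mul_index Q, hcard, hi]
  have hHn : H.Normal := by
    rw [← normalizer_eq_top_iff, eq_top_iff, ← htop]
    refine sup_le le_normalizer fun z hz => centralizer_le_normalizer _
      (mem_centralizer_iff.2 fun h _ => hZn z hz h)
  have hcov : Nat.card ↥(H ⊔ Z) ≤ Nat.card H * Nat.card Z := card_sup_le le_normalizer_of_normal
  rw [htop, card_top, hcG, hZ2] at hcov
  have hH : Nat.card H = 24 := by omega
  have hHi : H.index = 2 := by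
    have := card_mul_index H
    rw [hH, hcG] at this
    omega
  have hHZ : ∀ z ∈ Z, z ∈ H → z = 1 := by
    intro z hz hzH
    by_contra hne
    have hle : Z ≤ H := by
      have h1 : zpowers z = Z := eq_of_le_of_card_ge (zpowers_le.2 hz) (by
        rw [hZ2, Nat.card_zpowers, orderOf_eq_prime (by rw [pow_two, hQ z hz.1]) hne])
      rw [← h1]
      exact zpowers_le.2 hzH
    rw [sup_eq_left.2 hle] at htop
    rw [htop, index_top] at hHi
    omega
  have : Fact (Nat.Prime 2) := ⟨Nat.prime_two⟩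
  let e : G ⧸ H ≃* Multiplicative (ZMod 2) :=
    mulEquivOfPrimeCardEq (p := 2) (G := G ⧸ H) (G' := Multiplicative (ZMod 2))
      (by rw [← index_eq_card, hHi]) (by simp [Nat.card_eq_fintype_card])
  let ψ : G →* Multiplicative (ZMod 2) := e.toMonoidHom.comp (QuotientGroup.mk' H)
  have hψ : ∀ k, ψ k = 1 → k ∈ H := fun k hk => by
    rw [← QuotientGroup.eq_one_iff]
    exact e.injective (hk.trans e.map_one.symm)
  have hinj : Function.Injective (φ.prod ψ) := (injective_iff_map_eq_one _).2 fun k hk => by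
    obtain ⟨h1, h2⟩ := Prod.ext_iff.1 hk
    obtain ⟨h3, h4⟩ := hφ k h1
    exact hHZ k (hmemZ k h3 h4) (hψ k h2)
  exact ⟨MulEquiv.ofBijective (φ.prod ψ) ((Nat.bijective_iff_injective_and_card _).2
    ⟨hinj, by rw [Nat.card_prod, natCard_perm, hcG]; simp [Nat.card_eq_fintype_card]⟩)⟩

end Cfsg.Agent.CharP.RecognizeS4
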