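import Cfsg.Agent.Lib.CharP.GoldschmidtS3Critical
import Cfsg.Agent.Lib.CharP.GoldschmidtS4

/-!
The structure of an amalgam of two groups with quotient `S₃` by `O₂` and noncentral `Ω₁Z` on both sides.
-/

set_option autoImplicit false
set_option linter.unusedSectionVars false

namespace Cfsg.Agent.CharP.S3Amalgam

open Subgroup
open scoped commutatorElement

variable {X : Type*} [Group X] {M₁ M₂ : Subgroup X}

local notation "Γ" => Cfsg.cosetGraph M₁ M₂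
local notation "𝐆" => MulAction.stabilizer X
local notation "𝐄" => Cfsg.edgeStabilizer
local notation "𝐐" => Cfsg.vertexQ 2
local notation "𝐙" => Cfsg.vertexZ 2
local notation "bb" => Cfsg.criticalDistance 2 M₁ M₂

/-- Every edge is a critical pair in both directions. -/
theorem edge_critical (hS : Setting M₁ M₂ 3) {δ μ : Cfsg.CosetVertex M₁ M₂} (h : (Γ).Adj δ μ) :
    ∃ n ∈ 𝐙 δ, n ∉ 𝐐 μ := by
  have hb := dist_eq_one hS
  obtain ⟨α, α', hc⟩ := exists_critical hS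
  have hadj : (Γ).Adj α α' := SimpleGraph.dist_eq_one_iff_adj.1 (hc.2.trans hb)
  have main : ∀ {x y : Cfsg.CosetVertex M₁ M₂}, Cfsg.IsCriticalPair 2 x y → (Γ).Adj x y →
      x.isLeft = δ.isLeft → ∃ n ∈ 𝐙 δ, n ∉ 𝐐 μ := by
    intro x y hxy hxyadj ht
    obtain ⟨g, hg⟩ := exists_smul_eq_of_type ht
    subst hg
    obtain ⟨k, hk, hky⟩ := cg_transitive (cg_adj_smul g hxyadj) h
    have hc2 := critical_smul hS hxy (k * g)
    rw [mul_smul, mul_smul, MulAction.mem_stabilizer_iff.1 hk, hky] at hc2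
    have := hc2.1
    rw [neighbourKernel_eq hS] at this
    exact SetLike.not_le_iff_exists.1 this
  by_cases ht : α.isLeft = δ.isLeft
  · exact main hc hadj ht
  · refine main (critical_symm hS hc) hadj.symm ?_
    have := isLeft_adj hadj
    cases h1 : α.isLeft <;> cases h2 : δ.isLeft <;> cases h3 : α'.isLeft <;> simp_all

/-- The kernels are elementary abelian, and their intersection is `Ω₁Z` of the edge group. -/
theorem structure_edge (hS : Setting M₁ M₂ 3) {δ μ : Cfsg.CosetVertex M₁ M₂} (h : (Γ).Adj δ μ) :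
    (∀ x ∈ 𝐐 δ, x * x = 1) ∧ (𝐐 δ ⊓ 𝐐 μ).relIndex (𝐐 δ) = 2 ∧
      ∀ z ∈ 𝐐 δ ⊓ 𝐐 μ, ∀ g ∈ 𝐄 δ μ, g * z = z * g := by
  obtain ⟨n, hn, hnQ⟩ := edge_critical hS h
  obtain ⟨m, hm, hmQ⟩ := edge_critical hS h.symm
  have hEδ : ∀ x ∈ 𝐐 δ, x ∈ 𝐄 μ δ := fun x hx => edge_comm δ μ ▸ Q_le_edge hS h hx
  have hEμ : ∀ x ∈ 𝐐 μ, x ∈ 𝐄 δ μ := fun x hx => edge_comm μ δ ▸ Q_le_edge hS h.symm hx
  have sqD : ∀ {δ μ : Cfsg.CosetVertex M₁ M₂}, (Γ).Adj δ μ → ∀ {n : X}, n ∈ 𝐙 δ → n ∉ 𝐐 μ →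
      ∀ x ∈ 𝐐 δ, ∃ d ∈ 𝐐 δ ⊓ 𝐐 μ, x * x = d * d := by
    intro δ μ h n hn hnQ x hx
    by_cases hxμ : x ∈ 𝐐 μ
    · exact ⟨x, ⟨hx, hxμ⟩, rfl⟩
    · have hE : ∀ y ∈ 𝐐 δ, y ∈ 𝐄 μ δ := fun y hy => edge_comm δ μ ▸ Q_le_edge hS h hy
      refine ⟨x * n, ⟨mul_mem hx (Z_le_Q hS δ hn),
        (mul_mem_Q hS h.symm (hE x hx) (hE n (Z_le_Q hS δ hn))).2 (iff_of_false hxμ hnQ)⟩, ?_⟩
      calc x * x = x * (n * n) * x := by rw [Z_sq hS hn, mul_one]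
        _ = x * n * (n * x) := by group
        _ = x * n * (x * n) := by rw [Q_commute hx hn]
  set U := closure {y | ∃ d ∈ 𝐐 δ ⊓ 𝐐 μ, y = d * d} with hU
  have hn' : ∀ {δ μ : Cfsg.CosetVertex M₁ M₂}, (Γ).Adj δ μ → ∀ {n : X}, n ∈ 𝐙 δ → n ∉ 𝐐 μ →
      𝐆 δ ≤ normalizer (closure {y | ∃ d ∈ 𝐐 δ ⊓ 𝐐 μ, y = d * d} : Set X) := by
    intro δ μ h n hn hnQ
    refine le_normalizer_closure_iff.2 ?_
    rintro g hg _ ⟨d, hd, rfl⟩
    refine subset_closure ?_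
    obtain ⟨d', hd', he⟩ := sqD h hn hnQ (g * d * g⁻¹)
      ((mem_normalizer_iff.1 (normQ δ hg) d).1 hd.1)
    exact ⟨d', hd', by rw [← he]; group⟩
  have hU0 : U = ⊥ := by
    refine eq_bot_of_normalized hS h ((closure_le _).2 ?_) (hn' h hn hnQ) ?_
    · rintro _ ⟨d, hd, rfl⟩
      exact Q_le_edge hS h (mul_mem hd.1 hd.1)
    · have := hn' h.symm hm hmQ
      rwa [inf_comm] at this
  have hDsq : ∀ d ∈ 𝐐 δ ⊓ 𝐐 μ, d * d = 1 := fun d hd =>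
    mem_bot.1 (hU0 ▸ subset_closure ⟨d, hd, rfl⟩)
  have hsq : ∀ x ∈ 𝐐 δ, x * x = 1 := fun x hx => by
    obtain ⟨d, hd, he⟩ := sqD h hn hnQ x hx
    rw [he, hDsq d hd]
  refine ⟨hsq, ?_, fun z hz g hg => ?_⟩
  · have hidx : ((𝐐 μ).subgroupOf (𝐄 μ δ)).index = 2 := (edge_data hS h.symm).2.2.1
    rw [inf_relIndex_left]
    refine index_eq_two_iff.2 ⟨⟨n, Z_le_Q hS δ hn⟩, fun b => ?_⟩
    rw [mem_subgroupOf, mem_subgroupOf]
    have h1 := mul_mem_Q hS h.symm (hEδ b b.2) (hEδ n (Z_le_Q hS δ hn))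
    by_cases hb : (b : X) ∈ 𝐐 μ
    · exact Or.inr ⟨hb, fun h2 => hnQ ((h1.1 h2).1 hb)⟩
    · exact Or.inl ⟨h1.2 (iff_of_false hb hnQ), hb⟩
  · refine mem_centralizer_singleton_iff.1 (Q_sup hS h (K := centralizer {z}) (hEμ m (Z_le_Q hS μ hm))
      hmQ (fun y hy => mem_centralizer_singleton_iff.2 ?_)
      (mem_centralizer_singleton_iff.2 (Q_commute hz.2 hm).symm) hg)
    have h1 : (y * z)⁻¹ = y * z := inv_eq_of_mul_eq_one_right (hsq _ (mul_mem hy hz.1))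
    rw [← h1, mul_inv_rev, inv_eq_of_mul_eq_one_right (hsq y hy), inv_eq_of_mul_eq_one_right (hsq z hz.1)]

theorem card_Q (hS : Setting M₁ M₂ 3) {δ μ : Cfsg.CosetVertex M₁ M₂} (h : (Γ).Adj δ μ) :
    Nat.card ↥(𝐐 δ) = 2 * Nat.card ↥(𝐐 δ ⊓ 𝐐 μ) := by
  rw [← relIndex_bot_left, ← relIndex_bot_left,
    ← relIndex_mul_relIndex ⊥ _ _ bot_le (inf_le_left : 𝐐 δ ⊓ 𝐐 μ ≤ 𝐐 δ),
    (structure_edge hS h).2.1, mul_comm]

/-- The common kernel has order two or four. -/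
theorem card_common (hS : Setting M₁ M₂ 3) {δ μ : Cfsg.CosetVertex M₁ M₂} (h : (Γ).Adj δ μ) :
    Nat.card ↥(𝐐 δ ⊓ 𝐐 μ) = 2 ∨ Nat.card ↥(𝐐 δ ⊓ 𝐐 μ) = 4 := by
  set D := 𝐐 δ ⊓ 𝐐 μ with hD
  have := finite_vertex hS δ
  have := finite_vertex hS μ
  have hfQ : ∀ v, Finite ↥(𝐐 v) := fun v =>
    haveI := finite_vertex hS v
    Finite.of_injective _ (inclusion_injective (pCoreOf_le 2 (𝐆 v)))
  have hfD : Finite ↥D := haveI := hfQ δ; Finite.of_injective _ (inclusion_injective inf_le_left)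
  have main : ∀ {δ μ : Cfsg.CosetVertex M₁ M₂}, (Γ).Adj δ μ →
      Nat.card ↥(𝐐 δ ⊓ 𝐐 μ) ≤ 2 * Nat.card ↥(𝐐 δ ⊓ 𝐐 μ ⊓ centralizer (𝐆 δ : Set X)) := by
    intro δ μ h
    obtain ⟨ν, hν, hne⟩ := exists_other hS h
    have hfQ' := hfQ δ
    set A := 𝐐 δ ⊓ 𝐐 μ
    set B := 𝐐 δ ⊓ 𝐐 ν
    have h1 : B.relIndex A ≤ 2 := by
      have h3 : B.relIndex A ≤ B.relIndex (𝐐 δ) := relIndex_le_of_le_right inf_le_left (by
        rw [(structure_edge hS hν).2.1]; decide)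
      rw [(structure_edge hS hν).2.1] at h3
      exact h3
    have h2 : A ⊓ B ≤ A ⊓ centralizer (𝐆 δ : Set X) := fun z hz =>
      ⟨hz.1, mem_centralizer_iff.2 (central_of_two hS h hν hne.symm
        (fun g hg => (structure_edge hS h).2.2 z hz.1 g (edge_comm μ δ ▸ hg))
        (fun g hg => (structure_edge hS hν).2.2 z hz.2 g (edge_comm ν δ ▸ hg)))⟩
    have hfA : Finite ↥A := Finite.of_injective _ (inclusion_injective inf_le_left)
    have hfC : Finite ↥(A ⊓ centralizer (𝐆 δ : Set X)) :=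
      Finite.of_injective _ (inclusion_injective inf_le_left)
    calc Nat.card A = Nat.card ↥(A ⊓ B) * B.relIndex A := by
          rw [← inf_relIndex_left, ← relIndex_bot_left, ← relIndex_bot_left,
            relIndex_mul_relIndex ⊥ _ _ bot_le inf_le_left]
      _ ≤ Nat.card ↥(A ⊓ centralizer (𝐆 δ : Set X)) * 2 := Nat.mul_le_mul (card_le_of_le h2) h1
      _ = _ := mul_comm _ _
  set A₁ := D ⊓ centralizer (𝐆 δ : Set X)
  set A₂ := D ⊓ centralizer (𝐆 μ : Set X)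
  have h1 : Nat.card D ≤ 2 * Nat.card A₁ := main h
  have h2 : Nat.card D ≤ 2 * Nat.card A₂ := by
    have := main h.symm
    rwa [inf_comm (𝐐 μ)] at this
  have hbot : A₁ ⊓ A₂ = ⊥ := (eq_bot_iff_forall _).2 fun z hz =>
    faith hS h (Q_le_edge hS h hz.1.1.1)
      (fun g hg => mem_centralizer_iff.1 hz.1.2 g hg)
      (fun g hg => mem_centralizer_iff.1 hz.2.2 g hg)
  have hfA1 : Finite ↥A₁ := Finite.of_injective _ (inclusion_injective inf_le_left)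
  have hfA2 : Finite ↥A₂ := Finite.of_injective _ (inclusion_injective inf_le_left)
  have h3 : Nat.card A₁ * Nat.card A₂ ≤ Nat.card D := by
    rw [← Nat.card_prod]
    refine Nat.card_le_card_of_injective (fun y => (⟨y.1.1 * y.2.1, D.mul_mem y.1.2.1 y.2.2.1⟩ : D)) ?_
    rintro ⟨a, b⟩ ⟨a', b'⟩ he
    have h4 : a.1 * b.1 = a'.1 * b'.1 := congrArg Subtype.val he
    have h5 : a'.1⁻¹ * a.1 = b'.1 * b.1⁻¹ := by
      rw [inv_mul_eq_iff_eq_mul, ← mul_assoc, ← h4, mul_inv_cancel_right]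
    have h6 : a'.1⁻¹ * a.1 ∈ A₁ ⊓ A₂ :=
      ⟨A₁.mul_mem (A₁.inv_mem a'.2) a.2, h5 ▸ A₂.mul_mem b'.2 (A₂.inv_mem b.2)⟩
    rw [hbot, mem_bot] at h6
    have h7 : a = a' := Subtype.ext (inv_mul_eq_one.1 h6).symm
    subst h7
    exact Prod.ext rfl (Subtype.ext (mul_left_cancel h4))
  have hp : IsPGroup 2 ↥D := (isPGroup_pCoreOf 2 (𝐆 δ)).to_le inf_le_left
  have : Fact (Nat.Prime 2) := ⟨Nat.prime_two⟩
  obtain ⟨k, hk⟩ := IsPGroup.iff_card.1 hp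
  have hk0 : k ≠ 0 := by
    rintro rfl
    have hQ := card_Q hS h
    rw [← hD, hk] at hQ
    norm_num at hQ
    -- a normal subgroup of order two is central
    have hc : 𝐆 δ ≤ centralizer (𝐐 δ : Set X) := fun g hg => mem_centralizer_iff.2 fun z hz => by
      by_cases hz1 : z = 1
      · simp [hz1]
      have hgz : g * z * g⁻¹ ∈ 𝐐 δ := (mem_normalizer_iff.1 (normQ δ hg) z).1 hz
      by_contra hne
      have := hfQ δ
      let f : Fin 3 → ↥(𝐐 δ) := ![1, ⟨z, hz⟩, ⟨g * z * g⁻¹, hgz⟩]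
      have hf : Function.Injective f := by
        intro i j hij
        have h' := congrArg Subtype.val hij
        fin_cases i <;> fin_cases j <;> simp [f] at h' <;> first
          | rfl
          | exact absurd h' hz1
          | exact absurd h'.symm hz1
          | exact absurd (mul_inv_eq_iff_eq_mul.1 h'.symm).symm hne
          | exact absurd (mul_inv_eq_iff_eq_mul.1 h').symm hne
          | exact absurd (conj_eq_one_iff.1 h') hz1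
          | exact absurd (conj_eq_one_iff.1 h'.symm) hz1
      have := Nat.card_le_card_of_injective f hf
      rw [hQ, Nat.card_fin] at this
      omega
    exact edge_ne hS h (inf_le_left.trans ((le_inf le_rfl hc).trans (charP_stab hS.charP δ)))
  have hle : Nat.card D ≤ 4 := by
    by_contra hc
    have hprod := Nat.mul_le_mul h1 h2
    have h8 : Nat.card D * Nat.card D ≤ 4 * Nat.card D := by
      calc Nat.card D * Nat.card D ≤ 2 * Nat.card A₁ * (2 * Nat.card A₂) := hprod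
        _ = 4 * (Nat.card A₁ * Nat.card A₂) := by ring
        _ ≤ 4 * Nat.card D := Nat.mul_le_mul_left 4 h3
    exact hc (Nat.le_of_mul_le_mul_right h8 Nat.card_pos)
  rw [hk] at hle ⊢
  match k, hk0, hle with
  | 1, _, _ => left; rfl
  | 2, _, _ => right; rfl
  | k + 3, _, hle =>
    exfalso
    have : 2 ^ 3 ≤ 2 ^ (k + 3) := Nat.pow_le_pow_right two_pos (by omega)
    omega

/-- Recognition of one vertex group. -/
theorem vertex_iso (hS : Setting M₁ M₂ 3) {δ μ : Cfsg.CosetVertex M₁ M₂} (h : (Γ).Adj δ μ) :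
    (Nat.card ↥(𝐐 δ ⊓ 𝐐 μ) = 2 → Nonempty (↥(𝐆 δ) ≃* Equiv.Perm (Fin 4))) ∧
    (Nat.card ↥(𝐐 δ ⊓ 𝐐 μ) = 4 →
      Nonempty (↥(𝐆 δ) ≃* Equiv.Perm (Fin 4) × Multiplicative (ZMod 2))) := by
  have := finite_vertex hS δ
  let Q := (𝐐 δ).subgroupOf (𝐆 δ)
  have : Q.Normal := pCoreOf_normal 2 _
  have hle : 𝐐 δ ≤ 𝐆 δ := pCoreOf_le 2 _
  have hsq : ∀ x ∈ Q, x * x = 1 := fun x hx => Subtype.ext ((structure_edge hS h).1 x hx)
  have hC : centralizer (Q : Set ↥(𝐆 δ)) ≤ Q := fun x hx =>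
    mem_subgroupOf.2 (charP_stab hS.charP δ ⟨x.2, mem_centralizer_iff.2 fun y hy =>
      congrArg Subtype.val (mem_centralizer_iff.1 hx ⟨y, hle hy⟩ hy)⟩)
  have hi : Q.index = 6 := by
    have := relIndex_mul_relIndex (𝐐 δ) (𝐄 δ μ) (𝐆 δ) (Q_le_edge hS h) inf_le_left
    rw [(edge_data hS h).2.2.1, (edge_data hS h).2.1] at this
    exact this.symm
  have hc : Nat.card Q = 2 * Nat.card ↥(𝐐 δ ⊓ 𝐐 μ) := by
    rw [Nat.card_congr (subgroupOfEquivOfLe hle).toEquiv, card_Q hS h]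
  refine ⟨fun h2 => RecognizeS4.iso_four hsq hC hi (by rw [hc, h2]), fun h4 => ?_⟩
  obtain ⟨m, hm, hmQ⟩ := edge_critical hS h.symm
  have hmE : m ∈ 𝐄 δ μ := edge_comm μ δ ▸ Q_le_edge hS h.symm (Z_le_Q hS μ hm)
  exact RecognizeS4.iso_eight hsq hC hi (by rw [hc, h4]) (m := ⟨m, hmE.1⟩) hmQ
    (Subtype.ext (Z_sq hS hm))

/-- The theorem: both groups are `S₄`, or both are `S₄ × 2`. -/
theorem main {q : ℕ} (hS : Setting M₁ M₂ q) :
    (Nonempty (↥M₁ ≃* Equiv.Perm (Fin 4)) ∧ Nonempty (↥M₂ ≃* Equiv.Perm (Fin 4))) ∨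
    (Nonempty (↥M₁ ≃* Equiv.Perm (Fin 4) × Multiplicative (ZMod 2)) ∧
      Nonempty (↥M₂ ≃* Equiv.Perm (Fin 4) × Multiplicative (ZMod 2))) := by
  obtain rfl := eq_three hS
  have h := cg_adj_lr (M₁ := M₁) (M₂ := M₂) (1 : X)
  have e1 : 𝐆 (Sum.inl ((1 : X) : X ⧸ M₁) : Cfsg.CosetVertex M₁ M₂) = M₁ := by
    rw [cg_stab_inl, conj_map_one]
  have e2 : 𝐆 (Sum.inr ((1 : X) : X ⧸ M₂) : Cfsg.CosetVertex M₁ M₂) = M₂ := by
    rw [cg_stab_inr, conj_map_one]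
  have i1 := vertex_iso hS h
  have i2 := vertex_iso hS h.symm
  rw [inf_comm] at i2
  rw [e1] at i1
  rw [e2] at i2
  rcases card_common hS h with hc | hc
  · exact Or.inl ⟨i1.1 hc, i2.1 hc⟩
  · exact Or.inr ⟨i1.2 hc, i2.2 hc⟩

/-- The index data at one vertex group. -/
theorem index_data {P T : Subgroup X} [Finite P] {q : ℕ} (hq : q.Prime) (hq2 : q ≠ 2)
    (hT : IsSylIn 2 T P) (hcard : (Cfsg.pCoreOf 2 P).relIndex P = 2 * q) :
    T.relIndex P = q ∧ (Cfsg.pCoreOf 2 P).relIndex T = 2 := by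
  have : Fact (Nat.Prime 2) := ⟨Nat.prime_two⟩
  have : Finite T := Finite.of_injective _ (inclusion_injective hT.le)
  have hmul := relIndex_mul_relIndex (Cfsg.pCoreOf 2 P) T P (pCoreOf_le_of_isSylIn hT) hT.le
  rw [hcard] at hmul
  obtain ⟨j, hj⟩ := hT.isPGroup.index ((Cfsg.pCoreOf 2 P).subgroupOf T)
  have hj' : (Cfsg.pCoreOf 2 P).relIndex T = 2 ^ j := hj
  have hcop : Nat.Coprime 2 (T.relIndex P) := Nat.prime_two.coprime_iff_not_dvd.2 hT.not_dvd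
  have hdvd : T.relIndex P ∣ q := hcop.symm.dvd_of_dvd_mul_left (Dvd.intro_left _ hmul)
  rcases (Nat.dvd_prime hq).1 hdvd with h1 | h1
  · exfalso
    rw [h1, mul_one, hj'] at hmul
    have h2 : q ∣ 2 ^ j := hmul ▸ Dvd.intro_left _ rfl
    exact hq2 ((Nat.prime_dvd_prime_iff_eq hq Nat.prime_two).1 (hq.dvd_of_dvd_pow h2))
  · exact ⟨h1, Nat.eq_of_mul_eq_mul_right hq.pos (by rw [h1] at hmul; exact hmul)⟩

/-- The hypothesis of `main` from natural data. -/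
theorem setting_of [Finite M₁] [Finite M₂] {q : ℕ} (hq : q.Prime) (hq2 : q ≠ 2)
    (hgen : M₁ ⊔ M₂ = ⊤) (hfaith : ∀ N : Subgroup X, N ≤ M₁ ⊓ M₂ → N.Normal → N = ⊥)
    (h₁ : IsSylIn 2 (M₁ ⊓ M₂) M₁) (h₂ : IsSylIn 2 (M₁ ⊓ M₂) M₂)
    (hc₁ : (Cfsg.pCoreOf 2 M₁).relIndex M₁ = 2 * q) (hc₂ : (Cfsg.pCoreOf 2 M₂).relIndex M₂ = 2 * q)
    (hch₁ : M₁ ⊓ centralizer (Cfsg.pCoreOf 2 M₁ : Set X) ≤ Cfsg.pCoreOf 2 M₁)
    (hch₂ : M₂ ⊓ centralizer (Cfsg.pCoreOf 2 M₂ : Set X) ≤ Cfsg.pCoreOf 2 M₂)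
    (hz₁ : ¬ M₁ ≤ centralizer (omegaCentre 2 (M₁ ⊓ M₂) : Set X))
    (hz₂ : ¬ M₂ ≤ centralizer (omegaCentre 2 (M₁ ⊓ M₂) : Set X)) : Setting M₁ M₂ q := by
  have : Fact (Nat.Prime 2) := ⟨Nat.prime_two⟩
  obtain ⟨i₁, k₁⟩ := index_data hq hq2 h₁ hc₁
  obtain ⟨i₂, k₂⟩ := index_data hq hq2 h₂ hc₂
  have hdvd : ∀ M : Subgroup X, (Cfsg.pCoreOf 2 M).relIndex M = 2 * q → 2 ∣ Nat.card M := fun M h =>
    (Dvd.intro q h.symm).trans ((Cfsg.pCoreOf 2 M).subgroupOf M).index_dvd_card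
  have hne₁ : M₁ ≠ ⊤ := fun h => hq.ne_one (by rw [← i₂, h, top_inf_eq, relIndex_self])
  have hne₂ : M₂ ≠ ⊤ := fun h => hq.ne_one (by rw [← i₁, h, inf_top_eq, relIndex_self])
  refine ⟨⟨⟨hgen, hne₁, hne₂, hfaith⟩, inferInstance, inferInstance, hdvd M₁ hc₁, hdvd M₂ hc₂, ?_,
    (charP_iff 2 M₁).2 hch₁, (charP_iff 2 M₂).2 hch₂⟩, hq, h₁.isPGroup, i₁, i₂, k₁, k₂, hz₁, hz₂⟩
  intro S P₁ P₂
  have : Finite ↥(M₁ ⊓ M₂ : Subgroup X) := Finite.of_injective _ (inclusion_injective inf_le_left)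
  have hS : Nat.card S = Nat.card ↥(M₁ ⊓ M₂ : Subgroup X) := by
    rw [← card_subtype]
    have h : IsSylIn 2 ((S : Subgroup ↥(M₁ ⊓ M₂)).map (M₁ ⊓ M₂).subtype) (M₁ ⊓ M₂) := ⟨S, rfl⟩
    exact congrArg (fun K : Subgroup X => Nat.card ↥K) (h.eq_of_le h₁.isPGroup le_rfl h.le).symm
  have key : ∀ {M : Subgroup X} [Finite M], IsSylIn 2 (M₁ ⊓ M₂) M → ∀ P : Sylow 2 M,
      Nat.card P = Nat.card ↥(M₁ ⊓ M₂ : Subgroup X) := by
    intro M _ hM P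
    obtain ⟨g, -, hg⟩ := hM.exists_conj (T' := (P : Subgroup M).map M.subtype) ⟨P, rfl⟩
    rw [← card_subtype, ← hg, card_map_of_injective (MulAut.conj g).injective]
  exact ⟨hS.trans (key h₁ P₁).symm, hS.trans (key h₂ P₂).symm⟩

end Cfsg.Agent.CharP.S3Amalgam
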