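import Cfsg.Agent.Lib.CharP.GoldschmidtCubicThree
import Cfsg.Agent.Lib.CharP.GoldschmidtS3

/-!
Goldschmidt's bound: in an amalgam of two groups with quotient of degree three by `O₂` the common Sylow
2-subgroup has order at most `2 ^ 7`.
-/

set_option autoImplicit false
set_option linter.unusedSectionVars false

namespace Cfsg.Agent.CharP.CubicAmalgam

open Subgroup

variable {X : Type*} [Group X]

/-- If one group does not contain its centraliser of `O₂`, the common subgroup has order at most 16. -/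
theorem small_of_centralizer {M₁ M₂ : Subgroup X} [Finite M₁] [Finite M₂] (hgen : M₁ ⊔ M₂ = ⊤)
    (hfaith : ∀ N : Subgroup X, N ≤ M₁ ⊓ M₂ → N.Normal → N = ⊥) (h₁ : IsSylIn 2 (M₁ ⊓ M₂) M₁)
    (h₂ : IsSylIn 2 (M₁ ⊓ M₂) M₂) (hi₁ : (M₁ ⊓ M₂).relIndex M₁ = 3)
    (hi₂ : (M₁ ⊓ M₂).relIndex M₂ = 3) (hk₁ : (Cfsg.pCoreOf 2 M₁).relIndex (M₁ ⊓ M₂) = 2)
    (hk₂ : (Cfsg.pCoreOf 2 M₂).relIndex (M₁ ⊓ M₂) = 2)
    (hch : ¬ M₁ ⊓ centralizer (Cfsg.pCoreOf 2 M₁ : Set X) ≤ Cfsg.pCoreOf 2 M₁) :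
    Nat.card ↥(M₁ ⊓ M₂) ≤ 16 := by
  have : Fact (Nat.Prime 2) := ⟨Nat.prime_two⟩
  set S := M₁ ⊓ M₂ with hS_def
  set Q₁ := Cfsg.pCoreOf 2 M₁ with hQ₁_def
  set Q₂ := Cfsg.pCoreOf 2 M₂ with hQ₂_def
  have hQ₁ : Q₁ ≤ S := pCoreOf_le_of_isSylIn h₁
  have hQ₂ : Q₂ ≤ S := pCoreOf_le_of_isSylIn h₂
  have hn₁ : M₁ ≤ normalizer (Q₁ : Set X) := le_normalizer_pCoreOf 2 M₁
  have hn₂ : M₂ ≤ normalizer (Q₂ : Set X) := le_normalizer_pCoreOf 2 M₂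
  obtain ⟨c, hc, hcS⟩ : ∃ c ∈ M₁ ⊓ centralizer (Q₁ : Set X), c ∉ S := by
    by_contra h
    push Not at h
    refine hch (le_pCoreOf inf_le_left (normalizer_of_conj fun g hg x hx => ?_) (h₁.isPGroup.to_le h))
    refine ⟨M₁.mul_mem (M₁.mul_mem hg hx.1) (M₁.inv_mem hg), mem_centralizer_iff.2 fun y hy => ?_⟩
    have := mem_centralizer_iff.1 hx.2 _ ((mem_normalizer_iff''.1 (hn₁ hg) y).1 hy)
    calc y * (g * x * g⁻¹) = g * (g⁻¹ * y * g * x) * g⁻¹ := by group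
      _ = g * x * g⁻¹ * y := by rw [this]; group
  set D := Q₁ ⊓ Q₂ with hD_def
  have hSD : S ≤ normalizer (D : Set X) := normalizer_of_conj fun g hg x hx =>
    ⟨(mem_normalizer_iff.1 (hn₁ hg.1) x).1 hx.1, (mem_normalizer_iff.1 (hn₂ hg.2) x).1 hx.2⟩
  haveI : Finite ↥Q₂ := Finite.of_injective _ (inclusion_injective (pCoreOf_le 2 M₂))
  haveI : Finite (↥M₂ ⧸ S.subgroupOf M₂) := inferInstance
  haveI : Fintype (↥M₂ ⧸ S.subgroupOf M₂) := Fintype.ofFinite _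
  set R := ⨅ q : ↥M₂ ⧸ S.subgroupOf M₂, D.map (MulAut.conj ((q.out : ↥M₂) : X)).toMonoidHom with hR_def
  have hmem : ∀ (g : X) (x : X), x ∈ D.map (MulAut.conj g).toMonoidHom ↔ g⁻¹ * x * g ∈ D := by
    intro g x
    refine ⟨fun ⟨y, hy, e⟩ => ?_, fun h => ⟨_, h, show g * (g⁻¹ * x * g) * g⁻¹ = x by group⟩⟩
    have e' : g * y * g⁻¹ = x := e
    rwa [← e', show g⁻¹ * (g * y * g⁻¹) * g = y by group]
  have hRD : R ≤ D := fun x hx => by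
    have h1 := mem_iInf.1 hx (((1 : ↥M₂)) : ↥M₂ ⧸ S.subgroupOf M₂)
    obtain ⟨s, hs⟩ := QuotientGroup.mk_out_eq_mul (S.subgroupOf M₂) (1 : ↥M₂)
    rw [hmem, hs, one_mul] at h1
    exact (mem_normalizer_iff''.1 (hSD s.2) x).2 h1
  have hR₂ : M₂ ≤ normalizer (R : Set X) := normalizer_of_conj fun m hm x hx => by
    refine mem_iInf.2 fun q => ?_
    rw [hmem]
    obtain ⟨s, hs⟩ := QuotientGroup.mk_out_eq_mul (S.subgroupOf M₂) ((⟨m, hm⟩ : ↥M₂)⁻¹ * q.out)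
    have h1 := mem_iInf.1 hx (QuotientGroup.mk ((⟨m, hm⟩ : ↥M₂)⁻¹ * q.out))
    rw [hmem, hs] at h1
    set t := ((q.out : ↥M₂) : X)
    rw [Subgroup.coe_mul, Subgroup.coe_mul, Subgroup.coe_inv] at h1
    refine (mem_normalizer_iff''.1 (hSD s.2) _).2 ?_
    convert h1 using 1
    simp only [t, Subgroup.subtype_apply]
    group
  have hcR : c ∈ normalizer (R : Set X) := mem_normalizer_of_commute fun x hx =>
    (mem_centralizer_iff.1 hc.2 x (hRD hx).1).symm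
  have hR₁ : M₁ ≤ normalizer (R : Set X) := by
    have h2 : S ≤ normalizer (R : Set X) ⊓ M₁ := le_inf (inf_le_right.trans hR₂) inf_le_left
    have hmul := relIndex_mul_relIndex S (normalizer (R : Set X) ⊓ M₁) M₁ h2 inf_le_right
    rw [hi₁] at hmul
    rcases (Nat.dvd_prime Nat.prime_three).1 (Dvd.intro _ hmul) with h3 | h3
    · exact absurd ((relIndex_eq_one.1 h3) ⟨hcR, hc.1⟩) hcS
    · rw [h3, Nat.mul_eq_left (by norm_num : (3 : ℕ) ≠ 0)] at hmul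
      exact (relIndex_eq_one.1 hmul).trans inf_le_left
  have hbot : R = ⊥ := hfaith R (hRD.trans (inf_le_left.trans hQ₁))
    (normalizer_eq_top_iff.1 (top_le_iff.1 (hgen ▸ sup_le hR₁ hR₂)))
  have hDQ : D.relIndex Q₂ ≤ 2 := by
    rw [hD_def, inf_relIndex_right]
    exact (relIndex_le_of_le_right hQ₂ (by rw [hk₁]; norm_num)).trans hk₁.le
  have hcard : Nat.card ↥Q₂ ≤ 8 := by
    have h1 : ∀ q : ↥M₂ ⧸ S.subgroupOf M₂,
        (D.map (MulAut.conj ((q.out : ↥M₂) : X)).toMonoidHom).relIndex Q₂ ≤ 2 := by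
      intro q
      rw [← conj_map_of_mem (hn₂ q.out.2), relIndex_map_map_of_injective _ _ (MulAut.conj _).injective]
      exact hDQ
    rw [← relIndex_bot_left, ← hbot, hR_def]
    refine (relIndex_iInf_le _).trans ((Finset.prod_le_prod' fun q _ => h1 q).trans ?_)
    rw [Finset.prod_const, Finset.card_univ, ← Nat.card_eq_fintype_card, ← index_eq_card,
      show (S.subgroupOf M₂).index = 3 from hi₂]
    norm_num
  have h := relIndex_mul_relIndex ⊥ Q₂ S bot_le hQ₂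
  rw [relIndex_bot_left, relIndex_bot_left, hk₂] at h
  omega

/-- The bound, for a faithful pair generating the ambient group. -/
theorem bound_of {M₁ M₂ : Subgroup X} [Finite M₁] [Finite M₂] (hgen : M₁ ⊔ M₂ = ⊤)
    (hfaith : ∀ N : Subgroup X, N ≤ M₁ ⊓ M₂ → N.Normal → N = ⊥) (h₁ : IsSylIn 2 (M₁ ⊓ M₂) M₁)
    (h₂ : IsSylIn 2 (M₁ ⊓ M₂) M₂) (hc₁ : (Cfsg.pCoreOf 2 M₁).relIndex M₁ = 2 * 3)
    (hc₂ : (Cfsg.pCoreOf 2 M₂).relIndex M₂ = 2 * 3) : Nat.card ↥(M₁ ⊓ M₂) ≤ 2 ^ 7 := by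
  have : Fact (Nat.Prime 2) := ⟨Nat.prime_two⟩
  obtain ⟨hi₁, hk₁⟩ := S3Amalgam.index_data Nat.prime_three (by norm_num) h₁ hc₁
  obtain ⟨hi₂, hk₂⟩ := S3Amalgam.index_data Nat.prime_three (by norm_num) h₂ hc₂
  by_cases hch₁ : M₁ ⊓ centralizer (Cfsg.pCoreOf 2 M₁ : Set X) ≤ Cfsg.pCoreOf 2 M₁
  swap
  · exact (small_of_centralizer hgen hfaith h₁ h₂ hi₁ hi₂ hk₁ hk₂ hch₁).trans (by norm_num)
  by_cases hch₂ : M₂ ⊓ centralizer (Cfsg.pCoreOf 2 M₂ : Set X) ≤ Cfsg.pCoreOf 2 M₂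
  swap
  · rw [inf_comm M₁ M₂] at h₁ h₂ hi₁ hi₂ hk₁ hk₂ hfaith ⊢
    exact (small_of_centralizer (sup_comm M₁ M₂ ▸ hgen) hfaith h₂ h₁ hi₂ hi₁ hk₂ hk₁ hch₂).trans
      (by norm_num)
  have main : ∀ {M₁ M₂ : Subgroup X} [Finite M₁] [Finite M₂], M₁ ⊔ M₂ = ⊤ →
      (∀ N : Subgroup X, N ≤ M₁ ⊓ M₂ → N.Normal → N = ⊥) → IsPGroup 2 ↥(M₁ ⊓ M₂) →
      (M₁ ⊓ M₂).relIndex M₁ = 3 → (M₁ ⊓ M₂).relIndex M₂ = 3 →
      (Cfsg.pCoreOf 2 M₁).relIndex (M₁ ⊓ M₂) = 2 → (Cfsg.pCoreOf 2 M₂).relIndex (M₁ ⊓ M₂) = 2 →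
      M₁ ⊓ centralizer (Cfsg.pCoreOf 2 M₁ : Set X) ≤ Cfsg.pCoreOf 2 M₁ →
      Cfsg.pCoreOf 2 M₁ ≤ M₁ ⊓ M₂ →
      M₂ ≤ centralizer (omegaCentre 2 (M₁ ⊓ M₂) : Set X) → Nat.card ↥(M₁ ⊓ M₂) ≤ 2 ^ 7 := by
    intro M₁ M₂ _ _ hgen hfaith hp hi₁ hi₂ hk₁ hk₂ hch hQ hz
    have hω : ∀ y ∈ M₁ ⊓ M₂, y * y = 1 → (∀ s ∈ M₁ ⊓ M₂, s * y = y * s) → ∀ m ∈ M₂, m * y = y * m := by
      intro y hy hy2 hys m hm
      refine (mem_centralizer_iff.1 (hz hm) y ?_).symm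
      refine subset_closure ⟨⟨hy, mem_centralizer_iff.2 fun s hs => hys s hs⟩, ?_⟩
      rw [pow_two, hy2]
    haveI : Finite ↥(M₁ ⊓ M₂) := Finite.of_injective _ (inclusion_injective inf_le_left)
    have hne : M₁ ⊓ M₂ ≠ ⊥ := fun h => by rw [h, relIndex_bot_right] at hk₁; omega
    obtain ⟨z, hz', hz1, hz2, hzc⟩ := exists_central_involution hp le_rfl le_normalizer hne
    have hzQ : z ∈ Cfsg.pCoreOf 2 M₁ :=
      hch ⟨hz'.1, mem_centralizer_iff.2 fun s hs => hzc s (hQ hs)⟩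
    exact bound (z := z) ⟨hgen, hfaith, inferInstance, inferInstance, hp, hi₁, hi₂, hk₁, hk₂,
      ⟨hzQ, hz'.2⟩, hz2, hz1, fun m hm => hω z hz' hz2 hzc m hm, hω⟩
  by_cases hz₂ : M₂ ≤ centralizer (omegaCentre 2 (M₁ ⊓ M₂) : Set X)
  · exact main hgen hfaith h₁.isPGroup hi₁ hi₂ hk₁ hk₂ hch₁ (pCoreOf_le_of_isSylIn h₁) hz₂
  by_cases hz₁ : M₁ ≤ centralizer (omegaCentre 2 (M₁ ⊓ M₂) : Set X)
  · rw [inf_comm M₁ M₂] at h₁ h₂ hi₁ hi₂ hk₁ hk₂ hfaith hz₁ ⊢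
    exact main (sup_comm M₁ M₂ ▸ hgen) hfaith h₂.isPGroup hi₂ hi₁ hk₂ hk₁ hch₂
      (pCoreOf_le_of_isSylIn h₂) hz₁
  have hS := S3Amalgam.setting_of Nat.prime_three (by norm_num) hgen hfaith h₁ h₂ hc₁ hc₂ hch₁ hch₂ hz₁ hz₂
  have h := relIndex_mul_relIndex ⊥ (M₁ ⊓ M₂) M₁ bot_le inf_le_left
  rw [relIndex_bot_left, relIndex_bot_left, hi₁] at h
  rcases S3Amalgam.main hS with ⟨⟨e⟩, -⟩ | ⟨⟨e⟩, -⟩ <;> have hc := Nat.card_congr e.toEquiv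
  · rw [Nat.card_perm, Nat.card_fin, show Nat.factorial 4 = 24 from rfl] at hc
    omega
  · rw [Nat.card_prod, Nat.card_perm, Nat.card_fin, show Nat.factorial 4 = 24 from rfl,
      show Nat.card (Multiplicative (ZMod 2)) = 2 from Nat.card_zmod 2] at hc
    omega

end Cfsg.Agent.CharP.CubicAmalgam
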