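import Mathlib
import Cfsg.Agent.Lib.CharP.AmalgamVIter

/-!
Amalgams of two groups with common Sylow 2-subgroup of index 3 and a chosen involution of it central in
the second group: the involutions attached to the vertices of the second type, the four-groups `U δ` they
generate at the vertices of the first type, and the distance at which these act.
-/

set_option autoImplicit false
set_option linter.unusedSectionVars false

namespace Cfsg.Agent.CharP.CubicAmalgam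

open Subgroup
open scoped commutatorElement

variable {X : Type*} [Group X] {M₁ M₂ : Subgroup X} {z : X}

/-- The standing hypothesis. -/
structure Setting (M₁ M₂ : Subgroup X) (z : X) : Prop where
  gen : M₁ ⊔ M₂ = ⊤
  faithful : ∀ N : Subgroup X, N ≤ M₁ ⊓ M₂ → N.Normal → N = ⊥
  fin₁ : Finite M₁
  fin₂ : Finite M₂
  twoGroup : IsPGroup 2 ↥(M₁ ⊓ M₂)
  index₁ : (M₁ ⊓ M₂).relIndex M₁ = 3
  index₂ : (M₁ ⊓ M₂).relIndex M₂ = 3
  core₁ : (Cfsg.pCoreOf 2 M₁).relIndex (M₁ ⊓ M₂) = 2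
  core₂ : (Cfsg.pCoreOf 2 M₂).relIndex (M₁ ⊓ M₂) = 2
  z_mem : z ∈ Cfsg.pCoreOf 2 M₁ ⊓ M₂
  z_sq : z * z = 1
  z_ne : z ≠ 1
  z_central : ∀ m ∈ M₂, m * z = z * m
  omega : ∀ y ∈ M₁ ⊓ M₂, y * y = 1 → (∀ s ∈ M₁ ⊓ M₂, s * y = y * s) → ∀ m ∈ M₂, m * y = y * m

local notation "Γ" => Cfsg.cosetGraph M₁ M₂
local notation "𝐆" => MulAction.stabilizer X
local notation "𝐄" => Cfsg.edgeStabilizer
local notation "𝐐" => Cfsg.vertexQ 2

theorem amalgam (hS : Setting M₁ M₂ z) : Cfsg.IsAmalgamPair M₁ M₂ := by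
  refine ⟨hS.gen, fun h => ?_, fun h => ?_, hS.faithful⟩
  · have := hS.index₂
    rw [h, top_inf_eq, relIndex_self] at this
    exact absurd this (by norm_num)
  · have := hS.index₁
    rw [h, inf_top_eq, relIndex_self] at this
    exact absurd this (by norm_num)

theorem connected (hS : Setting M₁ M₂ z) : (Γ).Connected := cg_connected hS.gen

theorem isLeft_smul (g : X) (a : Cfsg.CosetVertex M₁ M₂) : (g • a).isLeft = a.isLeft := by
  cases a <;> rfl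

theorem isLeft_adj {a b : Cfsg.CosetVertex M₁ M₂} (h : (Γ).Adj a b) : a.isLeft = !b.isLeft := by
  rcases cg_adj_iff.1 h with ⟨x, rfl, rfl⟩ | ⟨x, rfl, rfl⟩ <;> rfl

theorem edge_data (hS : Setting M₁ M₂ z) {δ μ : Cfsg.CosetVertex M₁ M₂} (h : (Γ).Adj δ μ) :
    IsPGroup 2 ↥(𝐄 δ μ) ∧ (𝐄 δ μ).relIndex (𝐆 δ) = 3 ∧ (𝐐 δ).relIndex (𝐄 δ μ) = 2 := by
  have key : ∀ (x : X) (M : Subgroup X), (M₁ ⊓ M₂).relIndex M = 3 →
      (Cfsg.pCoreOf 2 M).relIndex (M₁ ⊓ M₂) = 2 →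
      𝐄 δ μ = (M₁ ⊓ M₂).map (MulAut.conj x).toMonoidHom →
      𝐆 δ = M.map (MulAut.conj x).toMonoidHom →
      IsPGroup 2 ↥(𝐄 δ μ) ∧ (𝐄 δ μ).relIndex (𝐆 δ) = 3 ∧ (𝐐 δ).relIndex (𝐄 δ μ) = 2 := by
    intro x M h1 h2 hE hG
    show _ ∧ _ ∧ (Cfsg.pCoreOf 2 (𝐆 δ)).relIndex _ = 2
    rw [hE, hG, pCoreOf_map (MulAut.conj x).injective,
      relIndex_map_map_of_injective _ _ (MulAut.conj x).injective,
      relIndex_map_map_of_injective _ _ (MulAut.conj x).injective]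
    exact ⟨hS.twoGroup.map _, h1, h2⟩
  rcases cg_adj_iff.1 h with ⟨x, rfl, rfl⟩ | ⟨x, rfl, rfl⟩
  · exact key x M₁ hS.index₁ hS.core₁ (cg_edge x) (cg_stab_inl x)
  · refine key x M₂ hS.index₂ hS.core₂ ?_ (cg_stab_inr x)
    rw [← cg_edge, Cfsg.edgeStabilizer, Cfsg.edgeStabilizer, inf_comm]

theorem edge_comm (δ μ : Cfsg.CosetVertex M₁ M₂) : 𝐄 δ μ = 𝐄 μ δ := inf_comm _ _

theorem finite_vertex (hS : Setting M₁ M₂ z) (δ : Cfsg.CosetVertex M₁ M₂) : Finite ↥(𝐆 δ) :=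
  finite_stab hS.fin₁ hS.fin₂ δ

theorem finite_edge (hS : Setting M₁ M₂ z) (δ μ : Cfsg.CosetVertex M₁ M₂) : Finite ↥(𝐄 δ μ) :=
  haveI := finite_vertex hS δ
  Finite.of_injective _ (inclusion_injective inf_le_left)

theorem isSylIn_edge (hS : Setting M₁ M₂ z) {δ μ : Cfsg.CosetVertex M₁ M₂} (h : (Γ).Adj δ μ) :
    IsSylIn 2 (𝐄 δ μ) (𝐆 δ) := by
  have : Fact (Nat.Prime 2) := ⟨Nat.prime_two⟩
  have := finite_vertex hS δ
  refine isSylIn_of_not_dvd (edge_data hS h).1 inf_le_left ?_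
  rw [(edge_data hS h).2.1]
  decide

theorem Q_le_edge (hS : Setting M₁ M₂ z) {δ μ : Cfsg.CosetVertex M₁ M₂} (h : (Γ).Adj δ μ) :
    𝐐 δ ≤ 𝐄 δ μ := by
  have : Fact (Nat.Prime 2) := ⟨Nat.prime_two⟩
  exact pCoreOf_le_of_isSylIn (isSylIn_edge hS h)

theorem normQ (δ : Cfsg.CosetVertex M₁ M₂) : 𝐆 δ ≤ normalizer (𝐐 δ : Set X) :=
  le_normalizer_pCoreOf 2 (𝐆 δ)

theorem edge_ne (hS : Setting M₁ M₂ z) {δ μ : Cfsg.CosetVertex M₁ M₂} (h : (Γ).Adj δ μ) :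
    ¬ 𝐄 δ μ ≤ 𝐐 δ := fun hle => by
  have h2 := (edge_data hS h).2.2
  rw [relIndex_eq_one.2 hle] at h2
  exact absurd h2 (by norm_num)

theorem edge_not_normal (hS : Setting M₁ M₂ z) {δ μ : Cfsg.CosetVertex M₁ M₂} (h : (Γ).Adj δ μ) :
    ¬ 𝐆 δ ≤ normalizer (𝐄 δ μ : Set X) := fun hn =>
  edge_ne hS h (le_pCoreOf inf_le_left hn (edge_data hS h).1)

/-- The edge stabiliser is maximal in the vertex stabiliser. -/
theorem edge_max (hS : Setting M₁ M₂ z) {δ μ : Cfsg.CosetVertex M₁ M₂} (h : (Γ).Adj δ μ)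
    {K : Subgroup X} (h1 : 𝐄 δ μ ≤ K) {g : X} (hgK : g ∈ K) (hg : g ∈ 𝐆 δ) (hgμ : g • μ ≠ μ) :
    𝐆 δ ≤ K := by
  have h2 : 𝐄 δ μ ≤ K ⊓ 𝐆 δ := le_inf h1 inf_le_left
  have hmul := relIndex_mul_relIndex (𝐄 δ μ) (K ⊓ 𝐆 δ) (𝐆 δ) h2 inf_le_right
  rw [(edge_data hS h).2.1] at hmul
  rcases (Nat.dvd_prime Nat.prime_three).1 (Dvd.intro _ hmul) with h3 | h3
  · exact absurd (MulAction.mem_stabilizer_iff.1 ((relIndex_eq_one.1 h3) ⟨hgK, hg⟩).2) hgμ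
  · rw [h3, Nat.mul_eq_left (by norm_num : (3 : ℕ) ≠ 0)] at hmul
    exact fun x hx => ((relIndex_eq_one.1 hmul) hx).1

/-- An element centralised by an edge group and by an element moving the edge is central. -/
theorem move (hS : Setting M₁ M₂ z) {δ μ : Cfsg.CosetVertex M₁ M₂} (h : (Γ).Adj δ μ) {z g : X}
    (hz : ∀ x ∈ 𝐄 δ μ, x * z = z * x) (hg : g ∈ 𝐆 δ) (hgμ : g • μ ≠ μ) (hgz : g * z = z * g) :
    ∀ x ∈ 𝐆 δ, x * z = z * x := fun x hx =>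
  mem_centralizer_singleton_iff.1 (edge_max hS h (K := centralizer {z})
    (fun y hy => mem_centralizer_singleton_iff.2 (hz y hy))
    (mem_centralizer_singleton_iff.2 hgz) hg hgμ hx)

/-- An element of an edge group central in both vertex groups is trivial. -/
theorem faith (hS : Setting M₁ M₂ z) {δ μ : Cfsg.CosetVertex M₁ M₂} (h : (Γ).Adj δ μ) {z : X}
    (hz : z ∈ 𝐄 δ μ) (hδ : ∀ x ∈ 𝐆 δ, x * z = z * x) (hμ : ∀ x ∈ 𝐆 μ, x * z = z * x) : z = 1 := by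
  have key : ∀ x, x * z = z * x → x ∈ normalizer (zpowers z : Set X) := fun x hx =>
    centralizer_le_normalizer _ (mem_centralizer_iff.2 fun y hy => by
      obtain ⟨i, rfl⟩ := mem_zpowers_iff.1 hy
      exact (((show Commute x z from hx).zpow_right i)).symm.eq)
  refine zpowers_eq_bot.1 (eq_bot_of_transitive (amalgam hS) h (zpowers_le.2 hz) ?_ ?_)
  · intro ν hν
    obtain ⟨g, hg, hgν⟩ := cg_transitive h hν
    exact ⟨g, ⟨key g (hδ g hg), hg⟩, hgν⟩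
  · intro ν hν
    obtain ⟨g, hg, hgν⟩ := cg_transitive h.symm hν
    exact ⟨g, ⟨key g (hμ g hg), hg⟩, hgν⟩

/-- A subgroup of an edge group normalised by both vertex groups is trivial. -/
theorem eq_bot_of_normalized (hS : Setting M₁ M₂ z) {δ μ : Cfsg.CosetVertex M₁ M₂} (h : (Γ).Adj δ μ)
    {U : Subgroup X} (hU : U ≤ 𝐄 δ μ) (hδ : 𝐆 δ ≤ normalizer (U : Set X))
    (hμ : 𝐆 μ ≤ normalizer (U : Set X)) : U = ⊥ := by
  refine eq_bot_of_transitive (amalgam hS) h hU ?_ ?_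
  · intro ν hν
    obtain ⟨g, hg, hgν⟩ := cg_transitive h hν
    exact ⟨g, ⟨hδ hg, hg⟩, hgν⟩
  · intro ν hν
    obtain ⟨g, hg, hgν⟩ := cg_transitive h.symm hν
    exact ⟨g, ⟨hμ hg, hg⟩, hgν⟩

/-- Two different edge groups at a vertex meet in the kernel. -/
theorem edge_inf (hS : Setting M₁ M₂ z) {δ μ μ' : Cfsg.CosetVertex M₁ M₂} (h : (Γ).Adj δ μ)
    (h' : (Γ).Adj δ μ') (hne : μ ≠ μ') : 𝐄 δ μ ⊓ 𝐄 δ μ' = 𝐐 δ := by
  have hQ : 𝐐 δ ≤ 𝐄 δ μ ⊓ 𝐄 δ μ' := le_inf (Q_le_edge hS h) (Q_le_edge hS h')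
  have hmul := relIndex_mul_relIndex (𝐐 δ) (𝐄 δ μ ⊓ 𝐄 δ μ') (𝐄 δ μ) hQ inf_le_left
  rw [(edge_data hS h).2.2] at hmul
  rcases (Nat.dvd_prime Nat.prime_two).1 (Dvd.intro _ hmul) with h1 | h1
  · exact le_antisymm (relIndex_eq_one.1 h1) hQ
  · rw [h1, Nat.mul_eq_left two_ne_zero, relIndex_eq_one] at hmul
    exfalso
    have hle : 𝐄 δ μ ≤ 𝐄 δ μ' := hmul.trans inf_le_right
    have := finite_edge hS δ μ'
    have : Fact (Nat.Prime 2) := ⟨Nat.prime_two⟩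
    have heq : 𝐄 δ μ' = 𝐄 δ μ :=
      (isSylIn_edge hS h).eq_of_le (edge_data hS h').1 inf_le_left hle
    obtain ⟨g, hg, hgμ⟩ := cg_transitive h h'
    refine edge_not_normal hS h (edge_max hS h (le_normalizer) (g := g) ?_ hg
      (by rw [hgμ]; exact hne.symm))
    refine mem_normalizer_of_conj_map ?_
    rw [Cfsg.edgeStabilizer, Subgroup.map_inf _ _ _ (MulAut.conj g).injective,
      ← AmalgamVIter.stab_smul, ← AmalgamVIter.stab_smul, hgμ, MulAction.mem_stabilizer_iff.1 hg]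
    exact heq

theorem moves (hS : Setting M₁ M₂ z) {δ μ ν : Cfsg.CosetVertex M₁ M₂} (h : (Γ).Adj δ μ)
    (hν : (Γ).Adj δ ν) (hne : μ ≠ ν) {g : X} (hg : g ∈ 𝐄 δ μ) (hgQ : g ∉ 𝐐 δ) : g • ν ≠ ν :=
  fun hfix => hgQ (edge_inf hS h hν hne ▸
    mem_inf.2 ⟨hg, ⟨hg.1, MulAction.mem_stabilizer_iff.2 hfix⟩⟩)

theorem exists_other (hS : Setting M₁ M₂ z) {δ μ : Cfsg.CosetVertex M₁ M₂} (h : (Γ).Adj δ μ) :
    ∃ ν, (Γ).Adj δ ν ∧ ν ≠ μ := by
  by_contra hc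
  push Not at hc
  refine edge_not_normal hS h fun g hg => mem_normalizer_of_conj_map ?_
  have h1 := cg_adj_smul g h
  rw [MulAction.mem_stabilizer_iff.1 hg] at h1
  rw [Cfsg.edgeStabilizer, Subgroup.map_inf _ _ _ (MulAut.conj g).injective,
    ← AmalgamVIter.stab_smul, ← AmalgamVIter.stab_smul, MulAction.mem_stabilizer_iff.1 hg, hc _ h1]

theorem mul_mem_Q (hS : Setting M₁ M₂ z) {δ μ : Cfsg.CosetVertex M₁ M₂} (h : (Γ).Adj δ μ) {a b : X}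
    (ha : a ∈ 𝐄 δ μ) (hb : b ∈ 𝐄 δ μ) : a * b ∈ 𝐐 δ ↔ (a ∈ 𝐐 δ ↔ b ∈ 𝐐 δ) := by
  have h2 : ((𝐐 δ).subgroupOf (𝐄 δ μ)).index = 2 := (edge_data hS h).2.2
  have := mul_mem_iff_of_index_two h2 (a := ⟨a, ha⟩) (b := ⟨b, hb⟩)
  simpa [mem_subgroupOf] using this

theorem sq_mem_Q (hS : Setting M₁ M₂ z) {δ μ : Cfsg.CosetVertex M₁ M₂} (h : (Γ).Adj δ μ) {a : X}
    (ha : a ∈ 𝐄 δ μ) : a * a ∈ 𝐐 δ := (mul_mem_Q hS h ha ha).2 Iff.rfl

theorem Q_sup (hS : Setting M₁ M₂ z) {δ μ : Cfsg.CosetVertex M₁ M₂} (h : (Γ).Adj δ μ) {t : X}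
    (ht : t ∈ 𝐄 δ μ) (htQ : t ∉ 𝐐 δ) {K : Subgroup X} (hK : 𝐐 δ ≤ K) (htK : t ∈ K) :
    𝐄 δ μ ≤ K := fun g hg => by
  by_cases hgQ : g ∈ 𝐐 δ
  · exact hK hgQ
  · have h1 : g * t⁻¹ ∈ K := hK ((mul_mem_Q hS h hg (inv_mem ht)).2
      (iff_of_false hgQ fun hh => htQ (inv_mem_iff.1 hh)))
    simpa using mul_mem h1 htK

theorem neighbourKernel_eq (hS : Setting M₁ M₂ z) (δ : Cfsg.CosetVertex M₁ M₂) :
    Cfsg.neighbourKernel δ = 𝐐 δ := by
  refine le_antisymm ?_ ?_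
  · obtain ⟨μ, hμ⟩ := cg_exists_neighbour δ
    obtain ⟨ν, hν, hne⟩ := exists_other hS hμ
    rw [← edge_inf hS hμ hν hne.symm]
    exact le_inf (le_inf inf_le_left (neighbourKernel_le hμ)) (le_inf inf_le_left (neighbourKernel_le hν))
  · obtain ⟨μ, hμ⟩ := cg_exists_neighbour δ
    exact le_inf ((Q_le_edge hS hμ).trans inf_le_left)
      (le_iInf₂ fun ν hν => (Q_le_edge hS hν).trans inf_le_right)

theorem mem_Q_of_fix (hS : Setting M₁ M₂ z) {δ : Cfsg.CosetVertex M₁ M₂} {g : X} (hg : g ∈ 𝐆 δ)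
    (h : ∀ μ, (Γ).Adj δ μ → g • μ = μ) : g ∈ 𝐐 δ :=
  neighbourKernel_eq hS δ ▸ ⟨hg, mem_iInf.2 fun μ => mem_iInf.2 fun hμ =>
    MulAction.mem_stabilizer_iff.2 (h μ hμ)⟩

theorem Q_fix (hS : Setting M₁ M₂ z) {δ μ : Cfsg.CosetVertex M₁ M₂} (h : (Γ).Adj δ μ) {g : X}
    (hg : g ∈ 𝐐 δ) : g • μ = μ :=
  MulAction.mem_stabilizer_iff.1 (Q_le_edge hS h hg).2

theorem smul_adj {δ μ : Cfsg.CosetVertex M₁ M₂} (h : (Γ).Adj δ μ) {g : X} (hg : g ∈ 𝐆 δ) :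
    (Γ).Adj δ (g • μ) := by
  have h1 := cg_adj_smul g h
  rwa [MulAction.mem_stabilizer_iff.1 hg] at h1

/-- A vertex has exactly three neighbours. -/
theorem three_cases (hS : Setting M₁ M₂ z) {δ a b c x : Cfsg.CosetVertex M₁ M₂} (ha : (Γ).Adj δ a)
    (hb : (Γ).Adj δ b) (hc : (Γ).Adj δ c) (hab : a ≠ b) (hac : a ≠ c) (hbc : b ≠ c)
    (hx : (Γ).Adj δ x) : x = a ∨ x = b ∨ x = c := by
  by_contra hne
  push Not at hne
  have hcard : (MulAction.orbit (𝐆 δ) a).ncard = 3 := by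
    refine (MulAction.index_stabilizer (𝐆 δ) a).symm.trans ?_
    have : MulAction.stabilizer (𝐆 δ) a = (𝐄 δ a).subgroupOf (𝐆 δ) := by
      ext g
      rw [mem_subgroupOf, MulAction.mem_stabilizer_iff]
      exact ⟨fun hg => ⟨g.2, MulAction.mem_stabilizer_iff.2 hg⟩,
        fun hg => MulAction.mem_stabilizer_iff.1 hg.2⟩
    rw [this]
    exact (edge_data hS ha).2.1
  have hmem : ∀ y, (Γ).Adj δ y → y ∈ MulAction.orbit (𝐆 δ) a := fun y hy => by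
    obtain ⟨k, hk, hky⟩ := cg_transitive ha hy
    exact ⟨⟨k, hk⟩, hky⟩
  have hle : ({x, a, b, c} : Set (Cfsg.CosetVertex M₁ M₂)).ncard ≤ 3 := hcard ▸
    Set.ncard_le_ncard (by
      intro y hy
      simp only [Set.mem_insert_iff, Set.mem_singleton_iff] at hy
      rcases hy with rfl | rfl | rfl | rfl
      · exact hmem _ hx
      · exact hmem _ ha
      · exact hmem _ hb
      · exact hmem _ hc) (Set.finite_of_ncard_ne_zero (by omega))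
  rw [Set.ncard_insert_of_notMem (by simp [hne.1, hne.2.1, hne.2.2]),
    Set.ncard_insert_of_notMem (by simp [hab, hac]), Set.ncard_pair hbc] at hle
  omega

/-- An element of an edge group outside the kernel exchanges the other two neighbours. -/
theorem swap_eq (hS : Setting M₁ M₂ z) {δ c a b : Cfsg.CosetVertex M₁ M₂} (hc : (Γ).Adj δ c)
    (ha : (Γ).Adj δ a) (hb : (Γ).Adj δ b) (hca : c ≠ a) (hcb : c ≠ b) (hab : a ≠ b) {g : X}
    (hg : g ∈ 𝐄 δ c) (hgQ : g ∉ 𝐐 δ) : g • a = b := by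
  rcases three_cases hS hc ha hb hca hcb hab (smul_adj ha hg.1) with h | h | h
  · exact absurd (smul_left_cancel g (h.trans (MulAction.mem_stabilizer_iff.1 hg.2).symm)) hca.symm
  · exact absurd h (moves hS hc ha hca hg hgQ)
  · exact h

theorem exists_moving (hS : Setting M₁ M₂ z) {δ c : Cfsg.CosetVertex M₁ M₂} (hc : (Γ).Adj δ c) :
    ∃ g ∈ 𝐄 δ c, g ∉ 𝐐 δ := SetLike.not_le_iff_exists.1 (edge_ne hS hc)

/-- The other two neighbours. -/
theorem exists_pair (hS : Setting M₁ M₂ z) {δ c : Cfsg.CosetVertex M₁ M₂} (hc : (Γ).Adj δ c) :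
    ∃ a b, (Γ).Adj δ a ∧ (Γ).Adj δ b ∧ c ≠ a ∧ c ≠ b ∧ a ≠ b := by
  obtain ⟨a, ha, hac⟩ := exists_other hS hc
  obtain ⟨g, hg, hgQ⟩ := exists_moving hS hc
  exact ⟨a, g • a, ha, smul_adj ha hg.1, hac.symm,
    fun h => hac (smul_left_cancel g (h.symm.trans (MulAction.mem_stabilizer_iff.1 hg.2).symm)),
    (moves hS hc ha hac.symm hg hgQ).symm⟩

/-! ### The involutions at the vertices of the second type -/

/-- The conjugate of `z` at a coset of `M₂`; trivial at a coset of `M₁`. -/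
noncomputable def zv (M₁ M₂ : Subgroup X) (z : X) : Cfsg.CosetVertex M₁ M₂ → X :=
  Sum.elim (fun _ => 1) (fun q => q.out * z * q.out⁻¹)

local notation "ζ" => zv M₁ M₂ z

theorem zv_mk (hS : Setting M₁ M₂ z) (x : X) :
    ζ (Sum.inr (x : X ⧸ M₂)) = x * z * x⁻¹ := by
  obtain ⟨⟨m, hm⟩, hx⟩ := QuotientGroup.mk_out_eq_mul M₂ x
  show ((x : X ⧸ M₂).out) * z * ((x : X ⧸ M₂).out)⁻¹ = _
  rw [hx]
  calc x * m * z * (x * m)⁻¹ = x * (m * z) * m⁻¹ * x⁻¹ := by group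
    _ = x * (z * m) * m⁻¹ * x⁻¹ := by rw [hS.z_central m hm]
    _ = x * z * x⁻¹ := by group

theorem right_rep {c : Cfsg.CosetVertex M₁ M₂} (hc : c.isLeft = false) :
    ∃ x : X, c = Sum.inr (x : X ⧸ M₂) := by
  rcases c with a | b
  · exact absurd hc (by simp)
  · obtain ⟨x, rfl⟩ := QuotientGroup.mk_surjective b
    exact ⟨x, rfl⟩

theorem zv_smul (hS : Setting M₁ M₂ z) (g : X) {c : Cfsg.CosetVertex M₁ M₂} (hc : c.isLeft = false) :
    ζ (g • c) = g * ζ c * g⁻¹ := by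
  obtain ⟨x, rfl⟩ := right_rep hc
  rw [show g • (Sum.inr (x : X ⧸ M₂) : Cfsg.CosetVertex M₁ M₂) = Sum.inr ((g * x : X) : X ⧸ M₂) from rfl,
    zv_mk hS, zv_mk hS]
  group

theorem zv_central (hS : Setting M₁ M₂ z) {c : Cfsg.CosetVertex M₁ M₂} (hc : c.isLeft = false)
    {g : X} (hg : g ∈ 𝐆 c) : g * ζ c = ζ c * g := by
  have h := zv_smul hS g hc
  rw [MulAction.mem_stabilizer_iff.1 hg] at h
  exact (eq_mul_inv_iff_mul_eq.1 h).symm

theorem zv_sq (hS : Setting M₁ M₂ z) {c : Cfsg.CosetVertex M₁ M₂} (hc : c.isLeft = false) :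
    ζ c * ζ c = 1 := by
  obtain ⟨x, rfl⟩ := right_rep hc
  rw [zv_mk hS, show x * z * x⁻¹ * (x * z * x⁻¹) = x * (z * z) * x⁻¹ by group, hS.z_sq]
  group

theorem zv_inv (hS : Setting M₁ M₂ z) {c : Cfsg.CosetVertex M₁ M₂} (hc : c.isLeft = false) :
    (ζ c)⁻¹ = ζ c := inv_eq_of_mul_eq_one_right (zv_sq hS hc)

theorem zv_ne_one (hS : Setting M₁ M₂ z) {c : Cfsg.CosetVertex M₁ M₂} (hc : c.isLeft = false) :
    ζ c ≠ 1 := by
  obtain ⟨x, rfl⟩ := right_rep hc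
  rw [zv_mk hS]
  exact fun h => hS.z_ne (conj_eq_one_iff.1 h)

theorem adj_right {δ c : Cfsg.CosetVertex M₁ M₂} (h : (Γ).Adj δ c) (hδ : δ.isLeft = true) :
    c.isLeft = false := by
  have := isLeft_adj h
  rw [hδ] at this
  cases hc : c.isLeft with
  | false => rfl
  | true => rw [hc] at this; simp at this

theorem adj_left {δ c : Cfsg.CosetVertex M₁ M₂} (h : (Γ).Adj c δ) (hc : c.isLeft = false) :
    δ.isLeft = true := by
  have := isLeft_adj h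
  rw [hc] at this
  cases hd : δ.isLeft with
  | true => rfl
  | false => rw [hd] at this; simp at this

theorem zv_mem_Q (hS : Setting M₁ M₂ z) {δ c : Cfsg.CosetVertex M₁ M₂} (h : (Γ).Adj δ c)
    (hδ : δ.isLeft = true) : ζ c ∈ 𝐐 δ := by
  rcases cg_adj_iff.1 h with ⟨x, rfl, rfl⟩ | ⟨x, rfl, rfl⟩
  · show _ ∈ Cfsg.pCoreOf 2 _
    rw [zv_mk hS, cg_stab_inl, pCoreOf_map (MulAut.conj x).injective]
    exact ⟨z, hS.z_mem.1, rfl⟩
  · simp at hδ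

theorem zv_mem_Q_self (hS : Setting M₁ M₂ z) {c : Cfsg.CosetVertex M₁ M₂} (hc : c.isLeft = false) :
    ζ c ∈ 𝐐 c := by
  obtain ⟨δ, h⟩ := cg_exists_neighbour c
  have h1 := Q_le_edge hS h.symm (zv_mem_Q hS h.symm (adj_left h hc))
  refine mem_Q_of_fix hS h1.2 fun ν hν => ?_
  obtain ⟨g, hg, rfl⟩ := cg_transitive h hν
  rw [← mul_smul, ← zv_central hS hc hg, mul_smul, MulAction.mem_stabilizer_iff.1 h1.1]

/-- An involution centralised by an edge group is centralised by the end of the second type. -/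
theorem central_of (hS : Setting M₁ M₂ z) {δ c : Cfsg.CosetVertex M₁ M₂} (h : (Γ).Adj δ c)
    (hδ : δ.isLeft = true) {y : X} (hy : y ∈ 𝐄 δ c) (hy2 : y * y = 1)
    (hye : ∀ s ∈ 𝐄 δ c, s * y = y * s) : ∀ m ∈ 𝐆 c, m * y = y * m := by
  rcases cg_adj_iff.1 h with ⟨x, rfl, rfl⟩ | ⟨x, rfl, rfl⟩
  · rw [cg_edge] at hy hye
    obtain ⟨y₀, hy₀, rfl⟩ := hy
    rw [cg_stab_inr]
    rintro _ ⟨m, hm, rfl⟩
    rw [← map_mul, hS.omega y₀ hy₀ ((MulAut.conj x).injective (by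
      rw [map_mul, map_one]; exact hy2)) (fun s hs => (MulAut.conj x).injective (by
      rw [map_mul, map_mul]; exact hye _ ⟨s, hs, rfl⟩)) m hm, map_mul]
  · simp at hδ

theorem zv_injective (hS : Setting M₁ M₂ z) {δ a b : Cfsg.CosetVertex M₁ M₂} (hδ : δ.isLeft = true)
    (ha : (Γ).Adj δ a) (hb : (Γ).Adj δ b) (he : ζ a = ζ b) : a = b := by
  by_contra hab
  have har := adj_right ha hδ
  have hz : ∀ g ∈ 𝐆 δ, g * ζ a = ζ a * g := by
    obtain ⟨g, hg, hgQ⟩ := exists_moving hS hb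
    refine move hS ha (fun x hx => zv_central hS har hx.2) hg.1 (moves hS hb ha (Ne.symm hab) hg hgQ) ?_
    rw [he]
    exact zv_central hS (adj_right hb hδ) hg.2
  exact zv_ne_one hS har (faith hS ha (Q_le_edge hS ha (zv_mem_Q hS ha hδ)) hz
    fun x hx => zv_central hS har hx)

theorem zv_commute (hS : Setting M₁ M₂ z) {δ a : Cfsg.CosetVertex M₁ M₂} (hδ : δ.isLeft = true)
    (ha : (Γ).Adj δ a) {g : X} (hg : g ∈ 𝐐 δ) : g * ζ a = ζ a * g :=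
  zv_central hS (adj_right ha hδ) (Q_le_edge hS ha hg).2

theorem zv_prod (hS : Setting M₁ M₂ z) {δ a b c : Cfsg.CosetVertex M₁ M₂} (hδ : δ.isLeft = true)
    (ha : (Γ).Adj δ a) (hb : (Γ).Adj δ b) (hc : (Γ).Adj δ c) (hab : a ≠ b) (hac : a ≠ c)
    (hbc : b ≠ c) : ζ a * ζ b = ζ c := by
  have cm : ∀ x y, (Γ).Adj δ x → (Γ).Adj δ y → ζ x * ζ y = ζ y * ζ x := fun x y hx hy =>
    zv_commute hS hδ hy (zv_mem_Q hS hx hδ)
  set p := ζ a * ζ b * ζ c with hp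
  have hfix : ∀ g ∈ 𝐆 δ, g * p = p * g := by
    intro g hg
    rw [← mul_inv_eq_iff_eq_mul]
    have e : g * p * g⁻¹ = ζ (g • a) * ζ (g • b) * ζ (g • c) := by
      rw [zv_smul hS g (adj_right ha hδ), zv_smul hS g (adj_right hb hδ),
        zv_smul hS g (adj_right hc hδ), hp]
      group
    rw [e, hp]
    have h1 := smul_adj ha hg
    have h2 := smul_adj hb hg
    have h3 := smul_adj hc hg
    have n1 : g • a ≠ g • b := fun h => hab (smul_left_cancel g h)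
    have n2 : g • a ≠ g • c := fun h => hac (smul_left_cancel g h)
    have n3 : g • b ≠ g • c := fun h => hbc (smul_left_cancel g h)
    rcases three_cases hS ha hb hc hab hac hbc h1 with e1 | e1 | e1 <;>
      rcases three_cases hS ha hb hc hab hac hbc h2 with e2 | e2 | e2 <;>
        rcases three_cases hS ha hb hc hab hac hbc h3 with e3 | e3 | e3 <;>
          simp only [e1, e2, e3, ne_eq, not_true_eq_false] at n1 n2 n3 ⊢
    all_goals first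
      | rfl
      | rw [cm b a hb ha]
      | rw [mul_assoc, cm c b hc hb, ← mul_assoc]
      | rw [cm c a hc ha, mul_assoc, cm c b hc hb, ← mul_assoc]
      | rw [mul_assoc, cm c a hc ha, ← mul_assoc, cm b a hb ha]
      | rw [cm c b hc hb, mul_assoc, cm c a hc ha, ← mul_assoc, cm b a hb ha]
      | rw [mul_assoc, cm c a hc ha, ← mul_assoc, cm b a hb ha, mul_assoc, cm c b hc hb, ← mul_assoc]
  have hpE : p ∈ 𝐄 δ a := Q_le_edge hS ha
    (mul_mem (mul_mem (zv_mem_Q hS ha hδ) (zv_mem_Q hS hb hδ)) (zv_mem_Q hS hc hδ))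
  have hp2 : p * p = 1 := by
    have c1 : Commute (ζ c) (ζ a * ζ b) :=
      (show Commute (ζ c) (ζ a) from cm c a hc ha).mul_right (cm c b hc hb)
    rw [hp, c1.mul_mul_mul_comm, (show Commute (ζ b) (ζ a) from cm b a hb ha).mul_mul_mul_comm,
      zv_sq hS (adj_right ha hδ), zv_sq hS (adj_right hb hδ), zv_sq hS (adj_right hc hδ), one_mul, one_mul]
  have h1 := faith hS ha hpE hfix (central_of hS ha hδ hpE hp2 fun s hs => hfix s hs.1)
  rw [eq_comm, ← zv_inv hS (adj_right hc hδ)]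
  exact (eq_inv_of_mul_eq_one_left h1).symm

/-! ### The four-groups at the vertices of the first type -/

/-- The group generated by the involutions of the neighbours. -/
noncomputable def U (M₁ M₂ : Subgroup X) (z : X) (δ : Cfsg.CosetVertex M₁ M₂) : Subgroup X :=
  closure (zv M₁ M₂ z '' (Cfsg.cosetGraph M₁ M₂).neighborSet δ)

local notation "𝐔" => U M₁ M₂ z

theorem zv_mem_U {δ c : Cfsg.CosetVertex M₁ M₂} (h : (Γ).Adj δ c) : ζ c ∈ 𝐔 δ :=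
  subset_closure ⟨c, h, rfl⟩

theorem mem_U (hS : Setting M₁ M₂ z) {δ : Cfsg.CosetVertex M₁ M₂} (hδ : δ.isLeft = true) {x : X}
    (hx : x ∈ 𝐔 δ) : x = 1 ∨ ∃ c, (Γ).Adj δ c ∧ x = ζ c := by
  induction hx using closure_induction with
  | mem y hy =>
    obtain ⟨c, hc, rfl⟩ := hy
    exact Or.inr ⟨c, hc, rfl⟩
  | one => exact Or.inl rfl
  | mul a b _ _ iha ihb =>
    rcases iha with rfl | ⟨c, hc, rfl⟩
    · rwa [one_mul]
    rcases ihb with rfl | ⟨d, hd, rfl⟩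
    · exact Or.inr ⟨c, hc, mul_one _⟩
    by_cases hcd : c = d
    · exact Or.inl (hcd ▸ zv_sq hS (adj_right hc hδ))
    · obtain ⟨g, hg, hgQ⟩ := exists_moving hS hc
      refine Or.inr ⟨g • d, smul_adj hd hg.1, zv_prod hS hδ hc hd (smul_adj hd hg.1) hcd ?_
        (moves hS hc hd hcd hg hgQ).symm⟩
      exact fun h => hcd (smul_left_cancel g ((MulAction.mem_stabilizer_iff.1 hg.2).trans h))
  | inv a _ iha =>
    rcases iha with rfl | ⟨c, hc, rfl⟩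
    · exact Or.inl inv_one
    · exact Or.inr ⟨c, hc, zv_inv hS (adj_right hc hδ)⟩

theorem U_le_Q (hS : Setting M₁ M₂ z) {δ : Cfsg.CosetVertex M₁ M₂} (hδ : δ.isLeft = true) :
    𝐔 δ ≤ 𝐐 δ := (closure_le _).2 (by rintro _ ⟨c, hc, rfl⟩; exact zv_mem_Q hS hc hδ)

theorem U_le_Q_adj (hS : Setting M₁ M₂ z) {δ c : Cfsg.CosetVertex M₁ M₂} (hδ : δ.isLeft = true)
    (h : (Γ).Adj δ c) {x : X} (hx : x ∈ 𝐔 δ) : x ∈ 𝐆 c :=
  (Q_le_edge hS h (U_le_Q hS hδ hx)).2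

theorem Q_commute (hS : Setting M₁ M₂ z) {δ : Cfsg.CosetVertex M₁ M₂} (hδ : δ.isLeft = true)
    {g x : X} (hg : g ∈ 𝐐 δ) (hx : x ∈ 𝐔 δ) : g * x = x * g := by
  rcases mem_U hS hδ hx with rfl | ⟨c, hc, rfl⟩
  · rw [one_mul, mul_one]
  · exact zv_commute hS hδ hc hg

theorem mem_Q_of_commute (hS : Setting M₁ M₂ z) {δ : Cfsg.CosetVertex M₁ M₂} (hδ : δ.isLeft = true)
    {g : X} (hg : g ∈ 𝐆 δ) (h : ∀ c, (Γ).Adj δ c → g * ζ c = ζ c * g) : g ∈ 𝐐 δ :=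
  mem_Q_of_fix hS hg fun c hc => zv_injective hS hδ (smul_adj hc hg) hc (by
    rw [zv_smul hS g (adj_right hc hδ), h c hc, mul_inv_cancel_right])

theorem U_sq (hS : Setting M₁ M₂ z) {δ : Cfsg.CosetVertex M₁ M₂} (hδ : δ.isLeft = true) {x : X}
    (hx : x ∈ 𝐔 δ) : x * x = 1 := by
  rcases mem_U hS hδ hx with rfl | ⟨c, hc, rfl⟩
  · exact one_mul 1
  · exact zv_sq hS (adj_right hc hδ)

theorem U_smul (hS : Setting M₁ M₂ z) (g : X) {δ : Cfsg.CosetVertex M₁ M₂} (hδ : δ.isLeft = true) :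
    (𝐔 δ).map (MulAut.conj g).toMonoidHom = 𝐔 (g • δ) := by
  rw [U, MonoidHom.map_closure, U]
  congr 1
  ext x
  constructor
  · rintro ⟨_, ⟨c, hc, rfl⟩, rfl⟩
    exact ⟨g • c, cg_adj_smul g hc, zv_smul hS g (adj_right hc hδ)⟩
  · rintro ⟨c, hc, rfl⟩
    have hc' : (Γ).Adj δ (g⁻¹ • c) := by
      have := cg_adj_smul g⁻¹ hc
      rwa [inv_smul_smul] at this
    refine ⟨ζ (g⁻¹ • c), ⟨_, hc', rfl⟩, ?_⟩
    have := zv_smul hS g (adj_right hc' hδ)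
    rw [smul_inv_smul] at this
    exact this.symm

theorem conj_mem_U (hS : Setting M₁ M₂ z) (g : X) {δ : Cfsg.CosetVertex M₁ M₂} (hδ : δ.isLeft = true)
    {x : X} (hx : x ∈ 𝐔 δ) : g * x * g⁻¹ ∈ 𝐔 (g • δ) := U_smul hS g hδ ▸ ⟨x, hx, rfl⟩

/-- An element of an edge group outside the kernel multiplies the other involutions by the fixed one. -/
theorem flip (hS : Setting M₁ M₂ z) {δ c a : Cfsg.CosetVertex M₁ M₂} (hδ : δ.isLeft = true)
    (hc : (Γ).Adj δ c) (ha : (Γ).Adj δ a) (hca : c ≠ a) {g : X} (hg : g ∈ 𝐄 δ c) (hgQ : g ∉ 𝐐 δ) :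
    g * ζ a * g⁻¹ = ζ a * ζ c := by
  rw [← zv_smul hS g (adj_right ha hδ)]
  refine (zv_prod hS hδ ha hc (smul_adj ha hg.1) hca.symm (moves hS hc ha hca hg hgQ).symm ?_).symm
  exact fun h => hca (smul_left_cancel g ((MulAction.mem_stabilizer_iff.1 hg.2).trans h))

/-- Two four-groups at a common neighbour meet in its involution. -/
theorem U_inter (hS : Setting M₁ M₂ z) {δ η c : Cfsg.CosetVertex M₁ M₂} (hδ : δ.isLeft = true)
    (hcδ : (Γ).Adj c δ) (hcη : (Γ).Adj c η) (hne : δ ≠ η) {x : X} (hx : x ∈ 𝐔 δ) (hx' : x ∈ 𝐔 η) :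
    x = 1 ∨ x = ζ c := by
  have hcr := adj_right hcδ.symm hδ
  have hη := adj_left hcη hcr
  have key : ∀ {δ η : Cfsg.CosetVertex M₁ M₂}, δ.isLeft = true → (Γ).Adj c δ → (Γ).Adj c η → ∀ {a},
      (Γ).Adj δ a → a ≠ c → ζ a ∈ 𝐔 η → 𝐔 δ ≤ 𝐔 η := by
    intro δ η hδ hcδ hcη a ha hac hmem
    refine (closure_le _).2 ?_
    rintro _ ⟨b, hb, rfl⟩
    by_cases hba : b = a
    · exact hba ▸ hmem
    by_cases hbc : b = c
    · exact hbc ▸ zv_mem_U hcη.symm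
    · rw [← zv_prod hS hδ hcδ.symm ha hb (Ne.symm hac) (Ne.symm hbc) (Ne.symm hba)]
      exact mul_mem (zv_mem_U hcη.symm) hmem
  by_contra hcon
  push Not at hcon
  obtain ⟨a, ha, hxa⟩ := (mem_U hS hδ hx).resolve_left hcon.1
  obtain ⟨b, hb, hxb⟩ := (mem_U hS hη hx').resolve_left hcon.1
  have hac : a ≠ c := fun h => hcon.2 (h ▸ hxa)
  have hbc : b ≠ c := fun h => hcon.2 (h ▸ hxb)
  have heq : 𝐔 δ = 𝐔 η := le_antisymm (key hδ hcδ hcη ha hac (hxa ▸ hx'))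
    (key hη hcη hcδ hb hbc (hxb ▸ hx))
  have hn : ∀ {ν : Cfsg.CosetVertex M₁ M₂}, ν.isLeft = true → 𝐆 ν ≤ normalizer (𝐔 ν : Set X) :=
    fun {ν} hν g hg => mem_normalizer_of_conj_map
      (by rw [U_smul hS g hν, MulAction.mem_stabilizer_iff.1 hg])
  obtain ⟨g, hg, hgQ⟩ := exists_moving hS hcη
  have hG : 𝐆 c ≤ normalizer (𝐔 δ : Set X) := edge_max hS hcδ
    (fun e he => hn hδ he.2) (g := g) (heq ▸ hn hη hg.2) hg.1 (moves hS hcη hcδ hne.symm hg hgQ)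
  have hbot := eq_bot_of_normalized hS hcδ.symm ((U_le_Q hS hδ).trans (Q_le_edge hS hcδ.symm)) (hn hδ) hG
  exact zv_ne_one hS hcr (mem_bot.1 (hbot ▸ zv_mem_U hcδ.symm))

/-- A kernel is not contained in an adjacent one. -/
theorem Q_ne (hS : Setting M₁ M₂ z) {δ μ : Cfsg.CosetVertex M₁ M₂} (h : (Γ).Adj δ μ) :
    ¬ 𝐐 δ ≤ 𝐐 μ := fun hle => by
  have hmul := relIndex_mul_relIndex (𝐐 δ) (𝐐 μ) (𝐄 δ μ) hle
    ((Q_le_edge hS h.symm).trans (edge_comm μ δ).le)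
  have h1 := (edge_data hS h.symm).2.2
  rw [edge_comm] at h1
  rw [h1, (edge_data hS h).2.2, Nat.mul_eq_right two_ne_zero, relIndex_eq_one] at hmul
  have heq : 𝐐 δ = 𝐐 μ := le_antisymm hle hmul
  have hb := eq_bot_of_normalized hS h (Q_le_edge hS h) (normQ δ) (heq ▸ normQ μ)
  cases hd : δ.isLeft with
  | true => exact zv_ne_one hS (adj_right h hd) (mem_bot.1 (hb ▸ zv_mem_Q hS h hd))
  | false => exact zv_ne_one hS hd (mem_bot.1 (hb ▸ zv_mem_Q_self hS hd))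

theorem card_edge (hS : Setting M₁ M₂ z) {δ μ : Cfsg.CosetVertex M₁ M₂} (h : (Γ).Adj δ μ) :
    Nat.card ↥(𝐄 δ μ) = 2 * Nat.card ↥(𝐐 δ) := by
  have h1 := relIndex_mul_relIndex ⊥ _ _ bot_le (Q_le_edge hS h)
  rw [relIndex_bot_left, relIndex_bot_left, (edge_data hS h).2.2] at h1
  omega

theorem card_Q_adj (hS : Setting M₁ M₂ z) {δ μ : Cfsg.CosetVertex M₁ M₂} (h : (Γ).Adj δ μ) :
    Nat.card ↥(𝐐 δ) = Nat.card ↥(𝐐 μ) := by
  have h1 := card_edge hS h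
  rw [edge_comm, card_edge hS h.symm] at h1
  omega

theorem finite_Q (hS : Setting M₁ M₂ z) (δ : Cfsg.CosetVertex M₁ M₂) : Finite ↥(𝐐 δ) :=
  haveI := finite_vertex hS δ
  Finite.of_injective _ (inclusion_injective (pCoreOf_le 2 _))

/-! ### The distance at which the four-groups act -/

/-- The least distance from a vertex of the first type to a vertex whose kernel omits its four-group. -/
noncomputable def bd (M₁ M₂ : Subgroup X) (z : X) : ℕ :=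
  sInf {n : ℕ | ∃ δ x : Cfsg.CosetVertex M₁ M₂, δ.isLeft = true ∧
    (Cfsg.cosetGraph M₁ M₂).dist δ x = n ∧ ¬ U M₁ M₂ z δ ≤ Cfsg.vertexQ 2 x}

local notation "bb" => bd M₁ M₂ z

theorem exists_critical (hS : Setting M₁ M₂ z) :
    ∃ α α' : Cfsg.CosetVertex M₁ M₂, α.isLeft = true ∧ (Γ).dist α α' = bb ∧ ¬ 𝐔 α ≤ 𝐐 α' := by
  refine Nat.sInf_mem (s := {n : ℕ | ∃ δ x : Cfsg.CosetVertex M₁ M₂, δ.isLeft = true ∧
    (Γ).dist δ x = n ∧ ¬ 𝐔 δ ≤ 𝐐 x}) ?_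
  by_contra hne
  rw [Set.not_nonempty_iff_eq_empty, Set.eq_empty_iff_forall_notMem] at hne
  obtain ⟨δ, h⟩ := cg_exists_neighbour (Sum.inr ((1 : X) : X ⧸ M₂) : Cfsg.CosetVertex M₁ M₂)
  have hδ := adj_left h rfl
  refine zv_ne_one hS (adj_right h.symm hδ) (cg_faithful hS.faithful ((Equiv.ext fun v => ?_).trans
    (map_one _).symm))
  have hle : 𝐔 δ ≤ 𝐐 v := by
    by_contra hn
    exact hne _ ⟨δ, v, hδ, rfl, hn⟩
  exact MulAction.mem_stabilizer_iff.1 (pCoreOf_le 2 _ (hle (zv_mem_U h.symm)))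

theorem le_Q_of_dist {δ x : Cfsg.CosetVertex M₁ M₂} (hδ : δ.isLeft = true) (h : (Γ).dist δ x < bb) :
    𝐔 δ ≤ 𝐐 x := by
  by_contra hn
  exact Nat.notMem_of_lt_sInf h ⟨δ, x, hδ, rfl, hn⟩

theorem bd_le {δ x : Cfsg.CosetVertex M₁ M₂} (hδ : δ.isLeft = true) (h : ¬ 𝐔 δ ≤ 𝐐 x) :
    bb ≤ (Γ).dist δ x := Nat.sInf_le ⟨δ, x, hδ, rfl, h⟩

theorem bd_pos (hS : Setting M₁ M₂ z) : 0 < bb := by
  obtain ⟨α, α', hα, hd, hn⟩ := exists_critical hS
  rw [← hd]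
  exact (connected hS).pos_dist_of_ne fun h => hn (h ▸ U_le_Q hS hα)

theorem le_stab_of_dist (hS : Setting M₁ M₂ z) {δ x : Cfsg.CosetVertex M₁ M₂} (hδ : δ.isLeft = true)
    (h : (Γ).dist δ x ≤ bb) : 𝐔 δ ≤ 𝐆 x := by
  rcases h.lt_or_eq with h | h
  · exact (le_Q_of_dist hδ h).trans (pCoreOf_le 2 _)
  · obtain ⟨w, hw⟩ := ((connected hS).preconnected x δ).exists_walk_length_eq_dist
    cases w with
    | nil => exact (U_le_Q hS hδ).trans (pCoreOf_le 2 _)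
    | cons hadj w' =>
      rename_i y
      have h1 : (Γ).dist δ y < bb := by
        rw [SimpleGraph.dist_comm, ← h, SimpleGraph.dist_comm (u := δ)]
        have := SimpleGraph.dist_le w'
        rw [SimpleGraph.Walk.length_cons] at hw
        omega
      exact ((le_Q_of_dist hδ h1).trans (Q_le_edge hS hadj.symm)).trans inf_le_right

theorem commute_of_dist (hS : Setting M₁ M₂ z) {δ η : Cfsg.CosetVertex M₁ M₂} (hδ : δ.isLeft = true)
    (hη : η.isLeft = true) (h : (Γ).dist δ η < bb) {x y : X} (hx : x ∈ 𝐔 δ) (hy : y ∈ 𝐔 η) :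
    x * y = y * x := Q_commute hS hη (le_Q_of_dist hδ h hx) hy

end Cfsg.Agent.CharP.CubicAmalgam
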