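import Cfsg.Agent.Lib.CharP.GoldschmidtCubicSmall

/-!
Amalgams of two groups with quotients of degree three: the four-groups act at distance at most three.
-/

set_option autoImplicit false
set_option linter.unusedSectionVars false

namespace Cfsg.Agent.CharP.CubicAmalgam

open Subgroup

variable {X : Type*} [Group X] {M₁ M₂ : Subgroup X} {z : X}

local notation "Γ" => Cfsg.cosetGraph M₁ M₂
local notation "𝐆" => MulAction.stabilizer X
local notation "𝐄" => Cfsg.edgeStabilizer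
local notation "𝐐" => Cfsg.vertexQ 2
local notation "ζ" => zv M₁ M₂ z
local notation "𝐔" => U M₁ M₂ z
local notation "𝐕" => V M₁ M₂ z
local notation "bb" => bd M₁ M₂ z

theorem Crit.shift_walk (hS : Setting M₁ M₂ z) (hb : 4 ≤ bb) {v : ℕ → Cfsg.CosetVertex M₁ M₂}
    (hv : Crit M₁ M₂ z v) : ∃ v', Crit M₁ M₂ z v' ∧ ∀ i, v' (i + 2) = v i := by
  obtain ⟨β, w, hβ, -, hw, hn⟩ := hv.shift hS hb
  refine ⟨fun i => if i = 0 then w else if i = 1 then β else v (i - 2),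
    ⟨fun i hi => ?_, adj_left hw (adj_right hβ hv.left), ?_⟩, fun i => by simp⟩
  · rcases i with _ | _ | i
    · simpa using hw.symm
    · simpa using hβ.symm
    · simpa using hv.adj i (by omega)
  · simpa [show bb ≠ 0 by omega, show bb ≠ 1 by omega] using hn

/-- The distance is not even from four on. -/
theorem even_false (hS : Setting M₁ M₂ z) (hb : 4 ≤ bb) (he : bb % 2 = 0) : False := by
  have key : ∀ {v}, Crit M₁ M₂ z v → ζ (v 1) = ζ (v (bb - 1)) := by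
    intro v hv
    have hα := hv.left
    have h01 := hv.adj 0 (by omega)
    have hα' := walk_left hv.adj hα le_rfl he
    have hδα' : (Γ).Adj (v (bb - 1)) (v bb) := by
      have := hv.adj (bb - 1) (by omega)
      rwa [show bb - 1 + 1 = bb by omega] at this
    obtain ⟨u, hu, huQ⟩ := SetLike.not_le_iff_exists.1 hv.out
    obtain ⟨c, hc, hnc⟩ := hv.exists_noncommuting hS hu huQ hα'
    obtain ⟨e, he', rfl⟩ := (mem_U hS hα hu).resolve_left fun h => huQ (h ▸ one_mem _)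
    have hh : ∀ i, i ≤ bb → ζ c ∈ 𝐆 (v i) := fun i hi => le_stab_of_dist hS hα'
      (by rw [SimpleGraph.dist_comm]; exact (walk_dist hS hv.adj hi le_rfl).trans (by omega)) (zv_mem_U hc)
    have hne : v 1 ≠ e := fun h => hnc (by
      rw [← h]; exact (zv_central hS (adj_right h01 hα) (hh 1 (by omega))).symm)
    have hnc' : v (bb - 1) ≠ c := fun h => hnc (by
      rw [← h]; exact zv_central hS (adj_right hδα'.symm hα') (hv.le_stab hS (by omega) hu))
    have h1 := flip hS hα' hδα'.symm hc hnc'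
      ⟨hv.le_stab hS le_rfl hu, hv.le_stab hS (by omega) hu⟩ huQ
    have h2 := flip hS hα h01 he' hne ⟨hh 0 (by omega), hh 1 (by omega)⟩
      fun hq => hnc (Q_commute hS hα hq hu).symm
    rw [zv_inv hS (adj_right he' hα)] at h1
    rw [zv_inv hS (adj_right hc hα')] at h2
    have cδ : ζ c * ζ (v (bb - 1)) = ζ (v (bb - 1)) * ζ c :=
      zv_commute hS hα' hδα'.symm (U_le_Q hS hα' (zv_mem_U hc))
    have e1 : ζ e * ζ c * ζ e * ζ c = ζ (v (bb - 1)) := by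
      rw [h1, cδ, mul_assoc, zv_sq hS (adj_right hc hα'), mul_one]
    rw [← e1, show ζ e * ζ c * ζ e * ζ c = ζ e * (ζ c * ζ e * ζ c) by group, h2, ← mul_assoc,
      zv_sq hS (adj_right he' hα), one_mul]
  obtain ⟨v, hv⟩ := exists_crit hS
  obtain ⟨v', hv', hshift⟩ := hv.shift_walk hS hb
  obtain ⟨m, hm, hmQ⟩ := SetLike.not_le_iff_exists.1 hv'.out
  rw [show bb = (bb - 2) + 2 by omega, hshift] at hmQ
  have hμl := walk_left hv.adj hv.left (show bb - 2 ≤ bb by omega) (by omega)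
  have hρμ := hv.adj (bb - 3) (by omega)
  rw [show bb - 3 + 1 = bb - 2 by omega] at hρμ
  have hμδ := hv.adj (bb - 2) (by omega)
  rw [show bb - 2 + 1 = bb - 1 by omega] at hμδ
  have hfix : ∀ i, i + 2 ≤ bb → m ∈ 𝐆 (v i) := fun i hi => hshift i ▸ hv'.le_stab hS hi hm
  have hnb := (hv.isWalk hS).nb (bb - 3) (by omega)
  rw [show bb - 3 + 2 = bb - 1 by omega] at hnb
  have hmv := moves hS hρμ.symm hμδ hnb.symm
    ⟨hfix (bb - 2) (by omega), hfix (bb - 3) (by omega)⟩ hmQ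
  refine hmv (zv_injective hS hμl (smul_adj hμδ (hfix _ (by omega))) hμδ ?_)
  rw [zv_smul hS m (adj_right hμδ hμl), ← key hv,
    zv_central hS (adj_right (hv.adj 0 (by omega)) hv.left) (hfix 1 (by omega)), mul_inv_cancel_right]

/-- The products of involutions at two neighbours of a vertex of the second type. -/
theorem pair_cases (hS : Setting M₁ M₂ z) (hb : 3 ≤ bb) {c δ a b a' b' e f e' f' : Cfsg.CosetVertex M₁ M₂}
    (hc : c.isLeft = false) (hδ : (Γ).Adj c δ) (ha : (Γ).Adj c a) (hb' : (Γ).Adj c b) (h1 : δ ≠ a)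
    (h2 : δ ≠ b) (h3 : a ≠ b) (ha' : (Γ).Adj c a') (hb'' : (Γ).Adj c b') (h1' : δ ≠ a') (h2' : δ ≠ b')
    (h3' : a' ≠ b') (he : (Γ).Adj a e) (hec : c ≠ e) (hf : (Γ).Adj b f) (hfc : c ≠ f)
    (he' : (Γ).Adj a' e') (hec' : c ≠ e') (hf' : (Γ).Adj b' f') (hfc' : c ≠ f') :
    ζ e' * ζ f' = ζ e * ζ f ∨ ζ e' * ζ f' = ζ e * ζ f * ζ c := by
  have hal := adj_left ha hc
  have hbl := adj_left hb' hc
  have hze : ζ e ∈ 𝐕 c := U_le_V ha (zv_mem_U he)
  have hzf : ζ f ∈ 𝐕 c := U_le_V hb' (zv_mem_U hf)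
  have key : ∀ {x y p q : X}, p ∈ 𝐕 c → q ∈ 𝐕 c → (x = p ∨ x = p * ζ c) → (y = q ∨ y = q * ζ c) →
      x * y = p * q ∨ x * y = p * q * ζ c := by
    intro x y p q hp hq hx hy
    have cz : q * ζ c = ζ c * q := V_comm hS hb hc hq (U_le_V ha (zv_mem_U ha.symm))
    rcases hx with rfl | rfl <;> rcases hy with rfl | rfl
    · exact Or.inl rfl
    · exact Or.inr (mul_assoc _ _ _).symm
    · exact Or.inr (by rw [mul_assoc, ← cz, mul_assoc])
    · exact Or.inl (by rw [show p * ζ c * (q * ζ c) = p * (ζ c * q) * ζ c by group, ← cz,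
        show p * (q * ζ c) * ζ c = p * q * (ζ c * ζ c) by group, zv_sq hS hc, mul_one])
  rcases three_cases hS hδ ha hb' h1 h2 h3 ha' with rfl | rfl | rfl
  · exact absurd rfl h1'
  · rcases three_cases hS hδ ha hb' h1 h2 h3 hb'' with rfl | rfl | rfl
    · exact absurd rfl h2'
    · exact absurd rfl h3'
    · exact key hze hzf (other_zv hS hal ha.symm he he' hec hec')
        (other_zv hS hbl hb'.symm hf hf' hfc hfc')
  · rcases three_cases hS hδ ha hb' h1 h2 h3 hb'' with rfl | rfl | rfl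
    · exact absurd rfl h2'
    · rw [V_comm hS hb hc hze hzf]
      exact key hzf hze (other_zv hS hbl hb'.symm hf he' hfc hec')
        (other_zv hS hal ha.symm he hf' hec hfc')
    · exact absurd rfl h3'

theorem Q_fix_smul {c δ : Cfsg.CosetVertex M₁ M₂} {g : X} (hg : g ∈ 𝐆 c) (hne : c ≠ δ) :
    c ≠ g • δ := fun h => hne (smul_left_cancel g ((MulAction.mem_stabilizer_iff.1 hg).trans h))

/-- Each four-group at a vertex of the second type lies in the join of the other two. -/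
def Natural (M₁ M₂ : Subgroup X) (z : X) : Prop :=
  ∀ ⦃c a b d : Cfsg.CosetVertex M₁ M₂⦄, c.isLeft = false → (Cfsg.cosetGraph M₁ M₂).Adj c a →
    (Cfsg.cosetGraph M₁ M₂).Adj c b → (Cfsg.cosetGraph M₁ M₂).Adj c d → a ≠ b → a ≠ d → b ≠ d →
      U M₁ M₂ z d ≤ U M₁ M₂ z a ⊔ U M₁ M₂ z b

/-- The data of an acting involution and of an involution at the far end. -/
theorem s_basic (hS : Setting M₁ M₂ z) (hodd : bb % 2 = 1)
    {v : ℕ → Cfsg.CosetVertex M₁ M₂} (hv : Crit M₁ M₂ z v) {u : X} (hu : u ∈ 𝐔 (v 0))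
    {a e : Cfsg.CosetVertex M₁ M₂} (ha : (Γ).Adj (v bb) a) (he : (Γ).Adj a e) :
    ζ e * (u * ζ e * u⁻¹) ∈ 𝐕 (v 1) ⊓ 𝐕 (v bb) := by
  have hα' := walk_right hv.adj hv.left le_rfl hodd
  have hal := adj_left ha hα'
  have h01 := hv.adj 0 (by omega)
  have heQ : ζ e ∈ 𝐆 (v 1) := le_stab_of_dist hS hal (by
    have h := dist_nbr hS (x := v 1) ha.symm
    have h' := walk_dist hS hv.adj (show 1 ≤ bb by omega) le_rfl
    rw [SimpleGraph.dist_comm] at h'
    omega) (zv_mem_U he)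
  refine ⟨?_, mul_mem (U_le_V ha (zv_mem_U he))
    (U_le_V (smul_adj ha (hv.le_stab hS le_rfl hu)) (conj_mem_U hS u hal (zv_mem_U he)))⟩
  rw [show ζ e * (u * ζ e * u⁻¹) = (ζ e * u * (ζ e)⁻¹) * u⁻¹ by
    rw [zv_inv hS (adj_right he hal)]; group]
  exact mul_mem (U_le_V (smul_adj h01.symm heQ) (conj_mem_U hS _ hv.left hu))
    ((𝐕 (v 1)).inv_mem (U_le_V h01.symm hu))

theorem commute_shift (hS : Setting M₁ M₂ z) {k : ℕ} (hk : k + 1 < bb)
    {v : ℕ → Cfsg.CosetVertex M₁ M₂} (hv : Crit M₁ M₂ z v) (hr : (v k).isLeft = false) {m x : X}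
    (hm : m ∈ 𝐔 (v 0)) (hx : x ∈ 𝐕 (v k)) : m * x = x * m := by
  have h : 𝐕 (v k) ≤ centralizer {m} := V_le fun ν hν y hy => mem_centralizer_singleton_iff.2
    (commute_of_dist hS hv.left (adj_left hν hr) (by
      have h1 := (connected hS).dist_triangle (u := v 0) (v := v k) (w := ν)
      rw [dist_adj hν] at h1
      have := hv.dist_le hS (show k ≤ bb by omega)
      omega) hm hy).symm
  exact (mem_centralizer_singleton_iff.1 (h hx)).symm

theorem far_five (hS : Setting M₁ M₂ z) (hb : 5 ≤ bb) (hodd : bb % 2 = 1)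
    {v : ℕ → Cfsg.CosetVertex M₁ M₂} (hv : Crit M₁ M₂ z v) {u : X} (hu : u ∈ 𝐔 (v 0))
    (huQ : u ∉ 𝐐 (v bb)) {a e : Cfsg.CosetVertex M₁ M₂} (ha : (Γ).Adj (v bb) a)
    (had : a ≠ v (bb - 1)) (he : (Γ).Adj a e) (hee : e ≠ v bb) :
    ζ e * (u * ζ e * u⁻¹) ∈ 𝐔 (v (bb - 1)) := by
  obtain ⟨hs1, hs2⟩ := s_basic hS hodd hv hu ha he
  set s := ζ e * (u * ζ e * u⁻¹) with hs_def
  by_contra hsU
  clear_value s
  have hW := hv.isWalk hS
  obtain ⟨v', hv', hshift⟩ := hv.shift_walk hS (by omega)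
  obtain ⟨m, hm, hmQ⟩ := SetLike.not_le_iff_exists.1 hv'.out
  rw [show bb = (bb - 2) + 2 by omega, hshift] at hmQ
  have hα' := walk_right hv.adj hv.left le_rfl hodd
  have hδl := walk_left hv.adj hv.left (show bb - 1 ≤ bb by omega) (by omega)
  have hμr := walk_right hv.adj hv.left (show bb - 2 ≤ bb by omega) (by omega)
  have hδα' := hv.adj (bb - 1) (by omega)
  rw [show bb - 1 + 1 = bb by omega] at hδα'
  have hμδ := hv.adj (bb - 2) (by omega)
  rw [show bb - 2 + 1 = bb - 1 by omega] at hμδ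
  have hρμ := hv.adj (bb - 3) (by omega)
  rw [show bb - 3 + 1 = bb - 2 by omega] at hρμ
  have hμα' : v (bb - 2) ≠ v bb := by
    have := hW.nb (bb - 2) (by omega)
    rw [show bb - 2 + 2 = bb by omega] at this
    exact this.symm
  have hρδ : v (bb - 3) ≠ v (bb - 1) := by
    have := hW.nb (bb - 3) (by omega)
    rw [show bb - 3 + 2 = bb - 1 by omega] at this
    exact this.symm
  set δ := v (bb - 1)
  set μ := v (bb - 2)
  set ρ := v (bb - 3) with hρ_def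
  set α' := v bb with hα'_def
  have hmfix : ∀ i, i + 2 ≤ bb → m ∈ 𝐆 (v i) := fun i hi => hshift i ▸ hv'.le_stab hS hi hm
  have hmE : m ∈ 𝐄 μ ρ := ⟨hmfix _ (by omega), hmfix _ (by omega)⟩
  set η := m • δ with hη_def
  have hη : (Γ).Adj μ η := smul_adj hμδ hmE.1
  have hηδ : η ≠ δ := moves hS hρμ.symm hμδ hρδ hmE hmQ
  have hρη : ρ ≠ η := Q_fix_smul hmE.2 hρδ
  have hηl := adj_left hη hμr
  set α'' := m • α' with hα''_def
  have hα'' : (Γ).Adj η α'' := cg_adj_smul m hδα'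
  have hα''μ : α'' ≠ μ := (Q_fix_smul hmE.1 hμα').symm
  have hv'3 : (v' 3).isLeft = false := by rw [hshift]; exact walk_right hv.adj hv.left (by omega) rfl
  have hms : m * s = s * m := commute_shift hS (k := 3) (by omega) hv' hv'3 hm (hshift 1 ▸ hs1)
  -- conjugates of `s`
  have hue : u * ζ e * u⁻¹ = ζ (u • e) := (zv_smul hS u (adj_right he (adj_left ha hα'))).symm
  have huα' : u ∈ 𝐆 α' := hv.le_stab hS le_rfl hu
  have huE : u ∈ 𝐄 α' δ := ⟨huα', hv.le_stab hS (by omega) hu⟩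
  have hb' : (Γ).Adj α' (u • a) := smul_adj ha huα'
  have hab : a ≠ u • a := (moves hS hδα'.symm ha had.symm huE huQ).symm
  have hδb : δ ≠ u • a := Q_fix_smul huE.2 had.symm
  have hpair : ∀ {a' b' e' f'}, (Γ).Adj α' a' → (Γ).Adj α' b' → δ ≠ a' → δ ≠ b' → a' ≠ b' →
      (Γ).Adj a' e' → α' ≠ e' → (Γ).Adj b' f' → α' ≠ f' →
        ζ e' * ζ f' = s ∨ ζ e' * ζ f' = s * ζ α' := by
    intro a' b' e' f' k1 k2 k3 k4 k5 k6 k7 k8 k9
    rw [hs_def, hue]
    exact pair_cases hS (by omega) hα' hδα'.symm ha hb' had.symm hδb hab k1 k2 k3 k4 k5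
      he hee.symm (cg_adj_smul u he) (Q_fix_smul huα' hee.symm) k6 k7 k8 k9
  have hcases : ∀ x ∈ 𝐄 δ α', x * s * x⁻¹ = s ∨ x * s * x⁻¹ = s * ζ α' := by
    intro x hx
    have h := hpair (smul_adj ha hx.2) (smul_adj hb' hx.2) (Q_fix_smul hx.1 had.symm)
      (Q_fix_smul hx.1 hδb) (fun h => hab (smul_left_cancel x h)) (cg_adj_smul x he)
      (Q_fix_smul hx.2 hee.symm) (cg_adj_smul x (cg_adj_smul u he))
      (Q_fix_smul hx.2 (Q_fix_smul huα' hee.symm))
    rwa [zv_smul hS x (adj_right he (adj_left ha hα')),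
      zv_smul hS x (adj_right (cg_adj_smul u he) (by rw [isLeft_smul]; exact adj_left ha hα')), ← hue,
      show x * ζ e * x⁻¹ * (x * (u * ζ e * u⁻¹) * x⁻¹) = x * (ζ e * (u * ζ e * u⁻¹)) * x⁻¹ by group,
      ← hs_def] at h
  have hz : ζ α' ≠ ζ α'' := by
    intro h
    rcases U_inter hS hδl hμδ hη hηδ.symm (zv_mem_U hδα') (h ▸ zv_mem_U hα'') with h' | h'
    · exact zv_ne_one hS hα' h'
    · exact hμα' (zv_injective hS hδl hδα' hμδ.symm h').symm
  have hfix : ∀ x ∈ 𝐐 δ, x • α'' = α'' → x * s = s * x := by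
    intro x hx hxα
    have hxμ : x ∈ 𝐆 μ := MulAction.mem_stabilizer_iff.2 (Q_fix hS hμδ.symm hx)
    have hxη : x • η = η := by
      by_contra h
      have h1 : (Γ).Adj μ (x • η) := smul_adj hη hxμ
      have h2 : (Γ).Adj (x • η) α'' := hxα ▸ cg_adj_smul x hα''
      rcases U_inter hS hηl hη h1 (Ne.symm h) (zv_mem_U hα'') (zv_mem_U h2) with h' | h'
      · exact zv_ne_one hS (adj_right hα'' hηl) h'
      · exact hα''μ (zv_injective hS hηl hα'' hη.symm h')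
    have hx' : m⁻¹ * x * m ∈ 𝐄 δ α' := by
      refine ⟨MulAction.mem_stabilizer_iff.2 ?_, MulAction.mem_stabilizer_iff.2 ?_⟩
      · rw [mul_smul, mul_smul, ← hη_def, hxη, hη_def, inv_smul_smul]
      · rw [mul_smul, mul_smul, ← hα''_def, hxα, hα''_def, inv_smul_smul]
    have e0 : x * s * x⁻¹ = m * (m⁻¹ * x * m * s * (m⁻¹ * x * m)⁻¹) * m⁻¹ := by
      calc x * s * x⁻¹ = x * (m * s * m⁻¹) * x⁻¹ := by rw [hms, mul_inv_cancel_right]
        _ = _ := by group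
    rcases hcases _ hx' with h | h
    · rw [h, hms, mul_inv_cancel_right] at e0
      exact mul_inv_eq_iff_eq_mul.1 e0
    · rw [h, show m * (s * ζ α') * m⁻¹ = m * s * m⁻¹ * (m * ζ α' * m⁻¹) by group, hms,
        mul_inv_cancel_right, ← zv_smul hS m hα', ← hα''_def] at e0
      rcases hcases x (Q_le_edge hS hδα' hx) with h' | h'
      · exact mul_inv_eq_iff_eq_mul.1 h'
      · exact absurd (mul_left_cancel (h'.symm.trans e0)) hz
  have hzQ : ∀ x ∈ 𝐐 δ, x * ζ α' = ζ α' * x := fun x hx => zv_commute hS hδl hδα' hx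
  have hcomm' : ∀ x ∈ 𝐐 δ, ∀ t, (t = s ∨ t = s * ζ α') → (x * t = t * x ↔ x * s = s * x) := by
    intro x hx t ht
    rcases ht with rfl | rfl
    · exact Iff.rfl
    refine ⟨fun h => mul_right_cancel (b := ζ α') ?_, fun h => ?_⟩
    · rw [mul_assoc, h, mul_assoc, ← hzQ x hx, ← mul_assoc]
    · rw [← mul_assoc, h, mul_assoc, hzQ x hx, ← mul_assoc]
  obtain ⟨y, hy, hyμ⟩ := SetLike.not_le_iff_exists.1 (Q_ne hS hμδ.symm)
  have hyE : y ∈ 𝐄 μ δ := edge_comm δ μ ▸ Q_le_edge hS hμδ.symm hy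
  have hyη : y • η = ρ := swap_eq hS hμδ hη hρμ.symm hηδ.symm hρδ.symm hρη.symm hyE hyμ
  set α₃ := y • α'' with hα₃_def
  have hα₃ : (Γ).Adj ρ α₃ := hyη ▸ cg_adj_smul y hα''
  have hfix' : ∀ x ∈ 𝐐 δ, x • α₃ = α₃ → x * s = s * x := by
    intro x hx hxα
    have h1 : y⁻¹ * x * y ∈ 𝐐 δ := mul_mem (mul_mem (inv_mem hy) hx) hy
    have h2 := hfix _ h1 (by rw [mul_smul, mul_smul, ← hα₃_def, hxα, hα₃_def, inv_smul_smul])
    refine (hcomm' x hx _ (hcases y (Q_le_edge hS hδα' hy))).1 ?_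
    calc x * (y * s * y⁻¹) = y * (y⁻¹ * x * y * s) * y⁻¹ := by group
      _ = y * s * y⁻¹ * x := by rw [h2]; group
  have hρl := adj_left hρμ.symm hμr
  set p := ζ α'' * ζ α₃ with hp_def
  have hp : ∀ x ∈ 𝐐 δ, x ∈ 𝐐 μ → x * s ≠ s * x → x * p = p * x := by
    intro x hx hxμ hns
    have h1 : x ∈ 𝐄 η μ := edge_comm μ η ▸ Q_le_edge hS hη hxμ
    have h2 : x ∈ 𝐄 ρ μ := edge_comm μ ρ ▸ Q_le_edge hS hρμ.symm hxμ
    have f1 := flip hS hηl hη.symm hα'' hα''μ.symm h1 fun h => hns (hfix x hx (Q_fix hS hα'' h))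
    have f2 := flip hS hρl hρμ hα₃ (Q_fix_smul hyE.1 hα''μ.symm) h2
      fun h => hns (hfix' x hx (Q_fix hS hα₃ h))
    have c3 : ζ μ * ζ α₃ = ζ α₃ * ζ μ := zv_commute hS hρl hα₃ (U_le_Q hS hρl (zv_mem_U hρμ))
    refine mul_inv_eq_iff_eq_mul.1 ?_
    calc x * p * x⁻¹ = x * ζ α'' * x⁻¹ * (x * ζ α₃ * x⁻¹) := by rw [hp_def]; group
      _ = ζ α'' * (ζ μ * ζ α₃) * ζ μ := by rw [f1, f2]; group
      _ = p := by rw [c3, mul_assoc, mul_assoc, zv_sq hS hμr, mul_one]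
  have hp' : ∀ g ∈ 𝐆 δ, g • μ = α' → ∀ x ∈ 𝐐 δ, x * p = p * x →
      g * x * g⁻¹ * s = s * (g * x * g⁻¹) := by
    intro g hg hgμ x hx hxp
    have hadj : ∀ {n}, (Γ).Adj μ n → (Γ).Adj α' (g • n) := fun h => hgμ ▸ cg_adj_smul g h
    have hne : ∀ {n : Cfsg.CosetVertex M₁ M₂}, n ≠ μ → α' ≠ g • n := fun hn h =>
      hn (smul_left_cancel g (hgμ.trans h)).symm
    have h := hpair (hadj hη) (hadj hρμ.symm) (Q_fix_smul hg hηδ.symm) (Q_fix_smul hg hρδ.symm)
      (fun h => hρη (smul_left_cancel g h).symm) (cg_adj_smul g hα'') (hne hα''μ) (cg_adj_smul g hα₃)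
      (hne (Q_fix_smul hyE.1 hα''μ.symm).symm)
    refine (hcomm' _ ((mem_normalizer_iff.1 (normQ δ hg) x).1 hx) _ h).1 ?_
    rw [zv_smul hS g (adj_right hα'' hηl), zv_smul hS g (adj_right hα₃ hρl)]
    calc g * x * g⁻¹ * (g * ζ α'' * g⁻¹ * (g * ζ α₃ * g⁻¹)) = g * (x * p) * g⁻¹ := by
          rw [hp_def]; group
      _ = _ := by rw [hxp, hp_def]; group
  obtain ⟨ν, hν, hνμ, hνα'⟩ : ∃ ν, (Γ).Adj δ ν ∧ ν ≠ μ ∧ ν ≠ α' := by
    obtain ⟨g, hg, hgQ⟩ := exists_moving hS hμδ.symm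
    exact ⟨g • α', smul_adj hδα' hg.1, (Q_fix_smul hg.2 hμα').symm,
      moves hS hμδ.symm hδα' hμα' hg hgQ⟩
  obtain ⟨g, hg, hgQ⟩ := exists_moving hS hν
  have hgμ : g • μ = α' := swap_eq hS hν hμδ.symm hδα' hνμ hνα' hμα' hg hgQ
  have hgα' : g • α' = μ := swap_eq hS hν hδα' hμδ.symm hνα' hνμ hμα'.symm hg hgQ
  have hgν : g • ν = ν := MulAction.mem_stabilizer_iff.1 hg.2
  have hD0 : ∀ x ∈ 𝐐 δ, x ∈ 𝐐 μ → x ∈ 𝐐 α' → x * s = s * x := by
    intro x hx hxμ hxα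
    by_contra hns
    have h1 := hp' g hg.1 hgμ x hx (hp x hx hxμ hns)
    set x1 := g * x * g⁻¹
    have hx1 : x1 ∈ 𝐐 δ := (mem_normalizer_iff.1 (normQ δ hg.1) x).1 hx
    have hx1μ : x1 ∈ 𝐐 μ := hgα' ▸ mem_Q_smul g hxα
    have hns' : x * x1 * s ≠ s * (x * x1) := fun h => hns (mul_right_cancel (b := x1) (by
      rw [mul_assoc x s, ← h1, ← mul_assoc, h, mul_assoc]))
    have h2 := hp (x * x1) (mul_mem hx hx1) (mul_mem hxμ hx1μ) hns'
    have h3 : x1 * p = p * x1 := mul_left_cancel (a := x) (by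
      rw [← mul_assoc, h2, ← mul_assoc, ← hp x hx hxμ hns, mul_assoc])
    have h4 := hp' g⁻¹ (inv_mem hg.1) (by rw [inv_smul_eq_iff, hgα']) x1 hx1 h3
    rw [show g⁻¹ * x1 * g⁻¹⁻¹ = x by simp only [x1]; group] at h4
    exact hns h4
  have huδ : u ∈ 𝐐 δ := hv.le_Q hS (by omega) hu
  have huμ : u ∈ 𝐐 μ := hv.le_Q hS (by omega) hu
  have hus : u * s = s * u := hfix u huδ (Q_fix hS hα'' (le_Q_of_dist hv.left (by
    have h1 := (connected hS).dist_triangle (u := v 0) (v := μ) (w := η)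
    rw [dist_adj hη] at h1
    have : (Γ).dist (v 0) μ ≤ bb - 2 := hv.dist_le hS (show bb - 2 ≤ bb by omega)
    omega) hu))
  have mulc : ∀ {x y : X}, x * y * s = s * (x * y) → y * s = s * y → x * s = s * x :=
    fun {x y} h1 h2 => mul_right_cancel (b := y) (by rw [mul_assoc x s, ← h2, ← mul_assoc, h1, mul_assoc])
  have hD : ∀ x ∈ 𝐐 δ, x ∈ 𝐐 μ → x * s = s * x := by
    intro x hx hxμ
    by_cases hxα : x ∈ 𝐐 α'
    · exact hD0 x hx hxμ hxα
    exact mulc (hD0 _ (mul_mem hx huδ) (mul_mem hxμ huμ)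
      ((mul_mem_Q hS hδα'.symm (edge_comm δ α' ▸ Q_le_edge hS hδα' hx) huE).2
        (iff_of_false hxα huQ))) hus
  obtain ⟨k, hk, hkQ⟩ := exists_moving hS hδα'
  have hkμ : k • μ = ν := swap_eq hS hδα' hμδ.symm hν hμα'.symm hνα'.symm hνμ.symm hk hkQ
  have hDν : ∀ x ∈ 𝐐 δ, x ∈ 𝐐 ν → x * s = s * x := by
    intro x hx hxν
    have h2 : k⁻¹ * x * k ∈ 𝐐 μ := by
      have := mem_Q_smul k⁻¹ hxν
      rwa [inv_inv, ← hkμ, inv_smul_smul] at this
    have h1 : k⁻¹ * x * k ∈ 𝐐 δ := (mem_normalizer_iff''.1 (normQ δ hk.1) x).1 hx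
    refine (hcomm' x hx _ (hcases k hk)).1 ?_
    calc x * (k * s * k⁻¹) = k * (k⁻¹ * x * k * s) * k⁻¹ := by group
      _ = k * s * k⁻¹ * x := by rw [hD _ h1 h2]; group
  obtain ⟨y₁, hy₁, hy₁ν, hy₁μ⟩ : ∃ y₁ ∈ 𝐐 δ, y₁ ∈ 𝐐 ν ∧ y₁ ∉ 𝐐 μ := by
    by_contra hcon
    push Not at hcon
    have h1 : k * u * k⁻¹ ∈ 𝐐 ν := hkμ ▸ mem_Q_smul k huμ
    have h2 : k * u * k⁻¹ ∈ 𝐐 δ := (mem_normalizer_iff.1 (normQ δ hk.1) u).1 huδ
    have h3 : g⁻¹ * (k * u * k⁻¹) * g⁻¹⁻¹ ∈ 𝐐 μ := hcon _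
      ((mem_normalizer_iff.1 (normQ δ (inv_mem hg.1)) _).1 h2)
      (by have := mem_Q_smul g⁻¹ h1; rwa [inv_smul_eq_iff.2 hgν.symm] at this)
    have h4 := mem_Q_smul g h3
    rw [hgμ, show g * (g⁻¹ * (k * u * k⁻¹) * g⁻¹⁻¹) * g⁻¹ = k * u * k⁻¹ by group] at h4
    exact huQ ((mem_normalizer_iff.1 (normQ α' hk.2) u).2 h4)
  have hQs : ∀ x ∈ 𝐐 δ, x * s = s * x := by
    intro x hx
    by_cases hxμ : x ∈ 𝐐 μ
    · exact hD x hx hxμ
    exact mulc (hD _ (mul_mem hx hy₁) ((mul_mem_Q hS hμδ (edge_comm δ μ ▸ Q_le_edge hS hμδ.symm hx)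
      (edge_comm δ μ ▸ Q_le_edge hS hμδ.symm hy₁)).2 (iff_of_false hxμ hy₁μ)))
      (hDν y₁ hy₁ hy₁ν)
  -- a central involution at the far end
  have hsQ : s ∈ 𝐐 δ := V_le_Q_nbr hS (by omega) hα' hδα'.symm hs2
  have hs_sq : s * s = 1 := V_sq hS (by omega) hα' hs2
  have hμU : ζ μ ∈ 𝐔 δ := zv_mem_U hμδ.symm
  have hsμ : ζ μ * s = s * ζ μ := hQs _ (U_le_Q hS hδl hμU)
  obtain ⟨f, hfQ, hf2, hfU, hfk, hfm, hfc⟩ : ∃ f, f ∈ 𝐐 δ ∧ f * f = 1 ∧ f ∉ 𝐔 δ ∧ k * f = f * k ∧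
      m * f = f * m ∧ ∀ x ∈ 𝐐 δ, x * f = f * x := by
    rcases hcases k hk with h | h
    · exact ⟨s, hsQ, hs_sq, hsU, mul_inv_eq_iff_eq_mul.1 h, hms, hQs⟩
    refine ⟨s * ζ μ, mul_mem hsQ (U_le_Q hS hδl hμU), ?_,
      fun h' => hsU (((𝐔 δ).mul_mem_cancel_right hμU).1 h'), mul_inv_eq_iff_eq_mul.1 ?_, ?_, fun x hx => ?_⟩
    · rw [mul_assoc, ← mul_assoc (ζ μ), hsμ, mul_assoc s (ζ μ) (ζ μ), zv_sq hS hμr, mul_one, hs_sq]
    · rw [show k * (s * ζ μ) * k⁻¹ = k * s * k⁻¹ * (k * ζ μ * k⁻¹) by group, h,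
        flip hS hδl hδα' hμδ.symm hμα'.symm hk hkQ, hzQ _ (U_le_Q hS hδl hμU), mul_assoc,
        ← mul_assoc (ζ α'), zv_sq hS hα', one_mul]
    · rw [← mul_assoc, hms, mul_assoc, zv_central hS hμr hmE.1, mul_assoc]
    · rw [← mul_assoc, hQs x hx, mul_assoc, zv_commute hS hδl hμδ.symm hx, mul_assoc]
  have hfE : f ∈ 𝐄 δ α' := Q_le_edge hS hδα' hfQ
  have hfα' := central_of hS hδα' hδl hfE hf2 fun x hx => mem_centralizer_singleton_iff.1
    (Q_sup hS hδα' hk hkQ (K := centralizer {f}) (fun q hq => mem_centralizer_singleton_iff.2 (hfc q hq))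
      (mem_centralizer_singleton_iff.2 hfk) hx)
  rcases cg_adj_iff.1 hδα' with ⟨x, hx1, hx2⟩ | ⟨x, hx1, hx2⟩
  swap
  · simp [hx1, hx2] at hδl
  have hm1 : x⁻¹ * f * x ∈ Cfsg.pCoreOf 2 M₁ := by
    have h : f ∈ 𝐐 δ := hfQ
    rw [hx1] at h
    change f ∈ Cfsg.pCoreOf 2 _ at h
    rw [cg_stab_inl, pCoreOf_map (MulAut.conj x).injective] at h
    obtain ⟨f₀, hf₀, rfl⟩ := h
    rwa [show x⁻¹ * (MulAut.conj x).toMonoidHom f₀ * x = f₀ by
      show x⁻¹ * (x * f₀ * x⁻¹) * x = f₀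
      group]
  have hm2 : x⁻¹ * f * x ∈ M₂ := by
    have h := hfE.2
    rw [hx2, cg_stab_inr] at h
    obtain ⟨f₀, hf₀, rfl⟩ := h
    rwa [show x⁻¹ * (MulAut.conj x).toMonoidHom f₀ * x = f₀ by
      show x⁻¹ * (x * f₀ * x⁻¹) * x = f₀
      group]
  have hS' : Setting M₁ M₂ (x⁻¹ * f * x) :=
    { hS with
      z_mem := ⟨hm1, hm2⟩
      z_sq := by rw [show x⁻¹ * f * x * (x⁻¹ * f * x) = x⁻¹ * (f * f) * x by group, hf2]; group
      z_ne := fun h => hfU (by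
        rw [show f = x * (x⁻¹ * f * x) * x⁻¹ by group, h, mul_one, mul_inv_cancel]
        exact one_mem _)
      z_central := fun n hn => by
        have h := hfα' (x * n * x⁻¹) (by rw [hx2, cg_stab_inr]; exact ⟨n, hn, rfl⟩)
        calc n * (x⁻¹ * f * x) = x⁻¹ * (x * n * x⁻¹ * f) * x := by group
          _ = x⁻¹ * f * x * n := by rw [h]; group }
  have hzf : zv M₁ M₂ (x⁻¹ * f * x) α' = f := by
    rw [hx2, zv_mk hS']
    group
  have hzf' : zv M₁ M₂ (x⁻¹ * f * x) α'' = f := by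
    rw [hα''_def, zv_smul hS' m hα', hzf, hfm, mul_inv_cancel_right]
  have hU1 : f ∈ U M₁ M₂ (x⁻¹ * f * x) δ := by
    have := zv_mem_U (z := x⁻¹ * f * x) hδα'
    rwa [hzf] at this
  have hU2 : f ∈ U M₁ M₂ (x⁻¹ * f * x) η := by
    have := zv_mem_U (z := x⁻¹ * f * x) hα''
    rwa [hzf'] at this
  rcases U_inter hS' hδl hμδ hη hηδ.symm hU1 hU2 with h | h
  · exact hfU (h ▸ one_mem _)
  · exact hμα' (zv_injective hS' hδl hμδ.symm hδα' (h.symm.trans hzf.symm))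

theorem s_mem (hS : Setting M₁ M₂ z) (hb : 3 ≤ bb) (hodd : bb % 2 = 1)
    {v : ℕ → Cfsg.CosetVertex M₁ M₂} (hv : Crit M₁ M₂ z v) {u : X} (hu : u ∈ 𝐔 (v 0))
    (huQ : u ∉ 𝐐 (v bb)) {a e : Cfsg.CosetVertex M₁ M₂} (ha : (Γ).Adj (v bb) a)
    (had : a ≠ v (bb - 1)) (he : (Γ).Adj a e) (hee : e ≠ v bb) :
    ζ e * (u * ζ e * u⁻¹) ∈ 𝐔 (v (bb - 1)) := by
  rcases Nat.lt_or_ge bb 5 with h | h
  · have h3 : bb = 3 := by omega
    have hs := s_basic hS hodd hv hu ha he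
    have h12 := hv.adj 1 (by omega)
    have h23 := hv.adj 2 (by omega)
    have hnb := (hv.isWalk hS).nb 1 (by omega)
    rw [h3] at hs ⊢
    exact V_inter hS hb (walk_left hv.adj hv.left (i := 2) (by omega) rfl) h12.symm h23 hnb.symm hs
  · exact far_five hS h hodd hv hu huQ ha had he hee

theorem natural (hS : Setting M₁ M₂ z) (hb : 3 ≤ bb) (hodd : bb % 2 = 1) : Natural M₁ M₂ z := by
  obtain ⟨v, hv⟩ := exists_crit hS
  obtain ⟨u, hu, huQ⟩ := SetLike.not_le_iff_exists.1 hv.out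
  have hα' := walk_right hv.adj hv.left le_rfl hodd
  have hδl := walk_left hv.adj hv.left (show bb - 1 ≤ bb by omega) (by omega)
  have hδα' := hv.adj (bb - 1) (by omega)
  rw [show bb - 1 + 1 = bb by omega] at hδα'
  have huE : u ∈ 𝐄 (v bb) (v (bb - 1)) := ⟨hv.le_stab hS le_rfl hu, hv.le_stab hS (by omega) hu⟩
  have base : ∀ a b, (Γ).Adj (v bb) a → (Γ).Adj (v bb) b → a ≠ v (bb - 1) → b ≠ v (bb - 1) → a ≠ b →
      𝐔 b ≤ 𝐔 (v (bb - 1)) ⊔ 𝐔 a := by
    intro a b ha hb' had hbd hab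
    have hal := adj_left ha hα'
    rw [← swap_eq hS hδα'.symm ha hb' had.symm hbd.symm hab huE huQ, ← U_smul hS u hal]
    rintro _ ⟨x, hx, rfl⟩
    show u * x * u⁻¹ ∈ _
    rcases mem_U hS hal hx with rfl | ⟨e, he, rfl⟩
    · simp
    by_cases hee : e = v bb
    · rw [hee, zv_central hS hα' huE.1, mul_inv_cancel_right, ← hee]
      exact mem_sup_right (zv_mem_U he)
    rw [show u * ζ e * u⁻¹ = ζ e * (ζ e * (u * ζ e * u⁻¹)) by
      rw [← mul_assoc (ζ e) (ζ e), zv_sq hS (adj_right he hal), one_mul]]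
    exact mul_mem (mem_sup_right (zv_mem_U he))
      (mem_sup_left (s_mem hS hb hodd hv hu huQ ha had he hee))
  intro c a b d hc ha hb' hd hab had hbd
  obtain ⟨g, hg1, hg2⟩ := edge_equiv hS hδα' ha.symm hδl (adj_left ha hc)
  have hg : g⁻¹ • c = v bb := by rw [inv_smul_eq_iff, hg2]
  have hg' : g⁻¹ • a = v (bb - 1) := by rw [inv_smul_eq_iff, hg1]
  have hinj : ∀ {p q : Cfsg.CosetVertex M₁ M₂}, p ≠ q → g⁻¹ • p ≠ g⁻¹ • q :=
    fun hpq h => hpq (smul_left_cancel _ h)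
  have h := map_mono (f := (MulAut.conj g).toMonoidHom) (base (g⁻¹ • b) (g⁻¹ • d)
    (hg ▸ cg_adj_smul g⁻¹ hb') (hg ▸ cg_adj_smul g⁻¹ hd) (hg' ▸ (hinj hab).symm)
    (hg' ▸ (hinj had).symm) (hinj hbd))
  rwa [Subgroup.map_sup, U_smul hS g (δ := g⁻¹ • d) (by rw [isLeft_smul]; exact adj_left hd hc),
    U_smul hS g (δ := g⁻¹ • b) (by rw [isLeft_smul]; exact adj_left hb' hc), U_smul hS g hδl, smul_inv_smul,
    smul_inv_smul, hg1] at h

theorem prod_class (hS : Setting M₁ M₂ z) (hb : 3 ≤ bb) (hN : Natural M₁ M₂ z)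
    {c a b d e f : Cfsg.CosetVertex M₁ M₂} (hc : c.isLeft = false) (ha : (Γ).Adj c a) (hb' : (Γ).Adj c b)
    (hd : (Γ).Adj c d) (hab : a ≠ b) (had : a ≠ d) (hbd : b ≠ d) (he : (Γ).Adj a e) (hec : c ≠ e)
    (hf : (Γ).Adj b f) (hfc : c ≠ f) :
    ∃ g, (Γ).Adj d g ∧ c ≠ g ∧ ζ e * ζ f = ζ g := by
  have hal := adj_left ha hc
  have hbl := adj_left hb' hc
  have hdl := adj_left hd hc
  have hcomm : 𝐔 d ≤ normalizer (𝐔 a : Set X) := fun x hx => mem_normalizer_of_commute fun y hy =>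
    V_comm hS hb hc (U_le_V hd hx) (U_le_V ha hy)
  have h := hN hc hd ha hb' had.symm hbd.symm hab (zv_mem_U hf)
  rw [← SetLike.mem_coe, coe_mul_of_left_le_normalizer_right _ _ hcomm] at h
  obtain ⟨p, hp, q, hq, hpq⟩ := Set.mem_mul.1 h
  have hmem : ζ e * ζ f ∈ 𝐔 d := by
    have hnot : ζ f ∉ 𝐔 d := fun hmem => by
      rcases U_inter hS hbl hb' hd hbd (zv_mem_U hf) hmem with h1 | h1
      · exact zv_ne_one hS (adj_right hf hbl) h1
      · exact hfc (zv_injective hS hbl hb'.symm hf h1.symm)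
    have hq' : ζ e * q ∈ 𝐔 d := by
      rcases mem_U hS hal hq with rfl | ⟨e', he', rfl⟩
      · exact absurd (by rwa [← hpq, mul_one]) hnot
      by_cases hce : c = e'
      · exact absurd (by rw [← hpq, ← hce]; exact mul_mem hp (zv_mem_U hd.symm)) hnot
      rcases other_zv hS hal ha.symm he he' hec hce with h1 | h1 <;> rw [h1]
      · rw [zv_sq hS (adj_right he hal)]; exact one_mem _
      · rw [← mul_assoc, zv_sq hS (adj_right he hal), one_mul]; exact zv_mem_U hd.symm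
    rw [← hpq, ← mul_assoc, V_comm hS hb hc (U_le_V ha (zv_mem_U he)) (U_le_V hd hp), mul_assoc]
    exact mul_mem hp hq'
  have key : ∀ t, t ∈ 𝐔 a → ζ f = t → False := fun t ht h1 => by
    rcases U_inter hS hbl hb' ha hab.symm (zv_mem_U hf) (h1 ▸ ht) with h2 | h2
    · exact zv_ne_one hS (adj_right hf hbl) h2
    · exact hfc (zv_injective hS hbl hb'.symm hf h2.symm)
  rcases mem_U hS hdl hmem with h1 | ⟨g, hg, h1⟩
  · exact (key _ (inv_mem (zv_mem_U he)) (eq_inv_of_mul_eq_one_right h1)).elim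
  · refine ⟨g, hg, fun hcg => key _ (mul_mem (inv_mem (zv_mem_U he)) (zv_mem_U ha.symm)) ?_, h1⟩
    rw [hcg, ← h1, inv_mul_cancel_left]

theorem mem_Q_iff (hS : Setting M₁ M₂ z) {δ c a : Cfsg.CosetVertex M₁ M₂} (hδ : δ.isLeft = true)
    (hc : (Γ).Adj δ c) (ha : (Γ).Adj δ a) (hca : c ≠ a) {x : X} (hx : x ∈ 𝐄 δ c) :
    x ∈ 𝐐 δ ↔ x * ζ a = ζ a * x := by
  refine ⟨fun h => zv_commute hS hδ ha h, fun h => by_contra fun hn => ?_⟩
  have := flip hS hδ hc ha hca hx hn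
  rw [h, mul_inv_cancel_right, eq_comm, mul_eq_left] at this
  exact zv_ne_one hS (adj_right hc hδ) this

theorem exists_fixing (hS : Setting M₁ M₂ z) (hb : 3 ≤ bb) (hN : Natural M₁ M₂ z)
    {μ η δ : Cfsg.CosetVertex M₁ M₂} (hμ : μ.isLeft = false) (hη : (Γ).Adj μ η) (hδ : (Γ).Adj μ δ)
    (hne : η ≠ δ) : ∃ x ∈ 𝐐 μ, x ∈ 𝐐 η ∧ x ∉ 𝐐 δ := by
  obtain ⟨k, hk, hkQ⟩ := exists_moving hS hδ
  set ν := k • η with hν_def
  have hν : (Γ).Adj μ ν := smul_adj hη hk.1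
  have hνη : ν ≠ η := moves hS hδ hη hne.symm hk hkQ
  have hδν : δ ≠ ν := Q_fix_smul hk.2 hne.symm
  obtain ⟨e, he, hec⟩ := exists_other hS hη.symm
  obtain ⟨f, hf, hfc⟩ := exists_other hS hν.symm
  obtain ⟨d, hd, hdc, hp⟩ := prod_class hS hb hN hμ hη hν hδ hνη.symm hne hδν.symm he hec.symm hf hfc.symm
  obtain ⟨x, hx, hxη⟩ := SetLike.not_le_iff_exists.1 (Q_ne hS hη)
  have hE : ∀ {n}, (Γ).Adj μ n → x ∈ 𝐄 n μ := fun {n} h => edge_comm μ n ▸ Q_le_edge hS h hx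
  by_cases hxδ : x ∈ 𝐐 δ
  · obtain ⟨g, hg, hgQ⟩ := exists_moving hS hν
    have h1 := swap_eq hS hν hδ hη hδν.symm hνη hne.symm hg hgQ
    have h2 := swap_eq hS hν hη hδ hνη hδν.symm hne hg hgQ
    refine ⟨g * x * g⁻¹, (mem_normalizer_iff.1 (normQ μ hg.1) x).1 hx, h1 ▸ mem_Q_smul g hxδ,
      fun h => hxη ?_⟩
    have := mem_Q_smul g⁻¹ h
    rwa [← h2, inv_smul_smul, show g⁻¹ * (g * x * g⁻¹) * g⁻¹⁻¹ = x by group] at this
  · have hxν : x ∈ 𝐐 ν := by_contra fun hn => hxδ ((mem_Q_iff hS (adj_left hδ hμ) hδ.symm hd hdc (hE hδ)).2 (by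
      have f1 := flip hS (adj_left hη hμ) hη.symm he hec.symm (hE hη) hxη
      have f2 := flip hS (adj_left hν hμ) hν.symm hf hfc.symm (hE hν) hn
      rw [← hp]
      refine mul_inv_eq_iff_eq_mul.1 ?_
      calc x * (ζ e * ζ f) * x⁻¹ = x * ζ e * x⁻¹ * (x * ζ f * x⁻¹) := by group
        _ = ζ e * (ζ μ * ζ f) * ζ μ := by rw [f1, f2]; group
        _ = ζ e * ζ f := by
          rw [V_comm hS hb hμ (U_le_V hν (zv_mem_U hν.symm)) (U_le_V hν (zv_mem_U hf)),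
            mul_assoc, mul_assoc, zv_sq hS hμ, mul_one]))
    have hkν : k • ν = η :=
      swap_eq hS hδ hν hη hδν hne.symm hνη hk hkQ
    refine ⟨k * x * k⁻¹, (mem_normalizer_iff.1 (normQ μ hk.1) x).1 hx, hkν ▸ mem_Q_smul k hxν,
      fun h => hxδ ((mem_normalizer_iff.1 (normQ δ hk.2) x).2 h)⟩

/-- In the natural case the commutator at the far end is a nontrivial class. -/
theorem s_class (hS : Setting M₁ M₂ z) (hb : 5 ≤ bb) (hodd : bb % 2 = 1)
    {v : ℕ → Cfsg.CosetVertex M₁ M₂} (hv : Crit M₁ M₂ z v) {u : X} (hu : u ∈ 𝐔 (v 0))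
    (huQ : u ∉ 𝐐 (v bb)) {a e : Cfsg.CosetVertex M₁ M₂} (ha : (Γ).Adj (v bb) a)
    (had : a ≠ v (bb - 1)) (he : (Γ).Adj a e) (hee : e ≠ v bb) :
    ζ e * (u * ζ e * u⁻¹) = ζ (v (bb - 2)) := by
  have hs := s_mem hS (by omega) hodd hv hu huQ ha had he hee
  have hα' := walk_right hv.adj hv.left le_rfl hodd
  have hal := adj_left ha hα'
  have huα : u ∈ 𝐆 (v bb) := hv.le_stab hS le_rfl hu
  have hδα' := hv.adj (bb - 1) (by omega)
  rw [show bb - 1 + 1 = bb by omega] at hδα'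
  have hmv : u • a ≠ a := moves hS hδα'.symm ha had.symm
    ⟨huα, hv.le_stab hS (by omega) hu⟩ huQ
  set s := ζ e * (u * ζ e * u⁻¹) with hs_def
  obtain ⟨v', hv', hshift⟩ := hv.shift_walk hS (by omega)
  obtain ⟨m, hm, hmQ⟩ := SetLike.not_le_iff_exists.1 hv'.out
  rw [show bb = (bb - 2) + 2 by omega, hshift] at hmQ
  have hμr := walk_right hv.adj hv.left (show bb - 2 ≤ bb by omega) (by omega)
  have hδl := walk_left hv.adj hv.left (show bb - 1 ≤ bb by omega) (by omega)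
  have hμδ := hv.adj (bb - 2) (by omega)
  rw [show bb - 2 + 1 = bb - 1 by omega] at hμδ
  have hρμ := hv.adj (bb - 3) (by omega)
  rw [show bb - 3 + 1 = bb - 2 by omega] at hρμ
  have hnb := (hv.isWalk hS).nb (bb - 3) (by omega)
  rw [show bb - 3 + 2 = bb - 1 by omega] at hnb
  have hmfix : ∀ i, i + 2 ≤ bb → m ∈ 𝐆 (v i) := fun i hi => hshift i ▸ hv'.le_stab hS hi hm
  have hmv' := moves hS hρμ.symm hμδ hnb.symm ⟨hmfix _ (by omega), hmfix _ (by omega)⟩ hmQ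
  have hv'3 : (v' 3).isLeft = false := by rw [hshift]; exact walk_right hv.adj hv.left (by omega) rfl
  have hms : m * s = s * m := commute_shift hS (k := 3) (by omega) hv' hv'3 hm
    (hshift 1 ▸ (s_basic hS hodd hv hu ha he).1)
  have hs' : s ∈ 𝐔 (m • v (bb - 1)) := by
    have := conj_mem_U hS m hδl hs
    rwa [hms, mul_inv_cancel_right] at this
  refine (U_inter hS hδl hμδ (smul_adj hμδ (hmfix _ (by omega))) hmv'.symm hs hs').resolve_left ?_
  intro h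
  have h1 : u * ζ e * u⁻¹ = ζ e := (mul_left_cancel ((zv_sq hS (adj_right he hal)).trans h.symm)).symm
  rcases U_inter hS hal ha (smul_adj ha huα) hmv.symm (zv_mem_U he)
      (h1 ▸ conj_mem_U hS u hal (zv_mem_U he)) with h2 | h2
  · exact zv_ne_one hS (adj_right he hal) h2
  · exact hee (zv_injective hS hal he ha.symm h2)

/-- The distance is not seven or more. -/
theorem seven_false (hS : Setting M₁ M₂ z) (hb : 7 ≤ bb) (hodd : bb % 2 = 1) : False := by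
  obtain ⟨v, hv⟩ := exists_crit hS
  obtain ⟨u, hu, huQ⟩ := SetLike.not_le_iff_exists.1 hv.out
  have hδα' := hv.adj (bb - 1) (by omega)
  rw [show bb - 1 + 1 = bb by omega] at hδα'
  obtain ⟨a, ha, had⟩ := exists_other hS hδα'.symm
  obtain ⟨e, he, hee⟩ := exists_other hS ha.symm
  have hs := s_class hS (by omega) hodd hv hu huQ ha had he hee
  obtain ⟨v', hv', hs'⟩ := hv.shift_walk hS (by omega)
  obtain ⟨v'', hv'', hs''⟩ := hv'.shift_walk hS (by omega)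
  have hshift : ∀ i, v'' (i + 4) = v i := fun i => by
    rw [show i + 4 = (i + 2) + 2 by omega, hs'', hs']
  obtain ⟨m, hm, hmQ⟩ := SetLike.not_le_iff_exists.1 hv''.out
  rw [show bb = (bb - 4) + 4 by omega, hshift] at hmQ
  have hv5 : (v'' 5).isLeft = false := by rw [hshift]; exact walk_right hv.adj hv.left (by omega) rfl
  have hms := commute_shift hS (k := 5) (by omega) hv'' hv5 hm
    (hshift 1 ▸ (s_basic hS hodd hv hu ha he).1)
  rw [hs] at hms
  have hcr := walk_right hv.adj hv.left (show bb - 4 ≤ bb by omega) (by omega)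
  have hρl := walk_left hv.adj hv.left (show bb - 3 ≤ bb by omega) (by omega)
  have h43 := hv.adj (bb - 4) (by omega)
  rw [show bb - 4 + 1 = bb - 3 by omega] at h43
  have h54 := hv.adj (bb - 5) (by omega)
  rw [show bb - 5 + 1 = bb - 4 by omega] at h54
  have h32 := hv.adj (bb - 3) (by omega)
  rw [show bb - 3 + 1 = bb - 2 by omega] at h32
  have hnb := (hv.isWalk hS).nb (bb - 5) (by omega)
  rw [show bb - 5 + 2 = bb - 3 by omega] at hnb
  have hmfix : ∀ i, i + 4 ≤ bb → m ∈ 𝐆 (v i) := fun i hi => hshift i ▸ hv''.le_stab hS hi hm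
  have hmv := moves hS h54.symm h43 hnb.symm ⟨hmfix _ (by omega), hmfix _ (by omega)⟩ hmQ
  have h1 : ζ (v (bb - 2)) ∈ 𝐔 (m • v (bb - 3)) := by
    have := conj_mem_U hS m hρl (zv_mem_U h32)
    rwa [hms, mul_inv_cancel_right] at this
  rcases U_inter hS hρl h43 (smul_adj h43 (hmfix _ (by omega))) hmv.symm (zv_mem_U h32) h1 with h | h
  · exact zv_ne_one hS (adj_right h32 hρl) h
  · have := (hv.isWalk hS).nb (bb - 4) (by omega)
    rw [show bb - 4 + 2 = bb - 2 by omega] at this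
    exact this (zv_injective hS hρl h32 h43.symm h)

/-- The distance is not five. -/
theorem five_false (hS : Setting M₁ M₂ z) (hb : bb = 5) : False := by
  have hN := natural hS (by omega) (by omega)
  obtain ⟨v, hv⟩ := exists_crit hS
  have hW := hv.isWalk hS
  have hα := hv.left
  obtain ⟨u₀, hu₀, hu₀Q⟩ := SetLike.not_le_iff_exists.1 hv.out
  have h01 := hv.adj 0 (by omega)
  have h12 := hv.adj 1 (by omega)
  have h23 := hv.adj 2 (by omega)
  have h34 := hv.adj 3 (by omega)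
  have h45 := hv.adj 4 (by omega)
  have hr1 := walk_right hv.adj hα (i := 1) (by omega) rfl
  have hr3 := walk_right hv.adj hα (i := 3) (by omega) rfl
  have hr5 := walk_right hv.adj hα (i := 5) (by omega) rfl
  have hl2 := walk_left hv.adj hα (i := 2) (by omega) rfl
  have hl4 := walk_left hv.adj hα (i := 4) (by omega) rfl
  have hU2 : 𝐔 (v 2) ≤ 𝐐 (v 5) := le_Q_of_dist hl2 (by
    have := walk_dist hS hv.adj (show 2 ≤ 5 by omega) (by omega); omega)
  rw [hb] at hu₀Q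
  -- the near involutions act
  have hout : ∀ η e, (Γ).Adj (v 1) η → η ≠ v 2 → (Γ).Adj η e → e ≠ v 1 → ζ e ∉ 𝐐 (v 5) := by
    obtain ⟨e₀, he₀, rfl⟩ := (mem_U hS hα hu₀).resolve_left fun h => hu₀Q (h ▸ one_mem _)
    have hz1 : ζ (v 1) ∈ 𝐐 (v 5) := hU2 (zv_mem_U h12.symm)
    have he₀1 : v 1 ≠ e₀ := fun h => hu₀Q (h ▸ hz1)
    intro η e hη hη2 he he1 heQ
    by_cases hη0 : η = v 0
    · subst hη0
      rcases other_zv hS hα h01 he he₀ he1.symm he₀1 with h | h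
      · exact hu₀Q (h ▸ heQ)
      · exact hu₀Q (h ▸ mul_mem heQ hz1)
    · obtain ⟨g, hg, -, hp⟩ := prod_class hS (by omega) hN hr1 h01.symm hη h12 (Ne.symm hη0)
        (hW.nb 0 (by omega)).symm hη2 he₀ he₀1 he he1.symm
      exact hu₀Q (((𝐐 (v 5)).mul_mem_cancel_right heQ).1 (hp ▸ hU2 (zv_mem_U hg)))
  have hcomm : ∀ η e a f, (Γ).Adj (v 1) η → η ≠ v 2 → (Γ).Adj η e → e ≠ v 1 → (Γ).Adj (v 5) a →
      a ≠ v 4 → (Γ).Adj a f → f ≠ v 5 → ζ e * ζ f * ζ e * ζ f = ζ (v 3) := by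
    intro η e a f hη hη2 he he1 ha ha4 hf hf5
    have hQ := hout η e hη hη2 he he1
    have hηl := adj_left hη hr1
    have hv' : Crit M₁ M₂ z (fun i => if i = 0 then η else v i) := by
      refine ⟨fun i hi => ?_, by simpa using hηl, fun hle => hQ ?_⟩
      · rcases i with _ | i
        · simpa using hη.symm
        · simpa using hv.adj (i + 1) hi
      · have := hle (zv_mem_U he)
        simpa [hb] using this
    have hs := s_class hS (by omega) (by omega) hv' (u := ζ e) (by simpa using zv_mem_U he)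
      (by simpa [hb] using hQ) (a := a) (e := f) (by simpa [hb] using ha) (by simpa [hb] using ha4) hf
      (by simpa [hb] using hf5)
    simp only [hb, show (5 - 2 : ℕ) ≠ 0 by omega, if_false] at hs
    have e1 := inv_eq_of_mul_eq_one_right (zv_sq hS hr3)
    rw [show (5 - 2 : ℕ) = 3 by omega, zv_inv hS (adj_right he hηl)] at hs
    rw [← hs, mul_inv_rev, mul_inv_rev, mul_inv_rev, zv_inv hS (adj_right he hηl),
      zv_inv hS (adj_right hf (adj_left ha hr5))] at e1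
    rw [← hs, ← e1]
    simp only [mul_assoc]
  -- transitivity on walks of length four
  have hmov : ∀ k, 1 ≤ k → k < 4 → Mover M₁ M₂ k false := by
    intro k h1 h4
    rcases (show k = 1 ∨ k = 2 ∨ k = 3 by omega) with rfl | rfl | rfl
    · obtain ⟨g, hg, hgQ⟩ := exists_moving hS h12.symm
      refine ⟨fun i => v (1 + i), g, hW.sub 1 1 (by omega), hr1, fun i hi => ?_, hgQ⟩
      rcases (show i = 0 ∨ i = 1 by omega) with rfl | rfl
      exacts [MulAction.mem_stabilizer_iff.1 hg.2, MulAction.mem_stabilizer_iff.1 hg.1]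
    · have := hv.mover hS (m := 2) (by omega)
      rwa [show bb - 2 = 3 by omega, hr3] at this
    · obtain ⟨x, hx3, hx2, hx4⟩ := exists_fixing hS (by omega) hN hr3 h23.symm h34
        (hW.nb 2 (by omega)).symm
      refine ⟨fun i => v (1 + i), x, hW.sub 1 3 (by omega), hr1, fun i hi => ?_, hx4⟩
      rcases (show i = 0 ∨ i = 1 ∨ i = 2 ∨ i = 3 by omega) with rfl | rfl | rfl | rfl
      exacts [Q_fix hS h12.symm hx2, MulAction.mem_stabilizer_iff.1 (pCoreOf_le 2 _ hx2),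
        MulAction.mem_stabilizer_iff.1 (pCoreOf_le 2 _ hx3), Q_fix hS h34 hx3]
  have CC : ∀ p, IsWalk M₁ M₂ 4 p → (p 0).isLeft = false → ∀ η e a f, (Γ).Adj (p 0) η → η ≠ p 1 →
      (Γ).Adj η e → e ≠ p 0 → (Γ).Adj (p 4) a → a ≠ p 3 → (Γ).Adj a f → f ≠ p 4 →
        ζ e * ζ f * ζ e * ζ f = ζ (p 2) := by
    intro p hp hp0 η e a f hη hη1 he he0 ha ha3 hf hf4
    obtain ⟨g, hg⟩ := orbit hS 4 hmov hp (hW.sub 1 4 (by omega)) hp0 hr1
    have ne : ∀ {x y : Cfsg.CosetVertex M₁ M₂}, x ≠ y → g • x ≠ g • y :=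
      fun hxy h => hxy (smul_left_cancel g h)
    have hp2 : (p 2).isLeft = false := by rw [walk_type hp.adj (by omega)]; simpa using hp0
    have hp4 : (p 4).isLeft = false := by rw [walk_type hp.adj le_rfl]; simpa using hp0
    have h := hcomm (g • η) (g • e) (g • a) (g • f) (hg 0 (by omega) ▸ cg_adj_smul g hη)
      (hg 1 (by omega) ▸ ne hη1) (cg_adj_smul g he) (hg 0 (by omega) ▸ ne he0)
      (hg 4 (by omega) ▸ cg_adj_smul g ha) (hg 3 (by omega) ▸ ne ha3) (cg_adj_smul g hf)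
      (hg 4 (by omega) ▸ ne hf4)
    rw [show v 3 = g • p 2 from (hg 2 (by omega)).symm, zv_smul hS g hp2,
      zv_smul hS g (adj_right he (adj_left hη hp0)), zv_smul hS g (adj_right hf (adj_left ha hp4))] at h
    apply mul_left_cancel (a := g)
    apply mul_right_cancel (b := g⁻¹)
    rw [← h]
    group
  -- two acting involutions
  obtain ⟨e₀, he₀, rfl⟩ := (mem_U hS hα hu₀).resolve_left fun h => hu₀Q (h ▸ one_mem _)
  have he₀1 : e₀ ≠ v 1 := fun h => hu₀Q (h ▸ hU2 (zv_mem_U h12.symm))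
  obtain ⟨a, ha, ha4⟩ := exists_other hS h45.symm
  obtain ⟨e, he, he5⟩ := exists_other hS ha.symm
  have hq : IsWalk M₁ M₂ 4 (fun i => if i = 0 then e else if i = 1 then a else v (7 - i)) := by
    refine ⟨fun i hi => ?_, fun i hi => ?_⟩
    · rcases (show i = 0 ∨ i = 1 ∨ i = 2 ∨ i = 3 by omega) with rfl | rfl | rfl | rfl
      · simpa using he.symm
      · simpa using ha.symm
      · simpa using h45.symm
      · simpa using h34.symm
    · rcases (show i = 0 ∨ i = 1 ∨ i = 2 by omega) with rfl | rfl | rfl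
      · simpa using he5.symm
      · simpa using ha4.symm
      · simpa using (hW.nb 3 (by omega)).symm
  obtain ⟨g, hg⟩ := orbit hS 4 hmov (hW.sub 1 4 (by omega)) hq hr1 (adj_right he (adj_left ha hr5))
  have g1 : g • v 1 = e := by simpa using hg 0 (by omega)
  have g2 : g • v 2 = a := by simpa using hg 1 (by omega)
  have g4 : g • v 4 = v 4 := by simpa using hg 3 (by omega)
  have g5 : g • v 5 = v 3 := by simpa using hg 4 (by omega)
  have hre₀ : (g • e₀).isLeft = false := by rw [isLeft_smul]; exact adj_right he₀ hα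
  set u := ζ e₀ with hu_def
  set r := g * u * g⁻¹ with hr_def
  have hr : ζ (g • e₀) = r := zv_smul hS g (adj_right he₀ hα)
  have hr3' : r ∈ 𝐆 (v 3) := by
    rw [← g5, AmalgamVIter.stab_smul]
    exact ⟨u, hv.le_stab hS (by omega) hu₀, rfl⟩
  have hr4 : r ∈ 𝐐 (v 4) := g4 ▸ mem_Q_smul g (hv.le_Q hS (by omega) hu₀)
  have hrQ : r ∉ 𝐐 (v 3) := fun h => hu₀Q (by
    rw [← g5] at h
    have := mem_Q_smul g⁻¹ h
    rwa [hr_def, inv_smul_smul, show g⁻¹ * (g * u * g⁻¹) * g⁻¹⁻¹ = u by group] at this)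
  have hrv2 := moves hS h34 h23.symm (hW.nb 2 (by omega)) ⟨hr3', pCoreOf_le 2 _ hr4⟩ hrQ
  have hqA : IsWalk M₁ M₂ 4 (fun i => if i ≤ 2 then v (i + 1) else r • v (5 - i)) := by
    refine ⟨fun i hi => ?_, fun i hi => ?_⟩
    · rcases (show i = 0 ∨ i = 1 ∨ i = 2 ∨ i = 3 by omega) with rfl | rfl | rfl | rfl
      · simpa using h12
      · simpa using h23
      · simpa using smul_adj h23.symm hr3'
      · simpa using cg_adj_smul r h12.symm
    · rcases (show i = 0 ∨ i = 1 ∨ i = 2 by omega) with rfl | rfl | rfl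
      · simpa using hW.nb 1 (by omega)
      · simpa using hrv2
      · simpa using (Q_fix_smul hr3' (hW.nb 1 (by omega))).symm
  have A := CC _ hqA
    (by simpa using hr1) (v 0) e₀ (r • v 0) (r • e₀) (by simpa using h01.symm)
    (by simpa using (hW.nb 0 (by omega)).symm) he₀ (by simpa using he₀1)
    (by simpa using cg_adj_smul r h01.symm)
    (by simpa using (hW.nb 0 (by omega)).symm) (cg_adj_smul r he₀) (by simpa using he₀1)
  have hu5 : u ∈ 𝐆 (v 5) := hv.le_stab hS (by omega) hu₀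
  have huE : u ∈ 𝐄 (v 5) (v 4) := ⟨hu5, hv.le_stab hS (by omega) hu₀⟩
  have hua := moves hS h45.symm ha ha4.symm huE hu₀Q
  have hgne : g • e₀ ≠ e := fun h => he₀1 (smul_left_cancel g (h.trans g1.symm))
  have hg0 : g • v 0 ≠ a := fun h => (hW.nb 0 (by omega)) (smul_left_cancel g (h.trans g2.symm)).symm
  have hqB : IsWalk M₁ M₂ 4 (fun i => if i = 0 then e else if i = 1 then a else if i = 2 then v 5 else
      if i = 3 then u • a else u • e) := by
    refine ⟨fun i hi => ?_, fun i hi => ?_⟩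
    · rcases (show i = 0 ∨ i = 1 ∨ i = 2 ∨ i = 3 by omega) with rfl | rfl | rfl | rfl
      · simpa using he.symm
      · simpa using ha.symm
      · simpa using smul_adj ha hu5
      · simpa using cg_adj_smul u he
    · rcases (show i = 0 ∨ i = 1 ∨ i = 2 by omega) with rfl | rfl | rfl
      · simpa using he5.symm
      · simpa using hua
      · simpa using (Q_fix_smul hu5 he5.symm).symm
  have B := CC _ hqB
    (by simpa using adj_right he (adj_left ha hr5)) (g • v 0) (g • e₀) (u • g • v 0) (u • g • e₀)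
    (by simpa using g1 ▸ cg_adj_smul g h01.symm) (by simpa using hg0) (cg_adj_smul g he₀)
    (by simpa using hgne) (by simpa using cg_adj_smul u (g1 ▸ cg_adj_smul g h01.symm))
    (by simpa using hg0) (cg_adj_smul u (cg_adj_smul g he₀)) (by simpa using hgne)
  norm_num at A B
  rw [zv_smul hS r (adj_right he₀ hα), ← hu_def] at A
  rw [zv_smul hS u hre₀, hr] at B
  have hu2 : u * u = 1 := zv_sq hS (adj_right he₀ hα)
  have hr2 : r * r = 1 := by rw [← hr]; exact zv_sq hS hre₀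
  rw [inv_eq_of_mul_eq_one_right hr2] at A
  rw [inv_eq_of_mul_eq_one_right hu2] at B
  refine hW.nb 3 (by omega) (zv_injective hS hl4 h45 h34.symm ?_)
  calc ζ (v 5) = r * (u * (r * u * r) * u * (r * u * r)) * r := by
        rw [← B]
        simp only [mul_assoc, hr2, mul_one]
    _ = ζ (v 3) := by rw [A, zv_central hS hr3 hr3', mul_assoc, hr2, mul_one]

end Cfsg.Agent.CharP.CubicAmalgam
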