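import Cfsg.Agent.Lib.CharP.GoldschmidtCubicBasic

/-!
Amalgams of two groups with quotients of degree three: the groups `V c`, their intersections, walks, and
the backward shift of a critical path.
-/

set_option autoImplicit false
set_option linter.unusedSectionVars false

namespace Cfsg.Agent.CharP.CubicAmalgam

open Subgroup

variable {X : Type*} [Group X] {M₁ M₂ : Subgroup X} {z : X}

local notation "Γ" => Cfsg.cosetGraph M₁ M₂
local notation "𝐆" => MulAction.stabilizer X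
local notation "𝐄" => Cfsg.edgeStabilizer
local notation "𝐐" => Cfsg.vertexQ 2
local notation "ζ" => zv M₁ M₂ z
local notation "𝐔" => U M₁ M₂ z
local notation "bb" => bd M₁ M₂ z

/-- The join of the four-groups at the neighbours. -/
noncomputable def V (M₁ M₂ : Subgroup X) (z : X) (c : Cfsg.CosetVertex M₁ M₂) : Subgroup X :=
  ⨆ δ : ↥((Cfsg.cosetGraph M₁ M₂).neighborSet c), U M₁ M₂ z (δ : Cfsg.CosetVertex M₁ M₂)

local notation "𝐕" => V M₁ M₂ z

theorem V_le {c : Cfsg.CosetVertex M₁ M₂} {H : Subgroup X} (h : ∀ δ, (Γ).Adj c δ → 𝐔 δ ≤ H) :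
    𝐕 c ≤ H := iSup_le fun δ => h δ δ.2

theorem U_le_V {c δ : Cfsg.CosetVertex M₁ M₂} (h : (Γ).Adj c δ) : 𝐔 δ ≤ 𝐕 c :=
  le_iSup (fun δ : ↥((Γ).neighborSet c) => 𝐔 (δ : Cfsg.CosetVertex M₁ M₂)) ⟨δ, h⟩

theorem V_smul_le (hS : Setting M₁ M₂ z) (g : X) {c : Cfsg.CosetVertex M₁ M₂} (hc : c.isLeft = false) :
    (𝐕 c).map (MulAut.conj g).toMonoidHom ≤ 𝐕 (g • c) := by
  rw [map_le_iff_le_comap]
  refine V_le fun δ hδ => ?_
  rw [← map_le_iff_le_comap, U_smul hS g (adj_left hδ hc)]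
  exact U_le_V (cg_adj_smul g hδ)

theorem conj_mem_V (hS : Setting M₁ M₂ z) (g : X) {c : Cfsg.CosetVertex M₁ M₂} (hc : c.isLeft = false)
    {x : X} (hx : x ∈ 𝐕 c) : g * x * g⁻¹ ∈ 𝐕 (g • c) :=
  V_smul_le hS g hc ⟨x, hx, rfl⟩

theorem V_smul (hS : Setting M₁ M₂ z) (g : X) {c : Cfsg.CosetVertex M₁ M₂} (hc : c.isLeft = false) :
    (𝐕 c).map (MulAut.conj g).toMonoidHom = 𝐕 (g • c) := by
  refine le_antisymm (V_smul_le hS g hc) ?_
  have := map_mono (f := (MulAut.conj g).toMonoidHom) (V_smul_le hS g⁻¹ (c := g • c) (by rw [isLeft_smul, hc]))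
  rwa [inv_smul_smul, conj_map_map, mul_inv_cancel, conj_map_one] at this

theorem normV (hS : Setting M₁ M₂ z) {c : Cfsg.CosetVertex M₁ M₂} (hc : c.isLeft = false) :
    𝐆 c ≤ normalizer (𝐕 c : Set X) := fun g hg => mem_normalizer_of_conj_map
  (by rw [V_smul hS g hc, MulAction.mem_stabilizer_iff.1 hg])

theorem dist_adj {δ c : Cfsg.CosetVertex M₁ M₂} (h : (Γ).Adj δ c) : (Γ).dist δ c = 1 :=
  SimpleGraph.dist_eq_one_iff_adj.2 h

theorem dist_nbr (hS : Setting M₁ M₂ z) {δ c x : Cfsg.CosetVertex M₁ M₂} (h : (Γ).Adj δ c) :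
    (Γ).dist δ x ≤ (Γ).dist c x + 1 := by
  have := (connected hS).dist_triangle (u := δ) (v := c) (w := x)
  rw [dist_adj h] at this
  omega

theorem V_le_Q (hS : Setting M₁ M₂ z) {c x : Cfsg.CosetVertex M₁ M₂} (hc : c.isLeft = false)
    (h : (Γ).dist c x + 1 < bb) : 𝐕 c ≤ 𝐐 x :=
  V_le fun δ hδ => le_Q_of_dist (adj_left hδ hc) (lt_of_le_of_lt (dist_nbr hS hδ.symm) h)

theorem V_le_stab (hS : Setting M₁ M₂ z) {c x : Cfsg.CosetVertex M₁ M₂} (hc : c.isLeft = false)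
    (h : (Γ).dist c x + 1 ≤ bb) : 𝐕 c ≤ 𝐆 x :=
  V_le fun δ hδ => le_stab_of_dist hS (adj_left hδ hc) ((dist_nbr hS hδ.symm).trans h)

theorem V_le_Q_nbr (hS : Setting M₁ M₂ z) (hb : 3 ≤ bb) {c δ : Cfsg.CosetVertex M₁ M₂}
    (hc : c.isLeft = false) (h : (Γ).Adj c δ) : 𝐕 c ≤ 𝐐 δ :=
  V_le_Q hS hc (by rw [dist_adj h]; omega)

theorem V_comm (hS : Setting M₁ M₂ z) (hb : 3 ≤ bb) {c : Cfsg.CosetVertex M₁ M₂} (hc : c.isLeft = false)
    {x y : X} (hx : x ∈ 𝐕 c) (hy : y ∈ 𝐕 c) : x * y = y * x := by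
  have h : 𝐕 c ≤ centralizer (𝐕 c : Set X) := by
    refine V_le fun δ hδ => le_centralizer_iff.1 ?_
    refine V_le fun η hη => fun u hu => mem_centralizer_iff.2 fun w hw => ?_
    refine commute_of_dist hS (adj_left hδ hc) (adj_left hη hc) ?_ hw hu
    have := dist_nbr hS (x := η) hδ.symm
    rw [dist_adj hη] at this
    omega
  exact mem_centralizer_iff.1 (h hy) x hx

theorem V_sq (hS : Setting M₁ M₂ z) (hb : 3 ≤ bb) {c : Cfsg.CosetVertex M₁ M₂} (hc : c.isLeft = false)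
    {x : X} (hx : x ∈ 𝐕 c) : x * x = 1 := by
  suffices h : x ∈ 𝐕 c ∧ x * x = 1 from h.2
  have hx' := hx
  rw [V, iSup_eq_closure] at hx'
  clear hx
  induction hx' using closure_induction with
  | mem y hy =>
    obtain ⟨δ, hδ⟩ := Set.mem_iUnion.1 hy
    exact ⟨U_le_V δ.2 hδ, U_sq hS (adj_left δ.2 hc) hδ⟩
  | one => exact ⟨one_mem _, one_mul 1⟩
  | mul a b _ _ iha ihb =>
    refine ⟨mul_mem iha.1 ihb.1, ?_⟩
    rw [mul_assoc, ← mul_assoc b, V_comm hS hb hc ihb.1 iha.1, mul_assoc a, ihb.2, mul_one, iha.2]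
  | inv a _ iha => exact ⟨inv_mem iha.1, by rw [← mul_inv_rev, iha.2, inv_one]⟩

/-- Two involutions at one vertex away from a fixed neighbour differ at most by its involution. -/
theorem other_zv (hS : Setting M₁ M₂ z) {δ c e f : Cfsg.CosetVertex M₁ M₂} (hδ : δ.isLeft = true)
    (hc : (Γ).Adj δ c) (he : (Γ).Adj δ e) (hf : (Γ).Adj δ f) (hce : c ≠ e) (hcf : c ≠ f) :
    ζ f = ζ e ∨ ζ f = ζ e * ζ c := by
  by_cases h : e = f
  · exact Or.inl (h ▸ rfl)
  · exact Or.inr (zv_prod hS hδ he hc hf hce.symm h hcf).symm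

/-- The normal form of `V c` relative to one neighbour and one involution at each of the others. -/
theorem mem_V (hS : Setting M₁ M₂ z) (hb : 3 ≤ bb) {c δ η θ e f : Cfsg.CosetVertex M₁ M₂}
    (hc : c.isLeft = false) (hδ : (Γ).Adj c δ) (hη : (Γ).Adj c η) (hθ : (Γ).Adj c θ) (h1 : δ ≠ η)
    (h2 : δ ≠ θ) (h3 : η ≠ θ) (he : (Γ).Adj η e) (hec : c ≠ e) (hf : (Γ).Adj θ f) (hfc : c ≠ f)
    {x : X} (hx : x ∈ 𝐕 c) :
    x ∈ 𝐔 δ ∨ x * ζ e ∈ 𝐔 δ ∨ x * ζ f ∈ 𝐔 δ ∨ x * (ζ e * ζ f) ∈ 𝐔 δ := by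
  have hea : ζ e ∈ 𝐕 c := U_le_V hη (zv_mem_U he)
  have hfa : ζ f ∈ 𝐕 c := U_le_V hθ (zv_mem_U hf)
  suffices h : x ∈ 𝐕 c ∧ ∃ s ∈ 𝐔 δ, ∃ i j : ℕ, x = s * ζ e ^ i * ζ f ^ j by
    obtain ⟨-, s, hs, i, j, rfl⟩ := h
    have hpow : ∀ y ∈ 𝐕 c, ∀ n : ℕ, y ^ n = 1 ∨ y ^ n = y := by
      intro y hy n
      induction n with
      | zero => exact Or.inl (pow_zero y)
      | succ n ih =>
        rcases ih with h | h
        · exact Or.inr (by rw [pow_succ, h, one_mul])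
        · exact Or.inl (by rw [pow_succ, h, V_sq hS hb hc hy])
    have e2 := V_sq hS hb hc hea
    have f2 := V_sq hS hb hc hfa
    rcases hpow _ hea i with hi | hi <;> rcases hpow _ hfa j with hj | hj <;> rw [hi, hj]
    · exact Or.inl (by rwa [mul_one, mul_one])
    · exact Or.inr (Or.inr (Or.inl (by rwa [mul_one, mul_assoc, f2, mul_one])))
    · exact Or.inr (Or.inl (by rwa [mul_one, mul_assoc, e2, mul_one]))
    · refine Or.inr (Or.inr (Or.inr ?_))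
      rwa [mul_assoc s, mul_assoc, (show Commute (ζ e) (ζ f) from
        V_comm hS hb hc hea hfa).symm.mul_mul_mul_comm, e2, f2, one_mul, mul_one]
  have hx' := hx
  rw [V, iSup_eq_closure] at hx'
  clear hx
  induction hx' using closure_induction with
  | mem y hy =>
    obtain ⟨ν, hν⟩ := Set.mem_iUnion.1 hy
    refine ⟨U_le_V ν.2 hν, ?_⟩
    have hcν : (Γ).Adj c (ν : Cfsg.CosetVertex M₁ M₂) := ν.2
    have main : ∀ {ν e : Cfsg.CosetVertex M₁ M₂}, (Γ).Adj c ν → (Γ).Adj ν e → c ≠ e → y ∈ 𝐔 ν →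
        y = 1 ∨ y = ζ c ∨ y = ζ e ∨ y = ζ c * ζ e := by
      intro ν e hadj he hce hy
      rcases mem_U hS (adj_left hadj hc) hy with h | ⟨d, hd, rfl⟩
      · exact Or.inl h
      by_cases hdc : d = c
      · exact Or.inr (Or.inl (hdc ▸ rfl))
      rcases other_zv hS (adj_left hadj hc) hadj.symm he hd hce (Ne.symm hdc) with h | h
      · exact Or.inr (Or.inr (Or.inl h))
      · refine Or.inr (Or.inr (Or.inr ?_))
        rw [h, zv_central hS hc (U_le_Q_adj hS (adj_left hadj hc) hadj.symm (zv_mem_U he))]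
    have hcU : ζ c ∈ 𝐔 δ := zv_mem_U hδ.symm
    rcases three_cases hS hδ hη hθ h1 h2 h3 hcν with h | h | h <;> rw [h] at hν
    · exact ⟨y, hν, 0, 0, by simp⟩
    · rcases main hη he hec hν with h' | h' | h' | h'
      · exact ⟨1, one_mem _, 0, 0, by simp [h']⟩
      · exact ⟨ζ c, hcU, 0, 0, by simp [h']⟩
      · exact ⟨1, one_mem _, 1, 0, by simp [h']⟩
      · exact ⟨ζ c, hcU, 1, 0, by simp [h']⟩
    · rcases main hθ hf hfc hν with h' | h' | h' | h'
      · exact ⟨1, one_mem _, 0, 0, by simp [h']⟩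
      · exact ⟨ζ c, hcU, 0, 0, by simp [h']⟩
      · exact ⟨1, one_mem _, 0, 1, by simp [h']⟩
      · exact ⟨ζ c, hcU, 0, 1, by simp [h']⟩
  | one => exact ⟨one_mem _, 1, one_mem _, 0, 0, by simp⟩
  | mul a b _ _ iha ihb =>
    refine ⟨mul_mem iha.1 ihb.1, ?_⟩
    obtain ⟨s, hs, i, j, rfl⟩ := iha.2
    obtain ⟨t, ht, k, l, rfl⟩ := ihb.2
    refine ⟨s * t, mul_mem hs ht, i + k, j + l, ?_⟩
    have c1 : Commute (ζ e ^ i * ζ f ^ j) t :=
      V_comm hS hb hc (mul_mem (pow_mem hea _) (pow_mem hfa _)) (U_le_V hδ ht)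
    have c2 : Commute (ζ f ^ j) (ζ e ^ k) := V_comm hS hb hc (pow_mem hfa _) (pow_mem hea _)
    calc s * ζ e ^ i * ζ f ^ j * (t * ζ e ^ k * ζ f ^ l)
        = s * ((ζ e ^ i * ζ f ^ j) * t) * ζ e ^ k * ζ f ^ l := by group
      _ = s * t * ζ e ^ i * (ζ f ^ j * ζ e ^ k) * ζ f ^ l := by rw [c1.eq]; group
      _ = s * t * ζ e ^ i * (ζ e ^ k * ζ f ^ j) * ζ f ^ l := by rw [c2.eq]
      _ = s * t * ζ e ^ (i + k) * ζ f ^ (j + l) := by rw [pow_add, pow_add]; group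
  | inv a _ iha =>
    rw [inv_eq_of_mul_eq_one_right (V_sq hS hb hc iha.1)]
    exact iha

theorem normU (hS : Setting M₁ M₂ z) {δ : Cfsg.CosetVertex M₁ M₂} (hδ : δ.isLeft = true) :
    𝐆 δ ≤ normalizer (𝐔 δ : Set X) := fun g hg => mem_normalizer_of_conj_map
  (by rw [U_smul hS g hδ, MulAction.mem_stabilizer_iff.1 hg])

theorem finite_V (hS : Setting M₁ M₂ z) (hb : 3 ≤ bb) {c : Cfsg.CosetVertex M₁ M₂} (hc : c.isLeft = false) :
    Finite ↥(𝐕 c) := by
  obtain ⟨δ, hδ⟩ := cg_exists_neighbour c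
  haveI := finite_Q hS δ
  exact Finite.of_injective _ (inclusion_injective (V_le_Q_nbr hS hb hc hδ))

/-- The groups at two neighbours of a vertex of the first type are different. -/
theorem V_ne (hS : Setting M₁ M₂ z) (hb : 3 ≤ bb) {δ c c' : Cfsg.CosetVertex M₁ M₂}
    (hδ : δ.isLeft = true) (hc : (Γ).Adj δ c) (hc' : (Γ).Adj δ c') (hne : c ≠ c') : ¬ 𝐕 c ≤ 𝐕 c' := by
  intro hle
  have hcr := adj_right hc hδ
  obtain ⟨g, hg, hgc⟩ := cg_transitive hc hc'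
  have := finite_V hS hb (adj_right hc' hδ)
  have heq : 𝐕 c = 𝐕 c' := eq_of_le_of_card_ge hle (by
    rw [← hgc, ← V_smul hS g hcr, card_map_of_injective (MulAut.conj g).injective])
  obtain ⟨t, ht, htQ⟩ := exists_moving hS hc'
  have hE : 𝐄 δ c ≤ normalizer (𝐕 c : Set X) := fun e he => normV hS hcr he.2
  have hG : 𝐆 δ ≤ normalizer (𝐕 c : Set X) := edge_max hS hc hE (g := t)
    (heq ▸ normV hS (adj_right hc' hδ) ht.2) ht.1 (moves hS hc' hc hne.symm ht htQ)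
  have hbot := eq_bot_of_normalized hS hc ((V_le_Q_nbr hS hb hcr hc.symm).trans (Q_le_edge hS hc)) hG
    (normV hS hcr)
  exact zv_ne_one hS hcr (mem_bot.1 (hbot ▸ U_le_V hc.symm (zv_mem_U hc)))

/-- An involution at a further vertex is not in the group of another neighbour. -/
theorem not_single (hS : Setting M₁ M₂ z) (hb : 3 ≤ bb) {δ c c' η e : Cfsg.CosetVertex M₁ M₂}
    (hδ : δ.isLeft = true) (hc : (Γ).Adj δ c) (hc' : (Γ).Adj δ c') (hne : c ≠ c') (hη : (Γ).Adj c η)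
    (hηδ : δ ≠ η) (he : (Γ).Adj η e) (hce : c ≠ e) : ζ e ∉ 𝐕 c' := fun hmem => by
  have hcr := adj_right hc hδ
  have hηl := adj_left hη hcr
  refine V_ne hS hb hδ hc hc' hne (V_le fun ν hν => ?_)
  have hUη : 𝐔 η ≤ 𝐕 c' := (closure_le _).2 (by
    rintro _ ⟨d, hd, rfl⟩
    by_cases hdc : d = c
    · exact hdc ▸ U_le_V hc'.symm (zv_mem_U hc)
    rcases other_zv hS hηl hη.symm he hd hce (Ne.symm hdc) with h | h <;> rw [h]
    · exact hmem
    · exact mul_mem hmem (U_le_V hc'.symm (zv_mem_U hc)))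
  obtain ⟨r, hr, hrc⟩ := SetLike.not_le_iff_exists.1 (Q_ne hS hc)
  have hrE : r ∈ 𝐄 c δ := edge_comm δ c ▸ Q_le_edge hS hc hr
  have hrη : r • η ≠ δ := fun h => hηδ (smul_left_cancel r
    (h.trans (MulAction.mem_stabilizer_iff.1 hrE.2).symm)).symm
  rcases three_cases hS hc.symm hη (smul_adj hη hrE.1) hηδ hrη.symm
    (moves hS hc.symm hη hηδ hrE hrc).symm hν with rfl | rfl | rfl
  · exact U_le_V hc'.symm
  · exact hUη
  · rw [← U_smul hS r hηl]
    refine (map_mono hUη).trans (le_of_eq ?_)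
    rw [V_smul hS r (adj_right hc' hδ), Q_fix hS hc' hr]

theorem form (hS : Setting M₁ M₂ z) (hb : 3 ≤ bb) {δ c c' η θ e f : Cfsg.CosetVertex M₁ M₂}
    (hδ : δ.isLeft = true) (hc : (Γ).Adj δ c) (hc' : (Γ).Adj δ c') (hne : c ≠ c') (hη : (Γ).Adj c η)
    (hθ : (Γ).Adj c θ) (h1 : δ ≠ η) (h2 : δ ≠ θ) (h3 : η ≠ θ) (he : (Γ).Adj η e) (hec : c ≠ e)
    (hf : (Γ).Adj θ f) (hfc : c ≠ f) {x : X} (hx : x ∈ 𝐕 c ⊓ 𝐕 c') (hxU : x ∉ 𝐔 δ) :
    x * (ζ e * ζ f) ∈ 𝐔 δ := by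
  rcases mem_V hS hb (adj_right hc hδ) hc.symm hη hθ h1 h2 h3 he hec hf hfc hx.1 with h | h | h | h
  · exact absurd h hxU
  · exact absurd (by
      have := (𝐕 c').mul_mem ((𝐕 c').inv_mem hx.2) (U_le_V hc'.symm h); rwa [inv_mul_cancel_left] at this)
      (not_single hS hb hδ hc hc' hne hη h1 he hec)
  · exact absurd (by
      have := (𝐕 c').mul_mem ((𝐕 c').inv_mem hx.2) (U_le_V hc'.symm h); rwa [inv_mul_cancel_left] at this)
      (not_single hS hb hδ hc hc' hne hθ h2 hf hfc)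
  · exact h

theorem same_coset (hS : Setting M₁ M₂ z) (hb : 3 ≤ bb) {δ c c' c'' : Cfsg.CosetVertex M₁ M₂}
    (hδ : δ.isLeft = true) (hc : (Γ).Adj δ c) (hc' : (Γ).Adj δ c') (hne : c ≠ c')
    (hc'' : (Γ).Adj δ c'') (hne' : c ≠ c'') {x y : X} (hx : x ∈ 𝐕 c ⊓ 𝐕 c') (hxU : x ∉ 𝐔 δ)
    (hy : y ∈ 𝐕 c ⊓ 𝐕 c'') (hyU : y ∉ 𝐔 δ) : x * y ∈ 𝐔 δ := by
  have hcr := adj_right hc hδ
  obtain ⟨η, θ, hη, hθ, h1, h2, h3⟩ := exists_pair hS hc.symm
  obtain ⟨e, he, hec⟩ := exists_other hS hη.symm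
  obtain ⟨f, hf, hfc⟩ := exists_other hS hθ.symm
  have hp : ζ e * ζ f ∈ 𝐕 c := mul_mem (U_le_V hη (zv_mem_U he)) (U_le_V hθ (zv_mem_U hf))
  have h4 := mul_mem (form hS hb hδ hc hc' hne hη hθ h1 h2 h3 he hec.symm hf hfc.symm hx hxU)
    (form hS hb hδ hc hc'' hne' hη hθ h1 h2 h3 he hec.symm hf hfc.symm hy hyU)
  rwa [(show Commute (ζ e * ζ f) y from V_comm hS hb hcr hp hy.1).mul_mul_mul_comm,
    V_sq hS hb hcr hp, mul_one] at h4

theorem conj_cases (hS : Setting M₁ M₂ z) (hb : 3 ≤ bb) {δ c c' : Cfsg.CosetVertex M₁ M₂}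
    (hδ : δ.isLeft = true) (hc : (Γ).Adj δ c) (hc' : (Γ).Adj δ c') (hne : c ≠ c') {x q : X}
    (hx : x ∈ 𝐕 c ⊓ 𝐕 c') (hxU : x ∉ 𝐔 δ) (hq : q ∈ 𝐐 δ) :
    q * x * q⁻¹ = x ∨ q * x * q⁻¹ = x * ζ c := by
  have hcr := adj_right hc hδ
  obtain ⟨η, θ, hη, hθ, h1, h2, h3⟩ := exists_pair hS hc.symm
  obtain ⟨e, he, hec⟩ := exists_other hS hη.symm
  obtain ⟨f, hf, hfc⟩ := exists_other hS hθ.symm
  have hηl := adj_left hη hcr
  have hθl := adj_left hθ hcr
  have hze : ζ e ∈ 𝐕 c := U_le_V hη (zv_mem_U he)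
  have hzf : ζ f ∈ 𝐕 c := U_le_V hθ (zv_mem_U hf)
  have hs := form hS hb hδ hc hc' hne hη hθ h1 h2 h3 he hec.symm hf hfc.symm hx hxU
  set s := x * (ζ e * ζ f) with hsdef
  have hxs : x = s * (ζ e * ζ f) := by
    rw [hsdef, mul_assoc x, V_sq hS hb hcr (mul_mem hze hzf), mul_one]
  have hqc : q ∈ 𝐆 c := (Q_le_edge hS hc hq).2
  have hfix : ∀ {e}, e ≠ c → q • e ≠ c := fun he h =>
    he (smul_left_cancel q (h.trans (MulAction.mem_stabilizer_iff.1 hqc).symm))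
  have hqδ : q • δ = δ := MulAction.mem_stabilizer_iff.1 (pCoreOf_le 2 _ hq)
  have hne1 : q • η ≠ δ := fun h => h1 (smul_left_cancel q (h.trans hqδ.symm)).symm
  have hne2 : q • θ ≠ δ := fun h => h2 (smul_left_cancel q (h.trans hqδ.symm)).symm
  have key : ∀ {x y a b : X}, a ∈ 𝐕 c → b ∈ 𝐕 c → (x = a ∨ x = a * ζ c) → (y = b ∨ y = b * ζ c) →
      x * y = a * b ∨ x * y = a * b * ζ c := by
    intro x y a b ha hb' hx hy
    have cz : b * ζ c = ζ c * b := V_comm hS hb hcr hb' (U_le_V hc.symm (zv_mem_U hc))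
    rcases hx with rfl | rfl <;> rcases hy with rfl | rfl
    · exact Or.inl rfl
    · exact Or.inr (mul_assoc _ _ _).symm
    · exact Or.inr (by rw [mul_assoc, ← cz, mul_assoc])
    · exact Or.inl (by rw [show a * ζ c * (b * ζ c) = a * (ζ c * b) * ζ c by group, ← cz,
        show a * (b * ζ c) * ζ c = a * b * (ζ c * ζ c) by group, zv_sq hS hcr, mul_one])
  have hprod : ζ (q • e) * ζ (q • f) = ζ e * ζ f ∨ ζ (q • e) * ζ (q • f) = ζ e * ζ f * ζ c := by
    rcases three_cases hS hc.symm hη hθ h1 h2 h3 (smul_adj hη hqc) with h | h | h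
    · exact absurd h hne1
    · rcases three_cases hS hc.symm hη hθ h1 h2 h3 (smul_adj hθ hqc) with h' | h' | h'
      · exact absurd h' hne2
      · exact absurd (smul_left_cancel q (h.trans h'.symm)) h3
      · exact key hze hzf (other_zv hS hηl hη.symm he (h ▸ cg_adj_smul q he) hec.symm (hfix hec).symm)
          (other_zv hS hθl hθ.symm hf (h' ▸ cg_adj_smul q hf) hfc.symm (hfix hfc).symm)
    · rcases three_cases hS hc.symm hη hθ h1 h2 h3 (smul_adj hθ hqc) with h' | h' | h'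
      · exact absurd h' hne2
      · rw [V_comm hS hb hcr hze hzf]
        exact key hzf hze (other_zv hS hθl hθ.symm hf (h ▸ cg_adj_smul q he) hfc.symm (hfix hec).symm)
          (other_zv hS hηl hη.symm he (h' ▸ cg_adj_smul q hf) hec.symm (hfix hfc).symm)
      · exact absurd (smul_left_cancel q (h.trans h'.symm)) h3
  have hconj : q * x * q⁻¹ = s * (ζ (q • e) * ζ (q • f)) := by
    rw [zv_smul hS q (adj_right he hηl), zv_smul hS q (adj_right hf hθl), hxs]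
    calc q * (s * (ζ e * ζ f)) * q⁻¹ = (q * s) * (ζ e * ζ f) * q⁻¹ := by group
      _ = s * (q * ζ e * q⁻¹ * (q * ζ f * q⁻¹)) := by rw [Q_commute hS hδ hq hs]; group
  rcases hprod with h | h <;> rw [hconj, h]
  · exact Or.inl hxs.symm
  · exact Or.inr (by rw [← mul_assoc s, ← hxs])

/-- The groups at two neighbours of a vertex of the first type meet in its four-group. -/
theorem V_inter (hS : Setting M₁ M₂ z) (hb : 3 ≤ bb) {δ c c' : Cfsg.CosetVertex M₁ M₂}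
    (hδ : δ.isLeft = true) (hc : (Γ).Adj δ c) (hc' : (Γ).Adj δ c') (hne : c ≠ c') :
    𝐕 c ⊓ 𝐕 c' ≤ 𝐔 δ := by
  intro x hx
  by_contra hxU
  have hcr := adj_right hc hδ
  have hcr' := adj_right hc' hδ
  have hQx : ∀ w ∈ 𝐕 c ⊓ 𝐕 c', w ∉ 𝐔 δ → ∀ q ∈ 𝐐 δ, q * w = w * q := by
    intro w hw hwU q hq
    rcases conj_cases hS hb hδ hc hc' hne hw hwU hq with h | h
    · exact mul_inv_eq_iff_eq_mul.1 h
    rcases conj_cases hS hb hδ hc' hc hne.symm ⟨hw.2, hw.1⟩ hwU hq with h' | h'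
    · exact mul_inv_eq_iff_eq_mul.1 h'
    exact absurd (zv_injective hS hδ hc hc' (mul_left_cancel (h.symm.trans h'))) hne
  obtain ⟨t, ht, htQ⟩ := exists_moving hS hc
  obtain ⟨t', ht', htQ'⟩ := exists_moving hS hc'
  set d := t • c' with hd_def
  have hd : (Γ).Adj δ d := smul_adj hc' ht.1
  have hd1 : c ≠ d := fun h => hne (smul_left_cancel t ((MulAction.mem_stabilizer_iff.1 ht.2).trans h))
  have hd2 : c' ≠ d := (moves hS hc hc' hne ht htQ).symm
  have hU' : ∀ {g w : X}, g ∈ 𝐆 δ → w ∉ 𝐔 δ → g * w * g⁻¹ ∉ 𝐔 δ := fun {g w} hg hw h =>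
    hw ((mem_normalizer_iff.1 (normU hS hδ hg) w).2 h)
  have htx : t * x * t⁻¹ ∈ 𝐕 c ⊓ 𝐕 d := ⟨by
    have := conj_mem_V hS t hcr hx.1
    rwa [MulAction.mem_stabilizer_iff.1 ht.2] at this, conj_mem_V hS t hcr' hx.2⟩
  have hxd : x ∈ 𝐕 d := by
    have := mul_mem (U_le_V hd.symm (same_coset hS hb hδ hc hc' hne hd hd1 hx hxU htx (hU' ht.1 hxU)))
      (inv_mem htx.2)
    rwa [mul_inv_cancel_right] at this
  have hall : ∀ a, (Γ).Adj δ a → x ∈ 𝐕 a := fun a ha => by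
    rcases three_cases hS hc hc' hd hne hd1 hd2 ha with rfl | rfl | rfl
    · exact hx.1
    · exact hx.2
    · exact hxd
  -- every conjugate lies in the coset of `x`
  have hcoset : ∀ w : X, (∀ a, (Γ).Adj δ a → w ∈ 𝐕 a) → w ∉ 𝐔 δ → ∀ g ∈ 𝐆 δ,
      w * (g * w * g⁻¹) ∈ 𝐔 δ := by
    intro w hw hwU g hg
    have hgc := smul_adj hc hg
    have hgc' := smul_adj hc' hg
    have hgne : g • c ≠ g • c' := fun h => hne (smul_left_cancel g h)
    exact same_coset hS hb hδ hgc hgc' hgne hgc' hgne ⟨hw _ hgc, hw _ hgc'⟩ hwU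
      ⟨conj_mem_V hS g hcr (hw c hc), conj_mem_V hS g hcr' (hw c' hc')⟩ (hU' hg hwU)
  set p := t' * t with hp
  have hpδ : p ∈ 𝐆 δ := mul_mem ht'.1 ht.1
  have tc : t • c = c := MulAction.mem_stabilizer_iff.1 ht.2
  have tc' : t' • c' = c' := MulAction.mem_stabilizer_iff.1 ht'.2
  have p1 : p • c = d := by
    rw [hp, mul_smul, tc, swap_eq hS hc' hc hd hne.symm hd2 hd1 ht' htQ']
  have p2 : p • c' = c := by
    rw [hp, mul_smul, ← hd_def, swap_eq hS hc' hd hc hd2 hne.symm hd1.symm ht' htQ']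
  have p3 : p • d = c' := by
    rw [hp, mul_smul, swap_eq hS hc hd hc' hd1 hne hd2.symm ht htQ, tc']
  have hpfix : ∀ a, (Γ).Adj δ a → p • a ≠ a := fun a ha => by
    rcases three_cases hS hc hc' hd hne hd1 hd2 ha with rfl | rfl | rfl
    · rw [p1]; exact hd1.symm
    · rw [p2]; exact hne
    · rw [p3]; exact hd2
  have hsum : ∀ s ∈ 𝐔 δ, s * (p * (p * s * p⁻¹) * p⁻¹) = p * s * p⁻¹ := by
    intro s hs
    rcases mem_U hS hδ hs with rfl | ⟨a, ha, rfl⟩
    · group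
    have hpa := smul_adj ha hpδ
    rw [← zv_smul hS p (adj_right ha hδ), ← zv_smul hS p (adj_right hpa hδ)]
    refine zv_prod hS hδ ha (smul_adj hpa hpδ) hpa ?_ (hpfix a ha).symm (hpfix _ hpa)
    rcases three_cases hS hc hc' hd hne hd1 hd2 ha with rfl | rfl | rfl
    · rw [p1, p3]; exact hne
    · rw [p2, p1]; exact hd2
    · rw [p3, p2]; exact hd1.symm
  set s₁ := x * (p * x * p⁻¹)
  have hs₁ : s₁ ∈ 𝐔 δ := hcoset x hall hxU p hpδ
  set x₀ := x * (p * s₁ * p⁻¹) with hx₀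
  have hps : p * s₁ * p⁻¹ ∈ 𝐔 δ := (mem_normalizer_iff.1 (normU hS hδ hpδ) s₁).1 hs₁
  have hx₀all : ∀ a, (Γ).Adj δ a → x₀ ∈ 𝐕 a := fun a ha => mul_mem (hall a ha) (U_le_V ha.symm hps)
  have hx₀U : x₀ ∉ 𝐔 δ := fun h => hxU (by
    have := mul_mem h (inv_mem hps); rwa [hx₀, mul_inv_cancel_right] at this)
  have hx₀p : p * x₀ * p⁻¹ = x₀ := by
    have e1 : p * x * p⁻¹ = x * s₁ := by
      simp only [s₁]; rw [← mul_assoc, V_sq hS hb hcr hx.1, one_mul]
    calc p * x₀ * p⁻¹ = (p * x * p⁻¹) * (p * (p * s₁ * p⁻¹) * p⁻¹) := by rw [hx₀]; group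
      _ = x₀ := by rw [e1, mul_assoc, hsum s₁ hs₁]
  have hQx₀ := hQx x₀ ⟨hx₀all c hc, hx₀all c' hc'⟩ hx₀U
  have hfix : ∀ g ∈ 𝐆 δ, g * x₀ = x₀ * g := by
    intro g hg
    set s := x₀ * (g * x₀ * g⁻¹) with hs
    have hsU : s ∈ 𝐔 δ := hcoset x₀ hx₀all hx₀U g hg
    have hh : g⁻¹ * p * g ∈ 𝐆 δ := mul_mem (mul_mem (inv_mem hg) hpδ) hg
    set h := g⁻¹ * p * g with hh_def
    have hmv : ∀ a, (Γ).Adj δ a → h • a ≠ a := fun a ha he => by
      refine hpfix (g • a) (smul_adj ha hg) ?_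
      have := congrArg (g • ·) he
      rwa [hh_def, ← mul_smul, show g * (g⁻¹ * p * g) = p * g by group, mul_smul] at this
    have hcomm : h * x₀ = x₀ * h := by
      have hinj : ∀ a b : Cfsg.CosetVertex M₁ M₂, a ≠ b → h • a ≠ h • b := fun a b hab he => hab (smul_left_cancel h he)
      rcases three_cases hS hc hc' hd hne hd1 hd2 (smul_adj hc hh) with h' | h' | h'
      · exact absurd h' (hmv c hc)
      · -- opposite rotation
        have k3 : h • d = c := by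
          rcases three_cases hS hc hc' hd hne hd1 hd2 (smul_adj hd hh) with k | k | k
          · exact k
          · exact absurd (h'.trans k.symm) (hinj _ _ hd1)
          · exact absurd k (hmv d hd)
        have k2 : h • c' = d := by
          rcases three_cases hS hc hc' hd hne hd1 hd2 (smul_adj hc' hh) with k | k | k
          · exact absurd (k3.trans k.symm) (hinj _ _ hd2.symm)
          · exact absurd k (hmv c' hc')
          · exact k
        have hq : p * h ∈ 𝐐 δ := mem_Q_of_fix hS (mul_mem hpδ hh) fun a ha => by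
          rcases three_cases hS hc hc' hd hne hd1 hd2 ha with rfl | rfl | rfl
          · rw [mul_smul, h', p2]
          · rw [mul_smul, k2, p3]
          · rw [mul_smul, k3, p1]
        have := hQx₀ _ hq
        calc h * x₀ = p⁻¹ * (p * h * x₀) := by group
          _ = p⁻¹ * x₀ * (p * h) := by rw [this]; group
          _ = p⁻¹ * (p * x₀ * p⁻¹) * (p * h) := by rw [hx₀p]
          _ = x₀ * h := by group
      · have k3 : h • d = c' := by
          rcases three_cases hS hc hc' hd hne hd1 hd2 (smul_adj hd hh) with k | k | k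
          · exfalso
            rcases three_cases hS hc hc' hd hne hd1 hd2 (smul_adj hc' hh) with m | m | m
            · exact hinj _ _ hd2 (m.trans k.symm)
            · exact hmv c' hc' m
            · exact hinj _ _ hne (h'.trans m.symm)
          · exact k
          · exact absurd k (hmv d hd)
        have k2 : h • c' = c := by
          rcases three_cases hS hc hc' hd hne hd1 hd2 (smul_adj hc' hh) with k | k | k
          · exact k
          · exact absurd k (hmv c' hc')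
          · exact absurd (h'.trans k.symm) (hinj _ _ hne)
        have hq : p⁻¹ * h ∈ 𝐐 δ := mem_Q_of_fix hS (mul_mem (inv_mem hpδ) hh) fun a ha => by
          rcases three_cases hS hc hc' hd hne hd1 hd2 ha with rfl | rfl | rfl
          · rw [mul_smul, h', inv_smul_eq_iff, p1]
          · rw [mul_smul, k2, inv_smul_eq_iff, p2]
          · rw [mul_smul, k3, inv_smul_eq_iff, p3]
        have := hQx₀ _ hq
        calc h * x₀ = p * (p⁻¹ * h * x₀) := by group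
          _ = p * x₀ * p⁻¹ * h := by rw [this]; group
          _ = x₀ * h := by rw [hx₀p]
    have hps' : p * s * p⁻¹ = s := by
      have e : p * (g * x₀ * g⁻¹) * p⁻¹ = g * x₀ * g⁻¹ := by
        calc p * (g * x₀ * g⁻¹) * p⁻¹ = g * (h * x₀ * h⁻¹) * g⁻¹ := by rw [hh_def]; group
          _ = g * x₀ * g⁻¹ := by rw [hcomm]; group
      calc p * s * p⁻¹ = (p * x₀ * p⁻¹) * (p * (g * x₀ * g⁻¹) * p⁻¹) := by rw [hs]; group
        _ = s := by rw [hx₀p, e]
    have hs1 : s = 1 := by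
      rcases mem_U hS hδ hsU with h | ⟨a, ha, hsa⟩
      · exact h
      · rw [hsa, ← zv_smul hS p (adj_right ha hδ)] at hps'
        exact absurd (zv_injective hS hδ (smul_adj ha hpδ) ha hps') (hpfix a ha)
    rw [hs] at hs1
    have h2 : g * x₀ * g⁻¹ = x₀ := by
      rw [← inv_eq_of_mul_eq_one_right hs1,
        inv_eq_of_mul_eq_one_right (V_sq hS hb hcr (hx₀all c hc))]
    exact mul_inv_eq_iff_eq_mul.1 h2
  have hE : x₀ ∈ 𝐄 δ c := Q_le_edge hS hc (V_le_Q_nbr hS hb hcr hc.symm (hx₀all c hc))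
  refine hx₀U ?_
  rw [faith hS hc hE hfix
    (central_of hS hc hδ hE (V_sq hS hb hcr (hx₀all c hc)) fun s hs => hfix s hs.1)]
  exact one_mem _

end Cfsg.Agent.CharP.CubicAmalgam
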