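import Cfsg.Agent.Lib.CharP.GoldschmidtCubicWalks
import Cfsg.Agent.Lib.Cores.Nilpotent

/-!
Amalgams of two groups with quotients of degree three: the bound on the order of the Sylow subgroup when
the four-groups act at distance one or two.
-/

set_option autoImplicit false
set_option linter.unusedSectionVars false

namespace Cfsg.Agent.CharP.CubicAmalgam

open Subgroup

variable {X : Type*} [Group X] {M₁ M₂ : Subgroup X} {z : X}

local notation "Γ" => Cfsg.cosetGraph M₁ M₂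
local notation "𝐆" => MulAction.stabilizer X
local notation "𝐄" => Cfsg.edgeStabilizer
local notation "𝐐" => Cfsg.vertexQ 2
local notation "ζ" => zv M₁ M₂ z
local notation "𝐔" => U M₁ M₂ z
local notation "𝐕" => V M₁ M₂ z
local notation "bb" => bd M₁ M₂ z

theorem card_base (hS : Setting M₁ M₂ z) {δ μ : Cfsg.CosetVertex M₁ M₂} (h : (Γ).Adj δ μ) :
    Nat.card ↥(𝐄 δ μ) = Nat.card ↥(M₁ ⊓ M₂) := by
  rcases cg_adj_iff.1 h with ⟨x, rfl, rfl⟩ | ⟨x, rfl, rfl⟩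
  · rw [cg_edge, card_map_of_injective (MulAut.conj x).injective]
  · rw [edge_comm, cg_edge, card_map_of_injective (MulAut.conj x).injective]

theorem edge_equiv (hS : Setting M₁ M₂ z) {δ c δ' c' : Cfsg.CosetVertex M₁ M₂} (h : (Γ).Adj δ c)
    (h' : (Γ).Adj δ' c') (hδ : δ.isLeft = true) (hδ' : δ'.isLeft = true) :
    ∃ g : X, g • δ = δ' ∧ g • c = c' := by
  rcases cg_adj_iff.1 h with ⟨x, rfl, rfl⟩ | ⟨x, rfl, rfl⟩
  · rcases cg_adj_iff.1 h' with ⟨y, rfl, rfl⟩ | ⟨y, rfl, rfl⟩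
    · exact ⟨y * x⁻¹,
        congrArg Sum.inl (congrArg QuotientGroup.mk (show y * x⁻¹ * x = y by group)),
        congrArg Sum.inr (congrArg QuotientGroup.mk (show y * x⁻¹ * x = y by group))⟩
    · simp at hδ'
  · simp at hδ

theorem normalizer_of_conj {H R : Subgroup X} (h : ∀ g ∈ H, ∀ x ∈ R, g * x * g⁻¹ ∈ R) :
    H ≤ normalizer (R : Set X) := fun g hg => mem_normalizer_iff.2 fun x =>
  ⟨h g hg x, fun hx => by
    have := h g⁻¹ (inv_mem hg) _ hx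
    rwa [show g⁻¹ * (g * x * g⁻¹) * g⁻¹⁻¹ = x by group] at this⟩

theorem mem_normalizer_of_commute {R : Subgroup X} {g : X} (h : ∀ x ∈ R, g * x = x * g) :
    g ∈ normalizer (R : Set X) :=
  centralizer_le_normalizer _ (mem_centralizer_iff.2 fun x hx => (h x hx).symm)

theorem exists_central_involution {E R : Subgroup X} [Finite ↥E] (hE : IsPGroup 2 ↥E) (hRE : R ≤ E)
    (hn : E ≤ normalizer (R : Set X)) (hR : R ≠ ⊥) :
    ∃ f ∈ R, f ≠ 1 ∧ f * f = 1 ∧ ∀ s ∈ E, s * f = f * s := by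
  have : Fact (Nat.Prime 2) := ⟨Nat.prime_two⟩
  have : Group.IsNilpotent ↥E := hE.isNilpotent
  have : (R.subgroupOf E).Normal := normal_subgroupOf_of_le_normalizer hn
  have hne : R.subgroupOf E ≠ ⊥ := by
    rw [Ne, subgroupOf_eq_bot, disjoint_iff, inf_eq_left.2 hRE]
    exact hR
  have hZ := Cfsg.Agent.Cores.inf_center_ne_bot hne
  have : Nontrivial ↥(R.subgroupOf E ⊓ center ↥E) := (nontrivial_iff_ne_bot _).2 hZ
  have hP : IsPGroup 2 ↥(R.subgroupOf E ⊓ center ↥E) := hE.to_subgroup _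
  obtain ⟨j, hj, hcard⟩ := hP.nontrivial_iff_card.1 inferInstance
  obtain ⟨w, hw⟩ := exists_prime_orderOf_dvd_card' (G := ↥(R.subgroupOf E ⊓ center ↥E)) 2
    (hcard ▸ dvd_pow_self 2 (by omega))
  refine ⟨((w : ↥E) : X), w.2.1, fun h => ?_, ?_, fun s hs => ?_⟩
  · have h1 : w = 1 := Subtype.ext (Subtype.ext h)
    rw [h1, orderOf_one] at hw
    exact absurd hw (by norm_num)
  · have h1 := pow_orderOf_eq_one w
    rw [hw, pow_two] at h1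
    exact congrArg (fun t : ↥(R.subgroupOf E ⊓ center ↥E) => ((t : ↥E) : X)) h1
  · exact congrArg Subtype.val (mem_center_iff.1 w.2.2 ⟨s, hs⟩)

/-- The common kernel of a vertex and its neighbours. -/
noncomputable def K (M₁ M₂ : Subgroup X) (c : Cfsg.CosetVertex M₁ M₂) : Subgroup X :=
  Cfsg.vertexQ 2 c ⊓ ⨅ η : ↥((Cfsg.cosetGraph M₁ M₂).neighborSet c), Cfsg.vertexQ 2 (η : Cfsg.CosetVertex M₁ M₂)

/-- The intersection of the groups `K` at the neighbours. -/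
noncomputable def KK (M₁ M₂ : Subgroup X) (δ : Cfsg.CosetVertex M₁ M₂) : Subgroup X :=
  ⨅ c : ↥((Cfsg.cosetGraph M₁ M₂).neighborSet δ), K M₁ M₂ (c : Cfsg.CosetVertex M₁ M₂)

local notation "𝐊" => K M₁ M₂

theorem K_le_Q {c η : Cfsg.CosetVertex M₁ M₂} (h : (Γ).Adj c η) : 𝐊 c ≤ 𝐐 η :=
  inf_le_right.trans (iInf_le (fun η : ↥((Γ).neighborSet c) => 𝐐 (η : Cfsg.CosetVertex M₁ M₂)) ⟨η, h⟩)

theorem K_le_self {c : Cfsg.CosetVertex M₁ M₂} : 𝐊 c ≤ 𝐐 c := inf_le_left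

theorem mem_K {c : Cfsg.CosetVertex M₁ M₂} {x : X} (hc : x ∈ 𝐐 c) (h : ∀ η, (Γ).Adj c η → x ∈ 𝐐 η) :
    x ∈ 𝐊 c := ⟨hc, mem_iInf.2 fun η => h η η.2⟩

theorem conj_mem_K (g : X) {c : Cfsg.CosetVertex M₁ M₂} {x : X} (hx : x ∈ 𝐊 c) :
    g * x * g⁻¹ ∈ 𝐊 (g • c) := mem_K (mem_Q_smul g hx.1) fun η hη => by
  have h1 := cg_adj_smul g⁻¹ hη
  rw [inv_smul_smul] at h1
  have h2 := mem_Q_smul g (K_le_Q h1 hx)
  rwa [smul_inv_smul] at h2

theorem KK_le {δ c : Cfsg.CosetVertex M₁ M₂} (h : (Γ).Adj δ c) : KK M₁ M₂ δ ≤ 𝐊 c :=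
  iInf_le (fun c : ↥((Γ).neighborSet δ) => 𝐊 (c : Cfsg.CosetVertex M₁ M₂)) ⟨c, h⟩

theorem mem_KK {δ : Cfsg.CosetVertex M₁ M₂} {x : X} (h : ∀ c, (Γ).Adj δ c → x ∈ 𝐊 c) :
    x ∈ KK M₁ M₂ δ := mem_iInf.2 fun c => h c c.2

theorem normKK (δ : Cfsg.CosetVertex M₁ M₂) : 𝐆 δ ≤ normalizer (KK M₁ M₂ δ : Set X) :=
  normalizer_of_conj fun g hg x hx => mem_KK fun c hc => by
    have h := conj_mem_K g (KK_le (smul_adj hc (inv_mem hg)) hx)
    rwa [smul_inv_smul] at h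

theorem relIndex_Q_le_two (hS : Setting M₁ M₂ z) {c η : Cfsg.CosetVertex M₁ M₂} (h : (Γ).Adj c η)
    {H : Subgroup X} (hH : H ≤ 𝐄 c η) : (𝐐 c).relIndex H ≤ 2 := by
  have h1 := (edge_data hS h).2.2
  exact (relIndex_le_of_le_right hH (by rw [h1]; norm_num)).trans h1.le

/-- At distance one the kernels are elementary and small. -/
theorem bound_one (hS : Setting M₁ M₂ z) (hb : bb = 1) : Nat.card ↥(M₁ ⊓ M₂) ≤ 2 ^ 7 := by
  obtain ⟨v, hv⟩ := exists_crit hS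
  have hout := hv.out
  have hadj := hv.adj 0 (by omega)
  rw [hb] at hout
  have hact : ∀ {δ c : Cfsg.CosetVertex M₁ M₂}, δ.isLeft = true → (Γ).Adj δ c → ¬ 𝐔 δ ≤ 𝐐 c := by
    intro δ c hδ hc hle
    obtain ⟨g, hg1, hg2⟩ := edge_equiv hS hc hadj hδ hv.left
    refine hout fun x hx => ?_
    have hx' := conj_mem_U hS g⁻¹ hv.left hx
    rw [← hg1, inv_smul_smul] at hx'
    have := mem_Q_smul g (hle hx')
    rwa [show g * (g⁻¹ * x * g⁻¹⁻¹) * g⁻¹ = x by group, hg2] at this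
  -- the squares
  have habel : ∀ {δ : Cfsg.CosetVertex M₁ M₂}, δ.isLeft = true → ∀ y ∈ 𝐐 δ, y * y = 1 := by
    intro δ hδ y hy
    obtain ⟨c, hc⟩ := cg_exists_neighbour δ
    have hcr := adj_right hc hδ
    obtain ⟨r, hr, hrc⟩ := SetLike.not_le_iff_exists.1 (hact hδ hc)
    set T := closure {x : X | ∃ y ∈ 𝐐 δ, x = y * y}
    have hsq : ∀ y ∈ 𝐐 δ, y * y ∈ 𝐊 c := by
      intro y hy
      obtain ⟨y0, hy0, hy0c, heq⟩ : ∃ y0, y0 ∈ 𝐐 δ ∧ y0 ∈ 𝐐 c ∧ y0 * y0 = y * y := by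
        by_cases h : y ∈ 𝐐 c
        · exact ⟨y, hy, h, rfl⟩
        refine ⟨y * r, mul_mem hy (U_le_Q hS hδ hr), (mul_mem_Q hS hc.symm
          (edge_comm δ c ▸ Q_le_edge hS hc hy) (edge_comm δ c ▸ Q_le_edge hS hc (U_le_Q hS hδ hr))).2
          (iff_of_false h hrc), ?_⟩
        rw [mul_assoc, ← mul_assoc r, ← Q_commute hS hδ hy hr, mul_assoc y r r, U_sq hS hδ hr, mul_one]
      rw [← heq]
      refine mem_K (mul_mem hy0c hy0c) fun η hη => ?_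
      exact sq_mem_Q hS hη.symm (edge_comm c η ▸ Q_le_edge hS hη hy0c)
    have hTK : T ≤ 𝐊 c := (closure_le _).2 (by rintro _ ⟨y, hy, rfl⟩; exact hsq y hy)
    have hTδ : 𝐆 δ ≤ normalizer (T : Set X) := normalizer_of_conj fun g hg x hx => by
      induction hx using closure_induction with
      | mem w hw =>
        obtain ⟨y, hy, rfl⟩ := hw
        exact subset_closure ⟨g * y * g⁻¹, (mem_normalizer_iff.1 (normQ δ hg) y).1 hy, by group⟩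
      | one => simp
      | mul a b _ _ iha ihb =>
        rw [show g * (a * b) * g⁻¹ = g * a * g⁻¹ * (g * b * g⁻¹) by group]
        exact mul_mem iha ihb
      | inv a _ iha =>
        rw [show g * a⁻¹ * g⁻¹ = (g * a * g⁻¹)⁻¹ by group]
        exact inv_mem iha
    obtain ⟨η, θ, hη, hθ, h1, -, -⟩ := exists_pair hS hc.symm
    obtain ⟨r', hr', hrc'⟩ := SetLike.not_le_iff_exists.1 (hact (adj_left hη hcr) hη.symm)
    have hr'E := Q_le_edge hS hη.symm (U_le_Q hS (adj_left hη hcr) hr')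
    have hTc : 𝐆 c ≤ normalizer (T : Set X) := edge_max hS hc.symm (fun g hg => hTδ hg.2) (g := r')
      (mem_normalizer_of_commute fun x hx =>
        (Q_commute hS (adj_left hη hcr) (K_le_Q hη (hTK hx)) hr').symm)
      hr'E.2 (moves hS hη hc.symm h1.symm ⟨hr'E.2, hr'E.1⟩ hrc')
    have hbot := eq_bot_of_normalized hS hc
      ((hTK.trans (K_le_Q hc.symm)).trans (Q_le_edge hS hc)) hTδ hTc
    exact mem_bot.1 (hbot ▸ subset_closure ⟨y, hy, rfl⟩)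
  have hcomm : ∀ {δ : Cfsg.CosetVertex M₁ M₂}, δ.isLeft = true → ∀ x ∈ 𝐐 δ, ∀ y ∈ 𝐐 δ, x * y = y * x := by
    intro δ hδ x hx y hy
    have h := habel hδ _ (mul_mem hx hy)
    calc x * y = (x * y)⁻¹ := (inv_eq_of_mul_eq_one_right h).symm
      _ = y * x := by rw [mul_inv_rev, inv_eq_of_mul_eq_one_right (habel hδ x hx),
          inv_eq_of_mul_eq_one_right (habel hδ y hy)]
  obtain ⟨δ, hδ, hδl⟩ : ∃ δ : Cfsg.CosetVertex M₁ M₂, δ = v 0 ∧ δ.isLeft = true := ⟨_, rfl, hv.left⟩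
  have := finite_Q hS δ
  -- each `K` has index at most four
  have hK4 : ∀ c, (Γ).Adj δ c → (𝐊 c).relIndex (𝐐 δ) ≤ 4 ∧ (𝐊 c).relIndex (𝐐 δ) ≠ 0 := by
    intro c hc
    have hle : 𝐊 c ≤ 𝐐 δ := K_le_Q hc.symm
    refine ⟨?_, fun h0 => ?_⟩
    swap
    · exact index_ne_zero_of_finite h0
    obtain ⟨r, hr, hrc⟩ := SetLike.not_le_iff_exists.1 (hact hδl hc)
    have hrE : r ∈ 𝐄 c δ := edge_comm δ c ▸ Q_le_edge hS hc (U_le_Q hS hδl hr)
    obtain ⟨η, θ, hη, hθ, h1, h2, h3⟩ := exists_pair hS hc.symm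
    have hA : 𝐐 δ ⊓ 𝐐 c ⊓ 𝐐 η ≤ 𝐊 c := fun x hx => mem_K hx.1.2 fun ν hν => by
      rcases three_cases hS hc.symm hη hθ h1 h2 h3 hν with rfl | rfl | rfl
      · exact hx.1.1
      · exact hx.2
      · have := mem_Q_smul r hx.2
        rwa [swap_eq hS hc.symm hη hθ h1 h2 h3 hrE hrc,
          hcomm hδl r (U_le_Q hS hδl hr) x hx.1.1, mul_inv_cancel_right] at this
    have e1 := relIndex_mul_relIndex (𝐐 δ ⊓ 𝐐 c ⊓ 𝐐 η) (𝐐 δ ⊓ 𝐐 c) (𝐐 δ) inf_le_left inf_le_left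
    rw [inf_relIndex_left, inf_relIndex_left] at e1
    have h4 := relIndex_Q_le_two hS hη.symm (H := 𝐐 δ ⊓ 𝐐 c)
      (fun x hx => edge_comm c η ▸ Q_le_edge hS hη hx.2)
    have h5 := relIndex_Q_le_two hS hc.symm (H := 𝐐 δ)
      (fun x hx => edge_comm δ c ▸ Q_le_edge hS hc hx)
    refine (Nat.le_of_dvd ?_ (relIndex_dvd_of_le_left _ hA)).trans ?_
    · exact Nat.pos_of_ne_zero fun h => index_ne_zero_of_finite h
    · rw [← e1]
      exact Nat.mul_le_mul h4 h5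
  obtain ⟨c, hc⟩ := cg_exists_neighbour δ
  obtain ⟨c₁, c₂, hc₁, hc₂, n1, n2, n12⟩ := exists_pair hS hc
  have hbot : KK M₁ M₂ δ = ⊥ := by
    have hcr := adj_right hc hδl
    obtain ⟨η, θ, hη, hθ, h1, -, -⟩ := exists_pair hS hc.symm
    obtain ⟨r', hr', hrc'⟩ := SetLike.not_le_iff_exists.1 (hact (adj_left hη hcr) hη.symm)
    have hr'E := Q_le_edge hS hη.symm (U_le_Q hS (adj_left hη hcr) hr')
    refine eq_bot_of_normalized hS hc (((KK_le hc).trans (K_le_Q hc.symm)).trans (Q_le_edge hS hc))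
      (normKK δ) ?_
    exact edge_max hS hc.symm (fun g hg => normKK δ hg.2) (g := r')
      (mem_normalizer_of_commute fun x hx =>
        (Q_commute hS (adj_left hη hcr) (K_le_Q hη (KK_le hc hx)) hr').symm)
      hr'E.2 (moves hS hη hc.symm h1.symm ⟨hr'E.2, hr'E.1⟩ hrc')
  have hle : 𝐊 c ⊓ 𝐊 c₁ ⊓ 𝐊 c₂ ≤ ⊥ := hbot ▸ fun x hx => mem_KK fun a ha => by
    rcases three_cases hS hc hc₁ hc₂ n1 n2 n12 ha with rfl | rfl | rfl
    exacts [hx.1.1, hx.1.2, hx.2]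
  have hcard : Nat.card ↥(𝐐 δ) ≤ 4 * 4 * 4 := by
    rw [← relIndex_bot_left, ← le_bot_iff.1 hle]
    refine (relIndex_inf_le ..).trans (Nat.mul_le_mul ((relIndex_inf_le ..).trans
      (Nat.mul_le_mul (hK4 c hc).1 (hK4 c₁ hc₁).1)) (hK4 c₂ hc₂).1)
  rw [← card_base hS hc, card_edge hS hc]
  omega

/-- At distance two the kernels are small. -/
theorem bound_two (hS : Setting M₁ M₂ z) (hb : bb = 2) : Nat.card ↥(M₁ ⊓ M₂) ≤ 2 ^ 7 := by
  obtain ⟨v, hv⟩ := exists_crit hS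
  have hW := hv.isWalk hS
  have h01 := hv.adj 0 (by omega)
  have h12 := hv.adj 1 (by omega)
  have hl2 := walk_left hv.adj hv.left (i := 2) (by omega) rfl
  have hout := hv.out
  rw [hb] at hout
  obtain ⟨u, hu, huQ⟩ := SetLike.not_le_iff_exists.1 hv.out
  obtain ⟨e, he, hne⟩ := hv.exists_noncommuting hS hu huQ (by rw [hb]; exact hl2)
  rw [hb] at he
  have hw0 : ζ e ∉ 𝐐 (v 0) := fun h => hne (Q_commute hS hv.left h hu).symm
  have hwU : ζ e ∈ 𝐔 (v 2) := zv_mem_U he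
  have hwE : ζ e ∈ 𝐄 (v 0) (v 1) :=
    ⟨le_stab_of_dist hS hl2 (by rw [SimpleGraph.dist_comm, hb]; exact hv.dist_le hS (by omega)) hwU,
      le_stab_of_dist hS hl2 (by rw [SimpleGraph.dist_comm, dist_adj h12]; omega) hwU⟩
  have hwK : ∀ x ∈ 𝐊 (v 1), ζ e * x = x * ζ e := fun x hx =>
    (Q_commute hS hl2 (K_le_Q h12 hx) hwU).symm
  have hact : ∀ {δ c : Cfsg.CosetVertex M₁ M₂}, δ.isLeft = true → (Γ).Adj δ c →
      ∃ w ∈ 𝐄 δ c, w ∉ 𝐐 δ ∧ ∀ x ∈ 𝐊 c, w * x = x * w := by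
    intro δ c hδ hc
    obtain ⟨g, hg1, hg2⟩ := edge_equiv hS h01 hc hv.left hδ
    refine ⟨g * ζ e * g⁻¹, ?_, fun h => hw0 ?_, fun x hx => ?_⟩
    · rw [← hg1, ← hg2]
      refine ⟨?_, ?_⟩ <;> rw [AmalgamVIter.stab_smul]
      exacts [⟨ζ e, hwE.1, rfl⟩, ⟨ζ e, hwE.2, rfl⟩]
    · have := mem_Q_smul g⁻¹ h
      rwa [show g⁻¹ * (g * ζ e * g⁻¹) * g⁻¹⁻¹ = ζ e by group, ← hg1, inv_smul_smul] at this
    · have h' := conj_mem_K g⁻¹ hx
      rw [← hg2, inv_smul_smul] at h'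
      calc g * ζ e * g⁻¹ * x = g * (ζ e * (g⁻¹ * x * g⁻¹⁻¹)) * g⁻¹ := by group
        _ = x * (g * ζ e * g⁻¹) := by rw [hwK _ h']; group
  obtain ⟨δ, hδ⟩ : ∃ δ : Cfsg.CosetVertex M₁ M₂, δ.isLeft = true := ⟨_, hv.left⟩
  obtain ⟨c, hc⟩ := cg_exists_neighbour δ
  obtain ⟨c₁, c₂, hc₁, hc₂, n1, n2, n12⟩ := exists_pair hS hc
  obtain ⟨w, hw, hwQ, hwc⟩ := hact hδ hc
  obtain ⟨w₁, hw₁, hw₁Q, hw₁c⟩ := hact hδ hc₁
  have hF : 𝐊 c ⊓ 𝐊 c₁ ≤ KK M₁ M₂ δ := fun x hx => mem_KK fun a ha => by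
    rcases three_cases hS hc hc₁ hc₂ n1 n2 n12 ha with rfl | rfl | rfl
    · exact hx.1
    · exact hx.2
    · have := conj_mem_K w hx.2
      rwa [swap_eq hS hc hc₁ hc₂ n1 n2 n12 hw hwQ, hwc x hx.1, mul_inv_cancel_right] at this
  have hbot : KK M₁ M₂ δ = ⊥ := by
    by_contra hne
    have hQd : KK M₁ M₂ δ ≤ 𝐐 δ := (KK_le hc).trans (K_le_Q hc.symm)
    haveI := finite_Q hS δ
    obtain ⟨f, hf, hf1, hf2, hfc⟩ := exists_central_involution (E := 𝐐 δ)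
      (isPGroup_pCoreOf 2 _) hQd ((pCoreOf_le 2 _).trans (normKK δ)) hne
    have hE : ∀ s ∈ 𝐄 δ c, s * f = f * s := fun s hs => mem_centralizer_singleton_iff.1
      (Q_sup hS hc hw hwQ (K := centralizer {f})
        (fun q hq => mem_centralizer_singleton_iff.2 (hfc q hq))
        (mem_centralizer_singleton_iff.2 (hwc f (KK_le hc hf))) hs)
    have hfE := Q_le_edge hS hc (hQd hf)
    have hδf := move hS hc hE hw₁.1 (moves hS hc₁ hc n1.symm hw₁ hw₁Q) (hw₁c f (KK_le hc₁ hf))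
    exact hf1 (faith hS hc hfE hδf (central_of hS hc hδ hfE hf2 hE))
  have key : ∀ a, (Γ).Adj δ a → Nat.card ↥(𝐐 δ) ≤ 8 * Nat.card ↥(𝐊 a) := by
    intro a ha
    haveI := finite_Q hS a
    obtain ⟨η, θ, hη, hθ, h1, h2, h3⟩ := exists_pair hS ha.symm
    have hA : 𝐐 δ ⊓ 𝐐 η ⊓ 𝐐 θ ⊓ 𝐐 a ≤ 𝐊 a := fun x hx => mem_K hx.2 fun ν hν => by
      rcases three_cases hS ha.symm hη hθ h1 h2 h3 hν with rfl | rfl | rfl
      exacts [hx.1.1.1, hx.1.1.2, hx.1.2]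
    have h4 : ∀ {ν}, (Γ).Adj a ν → (𝐐 ν).relIndex (𝐐 a) ≤ 2 := fun {ν} hν =>
      relIndex_Q_le_two hS hν.symm (fun x hx => edge_comm a ν ▸ Q_le_edge hS hν hx)
    have h5 : (𝐊 a).relIndex (𝐐 a) ≤ 2 * 2 * 2 := by
      have e : (𝐐 δ ⊓ 𝐐 η ⊓ 𝐐 θ ⊓ 𝐐 a).relIndex (𝐐 a) = (𝐐 δ ⊓ 𝐐 η ⊓ 𝐐 θ).relIndex (𝐐 a) :=
        inf_relIndex_right _ _
      refine (Nat.le_of_dvd (Nat.pos_of_ne_zero fun h => index_ne_zero_of_finite h)
        (relIndex_dvd_of_le_left _ hA)).trans (e.le.trans ?_)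
      exact (relIndex_inf_le ..).trans (Nat.mul_le_mul ((relIndex_inf_le ..).trans
        (Nat.mul_le_mul (h4 ha.symm) (h4 hη))) (h4 hθ))
    have h6 := relIndex_mul_relIndex ⊥ (𝐊 a) (𝐐 a) bot_le K_le_self
    rw [relIndex_bot_left, relIndex_bot_left] at h6
    rw [card_Q_adj hS ha, ← h6, mul_comm]
    exact Nat.mul_le_mul_right _ h5
  have hprod : Nat.card ↥(𝐊 c) * Nat.card ↥(𝐊 c₁) ≤ Nat.card ↥(𝐐 δ) := by
    haveI := finite_Q hS δ
    have h1 := relIndex_mul_relIndex ⊥ (𝐊 c) (𝐐 δ) bot_le (K_le_Q hc.symm)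
    rw [relIndex_bot_left, relIndex_bot_left] at h1
    rw [← h1]
    refine Nat.mul_le_mul_left _ ?_
    rw [← relIndex_bot_left (H := 𝐊 c₁), ← le_bot_iff.1 (hbot ▸ hF), inf_relIndex_right]
    exact relIndex_le_of_le_right (K_le_Q hc₁.symm) fun h => index_ne_zero_of_finite h
  have h8 := key c hc
  have h9 := key c₁ hc₁
  haveI := finite_Q hS δ
  have hpos : 0 < Nat.card ↥(𝐐 δ) := Nat.card_pos
  rw [← card_base hS hc, card_edge hS hc]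
  by_contra hcon
  have : 65 ≤ Nat.card ↥(𝐐 δ) := by omega
  nlinarith [Nat.mul_le_mul h8 h9]

end Cfsg.Agent.CharP.CubicAmalgam
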