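import Cfsg.Agent.Lib.CharP.GoldschmidtCubicFar

/-!
Amalgams of two groups with quotients of degree three: the bound on the order of the Sylow subgroup when
the four-groups act at distance three, and the bound in general.
-/

set_option autoImplicit false
set_option linter.unusedSectionVars false

namespace Cfsg.Agent.CharP.CubicAmalgam

open Subgroup

variable {X : Type*} [Group X] {M₁ M₂ : Subgroup X} {z : X}

local notation "Γ" => Cfsg.cosetGraph M₁ M₂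
local notation "𝐆" => MulAction.stabilizer X
local notation "𝐄" => Cfsg.edgeStabilizer
local notation "𝐐" => Cfsg.vertexQ 2
local notation "ζ" => zv M₁ M₂ z
local notation "𝐔" => U M₁ M₂ z
local notation "𝐕" => V M₁ M₂ z
local notation "bb" => bd M₁ M₂ z
local notation "𝐊" => K M₁ M₂

theorem relIndex_le_of_values {G : Type*} [Group G] {H L : Subgroup G} {Y : Type*} (f : G → Y)
    (T : Set Y) (hT : T.Finite) {n : ℕ} (hn : T.ncard ≤ n) (hf : ∀ a ∈ L, f a ∈ T)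
    (hH : ∀ a ∈ L, ∀ b ∈ L, f a = f b → a⁻¹ * b ∈ H) : H.relIndex L ≤ n := by
  have := hT.to_subtype
  refine le_trans ?_ hn
  rw [← Nat.card_coe_set_eq]
  refine Nat.card_le_card_of_injective
    (fun q : ↥L ⧸ H.subgroupOf L => (⟨f (q.out : G), hf _ q.out.2⟩ : T)) fun q q' h => ?_
  rw [← q.out_eq, ← q'.out_eq]
  exact QuotientGroup.eq.2 (hH _ q.out.2 _ q'.out.2 (congrArg Subtype.val h))

theorem mem_V_natural (hS : Setting M₁ M₂ z) (hb : 3 ≤ bb) (hN : Natural M₁ M₂ z)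
    {c δ η e : Cfsg.CosetVertex M₁ M₂} (hc : c.isLeft = false) (hδ : (Γ).Adj c δ) (hη : (Γ).Adj c η)
    (hne : δ ≠ η) (he : (Γ).Adj η e) (hec : c ≠ e) {x : X} (hx : x ∈ 𝐕 c) :
    x ∈ 𝐔 δ ∨ x * ζ e ∈ 𝐔 δ := by
  obtain ⟨k, hk, hkQ⟩ := exists_moving hS hδ
  have hθ : (Γ).Adj c (k • η) := smul_adj hη hk.1
  have hηθ : η ≠ k • η := (moves hS hδ hη hne hk hkQ).symm
  have hδθ : δ ≠ k • η := Q_fix_smul hk.2 hne
  obtain ⟨f, hf, hfc⟩ := exists_other hS hθ.symm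
  obtain ⟨d, hd, -, hp⟩ := prod_class hS hb hN hc hη hθ hδ hηθ hne.symm hδθ.symm he hec hf hfc.symm
  have hpU : ζ e * ζ f ∈ 𝐔 δ := hp ▸ zv_mem_U hd
  rcases mem_V hS hb hc hδ hη hθ hne hδθ hηθ he hec hf hfc.symm hx with h | h | h | h
  · exact Or.inl h
  · exact Or.inr h
  · refine Or.inr ?_
    have h2 := mul_mem h hpU
    rwa [V_comm hS hb hc (U_le_V hη (zv_mem_U he)) (U_le_V hθ (zv_mem_U hf)), mul_assoc x,
      ← mul_assoc (ζ f) (ζ f), zv_sq hS (adj_right hf (adj_left hθ hc)), one_mul] at h2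
  · exact Or.inl (((𝐔 δ).mul_mem_cancel_right hpU).1 h)

theorem K_commute (hS : Setting M₁ M₂ z) {c η e : Cfsg.CosetVertex M₁ M₂} (hc : c.isLeft = false)
    (hη : (Γ).Adj c η) (he : (Γ).Adj η e) {x : X} (hx : x ∈ 𝐊 c) : x * ζ e = ζ e * x :=
  zv_commute hS (adj_left hη hc) he (K_le_Q hη hx)

theorem mem_K_of_commute (hS : Setting M₁ M₂ z) (hb : 3 ≤ bb) (hN : Natural M₁ M₂ z)
    {ρ δ θ g : Cfsg.CosetVertex M₁ M₂} (hρ : ρ.isLeft = false) (hδ : (Γ).Adj ρ δ) (hθ : (Γ).Adj ρ θ)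
    (hne : δ ≠ θ) (hg : (Γ).Adj θ g) (hgρ : ρ ≠ g) {k : X} (hk : k ∈ 𝐐 δ)
    (hc : k * ζ g = ζ g * k) : k ∈ 𝐊 ρ := by
  have hθl := adj_left hθ hρ
  have hkE : k ∈ 𝐄 ρ δ := edge_comm δ ρ ▸ Q_le_edge hS hδ.symm hk
  have hkρ : k ∈ 𝐐 ρ := by_contra fun hn => by
    have hmv := moves hS hδ hθ hne hkE hn
    have h1 := conj_mem_U hS k hθl (zv_mem_U hg)
    rw [hc, mul_inv_cancel_right] at h1
    rcases U_inter hS hθl hθ (smul_adj hθ hkE.1) hmv.symm (zv_mem_U hg) h1 with h | h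
    · exact zv_ne_one hS (adj_right hg hθl) h
    · exact hgρ (zv_injective hS hθl hθ.symm hg h.symm)
  have hE : ∀ {n}, (Γ).Adj ρ n → k ∈ 𝐄 n ρ := fun {n} h => edge_comm ρ n ▸ Q_le_edge hS h hkρ
  refine mem_K hkρ fun ν hν => ?_
  by_cases hνδ : ν = δ
  · exact hνδ ▸ hk
  by_cases hνθ : ν = θ
  · exact hνθ ▸ (mem_Q_iff hS hθl hθ.symm hg hgρ (hE hθ)).2 hc
  obtain ⟨g₂, hg₂, hg₂ρ⟩ := exists_other hS hν.symm
  obtain ⟨d, hd, -, hp⟩ :=
    prod_class hS hb hN hρ hθ hν hδ (Ne.symm hνθ) hne.symm hνδ hg hgρ hg₂ hg₂ρ.symm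
  refine (mem_Q_iff hS (adj_left hν hρ) hν.symm hg₂ hg₂ρ.symm (hE hν)).2 ?_
  have h := zv_commute hS (adj_left hδ hρ) hd hk
  rw [← hp, ← mul_assoc, hc, mul_assoc, mul_assoc] at h
  exact mul_left_cancel h

/-- Every walk of length three from the first type is critical. -/
theorem crit_three (hS : Setting M₁ M₂ z) (hb : bb = 3) {η c δ c' : Cfsg.CosetVertex M₁ M₂}
    (hc : c.isLeft = false) (hη : (Γ).Adj c η) (hδ : (Γ).Adj c δ) (hc' : (Γ).Adj δ c') (h1 : η ≠ δ)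
    (h2 : c ≠ c') : Crit M₁ M₂ z
      (fun i => if i = 0 then η else if i = 1 then c else if i = 2 then δ else c') := by
  obtain ⟨v, hv⟩ := exists_crit hS
  have hW := hv.isWalk hS
  have hN := natural hS (by omega) (by omega)
  have hl2 := walk_left hv.adj hv.left (i := 2) (by omega) rfl
  have hmov : ∀ m, 1 ≤ m → m < bb → Mover M₁ M₂ m true := by
    intro m hm1 hm2
    rcases (show m = 1 ∨ m = 2 by omega) with rfl | rfl
    · have := hv.mover hS (m := 1) (by omega)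
      rwa [show bb - 1 = 2 by omega, hl2] at this
    · have h01 := hv.adj 0 (by omega)
      have h12 := hv.adj 1 (by omega)
      obtain ⟨x, hx1, hx0, hx2⟩ := exists_fixing hS (by omega) hN
        (walk_right hv.adj hv.left (i := 1) (by omega) rfl) h01.symm h12 (hW.nb 0 (by omega)).symm
      refine ⟨fun i => v (0 + i), x, hW.sub 0 2 (by omega), hv.left, fun i hi => ?_, hx2⟩
      rcases (show i = 0 ∨ i = 1 ∨ i = 2 by omega) with rfl | rfl | rfl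
      exacts [MulAction.mem_stabilizer_iff.1 (pCoreOf_le 2 _ hx0),
        MulAction.mem_stabilizer_iff.1 (pCoreOf_le 2 _ hx1), Q_fix hS h12 hx1]
  have hp : IsWalk M₁ M₂ bb
      (fun i => if i = 0 then η else if i = 1 then c else if i = 2 then δ else c') := by
    refine ⟨fun i hi => ?_, fun i hi => ?_⟩
    · rcases (show i = 0 ∨ i = 1 ∨ i = 2 by omega) with rfl | rfl | rfl
      · simpa using hη.symm
      · simpa using hδ
      · simpa using hc'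
    · rcases (show i = 0 ∨ i = 1 by omega) with rfl | rfl
      · simpa using h1.symm
      · simpa using h2.symm
  have hp0 := adj_left hη hc
  obtain ⟨k, hk⟩ := orbit hS bb hmov hW hp hv.left (by simpa using hp0)
  refine ⟨hp.adj, by simpa using hp0, fun hle => hv.out fun x hx => ?_⟩
  have h1 := hle (hk 0 (Nat.zero_le _) ▸ conj_mem_U hS k hv.left hx)
  have := mem_Q_smul k⁻¹ h1
  rwa [show k⁻¹ * (k * x * k⁻¹) * k⁻¹⁻¹ = x by group, ← hk bb le_rfl, inv_smul_smul] at this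

theorem class_out (hS : Setting M₁ M₂ z) (hb : bb = 3) {η c δ c' e : Cfsg.CosetVertex M₁ M₂}
    (hc : c.isLeft = false) (hη : (Γ).Adj c η) (hδ : (Γ).Adj c δ) (hc' : (Γ).Adj δ c') (h1 : η ≠ δ)
    (h2 : c ≠ c') (he : (Γ).Adj η e) (hec : c ≠ e) : ζ e ∉ 𝐐 c' := fun hQ => by
  have hout := (crit_three hS hb hc hη hδ hc' h1 h2).out
  have hle : ¬ 𝐔 η ≤ 𝐐 c' := by simpa [hb] using hout
  refine hle ((closure_le _).2 ?_)
  rintro _ ⟨d, hd, rfl⟩
  have hzc : ζ c ∈ 𝐐 c' :=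
    le_Q_of_dist (adj_left hδ hc) (by rw [dist_adj hc']; omega) (zv_mem_U hδ.symm)
  by_cases hdc : c = d
  · exact hdc ▸ hzc
  rcases other_zv hS (adj_left hη hc) hη.symm he hd hec hdc with h | h <;> rw [h]
  exacts [hQ, mul_mem hQ hzc]

/-- Three neighbours of a vertex of the first type. -/
structure Fork (M₁ M₂ : Subgroup X) (δ c c' ρ : Cfsg.CosetVertex M₁ M₂) : Prop where
  left : δ.isLeft = true
  a₁ : (Cfsg.cosetGraph M₁ M₂).Adj δ c
  a₂ : (Cfsg.cosetGraph M₁ M₂).Adj δ c'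
  a₃ : (Cfsg.cosetGraph M₁ M₂).Adj δ ρ
  n₁₂ : c ≠ c'
  n₁₃ : c ≠ ρ
  n₂₃ : c' ≠ ρ

theorem Fork.r₁ {δ c c' ρ : Cfsg.CosetVertex M₁ M₂} (h : Fork M₁ M₂ δ c c' ρ) : c.isLeft = false :=
  adj_right h.a₁ h.left

theorem Fork.r₂ {δ c c' ρ : Cfsg.CosetVertex M₁ M₂} (h : Fork M₁ M₂ δ c c' ρ) : c'.isLeft = false :=
  adj_right h.a₂ h.left

theorem Fork.r₃ {δ c c' ρ : Cfsg.CosetVertex M₁ M₂} (h : Fork M₁ M₂ δ c c' ρ) : ρ.isLeft = false :=
  adj_right h.a₃ h.left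

theorem Fork.swap {δ c c' ρ : Cfsg.CosetVertex M₁ M₂} (h : Fork M₁ M₂ δ c c' ρ) :
    Fork M₁ M₂ δ c' c ρ := ⟨h.left, h.a₂, h.a₁, h.a₃, h.n₁₂.symm, h.n₂₃, h.n₁₃⟩

theorem Fork.rot {δ c c' ρ : Cfsg.CosetVertex M₁ M₂} (h : Fork M₁ M₂ δ c c' ρ) :
    Fork M₁ M₂ δ c' ρ c := ⟨h.left, h.a₂, h.a₃, h.a₁, h.n₂₃, h.n₁₂.symm, h.n₁₃.symm⟩

variable {δ c c' ρ η e a f : Cfsg.CosetVertex M₁ M₂}

/-- The commutator of two involutions at distance three. -/
theorem comm_three (hS : Setting M₁ M₂ z) (hb : bb = 3) (h : Fork M₁ M₂ δ c c' ρ) (hη : (Γ).Adj c η)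
    (hηδ : η ≠ δ) (he : (Γ).Adj η e) (hec : c ≠ e) (ha : (Γ).Adj c' a) (had : a ≠ δ)
    (hf : (Γ).Adj a f) (hfc : c' ≠ f) : ζ e * ζ f * (ζ e)⁻¹ = ζ f * ζ ρ := by
  have hcrit := crit_three hS hb h.r₁ hη h.a₁.symm h.a₂ hηδ h.n₁₂
  have heQ := class_out hS hb h.r₁ hη h.a₁.symm h.a₂ hηδ h.n₁₂ he hec
  have hfQ := class_out hS hb h.r₂ ha h.a₂.symm h.a₁ had h.n₁₂.symm hf hfc
  have hs := s_mem hS (by omega) (by omega) hcrit (u := ζ e) (by simpa using zv_mem_U he)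
    (by simpa [hb] using heQ) (a := a) (e := f) (by simpa [hb] using ha) (by simpa [hb] using had) hf
    (by simpa [hb] using hfc.symm)
  have hs : ζ f * (ζ e * ζ f * (ζ e)⁻¹) ∈ 𝐔 δ := by simpa [hb] using hs
  set s := ζ f * (ζ e * ζ f * (ζ e)⁻¹) with hs_def
  have hηl := adj_left hη h.r₁
  have hal := adj_left ha h.r₂
  have hf2 := zv_sq hS (adj_right hf hal)
  have e1 : ζ e * ζ f * (ζ e)⁻¹ = ζ f * s := by rw [hs_def, ← mul_assoc, hf2, one_mul]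
  have heE : ζ e ∈ 𝐄 c' δ := by
    refine ⟨?_, ?_⟩
    · have := hcrit.le_stab hS (i := 3) (by omega) (x := ζ e) (by simpa using zv_mem_U he)
      simpa using this
    · have := hcrit.le_stab hS (i := 2) (by omega) (x := ζ e) (by simpa using zv_mem_U he)
      simpa using this
  have no2 : s ∈ 𝐔 a → False := fun hsa => by
    have hmv := moves hS h.a₂.symm ha had.symm heE heQ
    rcases U_inter hS hal ha (smul_adj ha heE.1) hmv.symm
      (show ζ e * ζ f * (ζ e)⁻¹ ∈ 𝐔 a from e1 ▸ mul_mem (zv_mem_U hf) hsa)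
      (conj_mem_U hS _ hal (zv_mem_U hf)) with h' | h'
    · exact zv_ne_one hS (adj_right hf hal) (conj_eq_one_iff.1 h')
    · rw [← zv_central hS h.r₂ heE.1 |> fun hh => mul_inv_eq_iff_eq_mul.2 hh] at h'
      exact hfc (zv_injective hS hal ha.symm hf (mul_left_cancel (mul_right_cancel h')).symm)
  rw [e1]
  congr 1
  rcases mem_U hS h.left hs with h' | ⟨d, hd, h'⟩
  · exact (no2 (h' ▸ one_mem _)).elim
  rcases three_cases hS h.a₁ h.a₂ h.a₃ h.n₁₂ h.n₁₃ h.n₂₃ hd with rfl | rfl | rfl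
  · exfalso
    have hfE : ζ f ∈ 𝐄 d δ := by
      refine ⟨?_, ?_⟩
      · exact le_stab_of_dist hS hal (by
          have h1 := dist_nbr hS (x := d) ha.symm
          have h2 := dist_nbr hS (x := d) h.a₂.symm
          rw [dist_adj h.a₁] at h2
          omega) (zv_mem_U hf)
      · exact le_stab_of_dist hS hal (by
          have h1 := dist_nbr hS (x := δ) ha.symm
          rw [dist_adj h.a₂.symm] at h1
          omega) (zv_mem_U hf)
    have hmv := moves hS h.a₁.symm hη hηδ.symm hfE hfQ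
    have e2 : ζ f * ζ e * (ζ f)⁻¹ = ζ d * ζ e := by
      rw [zv_inv hS (adj_right hf hal), ← h', hs_def]
      group
    rcases U_inter hS hηl hη (smul_adj hη hfE.1) hmv.symm
      (show ζ f * ζ e * (ζ f)⁻¹ ∈ 𝐔 η from e2 ▸ mul_mem (zv_mem_U hη.symm) (zv_mem_U he))
      (conj_mem_U hS _ hηl (zv_mem_U he)) with k | k
    · exact zv_ne_one hS (adj_right he hηl) (conj_eq_one_iff.1 k)
    · rw [e2, mul_eq_left] at k
      exact zv_ne_one hS (adj_right he hηl) k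
  · exact (no2 (h' ▸ zv_mem_U ha.symm)).elim
  · exact h'

theorem comm_K (hS : Setting M₁ M₂ z) (hb : bb = 3) (h : Fork M₁ M₂ δ c c' ρ) (hη : (Γ).Adj c η)
    (hηδ : η ≠ δ) (he : (Γ).Adj η e) (hec : c ≠ e) {k : X} (hk : k ∈ 𝐊 c') :
    k * ζ e * k⁻¹ * (ζ e)⁻¹ ∈ 𝐔 δ := by
  have hηl := adj_left hη h.r₁
  have hkδ : k ∈ 𝐐 δ := K_le_Q h.a₂.symm hk
  have hV : k * ζ e * k⁻¹ * (ζ e)⁻¹ ∈ 𝐕 c := by
    refine mul_mem ?_ ((𝐕 c).inv_mem (U_le_V hη (zv_mem_U he)))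
    have := conj_mem_V hS k h.r₁ (U_le_V hη (zv_mem_U he))
    rwa [Q_fix hS h.a₁ hkδ] at this
  have hcrit := crit_three hS hb h.r₁ hη h.a₁.symm h.a₂ hηδ h.n₁₂
  have hec' : ζ e ∈ 𝐆 c' := by
    have := hcrit.le_stab hS (i := 3) (by omega) (x := ζ e) (by simpa using zv_mem_U he)
    simpa using this
  have hQ : k * ζ e * k⁻¹ * (ζ e)⁻¹ ∈ 𝐐 c' := by
    rw [show k * ζ e * k⁻¹ * (ζ e)⁻¹ = k * (ζ e * k⁻¹ * (ζ e)⁻¹) by group]
    exact mul_mem hk.1 ((mem_normalizer_iff.1 (normQ c' hec') _).1 (inv_mem hk.1))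
  rcases mem_V_natural hS (by omega) (natural hS (by omega) (by omega)) h.r₁ h.a₁.symm hη hηδ.symm he hec
    hV with h' | h'
  · exact h'
  · refine absurd ?_ (class_out hS hb h.r₁ hη h.a₁.symm h.a₂ hηδ h.n₁₂ he hec)
    exact ((𝐐 c').mul_mem_cancel_left hQ).1
      (le_Q_of_dist h.left (by rw [dist_adj h.a₂]; omega) h')

theorem comm_K_conj (hS : Setting M₁ M₂ z) (hb : bb = 3) (h : Fork M₁ M₂ δ c c' ρ) (hη : (Γ).Adj c η)
    (hηδ : η ≠ δ) (he : (Γ).Adj η e) (hec : c ≠ e) {k x : X} (hk : k ∈ 𝐆 c') (hx : x ∈ 𝐊 c') :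
    (k * ζ e * k⁻¹) * x * (k * ζ e * k⁻¹)⁻¹ * x⁻¹ ∈ 𝐕 c' := by
  have hx' : k⁻¹ * x * k⁻¹⁻¹ ∈ 𝐊 c' := by
    have := conj_mem_K k⁻¹ hx
    rwa [MulAction.mem_stabilizer_iff.1 (inv_mem hk)] at this
  have h1 := inv_mem (U_le_V h.a₂.symm (comm_K hS hb h hη hηδ he hec hx'))
  have h2 := (mem_normalizer_iff.1 (normV hS h.r₂ hk) _).1 h1
  convert h2 using 1
  group

/-- An element of the edge group outside the kernel, made of two acting involutions. -/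
theorem exists_t (hS : Setting M₁ M₂ z) (hb : bb = 3) (h : Fork M₁ M₂ δ c c' ρ) (hη : (Γ).Adj c η)
    (hηδ : η ≠ δ) (he : (Γ).Adj η e) (hec : c ≠ e) :
    ∃ k₁ ∈ 𝐆 c', ∃ k₂ ∈ 𝐆 c', k₁ * ζ e * k₁⁻¹ * (k₂ * ζ e * k₂⁻¹) ∈ 𝐄 δ c' ∧
      k₁ * ζ e * k₁⁻¹ * (k₂ * ζ e * k₂⁻¹) ∉ 𝐐 δ := by
  obtain ⟨a, b, ha, hb', hda, hdb, hab⟩ := exists_pair hS h.a₂.symm
  obtain ⟨f, hf, hfc⟩ := exists_other hS ha.symm
  obtain ⟨g, hg, hga, hgδ⟩ :=
    exists_fixing hS (by omega) (natural hS (by omega) (by omega)) h.r₂ ha h.a₂.symm hda.symm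
  have hgE : g ∈ 𝐄 δ c' := edge_comm c' δ ▸ Q_le_edge hS h.a₂.symm hg
  have hgc : g • c = ρ := swap_eq hS h.a₂ h.a₁ h.a₃ h.n₁₂.symm h.n₂₃ h.n₁₃ hgE hgδ
  have hal := adj_left ha h.r₂
  have hηl := adj_left hη h.r₁
  set u := ζ e
  set q := u * (g * u * g⁻¹) with hq
  have hcrit := crit_three hS hb h.r₁ hη h.a₁.symm h.a₂ hηδ h.n₁₂
  have huc : u ∈ 𝐆 c' := by
    have := hcrit.le_stab hS (i := 3) (by omega) (x := u) (by simpa using zv_mem_U he)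
    simpa using this
  have huδ : u ∈ 𝐐 δ := by
    have := hcrit.le_Q hS (i := 2) (by omega) (x := u) (by simpa using zv_mem_U he)
    simpa using this
  have hqc : q ∈ 𝐐 c' := by
    rw [hq, show u * (g * u * g⁻¹) = (u * g * u⁻¹) * (u * u) * g⁻¹ by group,
      zv_sq hS (adj_right he hηl), mul_one]
    exact mul_mem ((mem_normalizer_iff.1 (normQ c' huc) g).1 hg) (inv_mem hg)
  have hρη : (Γ).Adj ρ (g • η) := hgc ▸ cg_adj_smul g hη
  have hgηδ : g • η ≠ δ := (Q_fix_smul hgE.1 hηδ.symm).symm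
  have hge : (Γ).Adj (g • η) (g • e) := cg_adj_smul g he
  have hρe : ρ ≠ g • e := fun h' => hec (smul_left_cancel g (hgc.trans h'))
  have hr : ζ (g • e) = g * u * g⁻¹ := zv_smul hS g (adj_right he hηl)
  have hqb : q * ζ f * q⁻¹ = ζ f * ζ c' := by
    have e1 := comm_three hS hb h.rot.swap hρη hgηδ hge hρe ha hda.symm hf hfc.symm
    have e2 := comm_three hS hb h hη hηδ he hec ha hda.symm hf hfc.symm
    rw [hr] at e1
    calc q * ζ f * q⁻¹ = u * (g * u * g⁻¹ * ζ f * (g * u * g⁻¹)⁻¹) * u⁻¹ := by rw [hq]; group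
      _ = (u * ζ f * u⁻¹) * (u * ζ c * u⁻¹) := by rw [e1]; group
      _ = ζ f * (ζ ρ * ζ c) := by
        rw [e2, zv_commute hS h.left h.a₁ huδ, mul_inv_cancel_right, mul_assoc]
      _ = ζ f * ζ c' := by rw [zv_prod hS h.left h.a₃ h.a₁ h.a₂ h.n₁₃.symm h.n₂₃.symm h.n₁₂]
  have hqa : q ∉ 𝐐 a := fun hh => by
    rw [zv_commute hS hal hf hh, mul_inv_cancel_right, eq_comm, mul_eq_left] at hqb
    exact zv_ne_one hS h.r₂ hqb
  obtain ⟨k, hk, hkQ⟩ := exists_moving hS hb'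
  have hka : k • a = δ := swap_eq hS hb' ha h.a₂.symm hab.symm hdb.symm hda.symm hk hkQ
  have htQ : k * q * k⁻¹ ∈ 𝐐 c' := (mem_normalizer_iff.1 (normQ c' hk.1) q).1 hqc
  refine ⟨k, hk.1, k * g, mul_mem hk.1 hgE.2, ?_⟩
  rw [show k * u * k⁻¹ * (k * g * u * (k * g)⁻¹) = k * q * k⁻¹ by rw [hq]; group]
  refine ⟨edge_comm c' δ ▸ Q_le_edge hS h.a₂.symm htQ, fun hh => hqa ?_⟩
  rw [← hka] at hh
  have := mem_Q_smul k⁻¹ hh
  rwa [show k⁻¹ * (k * q * k⁻¹) * k⁻¹⁻¹ = q by group, inv_smul_smul] at this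

/-- Half of the invariance of `K c ⊓ K c'`. -/
theorem half_third (hS : Setting M₁ M₂ z) (hb : bb = 3) (h : Fork M₁ M₂ δ c c' ρ)
    {θ g : Cfsg.CosetVertex M₁ M₂} (hθ : (Γ).Adj ρ θ) (hθδ : θ ≠ δ) (hg : (Γ).Adj θ g) (hgρ : ρ ≠ g)
    {x : X} (hx : x ∈ 𝐊 c) (hx' : x ∈ 𝐊 c') :
    x * ζ g * x⁻¹ = ζ g ∨ x * ζ g * x⁻¹ = ζ g * ζ c := by
  obtain ⟨η, hη, hηδ⟩ := exists_other hS h.a₁.symm
  obtain ⟨e, he, hec⟩ := exists_other hS hη.symm
  obtain ⟨a, ha, had⟩ := exists_other hS h.a₂.symm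
  obtain ⟨f, hf, hfc⟩ := exists_other hS ha.symm
  obtain ⟨k₁, hk₁, k₂, hk₂, htE, htQ⟩ := exists_t hS hb h hη hηδ he hec.symm
  set A := k₁ * ζ e * k₁⁻¹
  set B := k₂ * ζ e * k₂⁻¹
  have htc : (A * B) • c = ρ := swap_eq hS h.a₂ h.a₁ h.a₃ h.n₁₂.symm h.n₂₃ h.n₁₃ htE htQ
  set y := A * B * x * (A * B)⁻¹ with hy_def
  have hy : y ∈ 𝐊 ρ := htc ▸ conj_mem_K (A * B) hx
  have hecc : ∀ k ∈ 𝐆 c', k * ζ e * k⁻¹ ∈ 𝐆 c' := fun k hk => by
    have hcrit := crit_three hS hb h.r₁ hη h.a₁.symm h.a₂ hηδ h.n₁₂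
    have := hcrit.le_stab hS (i := 3) (by omega) (x := ζ e) (by simpa using zv_mem_U he)
    exact mul_mem (mul_mem hk (by simpa using this)) (inv_mem hk)
  have hw : y * x⁻¹ ∈ 𝐕 c' := by
    have h1 := comm_K_conj hS hb h hη hηδ he hec.symm hk₁ hx'
    have h2 := (mem_normalizer_iff.1 (normV hS h.r₂ (hecc k₁ hk₁)) _).1
      (comm_K_conj hS hb h hη hηδ he hec.symm hk₂ hx')
    convert mul_mem h2 h1 using 1
    simp only [y, A, B]
    group
  have hyg : y * ζ g = ζ g * y := K_commute hS h.r₃ hθ hg hy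
  have hU : ∀ p ∈ 𝐔 δ, p * ζ g = ζ g * p := fun p hp => zv_commute hS (adj_left hθ h.r₃) hg
    (le_Q_of_dist h.left (by
      have := dist_nbr hS (x := θ) h.a₃
      rw [dist_adj hθ] at this
      omega) hp)
  set w := y * x⁻¹ with hw_def
  have hconj : x * ζ g * x⁻¹ = w⁻¹ * ζ g * w := by
    rw [show x * ζ g * x⁻¹ = w⁻¹ * (y * ζ g * y⁻¹) * w by rw [hw_def]; group, hyg,
      mul_inv_cancel_right]
  rcases mem_V_natural hS (by omega) (natural hS (by omega) (by omega)) h.r₂ h.a₂.symm ha had.symm hf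
    hfc.symm hw with h' | h'
  · left
    rw [hconj, mul_assoc, ← hU w h', inv_mul_cancel_left]
  · right
    have hf2 := zv_sq hS (adj_right hf (adj_left ha h.r₂))
    have hwe : w = (w * ζ f) * ζ f := by rw [mul_assoc, hf2, mul_one]
    rw [hconj, hwe, show ((w * ζ f) * ζ f)⁻¹ * ζ g * ((w * ζ f) * ζ f)
      = (ζ f)⁻¹ * ((w * ζ f)⁻¹ * (ζ g * (w * ζ f))) * ζ f by group, ← hU _ h', inv_mul_cancel_left]
    have := comm_three hS hb h.rot ha had hf hfc.symm hθ hθδ hg hgρ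
    rw [zv_inv hS (adj_right hf (adj_left ha h.r₂))] at this ⊢
    exact this

theorem K_third (hS : Setting M₁ M₂ z) (hb : bb = 3) (h : Fork M₁ M₂ δ c c' ρ) {x : X}
    (hx : x ∈ 𝐊 c) (hx' : x ∈ 𝐊 c') : x ∈ KK M₁ M₂ δ := by
  refine mem_KK fun ν hν => ?_
  rcases three_cases hS h.a₁ h.a₂ h.a₃ h.n₁₂ h.n₁₃ h.n₂₃ hν with rfl | rfl | rfl
  · exact hx
  · exact hx'
  obtain ⟨θ, hθ, hθδ⟩ := exists_other hS h.a₃.symm
  obtain ⟨g, hg, hgρ⟩ := exists_other hS hθ.symm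
  refine mem_K_of_commute hS (by omega) (natural hS (by omega) (by omega)) h.r₃ h.a₃.symm hθ hθδ.symm
    hg hgρ.symm (K_le_Q h.a₁.symm hx) (mul_inv_eq_iff_eq_mul.1 ?_)
  rcases half_third hS hb h hθ hθδ hg hgρ.symm hx hx' with h1 | h1
  · exact h1
  rcases half_third hS hb h.swap hθ hθδ hg hgρ.symm hx' hx with h2 | h2
  · exact h2
  exact absurd (zv_injective hS h.left h.a₁ h.a₂ (mul_left_cancel (h1.symm.trans h2))) h.n₁₂

/-- The intersection of the groups `KK` at the neighbours. -/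
noncomputable def YY (M₁ M₂ : Subgroup X) (c : Cfsg.CosetVertex M₁ M₂) : Subgroup X :=
  ⨅ δ : ↥((Cfsg.cosetGraph M₁ M₂).neighborSet c), KK M₁ M₂ (δ : Cfsg.CosetVertex M₁ M₂)

local notation "𝐘" => YY M₁ M₂

theorem YY_le (h : (Γ).Adj c δ) : 𝐘 c ≤ KK M₁ M₂ δ :=
  iInf_le (fun δ : ↥((Γ).neighborSet c) => KK M₁ M₂ (δ : Cfsg.CosetVertex M₁ M₂)) ⟨δ, h⟩

theorem conj_mem_KK (g : X) {x : X} (hx : x ∈ KK M₁ M₂ δ) : g * x * g⁻¹ ∈ KK M₁ M₂ (g • δ) :=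
  mem_KK fun ν hν => by
    have h1 := cg_adj_smul g⁻¹ hν
    rw [inv_smul_smul] at h1
    have h2 := conj_mem_K g (KK_le h1 hx)
    rwa [smul_inv_smul] at h2

theorem conj_mem_YY (g : X) {x : X} (hx : x ∈ 𝐘 c) : g * x * g⁻¹ ∈ 𝐘 (g • c) :=
  mem_iInf.2 fun ν => by
    have h1 := cg_adj_smul g⁻¹ ν.2
    rw [inv_smul_smul] at h1
    have h2 := conj_mem_KK g (YY_le h1 hx)
    rwa [smul_inv_smul] at h2

/-- At distance three the kernels are small. -/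
theorem bound_three (hS : Setting M₁ M₂ z) (hb : bb = 3) : Nat.card ↥(M₁ ⊓ M₂) ≤ 2 ^ 7 := by
  have hN := natural hS (by omega) (by omega)
  obtain ⟨δ, hδ⟩ : ∃ δ : Cfsg.CosetVertex M₁ M₂, δ.isLeft = true := by
    obtain ⟨v, hv⟩ := exists_crit hS
    exact ⟨_, hv.left⟩
  obtain ⟨c', hc'⟩ := cg_exists_neighbour δ
  obtain ⟨c, ρ, hc, hρ, n1, n2, n3⟩ := exists_pair hS hc'
  have h : Fork M₁ M₂ δ c c' ρ := ⟨hδ, hc, hc', hρ, n1.symm, n3, n2⟩
  haveI := finite_Q hS δ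
  have ne0 : ∀ (H L : Subgroup X), L ≤ 𝐐 δ → H.relIndex L ≠ 0 := fun H L hL => by
    haveI : Finite ↥L := Finite.of_injective _ (inclusion_injective hL)
    exact index_ne_zero_of_finite
  -- `K c'` over `KK δ`
  obtain ⟨η, hη, hηδ⟩ := exists_other hS hc.symm
  obtain ⟨e, he, hec⟩ := exists_other hS hη.symm
  set u := ζ e
  have hK : (KK M₁ M₂ δ).relIndex (𝐊 c') ≤ 4 := by
    refine relIndex_le_of_values (fun k => k * u * k⁻¹) ({u, ζ c * u, ζ c' * u, ζ ρ * u} : Set X)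
      (Set.toFinite _) ?_ (fun k hk => ?_) fun k hk l hl hkl => ?_
    · refine (Set.ncard_insert_le _ _).trans (Nat.succ_le_succ ?_)
      refine (Set.ncard_insert_le _ _).trans (Nat.succ_le_succ ?_)
      refine (Set.ncard_insert_le _ _).trans (Nat.succ_le_succ ?_)
      rw [Set.ncard_singleton]
    · have h1 := comm_K hS hb h hη hηδ he hec.symm hk
      have e1 : k * u * k⁻¹ = k * u * k⁻¹ * u⁻¹ * u := by group
      rcases mem_U hS hδ h1 with h2 | ⟨d, hd, h2⟩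
      · exact Or.inl (by rw [e1, h2, one_mul])
      rcases three_cases hS h.a₁ h.a₂ h.a₃ h.n₁₂ h.n₁₃ h.n₂₃ hd with rfl | rfl | rfl
      · exact Or.inr (Or.inl (by rw [e1, h2]))
      · exact Or.inr (Or.inr (Or.inl (by rw [e1, h2])))
      · exact Or.inr (Or.inr (Or.inr (by rw [Set.mem_singleton_iff, e1, h2])))
    · have hm : k⁻¹ * l ∈ 𝐊 c' := mul_mem (inv_mem hk) hl
      refine K_third hS hb h (mem_K_of_commute hS (by omega) hN h.r₁ hc.symm hη hηδ.symm he hec.symm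
        (K_le_Q hc'.symm hm) ?_) hm
      replace hkl : k * u * k⁻¹ = l * u * l⁻¹ := hkl
      calc k⁻¹ * l * u = k⁻¹ * (l * u * l⁻¹) * l := by group
        _ = u * (k⁻¹ * l) := by rw [← hkl]; group
  -- `Q c'` over `K c'`
  obtain ⟨a, b, ha, hb', hda, hdb, hab⟩ := exists_pair hS hc'.symm
  obtain ⟨f, hf, hfc⟩ := exists_other hS ha.symm
  have hA : 𝐐 δ ⊓ 𝐐 a ⊓ 𝐐 c' ≤ 𝐊 c' := fun x hx =>
    mem_K_of_commute hS (by omega) hN h.r₂ hc'.symm ha hda hf hfc.symm hx.1.1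
      (zv_commute hS (adj_left ha h.r₂) hf hx.1.2)
  have hQ : (𝐊 c').relIndex (𝐐 c') ≤ 4 := by
    haveI := finite_Q hS c'
    refine (Nat.le_of_dvd (Nat.pos_of_ne_zero fun h => index_ne_zero_of_finite h)
      (relIndex_dvd_of_le_left _ hA)).trans ((inf_relIndex_right _ _).le.trans
      ((relIndex_inf_le ..).trans ?_))
    refine Nat.mul_le_mul (relIndex_Q_le_two hS hc' ?_) (relIndex_Q_le_two hS ha.symm ?_)
    · exact fun x hx => edge_comm c' δ ▸ Q_le_edge hS hc'.symm hx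
    · exact fun x hx => edge_comm c' a ▸ Q_le_edge hS ha hx
  -- `KK δ` over `YY`
  have hY : ∀ {c c' ρ}, Fork M₁ M₂ δ c c' ρ → (𝐘 c').relIndex (KK M₁ M₂ δ) ≤ 2 := by
    intro c c' ρ h
    obtain ⟨η, hη, hηδ⟩ := exists_other hS h.a₁.symm
    obtain ⟨e, he, hec⟩ := exists_other hS hη.symm
    obtain ⟨a, b, ha, hb', hda, hdb, hab⟩ := exists_pair hS h.a₂.symm
    obtain ⟨g, hg, hgδ⟩ := cg_transitive h.a₂.symm hb'
    have hal := adj_left ha h.r₂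
    obtain ⟨d, hd, hdc⟩ := exists_other hS ha.symm
    obtain ⟨θ, hθ, hθa⟩ := exists_other hS hd.symm
    obtain ⟨e', he', he'd⟩ := exists_other hS hθ.symm
    obtain ⟨d', hd', n1', n2', n3'⟩ : ∃ d', (Γ).Adj a d' ∧ d ≠ c' ∧ d ≠ d' ∧ c' ≠ d' := by
      obtain ⟨k, hk, hkQ⟩ := exists_moving hS ha.symm
      exact ⟨k • d, smul_adj hd hk.1, hdc, (moves hS ha.symm hd hdc.symm hk hkQ).symm,
        Q_fix_smul hk.2 hdc.symm⟩
    have ha' : Fork M₁ M₂ a d c' d' := ⟨hal, hd, ha.symm, hd', n1', n2', n3'⟩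
    set u := ζ e
    set u' := g * u * g⁻¹
    have hu : u ∈ 𝐄 c' δ ∧ u ∉ 𝐐 c' := by
      have hcrit := crit_three hS hb h.r₁ hη h.a₁.symm h.a₂ hηδ h.n₁₂
      have h3 := hcrit.le_stab hS (i := 3) (by omega) (x := u) (by simpa using zv_mem_U he)
      have h2 := hcrit.le_stab hS (i := 2) (by omega) (x := u) (by simpa using zv_mem_U he)
      exact ⟨⟨by simpa using h3, by simpa using h2⟩,
        class_out hS hb h.r₁ hη h.a₁.symm h.a₂ hηδ h.n₁₂ he hec.symm⟩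
    have hu'E : u' ∈ 𝐄 c' b := by
      refine ⟨(𝐆 c').mul_mem ((𝐆 c').mul_mem hg hu.1.1) ((𝐆 c').inv_mem hg), ?_⟩
      rw [← hgδ, AmalgamVIter.stab_smul]
      exact ⟨u, hu.1.2, rfl⟩
    have hu'Q : u' ∉ 𝐐 c' := fun hh => hu.2 ((mem_normalizer_iff.1 (normQ c' hg) u).2 hh)
    have hu'δ : u' • δ = a := swap_eq hS hb' h.a₂.symm ha hdb.symm hab.symm hda hu'E hu'Q
    set v := ζ e'
    refine relIndex_le_of_values (fun k => k * v * k⁻¹) ({v, (ζ c)⁻¹ * v * ζ c} : Set X) (Set.toFinite _)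
      ((Set.ncard_insert_le _ _).trans (by rw [Set.ncard_singleton])) (fun k hk => ?_)
      fun k hk l hl hkl => ?_
    · have hk' : u' * k * u'⁻¹ ∈ KK M₁ M₂ a := hu'δ ▸ conj_mem_KK u' hk
      have hw : u' * k * u'⁻¹ * k⁻¹ ∈ 𝐕 c' :=
        comm_K_conj hS hb h hη hηδ he hec.symm hg (KK_le h.a₂ hk)
      have hcomm : u' * k * u'⁻¹ * v = v * (u' * k * u'⁻¹) :=
        K_commute hS ha'.r₁ hθ he' (KK_le hd hk')
      set w := u' * k * u'⁻¹ * k⁻¹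
      have hconj : k * v * k⁻¹ = w⁻¹ * v * w := by
        rw [show k * v * k⁻¹ = w⁻¹ * (u' * k * u'⁻¹ * v * (u' * k * u'⁻¹)⁻¹) * w by simp only [w]; group,
          hcomm, mul_inv_cancel_right]
      have hU : ∀ p ∈ 𝐔 a, p * v = v * p := fun p hp =>
        zv_commute hS (adj_left hθ ha'.r₁) he' (le_Q_of_dist hal (by
          have := dist_nbr hS (x := θ) hd
          rw [dist_adj hθ] at this
          omega) hp)
      rcases mem_V_natural hS (by omega) hN h.r₂ ha h.a₂.symm hda.symm h.a₁ h.n₁₂.symm hw with h' | h'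
      · left
        show k * v * k⁻¹ = v
        rw [hconj, mul_assoc, ← hU w h', inv_mul_cancel_left]
      · right
        show k * v * k⁻¹ ∈ ({_} : Set X)
        rw [Set.mem_singleton_iff, hconj]
        have hwe : w = w * ζ c * ζ c := by rw [mul_assoc, zv_sq hS h.r₁, mul_one]
        rw [hwe, show (w * ζ c * ζ c)⁻¹ * v * (w * ζ c * ζ c)
          = (ζ c)⁻¹ * ((w * ζ c)⁻¹ * (v * (w * ζ c))) * ζ c by group, ← hU _ h', inv_mul_cancel_left]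
    · replace hkl : k * v * k⁻¹ = l * v * l⁻¹ := hkl
      have hm : k⁻¹ * l ∈ KK M₁ M₂ δ := mul_mem (inv_mem hk) hl
      have hmc : k⁻¹ * l * v = v * (k⁻¹ * l) := by
        calc k⁻¹ * l * v = k⁻¹ * (l * v * l⁻¹) * l := by group
          _ = v * (k⁻¹ * l) := by rw [← hkl]; group
      have hmK : k⁻¹ * l ∈ 𝐊 c' := KK_le h.a₂ hm
      have hma : k⁻¹ * l ∈ KK M₁ M₂ a := K_third hS hb ha'
        (mem_K_of_commute hS (by omega) hN ha'.r₁ hd.symm hθ hθa.symm he' he'd.symm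
          (K_le_Q ha hmK) hmc) hmK
      refine mem_iInf.2 fun ν => ?_
      rcases three_cases hS h.a₂.symm ha hb' hda hdb hab ν.2 with h1 | h1 | h1 <;> rw [h1]
      · exact hm
      · exact hma
      · have hub : u • a = b := swap_eq hS h.a₂.symm ha hb' hda hdb hab hu.1 hu.2
        have := conj_mem_KK u hma
        rwa [hub, ← K_commute hS h.r₁ hη he (KK_le h.a₁ hm), mul_inv_cancel_right] at this
  -- the groups `YY` at two neighbours meet trivially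
  have hW : 𝐘 c ⊓ 𝐘 c' = ⊥ := by
    have hcomm : ∀ k ∈ 𝐆 c', ∀ y ∈ 𝐘 c', k * u * k⁻¹ * y = y * (k * u * k⁻¹) := by
      intro k hk y hy
      have hy' : k⁻¹ * y * k⁻¹⁻¹ ∈ 𝐘 c' := by
        have := conj_mem_YY k⁻¹ hy
        rwa [MulAction.mem_stabilizer_iff.1 (inv_mem hk)] at this
      have : k⁻¹ * y * k⁻¹⁻¹ * u = u * (k⁻¹ * y * k⁻¹⁻¹) :=
        K_commute hS h.r₁ hη he (KK_le hc (YY_le hc'.symm hy'))
      calc k * u * k⁻¹ * y = k * (u * (k⁻¹ * y * k⁻¹⁻¹)) * k⁻¹ := by group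
        _ = y * (k * u * k⁻¹) := by rw [← this]; group
    obtain ⟨k₁, hk₁, k₂, hk₂, htE, htQ⟩ := exists_t hS hb h hη hηδ he hec.symm
    set t := k₁ * u * k₁⁻¹ * (k₂ * u * k₂⁻¹)
    have htc : t • c = ρ := swap_eq hS hc' hc hρ h.n₁₂.symm h.n₂₃ h.n₁₃ htE htQ
    set W := ⨅ ν : ↥((Γ).neighborSet δ), 𝐘 (ν : Cfsg.CosetVertex M₁ M₂) with hW_def
    have hle : 𝐘 c ⊓ 𝐘 c' ≤ W := fun x hx => mem_iInf.2 fun ν => by
      rcases three_cases hS h.a₁ h.a₂ h.a₃ h.n₁₂ h.n₁₃ h.n₂₃ ν.2 with h1 | h1 | h1 <;> rw [h1]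
      · exact hx.1
      · exact hx.2
      · have := conj_mem_YY t hx.1
        rwa [htc, show t * x = x * t by
          simp only [t]
          rw [mul_assoc, hcomm k₂ hk₂ x hx.2, ← mul_assoc, hcomm k₁ hk₁ x hx.2, mul_assoc],
          mul_inv_cancel_right] at this
    have hWle : ∀ {ν}, (Γ).Adj δ ν → W ≤ 𝐘 ν := fun {ν} hν =>
      iInf_le (fun ν : ↥((Γ).neighborSet δ) => 𝐘 (ν : Cfsg.CosetVertex M₁ M₂)) ⟨ν, hν⟩
    have hWn : 𝐆 δ ≤ normalizer (W : Set X) := normalizer_of_conj fun g hg x hx => mem_iInf.2 fun ν => by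
      have h1 := conj_mem_YY g (hWle (smul_adj ν.2 (inv_mem hg)) hx)
      rwa [smul_inv_smul] at h1
    obtain ⟨g, hg, hgδ⟩ := cg_transitive hc'.symm hb'
    have hu : u ∈ 𝐄 c' δ ∧ u ∉ 𝐐 c' := by
      have hcrit := crit_three hS hb h.r₁ hη h.a₁.symm h.a₂ hηδ h.n₁₂
      have h3 := hcrit.le_stab hS (i := 3) (by omega) (x := u) (by simpa using zv_mem_U he)
      have h2 := hcrit.le_stab hS (i := 2) (by omega) (x := u) (by simpa using zv_mem_U he)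
      exact ⟨⟨by simpa using h3, by simpa using h2⟩,
        class_out hS hb h.r₁ hη h.a₁.symm h.a₂ hηδ h.n₁₂ he hec.symm⟩
    have hu'E : g * u * g⁻¹ ∈ 𝐄 c' b := by
      refine ⟨(𝐆 c').mul_mem ((𝐆 c').mul_mem hg hu.1.1) ((𝐆 c').inv_mem hg), ?_⟩
      rw [← hgδ, AmalgamVIter.stab_smul]
      exact ⟨u, hu.1.2, rfl⟩
    have hmv := moves hS hb' hc'.symm hdb.symm hu'E
      fun hh => hu.2 ((mem_normalizer_iff.1 (normQ c' hg) u).2 hh)
    have hG : 𝐆 c' ≤ normalizer (W : Set X) := edge_max hS hc'.symm (fun x hx => hWn hx.2)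
      (g := g * u * g⁻¹) (mem_normalizer_of_commute fun x hx => hcomm g hg x (hWle hc' hx)) hu'E.1 hmv
    have hWbot := eq_bot_of_normalized hS hc'
      (((hWle hc').trans (YY_le hc'.symm)).trans ((KK_le hc').trans
        ((K_le_Q hc'.symm).trans (Q_le_edge hS hc')))) hWn hG
    exact le_bot_iff.1 (hWbot ▸ hle)
  -- counting
  have hJQ : KK M₁ M₂ δ ≤ 𝐐 δ := (KK_le hc').trans (K_le_Q hc'.symm)
  haveI : Finite ↥(KK M₁ M₂ δ) := Finite.of_injective _ (inclusion_injective hJQ)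
  have card_rel : ∀ {A B : Subgroup X}, A ≤ B → Nat.card ↥A * A.relIndex B = Nat.card ↥B := by
    intro A B hAB
    have := relIndex_mul_relIndex ⊥ A B bot_le hAB
    rwa [relIndex_bot_left, relIndex_bot_left] at this
  have hY1 := card_rel (YY_le hc.symm : 𝐘 c ≤ KK M₁ M₂ δ)
  have hY2 := card_rel (YY_le hc'.symm : 𝐘 c' ≤ KK M₁ M₂ δ)
  have hY1' := hY h.swap
  have hY2' := hY h
  have hprod : Nat.card ↥(𝐘 c') ≤ (𝐘 c).relIndex (KK M₁ M₂ δ) := by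
    rw [← relIndex_bot_left (H := 𝐘 c'), ← hW, inf_relIndex_right]
    exact relIndex_le_of_le_right (YY_le hc'.symm) (ne0 _ _ hJQ)
  have hJ : Nat.card ↥(KK M₁ M₂ δ) ≤ 4 := by
    rw [← hY2]
    exact (Nat.mul_le_mul (hprod.trans hY1') hY2').trans (by norm_num)
  have hK1 := card_rel (KK_le hc' : KK M₁ M₂ δ ≤ 𝐊 c')
  have hQ1 := card_rel (K_le_self : 𝐊 c' ≤ 𝐐 c')
  have hK' : Nat.card ↥(𝐊 c') ≤ 16 := hK1 ▸ (Nat.mul_le_mul hJ hK).trans (by norm_num)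
  have hQ' : Nat.card ↥(𝐐 c') ≤ 64 := hQ1 ▸ (Nat.mul_le_mul hK' hQ).trans (by norm_num)
  rw [← card_base hS hc'.symm, card_edge hS hc'.symm]
  omega

/-- The bound. -/
theorem bound (hS : Setting M₁ M₂ z) : Nat.card ↥(M₁ ⊓ M₂) ≤ 2 ^ 7 := by
  have := bd_pos hS
  rcases (show bb = 1 ∨ bb = 2 ∨ bb = 3 ∨ bb = 5 ∨ (4 ≤ bb ∧ bb % 2 = 0) ∨ (7 ≤ bb ∧ bb % 2 = 1) by
    omega) with h | h | h | h | h | h
  · exact bound_one hS h
  · exact bound_two hS h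
  · exact bound_three hS h
  · exact (five_false hS h).elim
  · exact (even_false hS h.1 h.2).elim
  · exact (seven_false hS h.1 h.2).elim

end Cfsg.Agent.CharP.CubicAmalgam
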