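import Cfsg.Agent.Lib.CharP.GoldschmidtCubicPaths

/-!
Amalgams of two groups with quotients of degree three: walks without backtracking, the elements fixing
them, and the backward shift of a critical walk.
-/

set_option autoImplicit false
set_option linter.unusedSectionVars false

namespace Cfsg.Agent.CharP.CubicAmalgam

open Subgroup

variable {X : Type*} [Group X] {M₁ M₂ : Subgroup X} {z : X}

local notation "Γ" => Cfsg.cosetGraph M₁ M₂
local notation "𝐆" => MulAction.stabilizer X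
local notation "𝐄" => Cfsg.edgeStabilizer
local notation "𝐐" => Cfsg.vertexQ 2
local notation "ζ" => zv M₁ M₂ z
local notation "𝐔" => U M₁ M₂ z
local notation "𝐕" => V M₁ M₂ z
local notation "bb" => bd M₁ M₂ z

theorem exists_smul_of_type {a b : Cfsg.CosetVertex M₁ M₂} (h : a.isLeft = b.isLeft) :
    ∃ g : X, g • a = b := by
  rcases a with a | a <;> rcases b with b | b <;> simp at h
  all_goals
    obtain ⟨g, hg⟩ := MulAction.exists_smul_eq X a b
  · exact ⟨g, congrArg Sum.inl hg⟩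
  · exact ⟨g, congrArg Sum.inr hg⟩

theorem mem_Q_smul {δ : Cfsg.CosetVertex M₁ M₂} {x : X} (g : X) (h : x ∈ 𝐐 δ) :
    g * x * g⁻¹ ∈ 𝐐 (g • δ) := by
  show _ ∈ Cfsg.pCoreOf 2 _
  rw [AmalgamVIter.stab_smul, pCoreOf_map (MulAut.conj g).injective]
  exact ⟨x, h, rfl⟩

/-- A walk of length `n` without backtracking. -/
structure IsWalk (M₁ M₂ : Subgroup X) (n : ℕ) (p : ℕ → Cfsg.CosetVertex M₁ M₂) : Prop where
  adj : ∀ i, i < n → (Cfsg.cosetGraph M₁ M₂).Adj (p i) (p (i + 1))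
  nb : ∀ i, i + 2 ≤ n → p (i + 2) ≠ p i

theorem IsWalk.sub {n : ℕ} {p : ℕ → Cfsg.CosetVertex M₁ M₂} (hp : IsWalk M₁ M₂ n p) (a m : ℕ)
    (h : a + m ≤ n) : IsWalk M₁ M₂ m fun i => p (a + i) :=
  ⟨fun i hi => hp.adj (a + i) (by omega), fun i hi => hp.nb (a + i) (by omega)⟩

theorem IsWalk.smul {n : ℕ} {p : ℕ → Cfsg.CosetVertex M₁ M₂} (hp : IsWalk M₁ M₂ n p) (g : X) :
    IsWalk M₁ M₂ n fun i => g • p i :=
  ⟨fun i hi => cg_adj_smul g (hp.adj i hi), fun i hi h => hp.nb i hi (smul_left_cancel g h)⟩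

theorem walk_type {n : ℕ} {p : ℕ → Cfsg.CosetVertex M₁ M₂}
    (hp : ∀ i, i < n → (Γ).Adj (p i) (p (i + 1))) {i : ℕ} (hi : i ≤ n) :
    (p i).isLeft = if i % 2 = 0 then (p 0).isLeft else !(p 0).isLeft := by
  induction i with
  | zero => rfl
  | succ i ih =>
    have h := isLeft_adj (hp i (by omega))
    rw [ih (by omega)] at h
    rcases Nat.mod_two_eq_zero_or_one i with h2 | h2
    · rw [if_pos h2] at h
      rw [if_neg (by omega), h, Bool.not_not]
    · rw [if_neg (by omega)] at h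
      rw [if_pos (by omega)]
      cases h0 : (p 0).isLeft <;> rw [h0] at h <;> cases h1 : (p (i + 1)).isLeft <;> simp_all

theorem walk_left {n : ℕ} {p : ℕ → Cfsg.CosetVertex M₁ M₂}
    (hp : ∀ i, i < n → (Γ).Adj (p i) (p (i + 1))) (h0 : (p 0).isLeft = true) {i : ℕ} (hi : i ≤ n)
    (h2 : i % 2 = 0) : (p i).isLeft = true := by rw [walk_type hp hi, if_pos h2, h0]

theorem walk_right {n : ℕ} {p : ℕ → Cfsg.CosetVertex M₁ M₂}
    (hp : ∀ i, i < n → (Γ).Adj (p i) (p (i + 1))) (h0 : (p 0).isLeft = true) {i : ℕ} (hi : i ≤ n)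
    (h2 : i % 2 = 1) : (p i).isLeft = false := by
  rw [walk_type hp hi, if_neg (by omega), h0]
  rfl

theorem walk_dist (hS : Setting M₁ M₂ z) {n : ℕ} {p : ℕ → Cfsg.CosetVertex M₁ M₂}
    (hp : ∀ i, i < n → (Γ).Adj (p i) (p (i + 1))) {i j : ℕ} (hij : i ≤ j) (hj : j ≤ n) :
    (Γ).dist (p i) (p j) ≤ j - i := by
  induction j with
  | zero => rw [Nat.le_zero.1 hij, SimpleGraph.dist_self]
  | succ j ih =>
    rcases Nat.lt_or_ge i (j + 1) with h | h
    · have h1 := ih (by omega) (by omega)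
      have h2 := (connected hS).dist_triangle (u := p i) (v := p j) (w := p (j + 1))
      rw [dist_adj (hp j (by omega))] at h2
      omega
    · rw [show i = j + 1 by omega, SimpleGraph.dist_self]
      exact Nat.zero_le _

/-- Some walk of length `n` starting in type `t` is fixed by an element outside the kernel at its end. -/
def Mover (M₁ M₂ : Subgroup X) (n : ℕ) (t : Bool) : Prop :=
  ∃ (p : ℕ → Cfsg.CosetVertex M₁ M₂) (g : X), IsWalk M₁ M₂ n p ∧ (p 0).isLeft = t ∧
    (∀ i, i ≤ n → g • p i = p i) ∧ g ∉ Cfsg.vertexQ 2 (p n)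

theorem orbit (hS : Setting M₁ M₂ z) {t : Bool} : ∀ (n : ℕ),
    (∀ m, 1 ≤ m → m < n → Mover M₁ M₂ m t) → ∀ {p q : ℕ → Cfsg.CosetVertex M₁ M₂},
      IsWalk M₁ M₂ n p → IsWalk M₁ M₂ n q → (p 0).isLeft = t → (q 0).isLeft = t →
        ∃ g : X, ∀ i, i ≤ n → g • p i = q i := by
  intro n
  induction n with
  | zero =>
    intro _ p q _ _ hp0 hq0
    obtain ⟨g, hg⟩ := exists_smul_of_type (hp0.trans hq0.symm)
    exact ⟨g, fun i hi => by rw [Nat.le_zero.1 hi]; exact hg⟩
  | succ n ih =>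
    intro hmov p q hp hq hp0 hq0
    obtain ⟨g, hg⟩ := ih (fun m h1 h2 => hmov m h1 (by omega))
      (p := p) (q := q) ⟨fun i hi => hp.adj i (by omega), fun i hi => hp.nb i (by omega)⟩
      ⟨fun i hi => hq.adj i (by omega), fun i hi => hq.nb i (by omega)⟩ hp0 hq0
    have ha : (Γ).Adj (q n) (g • p (n + 1)) := hg n le_rfl ▸ cg_adj_smul g (hp.adj n (by omega))
    have hb := hq.adj n (by omega)
    by_cases he : g • p (n + 1) = q (n + 1)
    · refine ⟨g, fun i hi => ?_⟩
      rcases Nat.lt_or_ge i (n + 1) with h | h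
      · exact hg i (by omega)
      · rw [show i = n + 1 by omega]; exact he
    rcases Nat.eq_zero_or_pos n with h0 | h0
    · subst h0
      obtain ⟨k, hk, hke⟩ := cg_transitive ha hb
      refine ⟨k * g, fun i hi => ?_⟩
      rcases Nat.lt_or_ge i 1 with h | h
      · rw [show i = 0 by omega, mul_smul, hg 0 le_rfl, MulAction.mem_stabilizer_iff.1 hk]
      · rw [show i = 1 by omega, mul_smul, hke]
    · obtain ⟨r, s, hr, hr0, hs, hsQ⟩ := hmov n h0 (by omega)
      obtain ⟨k, hk⟩ := ih (fun m h1 h2 => hmov m h1 (by omega))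
        (p := r) (q := q) hr
        ⟨fun i hi => hq.adj i (by omega), fun i hi => hq.nb i (by omega)⟩ hr0 hq0
      set h := k * s * k⁻¹ with hh
      have hfix : ∀ i, i ≤ n → h • q i = q i := fun i hi => by
        rw [← hk i hi, ← mul_smul, hh, show k * s * k⁻¹ * k = k * s by group, mul_smul, hs i hi]
      have hcadj : (Γ).Adj (q n) (q (n - 1)) := by
        have := (hq.adj (n - 1) (by omega)).symm
        rwa [show n - 1 + 1 = n by omega] at this
      have hE : h ∈ 𝐄 (q n) (q (n - 1)) := ⟨MulAction.mem_stabilizer_iff.2 (hfix n le_rfl),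
        MulAction.mem_stabilizer_iff.2 (hfix (n - 1) (by omega))⟩
      have hQ : h ∉ 𝐐 (q n) := fun hm => hsQ (by
        have := mem_Q_smul k⁻¹ hm
        rwa [hh, show k⁻¹ * (k * s * k⁻¹) * k⁻¹⁻¹ = s by group, ← hk n le_rfl, inv_smul_smul] at this)
      have n1 : q (n - 1) ≠ g • p (n + 1) := fun e => hp.nb (n - 1) (by omega) (by
        rw [show n - 1 + 2 = n + 1 by omega]
        exact (smul_left_cancel g ((hg (n - 1) (by omega)).trans e)).symm)
      have n2 : q (n - 1) ≠ q (n + 1) := fun e => hq.nb (n - 1) (by omega) (by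
        rw [show n - 1 + 2 = n + 1 by omega]; exact e.symm)
      refine ⟨h * g, fun i hi => ?_⟩
      rcases Nat.lt_or_ge i (n + 1) with hl | hl
      · rw [mul_smul, hg i (by omega), hfix i (by omega)]
      · rw [show i = n + 1 by omega, mul_smul]
        exact swap_eq hS hcadj ha hb n1 n2 he hE hQ

/-- A walk of length `bd` at whose ends the four-group acts. -/
structure Crit (M₁ M₂ : Subgroup X) (z : X) (v : ℕ → Cfsg.CosetVertex M₁ M₂) : Prop where
  adj : ∀ i, i < bd M₁ M₂ z → (Cfsg.cosetGraph M₁ M₂).Adj (v i) (v (i + 1))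
  left : (v 0).isLeft = true
  out : ¬ U M₁ M₂ z (v 0) ≤ Cfsg.vertexQ 2 (v (bd M₁ M₂ z))

theorem exists_crit (hS : Setting M₁ M₂ z) : ∃ v, Crit M₁ M₂ z v := by
  obtain ⟨α, α', hα, hd, hn⟩ := exists_critical hS
  obtain ⟨w, hw⟩ := ((connected hS).preconnected α α').exists_walk_length_eq_dist
  refine ⟨w.getVert, fun i hi => w.adj_getVert_succ (by omega), by rwa [w.getVert_zero], ?_⟩
  rwa [w.getVert_zero, show bb = w.length by omega, w.getVert_length]

namespace Crit

variable {v : ℕ → Cfsg.CosetVertex M₁ M₂}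

theorem isWalk (hS : Setting M₁ M₂ z) (hv : Crit M₁ M₂ z v) : IsWalk M₁ M₂ bb v :=
  ⟨hv.adj, fun i hi h => by
    have h0 := bd_le hv.left hv.out
    have h1 := walk_dist hS hv.adj (Nat.zero_le i) (by omega)
    have h2 := walk_dist hS hv.adj hi le_rfl
    have h3 := (connected hS).dist_triangle (u := v 0) (v := v i) (w := v bb)
    rw [h] at h2
    omega⟩

theorem dist_le (hS : Setting M₁ M₂ z) (hv : Crit M₁ M₂ z v) {i : ℕ} (hi : i ≤ bb) :
    (Γ).dist (v 0) (v i) ≤ i := walk_dist hS hv.adj (Nat.zero_le i) hi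

theorem le_stab (hS : Setting M₁ M₂ z) (hv : Crit M₁ M₂ z v) {i : ℕ} (hi : i ≤ bb) :
    𝐔 (v 0) ≤ 𝐆 (v i) :=
  le_stab_of_dist hS hv.left ((dist_le hS hv hi).trans hi)

theorem le_Q (hS : Setting M₁ M₂ z) (hv : Crit M₁ M₂ z v) {i : ℕ} (hi : i < bb) :
    𝐔 (v 0) ≤ 𝐐 (v i) :=
  le_Q_of_dist hv.left (lt_of_le_of_lt (dist_le hS hv hi.le) hi)

theorem mover (hS : Setting M₁ M₂ z) (hv : Crit M₁ M₂ z v) {m : ℕ} (hm : m ≤ bb) :
    Mover M₁ M₂ m (v (bb - m)).isLeft := by
  obtain ⟨u, hu, huQ⟩ := SetLike.not_le_iff_exists.1 hv.out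
  exact ⟨fun i => v (bb - m + i), u, (hv.isWalk hS).sub _ _ (by omega), rfl,
    fun i hi => MulAction.mem_stabilizer_iff.1 (hv.le_stab hS (by omega) hu),
    by show u ∉ Cfsg.vertexQ 2 (v (bb - m + m)); rwa [show bb - m + m = bb by omega]⟩

/-- If an element fixes a long walk ending in the other type and lies outside the kernel at its end,
then every walk of length `bd` from the first type is critical. -/
theorem no_long_mover (hS : Setting M₁ M₂ z) (hv : Crit M₁ M₂ z v) {N : ℕ}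
    {L : ℕ → Cfsg.CosetVertex M₁ M₂} (hL : IsWalk M₁ M₂ N L) (hN : bb ≤ N + 1) {g : X}
    (hg : ∀ i, i ≤ N → g • L i = L i) (hgQ : g ∉ 𝐐 (L N))
    (hty : (L N).isLeft = !(v bb).isLeft) {p : ℕ → Cfsg.CosetVertex M₁ M₂}
    (hp : IsWalk M₁ M₂ bb p) (hp0 : (p 0).isLeft = true) : ¬ 𝐔 (p 0) ≤ 𝐐 (p bb) := by
  have hmov : ∀ m, 1 ≤ m → m < bb → Mover M₁ M₂ m true := by
    intro m hm1 hm2
    rcases Nat.mod_two_eq_zero_or_one (bb - m) with h | h
    · rw [← walk_left hv.adj hv.left (show bb - m ≤ bb by omega) h]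
      exact hv.mover hS hm2.le
    · refine ⟨fun i => L (N - m + i), g, hL.sub _ _ (by omega), ?_,
        fun i hi => hg _ (by omega), by show g ∉ Cfsg.vertexQ 2 (L (N - m + m)); rwa [show N - m + m = N by omega]⟩
      show (L (N - m + 0)).isLeft = true
      have e1 := walk_type (i := m) (fun i hi => (hL.sub (N - m) m (by omega)).adj i hi) le_rfl
      rw [show N - m + m = N by omega, hty, walk_type hv.adj le_rfl, hv.left] at e1
      revert e1
      cases (L (N - m + 0)).isLeft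
      · split_ifs <;> first | omega | simp
      · simp
  obtain ⟨k, hk⟩ := orbit hS bb hmov (hv.isWalk hS) hp hv.left hp0
  intro hle
  refine hv.out fun x hx => ?_
  have h1 := hle (hk 0 (Nat.zero_le _) ▸ conj_mem_U hS k hv.left hx)
  have := mem_Q_smul k⁻¹ h1
  rwa [show k⁻¹ * (k * x * k⁻¹) * k⁻¹⁻¹ = x by group, ← hk bb le_rfl, inv_smul_smul] at this

/-- An element of the far four-group acting at the start. -/
theorem exists_noncommuting (hS : Setting M₁ M₂ z) (hv : Crit M₁ M₂ z v) {u : X} (hu : u ∈ 𝐔 (v 0))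
    (huQ : u ∉ 𝐐 (v bb)) (ht : (v bb).isLeft = true) :
    ∃ c, (Γ).Adj (v bb) c ∧ u * ζ c ≠ ζ c * u := by
  by_contra h
  push Not at h
  exact huQ (mem_Q_of_commute hS ht (hv.le_stab hS le_rfl hu) h)

theorem swap_comm (hS : Setting M₁ M₂ z) (hb : 3 ≤ bb) {α c β β' : Cfsg.CosetVertex M₁ M₂}
    (hα : α.isLeft = true) (hc : (Γ).Adj α c) (hβ : (Γ).Adj α β) (hβ' : (Γ).Adj α β') (hcβ : c ≠ β)
    (hcβ' : c ≠ β') (hne : β ≠ β') {h : X} (hh : h ∈ 𝐄 α c) (hhQ : h ∉ 𝐐 α) {x : X} (hx : x ∈ 𝐕 β)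
    (hxh : h * x = x * h) : x ∈ 𝐔 α := by
  refine V_inter hS hb hα hβ hβ' hne ⟨hx, ?_⟩
  have := conj_mem_V hS h (adj_right hβ hα) hx
  rwa [swap_eq hS hc hβ hβ' hcβ hcβ' hne hh hhQ, hxh, mul_inv_cancel_right] at this

/-- The backward shift. -/
theorem shift (hS : Setting M₁ M₂ z) (hb : 4 ≤ bb) (hv : Crit M₁ M₂ z v) :
    ∃ β w, (Γ).Adj (v 0) β ∧ β ≠ v 1 ∧ (Γ).Adj β w ∧ ¬ 𝐔 w ≤ 𝐐 (v (bb - 2)) := by
  by_contra hcon
  push Not at hcon
  have hW := hv.isWalk hS
  have hα := hv.left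
  have h01 : (Γ).Adj (v 0) (v 1) := hv.adj 0 (by omega)
  have h12 : (Γ).Adj (v 1) (v 2) := hv.adj 1 (by omega)
  have hδμ : (Γ).Adj (v (bb - 2)) (v (bb - 1)) := by
    have := hv.adj (bb - 2) (by omega)
    rwa [show bb - 2 + 1 = bb - 1 by omega] at this
  have hδα' : (Γ).Adj (v (bb - 1)) (v bb) := by
    have := hv.adj (bb - 1) (by omega)
    rwa [show bb - 1 + 1 = bb by omega] at this
  have hμQ : ∀ β, (Γ).Adj (v 0) β → β ≠ v 1 → 𝐕 β ≤ 𝐐 (v (bb - 2)) := fun β h1 h2 =>
    V_le fun w hw => hcon β w h1 h2 hw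
  have hdist : ∀ β, (Γ).Adj (v 0) β → ∀ i, i ≤ bb → (Γ).dist β (v i) ≤ i + 1 := fun β hβ i hi => by
    have := dist_nbr hS (x := v i) hβ.symm
    have := hv.dist_le hS hi
    omega
  -- no long mover
  have hnm : ∀ {N : ℕ} {L : ℕ → Cfsg.CosetVertex M₁ M₂}, IsWalk M₁ M₂ N L → bb ≤ N + 1 → ∀ {g : X},
      (∀ i, i ≤ N → g • L i = L i) → g ∉ 𝐐 (L N) → (L N).isLeft = !(v bb).isLeft → False := by
    intro N L hL hN g hg hgQ hty
    obtain ⟨β, hβ, hβ1⟩ := exists_other hS h01
    obtain ⟨w, hw, hw0⟩ := exists_other hS hβ.symm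
    refine hv.no_long_mover hS hL hN hg hgQ hty
      (p := fun i => if i = 0 then w else if i = 1 then β else v (i - 2)) ⟨fun i hi => ?_, fun i hi => ?_⟩
      (adj_left hw (adj_right hβ hα)) ?_
    · rcases i with _ | _ | i
      · simpa using hw.symm
      · simpa using hβ.symm
      · simpa using hv.adj i (by omega)
    · rcases i with _ | _ | i
      · simpa using hw0.symm
      · simpa using hβ1.symm
      · simpa using hW.nb i (by omega)
    · simpa [show bb ≠ 0 by omega, show bb ≠ 1 by omega] using hcon β w hβ hβ1 hw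
  -- the groups at the other neighbours fix the last edge
  have hVδ : ∀ β, (Γ).Adj (v 0) β → β ≠ v 1 → 𝐕 β ≤ 𝐐 (v (bb - 1)) := by
    intro β hβ hβ1 a ha
    by_contra hn
    refine hnm (N := bb) (L := fun i => if i = 0 then β else v (i - 1)) ⟨fun i hi => ?_, fun i hi => ?_⟩
      (by omega) (g := a) (fun i hi => ?_) ?_ ?_
    · rcases i with _ | i
      · simpa using hβ.symm
      · simpa using hv.adj i (by omega)
    · rcases i with _ | i
      · simpa using hβ1.symm
      · simpa using hW.nb i (by omega)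
    · rcases i with _ | i
      · simpa using MulAction.mem_stabilizer_iff.1
          (V_le_stab hS (adj_right hβ hα) (by rw [SimpleGraph.dist_self]; omega) ha)
      · simp only [Nat.succ_ne_zero, if_false, Nat.add_sub_cancel]
        rcases Nat.lt_or_ge i (bb - 1) with h | h
        · exact MulAction.mem_stabilizer_iff.1 (V_le_stab hS (adj_right hβ hα)
            (by have := hdist β hβ i (by omega); omega) ha)
        · rw [show i = bb - 1 by omega]
          exact Q_fix hS hδμ (hμQ β hβ hβ1 ha)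
    · simpa [show bb ≠ 0 by omega] using hn
    · simpa [show bb ≠ 0 by omega] using isLeft_adj hδα'
  obtain ⟨β, β', hβ, hβ', hβ1, hβ'1, hne⟩ := exists_pair hS h01
  obtain ⟨u, hu, huQ⟩ := SetLike.not_le_iff_exists.1 hv.out
  have huδ : u ∈ 𝐄 (v bb) (v (bb - 1)) :=
    (edge_comm (v (bb - 1)) (v bb)).le (Q_le_edge hS hδα' (hv.le_Q hS (by omega) hu))
  have huβ : u ∈ 𝐕 β := U_le_V hβ.symm hu
  obtain ⟨a, ha, haU⟩ := SetLike.not_le_iff_exists.1
    (fun hle : 𝐕 β ≤ 𝐔 (v 0) => V_ne hS (by omega) hα hβ hβ' hne (hle.trans (U_le_V hβ'.symm)))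
  have haE : ∀ x ∈ 𝐕 β, x ∈ 𝐄 (v bb) (v (bb - 1)) := fun x hx =>
    (edge_comm (v (bb - 1)) (v bb)).le (Q_le_edge hS hδα' (hVδ β hβ hβ1.symm hx))
  have hend : ∀ (h : X), h ∈ 𝐄 (v 0) (v 1) → h ∉ 𝐐 (v 0) →
      (∀ x ∈ 𝐕 β, x ∈ 𝐐 (v bb) → h * x = x * h) → False := by
    intro h hh hhQ hcomm
    by_cases haQ : a ∈ 𝐐 (v bb)
    · exact haU (swap_comm hS (by omega) hα h01 hβ hβ' hβ1 hβ'1 hne hh hhQ ha (hcomm a ha haQ))
    · have h2 : a * u ∈ 𝐐 (v bb) :=
        (mul_mem_Q hS hδα'.symm (haE a ha) huδ).2 (iff_of_false haQ huQ)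
      have := swap_comm hS (by omega) hα h01 hβ hβ' hβ1 hβ'1 hne hh hhQ (mul_mem ha huβ)
        (hcomm _ (mul_mem ha huβ) h2)
      exact haU (by simpa [mul_assoc] using (𝐔 (v 0)).mul_mem this ((𝐔 (v 0)).inv_mem hu))
  rcases Nat.mod_two_eq_zero_or_one bb with heven | hodd
  · -- the end is of the first type
    have hα' := walk_left hv.adj hα le_rfl heven
    obtain ⟨c, hc, hnc⟩ := hv.exists_noncommuting hS hu huQ hα'
    have hd : ∀ i, i ≤ bb → ζ c ∈ 𝐆 (v i) := fun i hi => le_stab_of_dist hS hα'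
      (by rw [SimpleGraph.dist_comm]; exact (walk_dist hS hv.adj hi le_rfl).trans (by omega)) (zv_mem_U hc)
    refine hend (ζ c) ⟨hd 0 (Nat.zero_le _), hd 1 (by omega)⟩
      (fun hq => hnc (Q_commute hS hα hq hu).symm) fun x _ hxQ => (zv_commute hS hα' hc hxQ).symm
  · -- the end is of the second type
    have hα' := walk_right hv.adj hα le_rfl hodd
    have hVQ : ∀ β, (Γ).Adj (v 0) β → β ≠ v 1 → ∀ x ∈ 𝐕 β, x ∈ 𝐐 (v bb) → ∀ γ, (Γ).Adj (v bb) γ →
        x ∈ 𝐐 γ := by
      intro β hβ hβ1 x hx hxQ γ hγ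
      by_cases hγδ : γ = v (bb - 1)
      · exact hγδ ▸ hVδ β hβ hβ1 hx
      by_contra hn
      refine hnm (N := bb + 2)
        (L := fun i => if i = 0 then β else if i ≤ bb + 1 then v (i - 1) else γ)
        ⟨fun i hi => ?_, fun i hi => ?_⟩ (by omega) (g := x) (fun i hi => ?_) ?_ ?_
      · rcases i with _ | i
        · simpa using hβ.symm
        · rcases Nat.lt_or_ge i bb with h | h
          · simpa [show i + 1 ≤ bb + 1 by omega, show i + 1 + 1 ≤ bb + 1 by omega] using hv.adj i h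
          · simpa [show i = bb by omega] using hγ
      · rcases i with _ | i
        · simpa [show 1 ≤ bb by omega] using hβ1.symm
        · rcases Nat.lt_or_ge i (bb - 1) with h | h
          · simpa [show i + 1 ≤ bb + 1 by omega, show i + 1 + 2 ≤ bb + 1 by omega] using
              hW.nb i (by omega)
          · simpa [show i = bb - 1 by omega, show bb - 1 + 1 ≤ bb + 1 by omega,
              show ¬ bb - 1 + 1 + 2 ≤ bb + 1 by omega] using hγδ
      · rcases i with _ | i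
        · simpa using MulAction.mem_stabilizer_iff.1
            (V_le_stab hS (adj_right hβ hα) (by rw [SimpleGraph.dist_self]; omega) hx)
        · rcases Nat.lt_or_ge i (bb + 1) with h | h
          · simp only [Nat.succ_ne_zero, if_false, show i + 1 ≤ bb + 1 by omega, if_true,
              Nat.add_sub_cancel]
            rcases Nat.lt_or_ge i (bb - 1) with h' | h'
            · exact MulAction.mem_stabilizer_iff.1 (V_le_stab hS (adj_right hβ hα)
                (by have := hdist β hβ i (by omega); omega) hx)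
            · rcases Nat.lt_or_ge i bb with h'' | h''
              · rw [show i = bb - 1 by omega]
                exact MulAction.mem_stabilizer_iff.1 (pCoreOf_le 2 _ (hVδ β hβ hβ1 hx))
              · rw [show i = bb by omega]
                exact MulAction.mem_stabilizer_iff.1 (pCoreOf_le 2 _ hxQ)
          · simpa [show i = bb + 1 by omega] using Q_fix hS hγ hxQ
      · simpa using hn
      · simpa [hα'] using adj_left hγ hα'
    have hVcomm : ∀ β, (Γ).Adj (v 0) β → β ≠ v 1 → ∀ x ∈ 𝐕 β, x ∈ 𝐐 (v bb) → ∀ γ, (Γ).Adj (v bb) γ →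
        ∀ y ∈ 𝐔 γ, y * x = x * y := fun β hβ hβ1 x hx hxQ γ hγ y hy =>
      (Q_commute hS (adj_left hγ hα') (hVQ β hβ hβ1 x hx hxQ γ hγ) hy).symm
    have hdγ : ∀ γ, (Γ).Adj (v bb) γ → ∀ i, i ≤ bb → (Γ).dist γ (v i) ≤ bb - i + 1 := fun γ hγ i hi => by
      have h1 := dist_nbr hS (x := v i) hγ.symm
      have h2 : (Γ).dist (v bb) (v i) ≤ bb - i := by
        rw [SimpleGraph.dist_comm]; exact walk_dist hS hv.adj hi le_rfl
      omega
    by_cases hA : ∀ γ, (Γ).Adj (v bb) γ → 𝐔 γ ≤ 𝐐 (v 1)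
    · obtain ⟨γ₁, γ₂, hγ₁, hγ₂, hn1, hn2, hn12⟩ := exists_pair hS hδα'.symm
      have hsw := swap_eq hS hδα'.symm hγ₁ hγ₂ hn1 hn2 hn12 huδ huQ
      have hnc : ∃ y ∈ 𝐔 γ₁, u * y ≠ y * u := by
        by_contra h
        push Not at h
        obtain ⟨e, he, hee⟩ := exists_other hS hγ₁.symm
        have hmem : ζ e ∈ 𝐔 γ₂ := by
          have := conj_mem_U hS u (adj_left hγ₁ hα') (zv_mem_U he)
          rwa [hsw, h _ (zv_mem_U he), mul_inv_cancel_right] at this
        rcases U_inter hS (adj_left hγ₁ hα') hγ₁ hγ₂ hn12 (zv_mem_U he) hmem with h1 | h1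
        · exact zv_ne_one hS (adj_right he (adj_left hγ₁ hα')) h1
        · exact hee (zv_injective hS (adj_left hγ₁ hα') he hγ₁.symm h1)
      obtain ⟨y, hy, hyu⟩ := hnc
      refine hend y ⟨?_, ?_⟩ (fun hq => hyu (Q_commute hS hα hq hu).symm)
        fun x hx hxQ => hVcomm β hβ hβ1.symm x hx hxQ γ₁ hγ₁ y hy
      · exact MulAction.mem_stabilizer_iff.2 (Q_fix hS h01.symm (hA γ₁ hγ₁ hy))
      · exact pCoreOf_le 2 _ (hA γ₁ hγ₁ hy)
    · push Not at hA
      obtain ⟨γ, hγ, hn⟩ := hA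
      obtain ⟨h, hh, hhQ⟩ := SetLike.not_le_iff_exists.1 hn
      have hγl := adj_left hγ hα'
      have hh1 : h ∈ 𝐆 (v 1) :=
        le_stab_of_dist hS hγl (by have := hdγ γ hγ 1 (by omega); omega) hh
      have hh2 : h ∈ 𝐐 (v 2) :=
        le_Q_of_dist hγl (by have := hdγ γ hγ 2 (by omega); omega) hh
      set W := ⨆ c : ↥((Γ).neighborSet (v 0)), 𝐕 (c : Cfsg.CosetVertex M₁ M₂) with hWdef
      have hleW : ∀ c, (Γ).Adj (v 0) c → 𝐕 c ≤ W := fun c hc =>
        le_iSup (fun c : ↥((Γ).neighborSet (v 0)) => 𝐕 (c : Cfsg.CosetVertex M₁ M₂)) ⟨c, hc⟩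
      have hWQ : W ≤ 𝐐 (v 0) := iSup_le fun c =>
        V_le_Q_nbr hS (by omega) (adj_right c.2 hα) c.2.symm
      have hWn : 𝐆 (v 0) ≤ normalizer (W : Set X) := by
        haveI := finite_vertex hS (v 0)
        intro g hg
        refine mem_normalizer_of_conj_map (le_antisymm ?_ ?_)
        · rw [hWdef, map_le_iff_le_comap]
          refine iSup_le fun c x hx => ?_
          exact hleW _ (smul_adj c.2 hg) (conj_mem_V hS g (adj_right c.2 hα) hx)
        · rw [hWdef]
          refine iSup_le fun c x hx => ?_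
          refine ⟨g⁻¹ * x * g⁻¹⁻¹, hleW _ (smul_adj c.2 (inv_mem hg))
            (conj_mem_V hS g⁻¹ (adj_right c.2 hα) hx), ?_⟩
          show g * (g⁻¹ * x * g⁻¹⁻¹) * g⁻¹ = x
          group
      have hhW : h ∈ normalizer (W : Set X) := by
        haveI : Finite ↥W := haveI := finite_Q hS (v 0); Finite.of_injective _ (inclusion_injective hWQ)
        refine mem_normalizer_of_conj_map ?_
        refine eq_of_le_of_card_ge ?_ (le_of_eq (card_map_of_injective (MulAut.conj h).injective).symm)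
        rw [map_le_iff_le_comap]
        refine iSup_le fun c x hx => ?_
        show h * x * h⁻¹ ∈ W
        have hcr := adj_right c.2 hα
        by_cases hc1 : (c : Cfsg.CosetVertex M₁ M₂) = v 1
        · refine hleW _ h01 ?_
          rw [hc1] at hx
          have := conj_mem_V hS h (adj_right h01 hα) hx
          rwa [MulAction.mem_stabilizer_iff.1 hh1] at this
        have hxE : x ∈ 𝐄 (v bb) (v (bb - 1)) := (edge_comm (v (bb - 1)) (v bb)).le (Q_le_edge hS hδα' (hVδ _ c.2 hc1 hx))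
        by_cases hxQ : x ∈ 𝐐 (v bb)
        · rw [hVcomm _ c.2 hc1 x hx hxQ γ hγ h hh, mul_inv_cancel_right]
          exact hleW _ c.2 hx
        · have hxu : x * u ∈ 𝐕 (c : Cfsg.CosetVertex M₁ M₂) := mul_mem hx (U_le_V c.2.symm hu)
          have h2 := hVcomm _ c.2 hc1 _ hxu
            ((mul_mem_Q hS hδα'.symm hxE huδ).2 (iff_of_false hxQ huQ)) γ hγ h hh
          rw [show h * x * h⁻¹ = h * (x * u) * h⁻¹ * (h * u * h⁻¹)⁻¹ by group, h2, mul_inv_cancel_right]
          refine mul_mem (hleW _ c.2 hxu) (inv_mem (hleW _ h01 ?_))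
          have hhα : (Γ).Adj (v 1) (h • v 0) := smul_adj h01.symm hh1
          exact U_le_V hhα (conj_mem_U hS h hα hu)
      have hE1 : 𝐄 (v 1) (v 0) ≤ normalizer (W : Set X) := fun g hg => hWn hg.2
      have hmv : h • v 0 ≠ v 0 := moves hS h12 h01.symm (hW.nb 0 (by omega))
        ⟨hh1, pCoreOf_le 2 _ hh2⟩ hhQ
      have hbot := eq_bot_of_normalized hS h01 (hWQ.trans (Q_le_edge hS h01)) hWn
        (edge_max hS h01.symm hE1 hhW hh1 hmv)
      exact zv_ne_one hS (adj_right h01 hα)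
        (mem_bot.1 (hbot ▸ hleW _ h01 (U_le_V h01.symm (zv_mem_U h01))))

end Crit

end Cfsg.Agent.CharP.CubicAmalgam
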