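import Mathlib
import Cfsg.Agent.Lib.CharP.AmalgamVIter
import Cfsg.Agent.Lib.CharP.OffenderTransvection

/-!
Amalgams of two groups with common Sylow 2-subgroup of index `q` (a prime), `O₂` of index 2 in it and
`Ω₁Z` of it noncentral on both sides: vertex facts, transvections at critical pairs, `q = 3`.
-/

set_option autoImplicit false
set_option linter.unusedSectionVars false

namespace Cfsg.Agent.CharP.S3Amalgam

open Subgroup
open scoped commutatorElement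

variable {X : Type*} [Group X] {M₁ M₂ : Subgroup X} {q : ℕ}

/-- The standing hypothesis. -/
structure Setting (M₁ M₂ : Subgroup X) (q : ℕ) : Prop where
  charP : Cfsg.IsCharPAmalgamPair 2 M₁ M₂
  prime : q.Prime
  twoGroup : IsPGroup 2 ↥(M₁ ⊓ M₂)
  index₁ : (M₁ ⊓ M₂).relIndex M₁ = q
  index₂ : (M₁ ⊓ M₂).relIndex M₂ = q
  core₁ : (Cfsg.pCoreOf 2 M₁).relIndex (M₁ ⊓ M₂) = 2
  core₂ : (Cfsg.pCoreOf 2 M₂).relIndex (M₁ ⊓ M₂) = 2
  central₁ : ¬ M₁ ≤ centralizer (omegaCentre 2 (M₁ ⊓ M₂) : Set X)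
  central₂ : ¬ M₂ ≤ centralizer (omegaCentre 2 (M₁ ⊓ M₂) : Set X)

local notation "Γ" => Cfsg.cosetGraph M₁ M₂
local notation "𝐆" => MulAction.stabilizer X
local notation "𝐄" => Cfsg.edgeStabilizer
local notation "𝐐" => Cfsg.vertexQ 2
local notation "𝐙" => Cfsg.vertexZ 2

theorem le_centralizer_map_conj {A B : Subgroup X} {x : X}
    (h : A.map (MulAut.conj x).toMonoidHom ≤
      centralizer ((B.map (MulAut.conj x).toMonoidHom : Subgroup X) : Set X)) :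
    A ≤ centralizer (B : Set X) := fun a ha => mem_centralizer_iff.2 fun b hb => by
  apply (MulAut.conj x).injective
  rw [map_mul, map_mul]
  exact mem_centralizer_iff.1 (h (mem_map_of_mem _ ha)) _ (mem_map_of_mem _ hb)

theorem edge_data (hS : Setting M₁ M₂ q) {δ μ : Cfsg.CosetVertex M₁ M₂} (h : (Γ).Adj δ μ) :
    IsPGroup 2 ↥(𝐄 δ μ) ∧ (𝐄 δ μ).relIndex (𝐆 δ) = q ∧ (𝐐 δ).relIndex (𝐄 δ μ) = 2 ∧
      ¬ 𝐆 δ ≤ centralizer (omegaCentre 2 (𝐄 δ μ) : Set X) := by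
  have key : ∀ (x : X) (M : Subgroup X), (M₁ ⊓ M₂).relIndex M = q →
      (Cfsg.pCoreOf 2 M).relIndex (M₁ ⊓ M₂) = 2 →
      ¬ M ≤ centralizer (omegaCentre 2 (M₁ ⊓ M₂) : Set X) →
      𝐄 δ μ = (M₁ ⊓ M₂).map (MulAut.conj x).toMonoidHom →
      𝐆 δ = M.map (MulAut.conj x).toMonoidHom →
      IsPGroup 2 ↥(𝐄 δ μ) ∧ (𝐄 δ μ).relIndex (𝐆 δ) = q ∧ (𝐐 δ).relIndex (𝐄 δ μ) = 2 ∧
        ¬ 𝐆 δ ≤ centralizer (omegaCentre 2 (𝐄 δ μ) : Set X) := by
    intro x M h1 h2 h3 hE hG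
    show _ ∧ _ ∧ (Cfsg.pCoreOf 2 (𝐆 δ)).relIndex _ = 2 ∧ _
    rw [hE, hG, pCoreOf_map (MulAut.conj x).injective,
      relIndex_map_map_of_injective _ _ (MulAut.conj x).injective,
      relIndex_map_map_of_injective _ _ (MulAut.conj x).injective,
      ← omegaCentre_map (MulAut.conj x).injective]
    exact ⟨hS.twoGroup.map _, h1, h2, fun hc => h3 (le_centralizer_map_conj hc)⟩
  rcases cg_adj_iff.1 h with ⟨x, rfl, rfl⟩ | ⟨x, rfl, rfl⟩
  · exact key x M₁ hS.index₁ hS.core₁ hS.central₁ (cg_edge x) (cg_stab_inl x)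
  · refine key x M₂ hS.index₂ hS.core₂ hS.central₂ ?_ (cg_stab_inr x)
    rw [← cg_edge, Cfsg.edgeStabilizer, Cfsg.edgeStabilizer, inf_comm]

theorem edge_comm (δ μ : Cfsg.CosetVertex M₁ M₂) : 𝐄 δ μ = 𝐄 μ δ := inf_comm _ _

theorem finite_vertex (hS : Setting M₁ M₂ q) (δ : Cfsg.CosetVertex M₁ M₂) : Finite ↥(𝐆 δ) :=
  finite_stab hS.charP.2.1 hS.charP.2.2.1 δ

theorem finite_edge (hS : Setting M₁ M₂ q) (δ μ : Cfsg.CosetVertex M₁ M₂) : Finite ↥(𝐄 δ μ) :=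
  haveI := finite_vertex hS δ
  Finite.of_injective _ (inclusion_injective inf_le_left)

theorem isSylIn_edge (hS : Setting M₁ M₂ q) {δ μ : Cfsg.CosetVertex M₁ M₂} (h : (Γ).Adj δ μ) :
    IsSylIn 2 (𝐄 δ μ) (𝐆 δ) ∧ IsSylIn 2 (𝐄 δ μ) (𝐆 μ) := by
  have : Fact (Nat.Prime 2) := ⟨Nat.prime_two⟩
  have := finite_edge hS δ μ
  refine isSylIn_of_edge hS.charP h (isSylIn_of_not_dvd (edge_data hS h).1 le_rfl ?_)
  rw [relIndex_self]
  decide

theorem Q_le_edge (hS : Setting M₁ M₂ q) {δ μ : Cfsg.CosetVertex M₁ M₂} (h : (Γ).Adj δ μ) :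
    𝐐 δ ≤ 𝐄 δ μ := by
  have : Fact (Nat.Prime 2) := ⟨Nat.prime_two⟩
  exact pCoreOf_le_of_isSylIn (isSylIn_edge hS h).1

theorem normQ (δ : Cfsg.CosetVertex M₁ M₂) : 𝐆 δ ≤ normalizer (𝐐 δ : Set X) :=
  le_normalizer_pCoreOf 2 (𝐆 δ)

theorem edge_ne (hS : Setting M₁ M₂ q) {δ μ : Cfsg.CosetVertex M₁ M₂} (h : (Γ).Adj δ μ) :
    ¬ 𝐄 δ μ ≤ 𝐐 δ := fun hle => by
  have h2 := (edge_data hS h).2.2.1
  rw [relIndex_eq_one.2 hle] at h2
  exact absurd h2 (by norm_num)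

theorem edge_not_normal (hS : Setting M₁ M₂ q) {δ μ : Cfsg.CosetVertex M₁ M₂} (h : (Γ).Adj δ μ) :
    ¬ 𝐆 δ ≤ normalizer (𝐄 δ μ : Set X) := fun hn =>
  edge_ne hS h (le_pCoreOf inf_le_left hn (edge_data hS h).1)

/-- The edge stabiliser is maximal in the vertex stabiliser. -/
theorem edge_max (hS : Setting M₁ M₂ q) {δ μ : Cfsg.CosetVertex M₁ M₂} (h : (Γ).Adj δ μ)
    {K : Subgroup X} (h1 : 𝐄 δ μ ≤ K) {g : X} (hgK : g ∈ K) (hg : g ∈ 𝐆 δ) (hgμ : g • μ ≠ μ) :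
    𝐆 δ ≤ K := by
  have h2 : 𝐄 δ μ ≤ K ⊓ 𝐆 δ := le_inf h1 inf_le_left
  have hmul := relIndex_mul_relIndex (𝐄 δ μ) (K ⊓ 𝐆 δ) (𝐆 δ) h2 inf_le_right
  rw [(edge_data hS h).2.1] at hmul
  rcases (Nat.dvd_prime hS.prime).1 (Dvd.intro _ hmul) with h3 | h3
  · exact absurd (MulAction.mem_stabilizer_iff.1 ((relIndex_eq_one.1 h3) ⟨hgK, hg⟩).2) hgμ
  · rw [h3, Nat.mul_eq_left hS.prime.ne_zero] at hmul
    exact fun x hx => ((relIndex_eq_one.1 hmul) hx).1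

/-- An element centralised by an edge group and by an element moving the edge is central. -/
theorem move (hS : Setting M₁ M₂ q) {δ μ : Cfsg.CosetVertex M₁ M₂} (h : (Γ).Adj δ μ) {z g : X}
    (hz : ∀ x ∈ 𝐄 δ μ, x * z = z * x) (hg : g ∈ 𝐆 δ) (hgμ : g • μ ≠ μ) (hgz : g * z = z * g) :
    ∀ x ∈ 𝐆 δ, x * z = z * x := fun x hx =>
  mem_centralizer_singleton_iff.1 (edge_max hS h (K := centralizer {z})
    (fun y hy => mem_centralizer_singleton_iff.2 (hz y hy))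
    (mem_centralizer_singleton_iff.2 hgz) hg hgμ hx)

/-- An element of an edge group central in both vertex groups is trivial. -/
theorem faith (hS : Setting M₁ M₂ q) {δ μ : Cfsg.CosetVertex M₁ M₂} (h : (Γ).Adj δ μ) {z : X}
    (hz : z ∈ 𝐄 δ μ) (hδ : ∀ x ∈ 𝐆 δ, x * z = z * x) (hμ : ∀ x ∈ 𝐆 μ, x * z = z * x) : z = 1 := by
  have key : ∀ x, x * z = z * x → x ∈ normalizer (zpowers z : Set X) := fun x hx =>
    centralizer_le_normalizer _ (mem_centralizer_iff.2 fun y hy => by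
      obtain ⟨i, rfl⟩ := mem_zpowers_iff.1 hy
      exact (((show Commute x z from hx).zpow_right i)).symm.eq)
  refine zpowers_eq_bot.1 (eq_bot_of_transitive hS.charP.1 h (zpowers_le.2 hz) ?_ ?_)
  · intro ν hν
    obtain ⟨g, hg, hgν⟩ := cg_transitive h hν
    exact ⟨g, ⟨key g (hδ g hg), hg⟩, hgν⟩
  · intro ν hν
    obtain ⟨g, hg, hgν⟩ := cg_transitive h.symm hν
    exact ⟨g, ⟨key g (hμ g hg), hg⟩, hgν⟩

/-- A subgroup of an edge group normalised by both vertex groups is trivial. -/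
theorem eq_bot_of_normalized (hS : Setting M₁ M₂ q) {δ μ : Cfsg.CosetVertex M₁ M₂} (h : (Γ).Adj δ μ)
    {U : Subgroup X} (hU : U ≤ 𝐄 δ μ) (hδ : 𝐆 δ ≤ normalizer (U : Set X))
    (hμ : 𝐆 μ ≤ normalizer (U : Set X)) : U = ⊥ := by
  refine eq_bot_of_transitive hS.charP.1 h hU ?_ ?_
  · intro ν hν
    obtain ⟨g, hg, hgν⟩ := cg_transitive h hν
    exact ⟨g, ⟨hδ hg, hg⟩, hgν⟩
  · intro ν hν
    obtain ⟨g, hg, hgν⟩ := cg_transitive h.symm hν
    exact ⟨g, ⟨hμ hg, hg⟩, hgν⟩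

/-- Two different edge groups at a vertex meet in the kernel. -/
theorem edge_inf (hS : Setting M₁ M₂ q) {δ μ μ' : Cfsg.CosetVertex M₁ M₂} (h : (Γ).Adj δ μ)
    (h' : (Γ).Adj δ μ') (hne : μ ≠ μ') : 𝐄 δ μ ⊓ 𝐄 δ μ' = 𝐐 δ := by
  have hQ : 𝐐 δ ≤ 𝐄 δ μ ⊓ 𝐄 δ μ' := le_inf (Q_le_edge hS h) (Q_le_edge hS h')
  have hmul := relIndex_mul_relIndex (𝐐 δ) (𝐄 δ μ ⊓ 𝐄 δ μ') (𝐄 δ μ) hQ inf_le_left
  rw [(edge_data hS h).2.2.1] at hmul
  rcases (Nat.dvd_prime Nat.prime_two).1 (Dvd.intro _ hmul) with h1 | h1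
  · exact le_antisymm (relIndex_eq_one.1 h1) hQ
  · rw [h1, Nat.mul_eq_left two_ne_zero, relIndex_eq_one] at hmul
    exfalso
    have hle : 𝐄 δ μ ≤ 𝐄 δ μ' := hmul.trans inf_le_right
    have := finite_edge hS δ μ'
    have : Fact (Nat.Prime 2) := ⟨Nat.prime_two⟩
    have heq : 𝐄 δ μ' = 𝐄 δ μ :=
      (isSylIn_edge hS h).1.eq_of_le (edge_data hS h').1 inf_le_left hle
    obtain ⟨g, hg, hgμ⟩ := cg_transitive h h'
    refine edge_not_normal hS h (edge_max hS h (le_normalizer) (g := g) ?_ hg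
      (by rw [hgμ]; exact hne.symm))
    refine mem_normalizer_of_conj_map ?_
    rw [Cfsg.edgeStabilizer, Subgroup.map_inf _ _ _ (MulAut.conj g).injective,
      ← AmalgamVIter.stab_smul, ← AmalgamVIter.stab_smul, hgμ, MulAction.mem_stabilizer_iff.1 hg]
    exact heq

theorem moves (hS : Setting M₁ M₂ q) {δ μ ν : Cfsg.CosetVertex M₁ M₂} (h : (Γ).Adj δ μ)
    (hν : (Γ).Adj δ ν) (hne : μ ≠ ν) {g : X} (hg : g ∈ 𝐄 δ μ) (hgQ : g ∉ 𝐐 δ) : g • ν ≠ ν :=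
  fun hfix => hgQ (edge_inf hS h hν hne ▸
    mem_inf.2 ⟨hg, ⟨hg.1, MulAction.mem_stabilizer_iff.2 hfix⟩⟩)

theorem exists_other (hS : Setting M₁ M₂ q) {δ μ : Cfsg.CosetVertex M₁ M₂} (h : (Γ).Adj δ μ) :
    ∃ ν, (Γ).Adj δ ν ∧ ν ≠ μ := by
  by_contra hc
  push Not at hc
  refine edge_not_normal hS h fun g hg => mem_normalizer_of_conj_map ?_
  have h1 := cg_adj_smul g h
  rw [MulAction.mem_stabilizer_iff.1 hg] at h1
  rw [Cfsg.edgeStabilizer, Subgroup.map_inf _ _ _ (MulAut.conj g).injective,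
    ← AmalgamVIter.stab_smul, ← AmalgamVIter.stab_smul, MulAction.mem_stabilizer_iff.1 hg, hc _ h1]

theorem neighbourKernel_eq (hS : Setting M₁ M₂ q) (δ : Cfsg.CosetVertex M₁ M₂) :
    Cfsg.neighbourKernel δ = 𝐐 δ := by
  have : Fact (Nat.Prime 2) := ⟨Nat.prime_two⟩
  refine le_antisymm ?_ (vertexQ_le_neighbourKernel hS.charP δ)
  obtain ⟨μ, hμ⟩ := cg_exists_neighbour δ
  obtain ⟨ν, hν, hne⟩ := exists_other hS hμ
  rw [← edge_inf hS hμ hν hne.symm]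
  exact le_inf (le_inf inf_le_left (neighbourKernel_le hμ)) (le_inf inf_le_left (neighbourKernel_le hν))

theorem mul_mem_Q (hS : Setting M₁ M₂ q) {δ μ : Cfsg.CosetVertex M₁ M₂} (h : (Γ).Adj δ μ) {a b : X}
    (ha : a ∈ 𝐄 δ μ) (hb : b ∈ 𝐄 δ μ) : a * b ∈ 𝐐 δ ↔ (a ∈ 𝐐 δ ↔ b ∈ 𝐐 δ) := by
  have h2 : ((𝐐 δ).subgroupOf (𝐄 δ μ)).index = 2 := (edge_data hS h).2.2.1
  have := mul_mem_iff_of_index_two h2 (a := ⟨a, ha⟩) (b := ⟨b, hb⟩)
  simpa [mem_subgroupOf] using this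

theorem sq_mem_Q (hS : Setting M₁ M₂ q) {δ μ : Cfsg.CosetVertex M₁ M₂} (h : (Γ).Adj δ μ) {a : X}
    (ha : a ∈ 𝐄 δ μ) : a * a ∈ 𝐐 δ := (mul_mem_Q hS h ha ha).2 Iff.rfl

theorem Q_sup (hS : Setting M₁ M₂ q) {δ μ : Cfsg.CosetVertex M₁ M₂} (h : (Γ).Adj δ μ) {t : X}
    (ht : t ∈ 𝐄 δ μ) (htQ : t ∉ 𝐐 δ) {K : Subgroup X} (hK : 𝐐 δ ≤ K) (htK : t ∈ K) :
    𝐄 δ μ ≤ K := fun g hg => by
  by_cases hgQ : g ∈ 𝐐 δ
  · exact hK hgQ
  · have h1 : g * t⁻¹ ∈ K := hK ((mul_mem_Q hS h hg (inv_mem ht)).2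
      (iff_of_false hgQ fun hh => htQ (inv_mem_iff.1 hh)))
    simpa using mul_mem h1 htK

theorem Z_le_Q (hS : Setting M₁ M₂ q) (δ : Cfsg.CosetVertex M₁ M₂) : 𝐙 δ ≤ 𝐐 δ := by
  have : Fact (Nat.Prime 2) := ⟨Nat.prime_two⟩
  exact sylowCenterClosure_le_pCoreOf (charP_stab hS.charP δ)

theorem Q_centralizes_Z (δ : Cfsg.CosetVertex M₁ M₂) : 𝐐 δ ≤ centralizer (𝐙 δ : Set X) := by
  refine le_centralizer_iff.1 ?_
  show Cfsg.sylowCenterClosure 2 _ ≤ _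
  rw [sylowCenterClosure_eq]
  exact iSup_le fun T => (omegaCentre_le_centralizer 2 T.1).trans
    (centralizer_le (pCoreOf_le_of_isSylIn T.2))

theorem Q_commute {δ : Cfsg.CosetVertex M₁ M₂} {g z : X} (hg : g ∈ 𝐐 δ) (hz : z ∈ 𝐙 δ) :
    g * z = z * g :=
  (mem_centralizer_iff.1 (Q_centralizes_Z δ hg) z hz).symm

theorem Z_commute (hS : Setting M₁ M₂ q) {δ : Cfsg.CosetVertex M₁ M₂} {y z : X} (hy : y ∈ 𝐙 δ)
    (hz : z ∈ 𝐙 δ) : y * z = z * y :=
  Q_commute (Z_le_Q hS δ hy) hz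

theorem Z_sq (hS : Setting M₁ M₂ q) {δ : Cfsg.CosetVertex M₁ M₂} {z : X} (hz : z ∈ 𝐙 δ) :
    z * z = 1 := by
  have hz' := hz
  change z ∈ Cfsg.sylowCenterClosure 2 _ at hz'
  rw [sylowCenterClosure_eq, iSup_eq_closure] at hz'
  have hgen : ∀ y ∈ ⋃ T : {T : Subgroup X // IsSylIn 2 T (𝐆 δ)}, (omegaCentre 2 T.1 : Set X),
      y ∈ 𝐙 δ ∧ y * y = 1 := by
    intro y hy
    obtain ⟨T, hT⟩ := Set.mem_iUnion.1 hy
    refine ⟨omegaCentre_le_sylowCenterClosure T.2 hT, ?_⟩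
    change y ∈ Cfsg.omegaOne 2 _ at hT
    clear hy
    induction hT using closure_induction with
    | mem x hx => simpa [pow_two] using hx.2
    | one => simp
    | mul a b ha hb iha ihb =>
      have hab : b * a = a * b :=
        mem_centralizer_iff.1 ((omegaOne_le 2 _) ha).2 b ((omegaOne_le 2 _) hb).1
      rw [mul_assoc, ← mul_assoc b, hab, mul_assoc a, ihb, mul_one, iha]
    | inv a _ iha => rw [← mul_inv_rev, iha, inv_one]
  suffices h : z ∈ 𝐙 δ ∧ z * z = 1 from h.2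
  clear hz
  induction hz' using closure_induction with
  | mem x hx => exact hgen x hx
  | one => exact ⟨one_mem _, one_mul 1⟩
  | mul a b _ _ iha ihb =>
    refine ⟨mul_mem iha.1 ihb.1, ?_⟩
    rw [mul_assoc, ← mul_assoc b, Z_commute hS ihb.1 iha.1, mul_assoc a, ihb.2, mul_one, iha.2]
  | inv a _ iha => exact ⟨inv_mem iha.1, by rw [← mul_inv_rev, iha.2, inv_one]⟩

theorem Z_inv (hS : Setting M₁ M₂ q) {δ : Cfsg.CosetVertex M₁ M₂} {z : X} (hz : z ∈ 𝐙 δ) :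
    z⁻¹ = z := inv_eq_of_mul_eq_one_right (Z_sq hS hz)

theorem omega_le_Z (hS : Setting M₁ M₂ q) {δ μ : Cfsg.CosetVertex M₁ M₂} (h : (Γ).Adj δ μ) :
    omegaCentre 2 (𝐄 δ μ) ≤ 𝐙 δ := omegaCentre_le_sylowCenterClosure (isSylIn_edge hS h).1

theorem normZ (hS : Setting M₁ M₂ q) (δ : Cfsg.CosetVertex M₁ M₂) :
    𝐆 δ ≤ normalizer (𝐙 δ : Set X) := by
  have : Fact (Nat.Prime 2) := ⟨Nat.prime_two⟩
  have := finite_vertex hS δ
  exact le_normalizer_sylowCenterClosure (𝐆 δ)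

theorem Z_conj_eq (hS : Setting M₁ M₂ q) (g : X) (δ : Cfsg.CosetVertex M₁ M₂) :
    (𝐙 δ).map (MulAut.conj g).toMonoidHom = 𝐙 (g • δ) := by
  have : Fact (Nat.Prime 2) := ⟨Nat.prime_two⟩
  refine le_antisymm (AmalgamVIter.vertexZ_smul hS.charP g δ) ?_
  have := map_mono (f := (MulAut.conj g).toMonoidHom) (AmalgamVIter.vertexZ_smul hS.charP g⁻¹ (g • δ))
  rwa [inv_smul_smul, conj_map_map, mul_inv_cancel, conj_map_one] at this

theorem Q_conj_eq (g : X) (δ : Cfsg.CosetVertex M₁ M₂) :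
    (𝐐 δ).map (MulAut.conj g).toMonoidHom = 𝐐 (g • δ) := by
  show _ = Cfsg.pCoreOf 2 _
  rw [AmalgamVIter.stab_smul, pCoreOf_conj]

theorem conj_mem_Z (hS : Setting M₁ M₂ q) (g : X) {δ : Cfsg.CosetVertex M₁ M₂} {z : X}
    (hz : z ∈ 𝐙 δ) : g * z * g⁻¹ ∈ 𝐙 (g • δ) :=
  Z_conj_eq hS g δ ▸ ⟨z, hz, rfl⟩

/-- An edge group element centralising `Z` lies in the kernel. -/
theorem centralizer_edge (hS : Setting M₁ M₂ q) {δ μ : Cfsg.CosetVertex M₁ M₂} (h : (Γ).Adj δ μ)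
    {g : X} (hg : g ∈ 𝐄 δ μ) (hc : ∀ z ∈ 𝐙 δ, g * z = z * g) : g ∈ 𝐐 δ := by
  by_contra hgQ
  set C := centralizer (𝐙 δ : Set X) ⊓ 𝐆 δ with hC
  have hEC : 𝐄 δ μ ≤ C := Q_sup hS h hg hgQ
    (le_inf (Q_centralizes_Z δ) (pCoreOf_le 2 _))
    ⟨mem_centralizer_iff.2 fun z hz => (hc z hz).symm, hg.1⟩
  have := finite_vertex hS δ
  have : Finite ↥C := Finite.of_injective _ (inclusion_injective (inf_le_right : C ≤ 𝐆 δ))
  have hn : 𝐆 δ ≤ normalizer (C : Set X) := fun a ha =>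
    Fusion.Saturation.mem_normalizer_of_forall (fun z hz => by
      refine ⟨mem_centralizer_iff.2 fun w hw => ?_, (𝐆 δ).mul_mem ((𝐆 δ).mul_mem ha hz.2) ((𝐆 δ).inv_mem ha)⟩
      have h1 : a⁻¹ * w * a ∈ 𝐙 δ := (mem_normalizer_iff''.1 (normZ hS δ ha) w).1 hw
      have h2 := mem_centralizer_iff.1 hz.1 _ h1
      calc w * (a * z * a⁻¹) = a * (a⁻¹ * w * a * z) * a⁻¹ := by group
        _ = a * (z * (a⁻¹ * w * a)) * a⁻¹ := by rw [h2]
        _ = a * z * a⁻¹ * w := by group)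
  have hG : 𝐆 δ ≤ C := by
    by_contra hGC
    refine edge_not_normal hS h ?_
    have heq : C = 𝐄 δ μ := le_antisymm (fun z hz => ⟨hz.2, by_contra fun hzμ =>
      hGC (edge_max hS h hEC hz hz.2 fun hfix => hzμ (MulAction.mem_stabilizer_iff.2 hfix))⟩) hEC
    exact heq ▸ hn
  exact (edge_data hS h).2.2.2 (hG.trans (inf_le_left.trans (centralizer_le (omega_le_Z hS h))))

theorem Q_ne (hS : Setting M₁ M₂ q) {δ μ : Cfsg.CosetVertex M₁ M₂} (h : (Γ).Adj δ μ) :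
    ¬ 𝐐 δ ≤ 𝐐 μ := fun hle => by
  have hmul := relIndex_mul_relIndex (𝐐 δ) (𝐐 μ) (𝐄 δ μ) hle
    ((Q_le_edge hS h.symm).trans (edge_comm μ δ).le)
  have h1 := (edge_data hS h.symm).2.2.1
  rw [edge_comm] at h1
  rw [h1, (edge_data hS h).2.2.1, Nat.mul_eq_right two_ne_zero, relIndex_eq_one] at hmul
  have heq : 𝐐 δ = 𝐐 μ := le_antisymm hle hmul
  have hb := eq_bot_of_normalized hS h (Q_le_edge hS h) (normQ δ) (heq ▸ normQ μ)
  refine edge_ne hS h fun g hg => charP_stab hS.charP δ ⟨hg.1, ?_⟩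
  rw [hb]
  exact mem_centralizer_iff.2 fun y hy => by rw [mem_bot.1 hy, one_mul, mul_one]

/-! ### Critical pairs -/

theorem connected (hS : Setting M₁ M₂ q) : (Γ).Connected := cg_connected hS.charP.1.1

local notation "bb" => Cfsg.criticalDistance 2 M₁ M₂

theorem le_Q_of_dist (hS : Setting M₁ M₂ q) {δ μ : Cfsg.CosetVertex M₁ M₂}
    (h : (Γ).dist δ μ < bb) : 𝐙 δ ≤ 𝐐 μ :=
  neighbourKernel_eq hS μ ▸ vertexZ_le_of_dist_lt h

theorem commute_of_dist (hS : Setting M₁ M₂ q) {δ μ : Cfsg.CosetVertex M₁ M₂}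
    (h : (Γ).dist δ μ < bb) {y z : X} (hy : y ∈ 𝐙 δ) (hz : z ∈ 𝐙 μ) : y * z = z * y :=
  Q_commute (le_Q_of_dist hS h hy) hz

theorem le_stab_of_dist (hS : Setting M₁ M₂ q) {δ μ ν : Cfsg.CosetVertex M₁ M₂}
    (h : (Γ).dist δ μ < bb) (hν : (Γ).Adj μ ν) : 𝐙 δ ≤ 𝐄 μ ν :=
  (le_Q_of_dist hS h).trans (Q_le_edge hS hν)

theorem critical_of (hS : Setting M₁ M₂ q) {δ μ : Cfsg.CosetVertex M₁ M₂} (h : ¬ 𝐙 δ ≤ 𝐐 μ)
    (hd : (Γ).dist δ μ ≤ bb) : Cfsg.IsCriticalPair 2 δ μ := by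
  rw [← neighbourKernel_eq hS] at h
  exact ⟨h, le_antisymm hd (criticalDistance_le h)⟩

theorem exists_critical (hS : Setting M₁ M₂ q) :
    ∃ α α' : Cfsg.CosetVertex M₁ M₂, Cfsg.IsCriticalPair 2 α α' := by
  suffices h : ∃ α α' : Cfsg.CosetVertex M₁ M₂, ¬ 𝐙 α ≤ Cfsg.neighbourKernel α' by
    obtain ⟨α, α', hα⟩ := h
    obtain ⟨δ, μ, h1, h2⟩ := Nat.sInf_mem
      (s := {n : ℕ | ∃ δ μ : Cfsg.CosetVertex M₁ M₂, (Γ).dist δ μ = n ∧
        ¬ 𝐙 δ ≤ Cfsg.neighbourKernel μ}) ⟨_, α, α', rfl, hα⟩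
    exact ⟨δ, μ, h2, h1⟩
  by_contra hc
  push Not at hc
  set δ : Cfsg.CosetVertex M₁ M₂ := Sum.inl ((1 : X) : X ⧸ M₁)
  obtain ⟨μ, hμ⟩ := cg_exists_neighbour δ
  have hb : 𝐙 δ = ⊥ := (eq_bot_iff_forall _).2 fun z hz => by
    refine cg_faithful hS.charP.1.2.2.2 ((Equiv.ext fun v => ?_).trans (map_one _).symm)
    exact MulAction.mem_stabilizer_iff.1 (inf_le_left (a := MulAction.stabilizer X v) (hc δ v hz))
  refine (edge_data hS hμ).2.2.2 fun g _ => ?_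
  rw [le_bot_iff.1 ((omega_le_Z hS hμ).trans hb.le)]
  exact mem_centralizer_iff.2 fun y hy => by rw [mem_bot.1 hy, one_mul, mul_one]

theorem dist_pos (hS : Setting M₁ M₂ q) {α α' : Cfsg.CosetVertex M₁ M₂}
    (hc : Cfsg.IsCriticalPair 2 α α') : 0 < bb := by
  have : Fact (Nat.Prime 2) := ⟨Nat.prime_two⟩
  rw [← hc.2]
  refine (connected hS).pos_dist_of_ne fun he => hc.1 ?_
  rw [← he]
  exact vertexZ_le_neighbourKernel_self hS.charP α

/-- A geodesic between the two vertices of a critical pair. -/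
theorem geodesic (hS : Setting M₁ M₂ q) {α α' : Cfsg.CosetVertex M₁ M₂}
    (hc : Cfsg.IsCriticalPair 2 α α') :
    ∃ v : ℕ → Cfsg.CosetVertex M₁ M₂, v 0 = α ∧ v bb = α' ∧
      (∀ i, i < bb → (Γ).Adj (v i) (v (i + 1))) ∧
      ∀ i j, i ≤ j → j ≤ bb → (Γ).dist (v i) (v j) = j - i := by
  obtain ⟨w, hw⟩ := ((connected hS).preconnected α α').exists_walk_length_eq_dist
  rw [hc.2] at hw
  have hadj : ∀ i, i < bb → (Γ).Adj (w.getVert i) (w.getVert (i + 1)) := fun i hi =>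
    w.adj_getVert_succ (hw ▸ hi)
  have hle : ∀ i k, i + k ≤ bb → (Γ).dist (w.getVert i) (w.getVert (i + k)) ≤ k := by
    intro i k
    induction k with
    | zero => intro _; simp
    | succ k ih =>
      intro hik
      have h1 := (connected hS).dist_triangle (u := w.getVert i) (v := w.getVert (i + k))
        (w := w.getVert (i + (k + 1)))
      have h2 := ih (by omega)
      have h3 := SimpleGraph.dist_eq_one_iff_adj.2 (hadj (i + k) (by omega))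
      rw [add_assoc] at h3
      omega
  have hend : w.getVert bb = α' := by rw [← hw, w.getVert_length]
  refine ⟨w.getVert, w.getVert_zero, hend, hadj, fun i j hij hj => ?_⟩
  have h1 := hle 0 i (by omega)
  have h2 := hle i (j - i) (by omega)
  have h3 := hle j (bb - j) (by omega)
  rw [zero_add, w.getVert_zero] at h1
  rw [show i + (j - i) = j by omega] at h2
  rw [show j + (bb - j) = bb by omega, hend] at h3
  have h4 := (connected hS).dist_triangle (u := α) (v := w.getVert i) (w := α')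
  have h5 := (connected hS).dist_triangle (u := w.getVert i) (v := w.getVert j) (w := α')
  have h6 : (Γ).dist α α' = bb := hc.2
  omega

theorem not_centralizes (hS : Setting M₁ M₂ q) {α α' : Cfsg.CosetVertex M₁ M₂}
    (hc : Cfsg.IsCriticalPair 2 α α') : ∃ a ∈ 𝐙 α, ∃ t ∈ 𝐙 α', a * t ≠ t * a := by
  obtain ⟨v, h0, hb, hadj, hd⟩ := geodesic hS hc
  have hpos := dist_pos hS hc
  by_contra hcon
  push Not at hcon
  have hβ : (Γ).Adj α' (v (bb - 1)) := by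
    have := (hadj (bb - 1) (by omega)).symm
    rwa [Nat.sub_add_cancel hpos, hb] at this
  refine hc.1 (neighbourKernel_eq hS α' ▸ fun a ha => centralizer_edge hS hβ ?_ fun t ht => hcon a ha t ht)
  rw [edge_comm]
  refine le_stab_of_dist hS ?_ hβ.symm ha
  have := hd 0 (bb - 1) (Nat.zero_le _) (by omega)
  rw [h0] at this
  omega

theorem critical_symm (hS : Setting M₁ M₂ q) {α α' : Cfsg.CosetVertex M₁ M₂}
    (hc : Cfsg.IsCriticalPair 2 α α') : Cfsg.IsCriticalPair 2 α' α := by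
  obtain ⟨a, ha, t, ht, hne⟩ := not_centralizes hS hc
  refine critical_of hS (fun hle => hne ?_) ?_
  · exact (Q_commute (hle ht) ha).symm
  · rw [SimpleGraph.dist_comm]; exact hc.2.le

/-- `r` is the commutator of `Z_δ` with the edge group. -/
def IsR (r : X) (δ μ : Cfsg.CosetVertex M₁ M₂) : Prop :=
  r ≠ 1 ∧ r ∈ Cfsg.vertexZ 2 δ ∧ (∀ g ∈ Cfsg.edgeStabilizer δ μ, g * r = r * g) ∧
    (∀ z ∈ Cfsg.vertexZ 2 δ, ∀ g ∈ Cfsg.edgeStabilizer δ μ, g * z * g⁻¹ = z ∨ g * z * g⁻¹ = z * r) ∧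
    ∃ z ∈ Cfsg.vertexZ 2 δ, ∃ g ∈ Cfsg.edgeStabilizer δ μ, g * z * g⁻¹ = z * r

theorem IsR.eq {r r' : X} {δ μ : Cfsg.CosetVertex M₁ M₂} (h : IsR r δ μ) (h' : IsR r' δ μ) :
    r = r' := by
  obtain ⟨z, hz, g, hg, he⟩ := h.2.2.2.2
  rcases h'.2.2.2.1 z hz g hg with h1 | h1
  · exact absurd (mul_eq_left.1 (he.symm.trans h1)) h.1
  · exact mul_left_cancel (he.symm.trans h1)

theorem transvection_one (hS : Setting M₁ M₂ q) {α α' β β' : Cfsg.CosetVertex M₁ M₂}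
    (hc : Cfsg.IsCriticalPair 2 α α') (hβ : (Γ).Adj α β) (hβd : (Γ).dist β α' < bb)
    (hβ' : (Γ).Adj α' β') (hβd' : (Γ).dist α β' < bb) {a t : X} (ha : a ∈ 𝐙 α) (ht : t ∈ 𝐙 α')
    (hne : a * t ≠ t * a) : IsR (a * t * a⁻¹ * t⁻¹) α β := by
  have htE : t ∈ 𝐄 α β := edge_comm β α ▸ le_stab_of_dist hS (by rw [SimpleGraph.dist_comm]; exact hβd) hβ.symm ht
  have hE' : 𝐙 α ≤ 𝐄 α' β' := edge_comm β' α' ▸ le_stab_of_dist hS hβd' hβ'.symm
  have htQ : t ∉ 𝐐 α := fun h => hne (Q_commute h ha).symm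
  have haQ : a ∉ 𝐐 α' := fun h => hne (Q_commute h ht)
  set r := a * t * a⁻¹ * t⁻¹ with hr
  have hZr : r ∈ 𝐙 α := by
    rw [hr, show a * t * a⁻¹ * t⁻¹ = a * (t * a⁻¹ * t⁻¹) by group]
    exact mul_mem ha ((mem_normalizer_iff.1 (normZ hS α htE.1) _).1 (inv_mem ha))
  have hZr' : r ∈ 𝐙 α' := by
    rw [hr, show a * t * a⁻¹ * t⁻¹ = (a * t * a⁻¹) * t⁻¹ by group]
    exact mul_mem ((mem_normalizer_iff.1 (normZ hS α' (hE' ha).1) _).1 ht) (inv_mem ht)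
  have htr : t * a * t⁻¹ = a * r := by
    have h1 : r⁻¹ = r := Z_inv hS hZr
    have h2 : a⁻¹ = a := Z_inv hS ha
    have h3 : t * a * t⁻¹ = r⁻¹ * a := by rw [hr]; group
    rw [h3, h1, Z_commute hS hZr ha]
  have hrE : ∀ g ∈ 𝐄 α β, g * r = r * g := fun g hg => by
    refine mem_centralizer_singleton_iff.1 (Q_sup hS hβ htE htQ (K := centralizer {r}) ?_ ?_ hg)
    · exact fun y hy => mem_centralizer_singleton_iff.2 (Q_commute hy hZr)
    · exact mem_centralizer_singleton_iff.2 (Z_commute hS ht hZr')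
  refine ⟨fun h1 => hne ?_, hZr, hrE, fun z hz g hg => ?_, a, ha, t, htE, htr⟩
  · rw [hr, mul_inv_eq_one, mul_inv_eq_iff_eq_mul] at h1
    exact h1
  have hzt : t * z * t⁻¹ = z ∨ t * z * t⁻¹ = z * r := by
    by_cases hzQ : z ∈ 𝐐 α'
    · left
      rw [← (Q_commute hzQ ht), mul_inv_cancel_right]
    · right
      have h1 : a⁻¹ * z ∈ 𝐐 α' := (mul_mem_Q hS hβ' (inv_mem (hE' ha)) (hE' hz)).2
        (iff_of_false (fun hh => haQ (inv_mem_iff.1 hh)) hzQ)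
      have h2 : t * (a⁻¹ * z) * t⁻¹ = a⁻¹ * z := by
        rw [← (Q_commute h1 ht), mul_inv_cancel_right]
      calc t * z * t⁻¹ = (t * a * t⁻¹) * (t * (a⁻¹ * z) * t⁻¹) := by group
        _ = a * r * (a⁻¹ * z) := by rw [htr, h2]
        _ = r * a * (a⁻¹ * z) := by rw [Z_commute hS ha hZr]
        _ = z * r := by rw [mul_assoc, mul_inv_cancel_left, Z_commute hS hZr hz]
  by_cases hgQ : g ∈ 𝐐 α
  · left
    rw [Q_commute hgQ hz, mul_inv_cancel_right]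
  · have h1 : g * t⁻¹ ∈ 𝐐 α := (mul_mem_Q hS hβ hg (inv_mem htE)).2
      (iff_of_false hgQ fun hh => htQ (inv_mem_iff.1 hh))
    have h2 : t * z * t⁻¹ ∈ 𝐙 α := (mem_normalizer_iff.1 (normZ hS α htE.1) z).1 hz
    have h3 : g * z * g⁻¹ = t * z * t⁻¹ := by
      calc g * z * g⁻¹ = g * t⁻¹ * (t * z * t⁻¹) * (g * t⁻¹)⁻¹ := by group
        _ = t * z * t⁻¹ := by rw [Q_commute h1 h2, mul_inv_cancel_right]
    rwa [h3]

/-- At a critical pair both ends carry the same transvection element. -/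
theorem transvection (hS : Setting M₁ M₂ q) {α α' β β' : Cfsg.CosetVertex M₁ M₂}
    (hc : Cfsg.IsCriticalPair 2 α α') (hβ : (Γ).Adj α β) (hβd : (Γ).dist β α' < bb)
    (hβ' : (Γ).Adj α' β') (hβd' : (Γ).dist α β' < bb) :
    ∃ r, IsR r α β ∧ IsR r α' β' := by
  obtain ⟨a, ha, t, ht, hne⟩ := not_centralizes hS hc
  have h1 := transvection_one hS hc hβ hβd hβ' hβd' ha ht hne
  have h2 := transvection_one hS (critical_symm hS hc) hβ' (by rw [SimpleGraph.dist_comm]; exact hβd')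
    hβ (by rw [SimpleGraph.dist_comm]; exact hβd) ht ha (Ne.symm hne)
  refine ⟨_, h1, ?_⟩
  have e : a * t * a⁻¹ * t⁻¹ = t * a * t⁻¹ * a⁻¹ := by
    rw [← Z_inv hS h2.2.1]; group
  rw [e]
  exact h2

/-- The common index is three. -/
theorem eq_three (hS : Setting M₁ M₂ q) : q = 3 := by
  have : Fact (Nat.Prime 2) := ⟨Nat.prime_two⟩
  obtain ⟨α, α', hc⟩ := exists_critical hS
  obtain ⟨v, h0, hb, hadj, hd⟩ := geodesic hS hc
  have hpos := dist_pos hS hc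
  subst h0; subst hb
  set α := v 0
  set α' := v bb
  have hβ : (Γ).Adj α (v 1) := hadj 0 hpos
  have hβ' : (Γ).Adj α' (v (bb - 1)) := by
    have := (hadj (bb - 1) (by omega)).symm
    rwa [Nat.sub_add_cancel hpos] at this
  have hβd : (Γ).dist (v 1) α' < bb := by rw [hd 1 bb hpos le_rfl]; omega
  have hβd' : (Γ).dist α (v (bb - 1)) < bb := by rw [hd 0 _ (Nat.zero_le _) (Nat.sub_le _ _)]; omega
  obtain ⟨a, ha, t, ht, hne⟩ := not_centralizes hS hc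
  have htE : t ∈ 𝐄 α (v 1) :=
    edge_comm (v 1) α ▸ le_stab_of_dist hS (by rw [SimpleGraph.dist_comm]; exact hβd) hβ.symm ht
  have htQ : t ∉ 𝐐 α := fun h => hne (Q_commute h ha).symm
  obtain ⟨r, hr⟩ : ∃ r, IsR r α (v 1) := ⟨_, transvection_one hS hc hβ hβd hβ' hβd' ha ht hne⟩
  have := finite_vertex hS α
  have := finite_edge hS α (v 1)
  let V : Subgroup ↥(𝐆 α) := (𝐙 α).subgroupOf (𝐆 α)
  have : V.Normal := (normal_subgroupOf_iff_le_normalizer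
    (sylowCenterClosure_le_self 2 _)).2 (normZ hS α)
  let Q : Subgroup ↥(𝐆 α) := (𝐐 α).subgroupOf (𝐆 α)
  have hQn : Q.Normal := pCoreOf_normal 2 _
  have hQe : Q.index = 2 * q := by
    have := relIndex_mul_relIndex (𝐐 α) (𝐄 α (v 1)) (𝐆 α) (Q_le_edge hS hβ) inf_le_left
    rw [(edge_data hS hβ).2.2.1, (edge_data hS hβ).2.1] at this
    exact this.symm
  have hqodd : q ≠ 2 := by
    intro hq2
    refine edge_not_normal hS hβ ((normal_subgroupOf_iff_le_normalizer inf_le_left).1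
      (normal_of_index_eq_two ?_))
    exact ((edge_data hS hβ).2.1).trans hq2
  let te : ↥(𝐆 α) := ⟨t, htE.1⟩
  have hidx : (V ⊓ centralizer ({te} : Set ↥(𝐆 α))).relIndex V ≤ 2 := by
    let W : Subgroup ↥(𝐆 α) := V ⊓ centralizer ({te} : Set ↥(𝐆 α))
    have key : ∀ x y : V, (x : ↥(𝐆 α)) ∉ W → (y : ↥(𝐆 α)) ∉ W → ((x : ↥(𝐆 α)) * y) ∈ W := by
      intro x y hx hy
      have f : ∀ z : V, (z : ↥(𝐆 α)) ∉ W → t * (z : ↥(𝐆 α)).1 * t⁻¹ = (z : ↥(𝐆 α)).1 * r := by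
        intro z hz
        rcases hr.2.2.2.1 _ (mem_subgroupOf.1 z.2) t htE with h1 | h1
        · exact absurd ⟨z.2, mem_centralizer_singleton_iff.2 (Subtype.ext
            (mul_inv_eq_iff_eq_mul.1 h1).symm)⟩ hz
        · exact h1
      refine ⟨V.mul_mem x.2 y.2, mem_centralizer_singleton_iff.2 (Subtype.ext ?_)⟩
      show (x : ↥(𝐆 α)).1 * (y : ↥(𝐆 α)).1 * t = t * ((x : ↥(𝐆 α)).1 * (y : ↥(𝐆 α)).1)
      symm
      rw [← mul_inv_eq_iff_eq_mul, show t * ((x : ↥(𝐆 α)).1 * (y : ↥(𝐆 α)).1) * t⁻¹ =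
        (t * (x : ↥(𝐆 α)).1 * t⁻¹) * (t * (y : ↥(𝐆 α)).1 * t⁻¹) by group, f x hx, f y hy,
        Z_commute hS (mem_subgroupOf.1 x.2) hr.2.1, mul_assoc r,
        ← mul_assoc (x : ↥(𝐆 α)).1 (y : ↥(𝐆 α)).1 r, ← mul_assoc, Z_commute hS hr.2.1
          (mul_mem (mem_subgroupOf.1 x.2) (mem_subgroupOf.1 y.2)), mul_assoc, Z_sq hS hr.2.1,
        mul_one]
    by_cases hW : ∀ x : V, (x : ↥(𝐆 α)) ∈ W
    · exact (relIndex_eq_one.2 fun x hx => hW ⟨x, hx⟩).le.trans one_le_two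
    · push Not at hW
      obtain ⟨x₀, hx₀⟩ := hW
      refine (index_eq_two_iff.2 ⟨x₀, fun b => ?_⟩).le
      rw [mem_subgroupOf, mem_subgroupOf]
      by_cases hb' : (b : ↥(𝐆 α)) ∈ W
      · refine Or.inr ⟨hb', fun hh => hx₀ ?_⟩
        have := W.mul_mem (W.inv_mem hb') hh
        simpa using this
      · exact Or.inl ⟨key b x₀ hb' hx₀, hb'⟩
  obtain ⟨y, hy⟩ := exists_prime_orderOf_dvd_card' (G := ↥(𝐆 α) ⧸ Q) q
    (hp := ⟨hS.prime⟩) (by rw [← index_eq_card, hQe]; exact Dvd.intro_left 2 rfl)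
  obtain ⟨y, rfl⟩ := QuotientGroup.mk'_surjective Q y
  let π := QuotientGroup.mk' Q
  set u : ↥(𝐆 α) := y * te * y⁻¹ * te⁻¹ with hu
  have hkerπ : ∀ z, π z = 1 ↔ z ∈ Q := fun z => QuotientGroup.eq_one_iff z
  have huQ : u ∉ Q := by
    intro hmem
    refine edge_not_normal hS hβ (edge_max hS hβ (K := normalizer (𝐄 α (v 1) : Set X)) le_normalizer (g := (y : X)) ?_ y.2 ?_)
    · refine Fusion.Saturation.mem_normalizer_of_forall (fun z hz => ?_)
      refine Q_sup hS hβ htE htQ (K := (𝐄 α (v 1)).comap (MulAut.conj (y : X)).toMonoidHom)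
        (fun w hw => ?_) ?_ hz
      · exact Q_le_edge hS hβ ((mem_normalizer_iff.1 (normQ α y.2) w).1 hw)
      · have h1 : (u : X) ∈ 𝐐 α := mem_subgroupOf.1 hmem
        show (y : X) * t * (y : X)⁻¹ ∈ 𝐄 α (v 1)
        have h2 : (y : X) * t * (y : X)⁻¹ = (u : X) * t := by
          show _ = (y : X) * t * (y : X)⁻¹ * t⁻¹ * t
          group
        rw [h2]
        exact mul_mem (Q_le_edge hS hβ h1) htE
    · intro hfix
      have hyE : (y : X) ∈ 𝐄 α (v 1) := ⟨y.2, MulAction.mem_stabilizer_iff.2 hfix⟩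
      obtain ⟨k, hk⟩ := (edge_data hS hβ).1 ⟨_, hyE⟩
      have h2 : orderOf (π y) ∣ 2 ^ k := by
        refine orderOf_dvd_of_pow_eq_one ?_
        rw [← map_pow, show y ^ 2 ^ k = 1 from Subtype.ext (congrArg Subtype.val hk :
          (y : X) ^ 2 ^ k = 1), map_one]
      rw [hy] at h2
      exact hqodd ((Nat.prime_dvd_prime_iff_eq hS.prime Nat.prime_two).1
        (hS.prime.dvd_of_dvd_pow h2))
  -- the subgroup of index two of `↥(𝐆 α) / Q`
  have hR : (zpowers (π y)).index = 2 := by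
    have := (zpowers (π y)).card_mul_index
    rw [Nat.card_zpowers, hy, ← index_eq_card, hQe, mul_comm 2] at this
    exact Nat.eq_of_mul_eq_mul_left hS.prime.pos this
  have huR : π u ∈ zpowers (π y) := by
    have := normal_of_index_eq_two hR
    rw [hu, map_mul, map_mul, map_mul, map_inv, map_inv,
      show π y * π te * (π y)⁻¹ * (π te)⁻¹ = π y * (π te * (π y)⁻¹ * (π te)⁻¹) by group]
    exact mul_mem (mem_zpowers _) (Normal.conj_mem this _ (inv_mem (mem_zpowers _)) _)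
  have huq : u ^ q ∈ Q := by
    obtain ⟨i, hi⟩ := mem_zpowers_iff.1 huR
    rw [← hkerπ, map_pow, ← hi, ← zpow_natCast, ← zpow_mul, mul_comm, zpow_mul, zpow_natCast]
    rw [show π y ^ q = 1 from hy ▸ pow_orderOf_eq_one _, one_zpow]
  obtain ⟨k, m, hm, hkm⟩ := Nat.exists_eq_pow_mul_and_not_dvd (orderOf_pos u).ne' 2 (by norm_num)
  set s := u ^ 2 ^ k with hs
  have hsodd : Odd (orderOf s) := by
    rw [hs, orderOf_pow' _ (by positivity), hkm, Nat.gcd_mul_right_left,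
      Nat.mul_div_cancel_left _ (by positivity)]
    exact Nat.odd_iff.2 (by omega)
  set tb : ↥(𝐆 α) := y * te * y⁻¹ with htb
  let W := V ⊓ centralizer ({te} : Set ↥(𝐆 α)) ⊓ (V ⊓ centralizer ({tb} : Set ↥(𝐆 α)))
  have hidxb : (V ⊓ centralizer ({tb} : Set ↥(𝐆 α))).relIndex V ≤ 2 := by
    have e : V ⊓ centralizer ({tb} : Set ↥(𝐆 α)) =
        (V ⊓ centralizer ({te} : Set ↥(𝐆 α))).map (MulAut.conj y).toMonoidHom := by
      ext z
      rw [mem_conj_map_iff, mem_inf, mem_inf, mem_centralizer_singleton_iff,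
        mem_centralizer_singleton_iff]
      refine and_congr ⟨fun hz => (Normal.mem_comm_iff ‹V.Normal›).1 (by
        rw [← mul_assoc, mul_inv_cancel, one_mul]; exact hz),
        fun hz => by simpa [mul_assoc] using Normal.conj_mem ‹V.Normal› _ hz y⟩ ?_
      constructor
      · intro h1
        calc y⁻¹ * z * y * te = y⁻¹ * (z * tb) * y := by rw [htb]; group
          _ = y⁻¹ * (tb * z) * y := by rw [h1]
          _ = te * (y⁻¹ * z * y) := by rw [htb]; group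
      · intro h1
        calc z * tb = y * (y⁻¹ * z * y * te) * y⁻¹ := by rw [htb]; group
          _ = y * (te * (y⁻¹ * z * y)) * y⁻¹ := by rw [h1]
          _ = tb * z := by rw [htb]; group
    rw [e]
    have h1 := relIndex_map_map_of_injective (V ⊓ centralizer ({te} : Set ↥(𝐆 α))) V
      (f := (MulAut.conj y).toMonoidHom) (MulAut.conj y).injective
    rw [conj_map_of_mem (H := V) (le_normalizer_of_normal (mem_top y))] at h1
    exact h1 ▸ hidx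
  have hsW : ∀ w ∈ W, s * w = w * s := fun w hw => by
    have h1 : Commute te w := (mem_centralizer_singleton_iff.1 hw.1.2).symm
    have h2 : Commute tb w := (mem_centralizer_singleton_iff.1 hw.2.2).symm
    exact ((h2.mul_left h1.inv_left).pow_left _).eq
  have hcube := Offender.exists_cube (inf_le_left.trans inf_le_left)
    (relIndex_inf_le.trans (Nat.mul_le_mul hidx hidxb))
    (fun z hz => Subtype.ext (by rw [SubgroupClass.coe_pow, pow_two]; exact Z_sq hS (mem_subgroupOf.1 hz)))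
    hsodd hsW
  have hs3 : s ^ 3 ∈ Q := by
    obtain ⟨μ', hμ'⟩ := cg_exists_neighbour α
    by_contra hns
    have hc1 : centralizer (V : Set ↥(𝐆 α)) ≤ Q := by
      intro c hc
      by_cases hcE : (c : X) ∈ 𝐄 α (v 1)
      · exact mem_subgroupOf.2 (centralizer_edge hS hβ hcE fun z hz => (congrArg Subtype.val
          (mem_centralizer_iff.1 hc ⟨z, (sylowCenterClosure_le_self 2 _) hz⟩ hz)).symm)
      · exfalso
        -- the centraliser together with the edge group covers `↥(𝐆 α)`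
        set K : Subgroup X := ((centralizer (V : Set ↥(𝐆 α))).map (𝐆 α).subtype) ⊔ 𝐄 α (v 1)
        have hG : 𝐆 α ≤ K := edge_max hS hβ le_sup_right
          (mem_sup_left (mem_map_of_mem _ hc)) c.2
          (fun hfix => hcE ⟨c.2, MulAction.mem_stabilizer_iff.2 hfix⟩)
        refine (edge_data hS hβ).2.2.2 (hG.trans (sup_le ?_ ?_))
        · rintro _ ⟨x, hx, rfl⟩
          exact mem_centralizer_iff.2 fun z hz => congrArg Subtype.val (mem_centralizer_iff.1 hx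
            ⟨z, (sylowCenterClosure_le_self 2 _) (omega_le_Z hS hβ hz)⟩ (omega_le_Z hS hβ hz))
        · exact le_centralizer_iff.1 (omegaCentre_le_centralizer 2 _)
    exact hns (hc1 (mem_centralizer_iff.2 fun z hz => (hcube z hz).symm))
  have hπu3 : π u ^ (2 ^ k * 3) = 1 := by rw [← map_pow, hkerπ, pow_mul]; exact hs3
  have hou : orderOf (π u) = q := by
    refine ((Nat.dvd_prime hS.prime).1 (orderOf_dvd_of_pow_eq_one ?_)).resolve_left ?_
    · rw [← map_pow, hkerπ]; exact huq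
    · rw [orderOf_eq_one_iff, hkerπ]; exact huQ
  have hdvd : q ∣ 2 ^ k * 3 := hou ▸ orderOf_dvd_of_pow_eq_one hπu3
  rcases hS.prime.dvd_mul.1 hdvd with h1 | h1
  · exact absurd ((Nat.prime_dvd_prime_iff_eq hS.prime Nat.prime_two).1 (hS.prime.dvd_of_dvd_pow h1)) hqodd
  · exact (Nat.prime_dvd_prime_iff_eq hS.prime Nat.prime_three).1 h1

end Cfsg.Agent.CharP.S3Amalgam
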