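import Cfsg.Agent.Lib.CharP.GoldschmidtS3Basic

/-!
The critical distance of an amalgam of two groups with quotient of degree three by `O₂` and noncentral
`Ω₁Z` on both sides is one.
-/

set_option autoImplicit false
set_option linter.unusedSectionVars false

namespace Cfsg.Agent.CharP.S3Amalgam

open Subgroup
open scoped commutatorElement

variable {X : Type*} [Group X] {M₁ M₂ : Subgroup X}

local notation "Γ" => Cfsg.cosetGraph M₁ M₂
local notation "𝐆" => MulAction.stabilizer X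
local notation "𝐄" => Cfsg.edgeStabilizer
local notation "𝐐" => Cfsg.vertexQ 2
local notation "𝐙" => Cfsg.vertexZ 2
local notation "bb" => Cfsg.criticalDistance 2 M₁ M₂

theorem isLeft_smul (g : X) (a : Cfsg.CosetVertex M₁ M₂) : (g • a).isLeft = a.isLeft := by
  cases a <;> rfl

theorem isLeft_adj {a b : Cfsg.CosetVertex M₁ M₂} (h : (Γ).Adj a b) : a.isLeft = !b.isLeft := by
  rcases cg_adj_iff.1 h with ⟨x, rfl, rfl⟩ | ⟨x, rfl, rfl⟩ <;> rfl

theorem exists_smul_eq_of_type {a b : Cfsg.CosetVertex M₁ M₂} (h : a.isLeft = b.isLeft) :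
    ∃ g : X, g • a = b := by
  rcases a with a | a <;> rcases b with b | b <;> simp at h
  all_goals
    obtain ⟨g, hg⟩ := MulAction.exists_smul_eq X a b
  · exact ⟨g, congrArg Sum.inl hg⟩
  · exact ⟨g, congrArg Sum.inr hg⟩

/-- At `δ` any one neighbour and `δ` generate the `Z` of all neighbours. -/
def Covers (δ : Cfsg.CosetVertex M₁ M₂) : Prop :=
  ∀ ν ν', (Cfsg.cosetGraph M₁ M₂).Adj δ ν → (Cfsg.cosetGraph M₁ M₂).Adj δ ν' →
    Cfsg.vertexZ 2 ν ≤ Cfsg.vertexZ 2 δ ⊔ Cfsg.vertexZ 2 ν'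

theorem Covers.of_type (hS : Setting M₁ M₂ 3) {δ δ' : Cfsg.CosetVertex M₁ M₂} (h : Covers δ)
    (ht : δ.isLeft = δ'.isLeft) : Covers δ' := by
  obtain ⟨g, rfl⟩ := exists_smul_eq_of_type ht
  intro ν ν' hν hν'
  have h1 := cg_adj_smul g⁻¹ hν
  have h2 := cg_adj_smul g⁻¹ hν'
  rw [inv_smul_smul] at h1 h2
  have h3 := map_mono (f := (MulAut.conj g).toMonoidHom) (h _ _ h1 h2)
  rwa [Subgroup.map_sup, Z_conj_eq hS, Z_conj_eq hS, Z_conj_eq hS, smul_inv_smul,
    smul_inv_smul] at h3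

theorem card_neighbours (hS : Setting M₁ M₂ 3) {δ μ : Cfsg.CosetVertex M₁ M₂} (h : (Γ).Adj δ μ) :
    Nat.card ↥(MulAction.orbit (𝐆 δ) μ) = 3 := by
  rw [Nat.card_coe_set_eq]
  refine (MulAction.index_stabilizer (𝐆 δ) μ).symm.trans ?_
  have : MulAction.stabilizer (𝐆 δ) μ = (𝐄 δ μ).subgroupOf (𝐆 δ) := by
    ext g
    rw [mem_subgroupOf, MulAction.mem_stabilizer_iff]
    exact ⟨fun hg => ⟨g.2, MulAction.mem_stabilizer_iff.2 hg⟩,
      fun hg => MulAction.mem_stabilizer_iff.1 hg.2⟩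
  rw [this]
  exact (edge_data hS h).2.1

/-- The kernel at a neighbour is transitive on the other two neighbours. -/
theorem swap (hS : Setting M₁ M₂ 3) {ν α μ μ' : Cfsg.CosetVertex M₁ M₂} (hα : (Γ).Adj ν α)
    (hμ : (Γ).Adj ν μ) (hμ' : (Γ).Adj ν μ') (h : μ ≠ α) (h' : μ' ≠ α) :
    ∃ g ∈ 𝐐 α, g • μ = μ' := by
  by_cases he : μ = μ'
  · exact ⟨1, one_mem _, by rw [one_smul, he]⟩
  obtain ⟨g, hg, hgν⟩ := SetLike.not_le_iff_exists.1 (Q_ne hS hα.symm)
  have hgE : g ∈ 𝐄 ν α := edge_comm α ν ▸ Q_le_edge hS hα.symm hg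
  have hgμ : g • μ ≠ μ := moves hS hα hμ h.symm hgE hgν
  have hgμα : g • μ ≠ α := fun hh => h (smul_left_cancel g
    (hh.trans (MulAction.mem_stabilizer_iff.1 hgE.2).symm))
  refine ⟨g, hg, by_contra fun hne => ?_⟩
  classical
  have hmem : ∀ x, (Γ).Adj ν x → x ∈ MulAction.orbit (𝐆 ν) α := fun x hx => by
    obtain ⟨k, hk, hkx⟩ := cg_transitive hα hx
    exact ⟨⟨k, hk⟩, hkx⟩
  have hadj : (Γ).Adj ν (g • μ) := by
    have := cg_adj_smul g hμ
    rwa [MulAction.mem_stabilizer_iff.1 hgE.1] at this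
  let f : Fin 4 → ↥(MulAction.orbit (𝐆 ν) α) :=
    ![⟨α, MulAction.mem_orbit_self _⟩, ⟨μ, hmem _ hμ⟩, ⟨g • μ, hmem _ hadj⟩, ⟨μ', hmem _ hμ'⟩]
  have hf : Function.Injective f := by
    intro i j hij
    have h' := congrArg Subtype.val hij
    fin_cases i <;> fin_cases j <;> simp [f] at h' <;> first
      | rfl
      | exact absurd h' h.symm
      | exact absurd h' h
      | exact absurd h' hgμα.symm
      | exact absurd h' hgμα
      | exact absurd h' (Ne.symm ‹μ' ≠ α›)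
      | exact absurd h' ‹μ' ≠ α›
      | exact absurd h' hgμ.symm
      | exact absurd h' hgμ
      | exact absurd h' he
      | exact absurd h' (Ne.symm he)
      | exact absurd h' hne
      | exact absurd h' (Ne.symm hne)
  have : Finite ↥(MulAction.orbit (𝐆 ν) α) :=
    Nat.finite_of_card_ne_zero (by rw [card_neighbours hS hα]; decide)
  have := Nat.card_le_card_of_injective f hf
  rw [Nat.card_fin, card_neighbours hS hα] at this
  omega

/-- A vertex that covers does not begin a critical pair through a neighbour. -/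
theorem covers_next (hS : Setting M₁ M₂ 3) {β μ γ : Cfsg.CosetVertex M₁ M₂}
    (hc : Cfsg.IsCriticalPair 2 β μ) (hb : 2 ≤ bb) (hγ : (Γ).Adj β γ)
    (hγd : (Γ).dist γ μ + 1 = bb) (hcov : Covers γ) : False := by
  obtain ⟨w, hw⟩ := ((connected hS).preconnected γ μ).exists_walk_length_eq_dist
  cases w with
  | nil =>
    rw [SimpleGraph.Walk.length_nil] at hw
    omega
  | cons hadj w' =>
    rename_i δ
    have hδ : (Γ).dist δ μ < bb := by
      have := SimpleGraph.dist_le w'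
      rw [SimpleGraph.Walk.length_cons] at hw
      omega
    obtain ⟨a, ha, t, ht, hne⟩ := not_centralizes hS hc
    have hc1 : 𝐙 γ ⊔ 𝐙 δ ≤ centralizer ({t} : Set X) := sup_le
      (fun x hx => mem_centralizer_singleton_iff.2 (commute_of_dist hS (by omega) hx ht))
      (fun x hx => mem_centralizer_singleton_iff.2 (commute_of_dist hS hδ hx ht))
    exact hne (mem_centralizer_singleton_iff.1 (hc1 (hcov β δ hγ.symm hadj ha)))

theorem adj_pred {v : ℕ → Cfsg.CosetVertex M₁ M₂} (hadj : ∀ i, i < bb → (Γ).Adj (v i) (v (i + 1)))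
    {i : ℕ} (hi : 0 < i) (hib : i ≤ bb) : (Γ).Adj (v i) (v (i - 1)) := by
  have := (hadj (i - 1) (by omega)).symm
  rwa [Nat.sub_add_cancel hi] at this

/-- Along a critical pair the first vertex covers or the pair shifts backwards. -/
theorem covers_or_shift (hS : Setting M₁ M₂ 3) {v : ℕ → Cfsg.CosetVertex M₁ M₂}
    (hc : Cfsg.IsCriticalPair 2 (v 0) (v bb)) (hb : 2 ≤ bb)
    (hadj : ∀ i, i < bb → (Γ).Adj (v i) (v (i + 1)))
    (hd : ∀ i j, i ≤ j → j ≤ bb → (Γ).dist (v i) (v j) = j - i)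
    {ν : Cfsg.CosetVertex M₁ M₂} (hν : (Γ).Adj (v 0) ν) (hne : ν ≠ v 1) :
    Covers (v 0) ∨ Cfsg.IsCriticalPair 2 ν (v (bb - 1)) := by
  have hd2 : (Γ).dist ν (v (bb - 2)) < bb := by
    have h1 := (connected hS).dist_triangle (u := ν) (v := v 0) (w := v (bb - 2))
    rw [SimpleGraph.dist_eq_one_iff_adj.2 hν.symm, hd 0 (bb - 2) (Nat.zero_le _) (by omega)] at h1
    omega
  have hd1 : (Γ).dist ν (v (bb - 1)) ≤ bb := by
    have h1 := (connected hS).dist_triangle (u := ν) (v := v 0) (w := v (bb - 1))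
    rw [SimpleGraph.dist_eq_one_iff_adj.2 hν.symm, hd 0 (bb - 1) (Nat.zero_le _) (by omega)] at h1
    omega
  by_cases hQ : 𝐙 ν ≤ 𝐐 (v (bb - 1))
  swap
  · exact Or.inr (critical_of hS hQ hd1)
  left
  have hβ := hadj 0 (by omega)
  have hβ' := adj_pred hadj (i := bb) (by omega) le_rfl
  have hb1 : (Γ).dist (v 1) (v bb) < bb := by rw [hd 1 bb (by omega) le_rfl]; omega
  have hb2 : (Γ).dist (v 0) (v (bb - 1)) < bb := by rw [hd 0 _ (by omega) (by omega)]; omega
  obtain ⟨r, hr, hr'⟩ := transvection hS hc hβ hb1 hβ' hb2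
  obtain ⟨a, ha, t, ht, hne'⟩ := not_centralizes hS hc
  have htE : t ∈ 𝐄 (v 0) (v 1) := edge_comm (v 1) (v 0) ▸
    le_stab_of_dist hS (by rw [SimpleGraph.dist_comm]; exact hb1) hβ.symm ht
  have htQ : t ∉ 𝐐 (v 0) := fun h => hne' (Q_commute h ha).symm
  have hνE : 𝐙 ν ≤ 𝐄 (v bb) (v (bb - 1)) :=
    edge_comm (v (bb - 1)) (v bb) ▸ hQ.trans (Q_le_edge hS hβ'.symm)
  set W := 𝐙 (v 0) ⊔ 𝐙 ν with hW
  have key : ∀ s ∈ 𝐙 (v bb), ∀ z ∈ 𝐙 ν, s * z * s⁻¹ ∈ W := by
    intro s hs z hz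
    rcases hr'.2.2.2.1 s hs z (hνE hz) with h1 | h1
    · have h2 : s * z * s⁻¹ = z := by
        rw [← (mul_inv_eq_iff_eq_mul.1 h1), mul_inv_cancel_right]
      rw [h2]; exact mem_sup_right hz
    · have h2 : s * z * s⁻¹ = r * z := by
        have h3 : s * z * s⁻¹ = s * (z * s⁻¹ * z⁻¹) * z := by group
        have h4 : z * s⁻¹ * z⁻¹ = r⁻¹ * s⁻¹ := by
          rw [show z * s⁻¹ * z⁻¹ = (z * s * z⁻¹)⁻¹ by group, h1, mul_inv_rev]
        rw [h3, h4, Z_inv hS hr'.2.1, Z_commute hS hr'.2.1 (inv_mem hs), mul_inv_cancel_left]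
      rw [h2]; exact mul_mem (mem_sup_left hr.2.1) (mem_sup_right hz)
  have htW : t ∈ normalizer (W : Set X) := by
    have hle : W ≤ W.comap (MulAut.conj t).toMonoidHom := sup_le
      (fun z hz => mem_sup_left ((mem_normalizer_iff.1 (normZ hS (v 0) htE.1) z).1 hz))
      (fun z hz => key t ht z hz)
    have hle' : W ≤ W.comap (MulAut.conj t⁻¹).toMonoidHom := by
      rw [Z_inv hS ht]; exact hle
    refine mem_normalizer_iff.2 fun z => ⟨fun hz => hle hz, fun hz => ?_⟩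
    have := hle' hz
    rwa [mem_comap, MulEquiv.coe_toMonoidHom, MulAut.conj_apply,
      show t⁻¹ * (t * z * t⁻¹) * t⁻¹⁻¹ = z by group] at this
  have hEW : 𝐄 (v 0) ν ≤ normalizer (W : Set X) :=
    le_trans (le_inf (inf_le_left.trans (normZ hS _)) (inf_le_right.trans (normZ hS _)))
      (normalizer_inf_normalizer_le_normalizer_sup _ _)
  have hG : 𝐆 (v 0) ≤ normalizer (W : Set X) :=
    edge_max hS hν hEW htW htE.1 (moves hS hβ hν hne.symm htE htQ)
  intro x x' hx hx'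
  obtain ⟨g, hg, rfl⟩ := cg_transitive hν hx
  obtain ⟨g', hg', rfl⟩ := cg_transitive hν hx'
  have e : W = 𝐙 (v 0) ⊔ 𝐙 (g' • ν) := by
    conv_lhs => rw [← conj_map_of_mem (hG hg'), hW, Subgroup.map_sup, Z_conj_eq hS, Z_conj_eq hS,
      MulAction.mem_stabilizer_iff.1 hg']
  rw [← e, ← Z_conj_eq hS, ← conj_map_of_mem (hG hg)]
  exact map_mono le_sup_right

theorem critical_smul (hS : Setting M₁ M₂ 3) {x y : Cfsg.CosetVertex M₁ M₂}
    (hc : Cfsg.IsCriticalPair 2 x y) (g : X) : Cfsg.IsCriticalPair 2 (g • x) (g • y) := by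
  refine critical_of hS (fun hle => hc.1 ?_) ?_
  · rw [← Z_conj_eq hS, ← Q_conj_eq, map_le_map_iff_of_injective (MulAut.conj g).injective] at hle
    rwa [neighbourKernel_eq hS]
  · rw [AmalgamVIter.dist_smul (connected hS), hc.2]

/-- At distance two the kernel at the far end cuts `Z` in the fixed points of the edge group. -/
theorem mem_Q_iff_fixed (hS : Setting M₁ M₂ 3) {x y β : Cfsg.CosetVertex M₁ M₂}
    (hc : Cfsg.IsCriticalPair 2 x y) (hb : bb = 2) (hx : (Γ).Adj x β) (hy : (Γ).Adj y β) {z : X}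
    (hz : z ∈ 𝐙 x) : z ∈ 𝐐 y ↔ ∀ g ∈ 𝐄 x β, g * z = z * g := by
  have hd : ∀ w, (Γ).Adj w β → (Γ).dist w β < bb := fun w hw => by
    rw [SimpleGraph.dist_eq_one_iff_adj.2 hw, hb]; omega
  obtain ⟨a, ha, t, ht, hne⟩ := not_centralizes hS hc
  constructor
  · intro hzQ g hg
    refine mem_centralizer_singleton_iff.1 (Q_sup hS hx (K := centralizer {z})
      (edge_comm β x ▸ le_stab_of_dist hS (hd y hy) hx.symm ht)
      (fun h => hne (Q_commute h ha).symm)
      (fun w hw => mem_centralizer_singleton_iff.2 (Q_commute hw hz))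
      (mem_centralizer_singleton_iff.2 (Q_commute hzQ ht).symm) hg)
  · intro hfix
    refine centralizer_edge hS hy (edge_comm β y ▸ le_stab_of_dist hS (hd x hx) hy.symm hz)
      fun w hw => (hfix w ?_).symm
    exact edge_comm β x ▸ le_stab_of_dist hS (hd y hy) hx.symm hw

/-- The square argument at critical distance two. -/
theorem exists_sq_eq (hS : Setting M₁ M₂ 3) {α β α' : Cfsg.CosetVertex M₁ M₂}
    (hc : Cfsg.IsCriticalPair 2 α α') (hb : bb = 2) (hβ : (Γ).Adj α β) (hβ' : (Γ).Adj β α')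
    {r : X} (hr : IsR r α β) : ∃ e, e ∈ 𝐐 α ∧ e ∈ 𝐐 β ∧ e * e = r := by
  have hne : α ≠ α' := by
    rintro rfl
    have := hc.2
    rw [SimpleGraph.dist_self, hb] at this
    omega
  obtain ⟨g, hgQ, hgE⟩ := SetLike.not_le_iff_exists.1 (Q_ne hS hβ)
  have hgβ : g ∈ 𝐄 β α := edge_comm α β ▸ Q_le_edge hS hβ hgQ
  set α'' := g • α' with hα''
  have hadj'' : (Γ).Adj β α'' := by
    have := cg_adj_smul g hβ'
    rwa [MulAction.mem_stabilizer_iff.1 hgβ.1] at this
  have hne2 : α'' ≠ α' := moves hS hβ.symm hβ' hne hgβ hgE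
  have hgα : g • α = α := MulAction.mem_stabilizer_iff.1 hgβ.2
  obtain ⟨h, hhQ, hhα⟩ := swap hS hβ' hβ.symm hadj'' hne hne2
  have hh' : h • α' = α' := MulAction.mem_stabilizer_iff.1 (pCoreOf_le 2 _ hhQ)
  have hc1 : Cfsg.IsCriticalPair 2 α'' α := by
    simpa [hα'', hgα] using critical_smul hS (critical_symm hS hc) g
  have hc2 : Cfsg.IsCriticalPair 2 α'' α' := by
    simpa [hhα, hh'] using critical_smul hS hc h
  obtain ⟨n₀, hn, t, ht, hnt⟩ := not_centralizes hS hc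
  have hbd : ∀ x, (Γ).Adj x β → 𝐙 x ≤ 𝐐 β := fun x hx =>
    le_Q_of_dist hS (by rw [SimpleGraph.dist_eq_one_iff_adj.2 hx, hb]; omega)
  have hnQ' : n₀ ∉ 𝐐 α' := fun hh => hnt (Q_commute hh ht)
  have htQ : t ∉ 𝐐 α := fun hh => hnt (Q_commute hh hn).symm
  set s := h * n₀ * h⁻¹ with hs
  have hs'' : s ∈ 𝐙 α'' := hhα ▸ conj_mem_Z hS h hn
  have hsQ' : s ∉ 𝐐 α' := fun hh => hnQ' (by
    have := (mem_normalizer_iff.1 (inv_mem (normQ α' (pCoreOf_le 2 _ hhQ))) s).1 hh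
    rwa [hs, show h⁻¹ * (h * n₀ * h⁻¹) * h⁻¹⁻¹ = n₀ by group] at this)
  have hsQ : s ∉ 𝐐 α := fun hh => hsQ' ((mem_Q_iff_fixed hS hc2 hb hadj''.symm hβ'.symm hs'').2
    ((mem_Q_iff_fixed hS hc1 hb hadj''.symm hβ hs'').1 hh))
  have hE : ∀ x, (Γ).Adj x β → ∀ z ∈ 𝐐 β, z ∈ 𝐄 x β := fun x hx z hz =>
    edge_comm β x ▸ Q_le_edge hS hx.symm hz
  have hnβ : n₀ ∈ 𝐐 β := hbd α hβ hn
  have htβ : t ∈ 𝐐 β := hbd α' hβ'.symm ht
  have hsβ : s ∈ 𝐐 β := hbd α'' hadj''.symm hs''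
  set e := n₀ * s * t with he
  have heβ : e ∈ 𝐐 β := mul_mem (mul_mem hnβ hsβ) htβ
  have heα : e ∈ 𝐐 α := by
    rw [he, mul_assoc]
    exact mul_mem (Z_le_Q hS α hn)
      ((mul_mem_Q hS hβ (hE α hβ s hsβ) (hE α hβ t htβ)).2 (iff_of_false hsQ htQ))
  have heα' : e ∈ 𝐐 α' :=
    mul_mem ((mul_mem_Q hS hβ'.symm (hE α' hβ'.symm n₀ hnβ) (hE α' hβ'.symm s hsβ)).2
      (iff_of_false hnQ' hsQ')) (Z_le_Q hS α' ht)
  refine ⟨e, heα, heβ, ?_⟩
  have htn : t * n₀ * t⁻¹ = n₀ * r := by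
    rcases hr.2.2.2.1 n₀ hn t (hE α hβ t htβ) with h1 | h1
    · exact absurd (mul_inv_eq_iff_eq_mul.1 h1).symm hnt
    · exact h1
  have hse : s = n₀ * e * t := by
    have ht1 : t * t = 1 := Z_sq hS ht
    have hn1 : n₀ * n₀ = 1 := Z_sq hS hn
    calc s = (n₀ * n₀) * s * (t * t) := by rw [hn1, ht1, one_mul, mul_one]
      _ = n₀ * e * t := by rw [he]; group
  have hntn : n₀ * t * n₀ = r * t := by
    calc n₀ * t * n₀ = n₀ * (t * n₀ * t⁻¹) * t := by group
      _ = r * t := by rw [htn, ← mul_assoc n₀, Z_sq hS hn, one_mul]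
  have h1 : s * s = r * (e * e) := by
    calc s * s = (n₀ * e) * t * ((n₀ * e) * t) := by rw [hse]
      _ = (e * n₀) * t * ((n₀ * e) * t) := by rw [Q_commute heα hn]
      _ = e * (n₀ * t * n₀) * e * t := by group
      _ = (e * r) * (t * e) * t := by rw [hntn]; group
      _ = (r * e) * (e * t) * t := by rw [Q_commute heα hr.2.1, Q_commute heα' ht]
      _ = r * (e * e) * (t * t) := by group
      _ = r * (e * e) := by rw [Z_sq hS ht, mul_one]
  rw [Z_sq hS hs''] at h1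
  rw [← mul_left_cancel (a := r) ((Z_sq hS hr.2.1).trans h1)]

/-- If some element of `Qα` has a square central at `β` and its conjugates commute with `t`, it is trivial. -/
theorem sq_trivial (hS : Setting M₁ M₂ 3) {α β : Cfsg.CosetVertex M₁ M₂} (hβ : (Γ).Adj α β)
    {S : Subgroup X} (hSQ : S ≤ 𝐐 α) (hSn : 𝐆 α ≤ normalizer (S : Set X)) {t : X} (ht : t ∈ 𝐆 α)
    {ν : Cfsg.CosetVertex M₁ M₂} (hν : (Γ).Adj α ν) (htν : t • ν ≠ ν)
    (hsq : ∀ d ∈ S, t * (d * d) = d * d * t) {e r : X} (he : e ∈ S) (her : e * e = r)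
    (hrE : ∀ g ∈ 𝐄 α β, g * r = r * g) (hrβ : ∀ g ∈ 𝐆 β, g * r = r * g) : r = 1 := by
  obtain ⟨h, hh, hhν⟩ := cg_transitive hν hβ
  have hmem : h⁻¹ * e * h ∈ S := (mem_normalizer_iff''.1 (hSn hh) e).1 he
  have hc := hsq _ hmem
  rw [show h⁻¹ * e * h * (h⁻¹ * e * h) = h⁻¹ * r * h by rw [← her]; group] at hc
  refine faith hS hβ (her ▸ Q_le_edge hS hβ (mul_mem (hSQ he) (hSQ he))) ?_ hrβ
  refine move hS hβ hrE (g := h * t * h⁻¹) (mul_mem (mul_mem hh ht) (inv_mem hh)) ?_ ?_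
  · intro hfix
    apply htν
    apply smul_left_cancel h
    simpa [← hhν, mul_smul] using hfix
  · calc h * t * h⁻¹ * r = h * (t * (h⁻¹ * r * h)) * h⁻¹ := by group
      _ = h * (h⁻¹ * r * h * t) * h⁻¹ := by rw [hc]
      _ = r * (h * t * h⁻¹) := by group

/-- Two neighbours give the whole of a stabiliser. -/
theorem central_of_two (hS : Setting M₁ M₂ 3) {β x y : Cfsg.CosetVertex M₁ M₂} (hx : (Γ).Adj β x)
    (hy : (Γ).Adj β y) (hne : x ≠ y) {r : X} (h1 : ∀ g ∈ 𝐄 x β, g * r = r * g)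
    (h2 : ∀ g ∈ 𝐄 y β, g * r = r * g) : ∀ g ∈ 𝐆 β, g * r = r * g := by
  obtain ⟨g, hgE, hgQ⟩ := SetLike.not_le_iff_exists.1 (edge_ne hS hy)
  exact move hS hx (fun k hk => h1 k (edge_comm β x ▸ hk)) hgE.1
    (moves hS hy hx hne.symm hgE hgQ) (h2 g (edge_comm β y ▸ hgE))

/-- The case of critical distance two. -/
theorem dist_ne_two (hS : Setting M₁ M₂ 3) {v : ℕ → Cfsg.CosetVertex M₁ M₂}
    (hc : Cfsg.IsCriticalPair 2 (v 0) (v bb)) (hb : bb = 2)
    (hadj : ∀ i, i < bb → (Γ).Adj (v i) (v (i + 1)))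
    (hd : ∀ i j, i ≤ j → j ≤ bb → (Γ).dist (v i) (v j) = j - i) : False := by
  have hβ : (Γ).Adj (v 0) (v 1) := hadj 0 (by omega)
  have hβ' : (Γ).Adj (v 1) (v bb) := by
    have := hadj 1 (by omega)
    rwa [show (1 : ℕ) + 1 = bb by omega] at this
  have hd1 : (Γ).dist (v 1) (v bb) < bb := by rw [hd 1 bb (by omega) le_rfl]; omega
  have hd0 : (Γ).dist (v 0) (v 1) < bb := by rw [hd 0 1 (by omega) (by omega)]; omega
  obtain ⟨r, hr, hr'⟩ := transvection hS hc hβ hd1 hβ'.symm hd0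
  have hne : v 0 ≠ v bb := fun he => by
    have := hd 0 bb (by omega) le_rfl
    rw [← he, SimpleGraph.dist_self] at this
    omega
  have hrβ := central_of_two hS hβ.symm hβ' hne hr.2.2.1 hr'.2.2.1
  obtain ⟨e, heα, heβ, her⟩ := exists_sq_eq hS hc hb hβ hβ' hr
  obtain ⟨a, ha, t, ht, hne'⟩ := not_centralizes hS hc
  have htE : t ∈ 𝐄 (v 0) (v 1) := edge_comm (v 1) (v 0) ▸
    le_stab_of_dist hS (by rw [SimpleGraph.dist_comm]; exact hd1) hβ.symm ht
  have htQ : t ∉ 𝐐 (v 0) := fun h => hne' (Q_commute h ha).symm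
  obtain ⟨ν, hν, hνne⟩ := exists_other hS hβ
  have htν : t • ν ≠ ν := moves hS hβ hν hνne.symm htE htQ
  have hsqD : ∀ d ∈ 𝐐 (v 1), t * (d * d) = d * d * t := fun d hd' =>
    (Q_commute (sq_mem_Q hS hβ'.symm (edge_comm (v 1) (v bb) ▸ Q_le_edge hS hβ' hd')) ht).symm
  rcases covers_or_shift hS hc (by omega) hadj hd hν hνne with hcov | hc2
  · refine hr.1 (sq_trivial hS hβ (S := 𝐐 (v 0) ⊓ 𝐐 (v 1)) inf_le_left ?_ htE.1 hν htν
      (fun d hd' => hsqD d hd'.2) ⟨heα, heβ⟩ her hr.2.2.1 hrβ)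
    intro g hg
    refine mem_normalizer_of_conj_map ?_
    have hgβ := cg_adj_smul g hβ
    rw [MulAction.mem_stabilizer_iff.1 hg] at hgβ
    rw [Subgroup.map_inf _ _ _ (MulAut.conj g).injective, Q_conj_eq, Q_conj_eq,
      MulAction.mem_stabilizer_iff.1 hg]
    have key : ∀ x y, (Γ).Adj (v 0) x → (Γ).Adj (v 0) y → 𝐐 (v 0) ⊓ 𝐐 x ≤ 𝐐 y := by
      intro x y hx hy z hz
      refine centralizer_edge hS hy.symm (edge_comm (v 0) y ▸ Q_le_edge hS hy hz.1) fun w hw => ?_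
      have h1 : 𝐙 (v 0) ⊔ 𝐙 x ≤ centralizer ({z} : Set X) := sup_le
        (fun u hu => mem_centralizer_singleton_iff.2 (Q_commute hz.1 hu).symm)
        (fun u hu => mem_centralizer_singleton_iff.2 (Q_commute hz.2 hu).symm)
      exact (mem_centralizer_singleton_iff.1 (h1 (hcov y x hy hx hw))).symm
    exact le_antisymm (le_inf inf_le_left (key _ _ hgβ hβ)) (le_inf inf_le_left (key _ _ hβ hgβ))
  · rw [show bb - 1 = 1 by omega] at hc2
    obtain ⟨r₁, hr₁, hr₁'⟩ := transvection hS hc2 hν.symm hd0 hβ.symm (by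
      rw [SimpleGraph.dist_eq_one_iff_adj.2 hν.symm]; omega)
    have hr₁α := central_of_two hS hν hβ hνne hr₁.2.2.1 hr₁'.2.2.1
    obtain ⟨a', ha', s', hs', hne''⟩ := not_centralizes hS hc2
    have haα : a' ∈ 𝐐 (v 0) :=
      le_Q_of_dist hS (by rw [SimpleGraph.dist_eq_one_iff_adj.2 hν.symm]; omega) ha'
    have haβ : a' ∉ 𝐐 (v 1) := fun h => hne'' (Q_commute h hs')
    have hQβ : ∀ z ∈ 𝐐 (v 0), z ∈ 𝐄 (v 1) (v 0) := fun z hz =>
      edge_comm (v 0) (v 1) ▸ Q_le_edge hS hβ hz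
    have hr₁t : t * r₁ = r₁ * t := hr₁α t htE.1
    refine hr.1 (sq_trivial hS hβ le_rfl (normQ _) htE.1 hν htν ?_ heα her hr.2.2.1 hrβ)
    intro d hd'
    by_cases hdβ : d ∈ 𝐐 (v 1)
    · exact hsqD d hdβ
    · set d₀ := d * a'⁻¹ with hd₀
      have hd₀α : d₀ ∈ 𝐐 (v 0) := mul_mem hd' (inv_mem haα)
      have hd₀β : d₀ ∈ 𝐐 (v 1) := (mul_mem_Q hS hβ.symm (hQβ d hd') (inv_mem (hQβ a' haα))).2
        (iff_of_false hdβ fun h => haβ (inv_mem_iff.1 h))
      have hd₀E : d₀ ∈ 𝐄 ν (v 0) := edge_comm (v 0) ν ▸ Q_le_edge hS hν hd₀α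
      have hd₀sq : a' * (d₀ * d₀) = d₀ * d₀ * a' :=
        (Q_commute (sq_mem_Q hS hν.symm hd₀E) ha').symm
      have e1 : d * d = (d₀ * a' * d₀⁻¹) * (d₀ * d₀) * a' := by
        rw [show d = d₀ * a' by rw [hd₀]; group]
        group
      have e2 : d * d = d₀ * d₀ ∨ d * d = r₁ * (d₀ * d₀) := by
        rcases hr₁.2.2.2.1 a' ha' d₀ hd₀E with h | h
        · left
          rw [e1, h, hd₀sq, mul_assoc, Z_sq hS ha', mul_one]
        · right
          rw [e1, h, Z_commute hS ha' hr₁.2.1, mul_assoc r₁, hd₀sq, ← mul_assoc r₁, mul_assoc,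
            Z_sq hS ha', mul_one]
      rcases e2 with h | h <;> rw [h]
      · exact hsqD d₀ hd₀β
      · rw [← mul_assoc, hr₁t, mul_assoc, hsqD d₀ hd₀β, ← mul_assoc]

/-- The case of a covering first vertex at critical distance at least four. -/
theorem no_covering (hS : Setting M₁ M₂ 3) {v : ℕ → Cfsg.CosetVertex M₁ M₂}
    (hc : Cfsg.IsCriticalPair 2 (v 0) (v bb)) (hb : 4 ≤ bb)
    (hadj : ∀ i, i < bb → (Γ).Adj (v i) (v (i + 1)))
    (hd : ∀ i j, i ≤ j → j ≤ bb → (Γ).dist (v i) (v j) = j - i)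
    (hcov : Covers (v (bb - 2))) : False := by
  have hβ : (Γ).Adj (v 0) (v 1) := hadj 0 (by omega)
  have hβ' := adj_pred hadj (i := bb) (by omega) le_rfl
  have hd1 : (Γ).dist (v 1) (v bb) < bb := by rw [hd 1 bb (by omega) le_rfl]; omega
  have hd0 : (Γ).dist (v 0) (v (bb - 1)) < bb := by rw [hd 0 _ (by omega) (by omega)]; omega
  obtain ⟨r, hr, hr'⟩ := transvection hS hc hβ hd1 hβ' hd0
  obtain ⟨a, ha, t, ht, hne⟩ := not_centralizes hS hc
  have htE : t ∈ 𝐄 (v 0) (v 1) := edge_comm (v 1) (v 0) ▸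
    le_stab_of_dist hS (by rw [SimpleGraph.dist_comm]; exact hd1) hβ.symm ht
  have htQ : t ∉ 𝐐 (v 0) := fun h => hne (Q_commute h ha).symm
  obtain ⟨ν, hν, hνne⟩ := exists_other hS hβ
  have htν : t • ν ≠ ν := moves hS hβ hν hνne.symm htE htQ
  have hv2 : (Γ).Adj (v (bb - 2)) (v (bb - 3)) := by
    have := adj_pred hadj (i := bb - 2) (by omega) (by omega)
    rwa [show bb - 2 - 1 = bb - 3 by omega] at this
  have hv12 : (Γ).Adj (v (bb - 2)) (v (bb - 1)) := by
    have := hadj (bb - 2) (by omega)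
    rwa [show bb - 2 + 1 = bb - 1 by omega] at this
  have dμ : ∀ μ, (Γ).Adj ν μ → ∀ i, i + 2 < bb → (Γ).dist μ (v i) ≤ i + 2 ∧ (Γ).dist ν (v i) ≤ i + 1 := by
    intro μ hμ i hi
    have h1 := (connected hS).dist_triangle (u := μ) (v := ν) (w := v i)
    have h2 := (connected hS).dist_triangle (u := ν) (v := v 0) (w := v i)
    rw [SimpleGraph.dist_eq_one_iff_adj.2 hμ.symm] at h1
    rw [SimpleGraph.dist_eq_one_iff_adj.2 hν.symm, hd 0 i (by omega) (by omega)] at h2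
    omega
  have hμle : ∀ μ, (Γ).Adj ν μ → 𝐙 μ ≤ 𝐄 (v (bb - 2)) (v (bb - 3)) := fun μ hμ =>
    edge_comm (v (bb - 3)) (v (bb - 2)) ▸
      le_stab_of_dist hS (by have := (dμ μ hμ (bb - 3) (by omega)).1; omega) hv2.symm
  have hμd : ∀ μ, (Γ).Adj ν μ → (Γ).dist μ (v (bb - 2)) ≤ bb := by
    intro μ hμ
    have h1 := (connected hS).dist_triangle (u := μ) (v := v (bb - 3)) (w := v (bb - 2))
    have h2 := (dμ μ hμ (bb - 3) (by omega)).1
    rw [SimpleGraph.dist_eq_one_iff_adj.2 hv2.symm] at h1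
    omega
  by_cases hex : ∃ μ, (Γ).Adj ν μ ∧ μ ≠ v 0 ∧ 𝐙 μ ≤ 𝐐 (v (bb - 2))
  · obtain ⟨μ, hμ, hμ0, hμQ⟩ := hex
    have hμQ' : 𝐙 μ ≤ 𝐐 (v (bb - 1)) := by
      intro z hz
      refine centralizer_edge hS hv12.symm
        (edge_comm (v (bb - 2)) (v (bb - 1)) ▸ Q_le_edge hS hv12 (hμQ hz)) fun w hw => ?_
      have hz3 : z ∈ 𝐐 (v (bb - 3)) :=
        le_Q_of_dist hS (by have := (dμ μ hμ (bb - 3) (by omega)).1; omega) hz
      have h1 : 𝐙 (v (bb - 2)) ⊔ 𝐙 (v (bb - 3)) ≤ centralizer ({z} : Set X) := sup_le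
        (fun u hu => mem_centralizer_singleton_iff.2 (Q_commute (hμQ hz) hu).symm)
        (fun u hu => mem_centralizer_singleton_iff.2 (Q_commute hz3 hu).symm)
      exact (mem_centralizer_singleton_iff.1 (h1 (hcov _ _ hv12 hv2 hw))).symm
    set V : Subgroup X := ⨆ x : {x // (Γ).Adj ν x}, 𝐙 x.1 with hV
    have hVle : ∀ x, (Γ).Adj ν x → 𝐙 x ≤ V := fun x hx =>
      le_iSup (fun x : {x // (Γ).Adj ν x} => 𝐙 x.1) ⟨x, hx⟩
    have hVn : 𝐆 ν ≤ normalizer (V : Set X) := by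
      have key : ∀ g ∈ 𝐆 ν, V.map (MulAut.conj g).toMonoidHom ≤ V := by
        intro g hg
        rw [hV, Subgroup.map_iSup]
        refine iSup_le fun x => ?_
        rw [Z_conj_eq hS]
        refine hVle _ ?_
        have := cg_adj_smul g x.2
        rwa [MulAction.mem_stabilizer_iff.1 hg] at this
      refine le_normalizer_iff.2 fun g hg x hx => key g hg ⟨x, hx, rfl⟩
    have hVE : V ≤ 𝐄 (v 0) ν := by
      refine iSup_le fun x => ?_
      rw [edge_comm]
      refine le_stab_of_dist hS ?_ hν.symm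
      rw [SimpleGraph.dist_eq_one_iff_adj.2 x.2.symm]; omega
    have hμt : ∀ z ∈ 𝐙 μ, t * z * t⁻¹ ∈ V := by
      intro z hz
      have hzE : z ∈ 𝐄 (v bb) (v (bb - 1)) :=
        edge_comm (v (bb - 1)) (v bb) ▸ Q_le_edge hS hβ'.symm (hμQ' hz)
      rcases hr'.2.2.2.1 t ht z hzE with h1 | h1
      · have h2 : t * z * t⁻¹ = z := by rw [← (mul_inv_eq_iff_eq_mul.1 h1), mul_inv_cancel_right]
        rw [h2]; exact hVle μ hμ hz
      · have h2 : t * z * t⁻¹ = r * z := by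
          have h3 : t * z * t⁻¹ = t * (z * t⁻¹ * z⁻¹) * z := by group
          have h4 : z * t⁻¹ * z⁻¹ = r⁻¹ * t⁻¹ := by
            rw [show z * t⁻¹ * z⁻¹ = (z * t * z⁻¹)⁻¹ by group, h1, mul_inv_rev]
          rw [h3, h4, Z_inv hS hr'.2.1, Z_commute hS hr'.2.1 (inv_mem ht), mul_inv_cancel_left]
        rw [h2]; exact mul_mem (hVle _ hν.symm hr.2.1) (hVle μ hμ hz)
    have htV : V ≤ V.comap (MulAut.conj t).toMonoidHom := by
      refine iSup_le fun x z hz => ?_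
      show t * z * t⁻¹ ∈ V
      by_cases hx0 : x.1 = v 0
      · rw [hx0] at hz
        exact hVle _ hν.symm ((mem_normalizer_iff.1 (normZ hS (v 0) htE.1) z).1 hz)
      · obtain ⟨g, hg, hgx⟩ := swap hS hν.symm hμ x.2 hμ0 hx0
        have hz' : g⁻¹ * z * g ∈ 𝐙 μ := by
          rw [← hgx, ← Z_conj_eq hS] at hz
          exact mem_conj_map_iff.1 hz
        have hg' : t * g * t⁻¹ ∈ normalizer (V : Set X) :=
          hVn (Q_le_edge hS hν ((mem_normalizer_iff.1 (normQ _ htE.1) g).1 hg)).2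
        have := (mem_normalizer_iff.1 hg' _).1 (hμt _ hz')
        rwa [show t * g * t⁻¹ * (t * (g⁻¹ * z * g) * t⁻¹) * (t * g * t⁻¹)⁻¹ = t * z * t⁻¹ by group]
          at this
    have htn : t ∈ normalizer (V : Set X) := mem_normalizer_iff.2 fun z =>
      ⟨fun hz => htV hz, fun hz => by
        have := htV hz
        rwa [mem_comap, MulEquiv.coe_toMonoidHom, MulAut.conj_apply,
          show t * (t * z * t⁻¹) * t⁻¹ = (t * t) * z * (t * t)⁻¹ by group, Z_sq hS ht, one_mul,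
          inv_one, mul_one] at this⟩
    have hG : 𝐆 (v 0) ≤ normalizer (V : Set X) :=
      edge_max hS hν (inf_le_right.trans hVn) htn htE.1 htν
    have := eq_bot_of_normalized hS hν hVE hG hVn
    exact hr.1 (mem_bot.1 (this ▸ hVle _ hν.symm hr.2.1))
  · push Not at hex
    obtain ⟨μ, hμ, hμ0⟩ := exists_other hS hν.symm
    obtain ⟨g, hg, hgQ⟩ := SetLike.not_le_iff_exists.1 (Q_ne hS hν)
    have hgE : g ∈ 𝐄 ν (v 0) := edge_comm (v 0) ν ▸ Q_le_edge hS hν hg
    have hμ' : (Γ).Adj ν (g • μ) := by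
      have := cg_adj_smul g hμ
      rwa [MulAction.mem_stabilizer_iff.1 hgE.1] at this
    have hne2 : g • μ ≠ μ := moves hS hν.symm hμ hμ0.symm hgE hgQ
    have hμ'0 : g • μ ≠ v 0 := fun hh => hμ0 (smul_left_cancel g
      (hh.trans (MulAction.mem_stabilizer_iff.1 hgE.2).symm))
    have getR : ∀ μ, (Γ).Adj ν μ → μ ≠ v 0 →
        ∃ r, IsR r μ ν ∧ IsR r (v (bb - 2)) (v (bb - 3)) := fun μ hμ h0 =>
      transvection hS (critical_of hS (hex μ hμ h0) (hμd μ hμ)) hμ.symm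
        (by have := (dμ μ hμ (bb - 3) (by omega)).2
            have h1 := (connected hS).dist_triangle (u := ν) (v := v (bb - 3)) (w := v (bb - 2))
            rw [SimpleGraph.dist_eq_one_iff_adj.2 hv2.symm] at h1
            omega)
        hv2 (by have := (dμ μ hμ (bb - 3) (by omega)).1; omega)
    obtain ⟨r₂, h1, h2⟩ := getR μ hμ hμ0
    obtain ⟨r₃, h3, h4⟩ := getR (g • μ) hμ' hμ'0
    rw [h4.eq h2] at h3
    have hν2 := central_of_two hS hμ hμ' hne2.symm h1.2.2.1 h3.2.2.1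
    have hr2E : r₂ ∈ 𝐄 (v 0) ν :=
      edge_comm ν (v 0) ▸ le_stab_of_dist hS (by
        rw [SimpleGraph.dist_eq_one_iff_adj.2 hμ.symm]; omega) hν.symm h1.2.1
    refine h1.1 (faith hS hν hr2E ?_ hν2)
    refine move hS hν (fun k hk => hν2 k hk.2) htE.1 htν ?_
    exact commute_of_dist hS (by
      rw [SimpleGraph.dist_comm, hd (bb - 2) bb (by omega) le_rfl]; omega) ht h2.2.1

/-- The critical distance is one. -/
theorem dist_eq_one (hS : Setting M₁ M₂ 3) : bb = 1 := by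
  obtain ⟨α₀, α₀', hc₀⟩ := exists_critical hS
  have hpos := dist_pos hS hc₀
  by_contra hb1
  have hb : 2 ≤ bb := by omega
  by_cases hex : ∃ α α', Cfsg.IsCriticalPair 2 α α' ∧ Covers (M₁ := M₁) (M₂ := M₂) α
  · obtain ⟨α, α', hc, hcov⟩ := hex
    obtain ⟨v, h0, hbv, hadj, hd⟩ := geodesic hS hc
    subst h0; subst hbv
    have htype : ∀ i, i ≤ bb → ((v i).isLeft = (v 0).isLeft ↔ i % 2 = 0) := by
      intro i
      induction i with
      | zero => simp
      | succ i ih =>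
        intro hi
        have h1 := isLeft_adj (hadj i (by omega))
        have h2 := ih (by omega)
        rw [h1] at h2
        cases hh : (v (i + 1)).isLeft <;> cases hk : (v 0).isLeft <;>
          simp only [hh, hk, Bool.not_true, Bool.not_false, Bool.false_eq_true, reduceCtorEq,
            false_iff, true_iff] at h2 ⊢ <;> omega
    rcases Nat.mod_two_eq_zero_or_one bb with heven | hodd
    · by_cases hb2 : bb = 2
      · exact dist_ne_two hS hc hb2 hadj hd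
      · refine no_covering hS hc (by omega) hadj hd (hcov.of_type hS ?_)
        exact ((htype (bb - 2) (by omega)).2 (by omega)).symm
    · refine covers_next hS (critical_symm hS hc) hb (adj_pred hadj (by omega) le_rfl) ?_
        (hcov.of_type hS ((htype (bb - 1) (by omega)).2 (by omega)).symm)
      rw [SimpleGraph.dist_comm, hd 0 (bb - 1) (by omega) (by omega)]
      omega
  · push Not at hex
    obtain ⟨v, h0, hbv, hadj, hd⟩ := geodesic hS hc₀
    subst h0; subst hbv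
    by_cases hb2 : bb = 2
    · exact dist_ne_two hS hc₀ hb2 hadj hd
    -- the backward shift
    have hβ := hadj 0 (by omega)
    have hβ' := adj_pred hadj (i := bb) (by omega) le_rfl
    have hd1 : (Γ).dist (v 1) (v bb) < bb := by rw [hd 1 bb (by omega) le_rfl]; omega
    obtain ⟨a, ha, t, ht, hne⟩ := not_centralizes hS hc₀
    have htE : t ∈ 𝐄 (v 0) (v 1) := edge_comm (v 1) (v 0) ▸
      le_stab_of_dist hS (by rw [SimpleGraph.dist_comm]; exact hd1) hβ.symm ht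
    have htQ : t ∉ 𝐐 (v 0) := fun h => hne (Q_commute h ha).symm
    obtain ⟨ν, hν, hνne⟩ := exists_other hS hβ
    have hcν := (covers_or_shift hS hc₀ hb hadj hd hν hνne).resolve_left (hex _ _ hc₀)
    have hv12 : (Γ).Adj (v (bb - 1)) (v (bb - 2)) := by
      have := adj_pred hadj (i := bb - 1) (by omega) (by omega)
      rwa [show bb - 1 - 1 = bb - 2 by omega] at this
    obtain ⟨r, hr, hr'⟩ := transvection hS hcν hν.symm
      (by rw [hd 0 (bb - 1) (by omega) (by omega)]; omega) hv12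
      (by have h1 := (connected hS).dist_triangle (u := ν) (v := v 0) (w := v (bb - 2))
          rw [SimpleGraph.dist_eq_one_iff_adj.2 hν.symm, hd 0 (bb - 2) (by omega) (by omega)] at h1
          omega)
    have hrα : ∀ g ∈ 𝐆 (v 0), g * r = r * g :=
      move hS hν (fun k hk => hr.2.2.1 k (edge_comm (v 0) ν ▸ hk)) htE.1
        (moves hS hβ hν hνne.symm htE htQ)
        (commute_of_dist hS (by
          rw [SimpleGraph.dist_comm, hd (bb - 1) bb (by omega) le_rfl]; omega) ht hr'.2.1)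
    -- the forward shift
    have hc' := critical_symm hS hc₀
    obtain ⟨ν', hν', hν'ne⟩ := exists_other hS hβ'
    let v' : ℕ → Cfsg.CosetVertex M₁ M₂ := fun i => v (bb - i)
    have e0 : v' 0 = v bb := rfl
    have e1 : v' bb = v 0 := by show v (bb - bb) = _; rw [Nat.sub_self]
    have e2 : v' (bb - 1) = v 1 := by show v (bb - (bb - 1)) = _; congr 1; omega
    have hadj' : ∀ i, i < bb → (Γ).Adj (v' i) (v' (i + 1)) := fun i hi => by
      have := adj_pred hadj (i := bb - i) (by omega) (by omega)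
      show (Γ).Adj (v (bb - i)) (v (bb - (i + 1)))
      rwa [show bb - (i + 1) = bb - i - 1 by omega]
    have hd' : ∀ i j, i ≤ j → j ≤ bb → (Γ).dist (v' i) (v' j) = j - i := fun i j hij hj => by
      show (Γ).dist (v (bb - i)) (v (bb - j)) = _
      rw [SimpleGraph.dist_comm, hd _ _ (by omega) (by omega)]
      omega
    have hcν' := (covers_or_shift hS (v := v') (by rw [e1]; exact hc') hb hadj' hd' hν'
      hν'ne).resolve_left (hex _ _ hc')
    rw [e2] at hcν'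
    obtain ⟨s, hs, z, hz, hne'⟩ := not_centralizes hS hcν'
    have hv21 : (Γ).Adj (v 1) (v 2) := hadj 1 (by omega)
    have hd2 : (Γ).dist ν' (v 2) < bb := by
      have h1 := (connected hS).dist_triangle (u := ν') (v := v bb) (w := v 2)
      rw [SimpleGraph.dist_eq_one_iff_adj.2 hν'.symm, SimpleGraph.dist_comm (u := v bb),
        hd 2 bb (by omega) le_rfl] at h1
      omega
    have hsE : s ∈ 𝐄 (v 1) (v 2) := edge_comm (v 2) (v 1) ▸ le_stab_of_dist hS hd2 hv21.symm hs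
    have hsQ : s ∉ 𝐐 (v 1) := fun h => hne' (Q_commute h hz)
    have hne02 : v 2 ≠ v 0 := fun he => by
      have := hd 0 2 (by omega) (by omega)
      rw [he, SimpleGraph.dist_self] at this
      omega
    have hrβ : ∀ g ∈ 𝐆 (v 1), g * r = r * g :=
      move hS hβ.symm (fun k hk => hrα k hk.2) hsE.1 (moves hS hv21 hβ.symm hne02 hsE hsQ)
        (commute_of_dist hS (by
          have h1 := (connected hS).dist_triangle (u := ν') (v := v bb) (w := v (bb - 1))
          rw [SimpleGraph.dist_eq_one_iff_adj.2 hν'.symm, SimpleGraph.dist_eq_one_iff_adj.2 hβ'] at h1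
          omega) hs hr'.2.1)
    exact hr.1 (faith hS hβ (le_stab_of_dist hS (by
      rw [SimpleGraph.dist_eq_one_iff_adj.2 hν.symm]; omega) hβ hr.2.1) hrα hrβ)

end Cfsg.Agent.CharP.S3Amalgam
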