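import Cfsg.Agent.Lib.CharP.LocalThompson

/-!
A saturated system whose centralizer of `Z(S)` and normalizer of `J(S)` are inner is inner.
-/

set_option autoImplicit false
set_option linter.unusedSectionVars false

universe u

namespace Cfsg.Agent.CharP.InnerThompson

open Cfsg Cfsg.FusionSystem Cfsg.Agent.Fusion.Basic Cfsg.Agent.CharP.LocalControl
  Cfsg.Agent.CharP.Climbing

variable {Ω : Type u} [Group Ω] {S : Subgroup Ω} [Finite S] {p : ℕ} [Fact p.Prime]

/-- The criterion in terms of maps. -/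
theorem inner_of_models (hS : IsPGroup p S) {F : FusionSystem S} (hF : F.IsSaturated p)
    (hmod : LocalModel.AltModels F p)
    (hC : ∀ P f, IsMap F P f → S ⊓ Subgroup.centralizer (S : Set Ω) ≤ P →
      (∀ u ∈ S ⊓ Subgroup.centralizer (S : Set Ω), f u = u) → IsMap (innerFusionSystem S) P f)
    (hN : ∀ P f, IsMap F P f → thompsonSubgroupAOf S ≤ P →
      img f (thompsonSubgroupAOf S) = thompsonSubgroupAOf S → IsMap (innerFusionSystem S) P f) :
    ∀ P : Subgroup Ω, F.Hom P = (innerFusionSystem S).Hom P := by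
  have hU : S ⊓ Subgroup.centralizer (S : Set Ω) ≤
      powerClosure p 0 (S ⊓ Subgroup.centralizer (S : Set Ω)) := fun z hz =>
    Subgroup.subset_closure ⟨z, hz, by simp⟩
  have main := ClimbingFree.climb (fix := False) (inn := True) hS hF LocalJ.isoInv_J
    (fun Q _ _ _ => LocalJ.center_le_J) hU hmod
    (fun G _ _ T hchar halt U₀ N₀ hU₀ =>
      LocalThompson.local_inner T hchar halt U₀ N₀ hU₀)
    (innerFusionSystem S) hC hN (fun h => h.elim) (fun _ P f hf => InnerControl.isMap_inner hf)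
  intro P
  refine Set.ext fun φ => ⟨fun hφ => ?_, fun hφ => ?_⟩
  · exact (main P _ (IsMap.of_hom hφ)).hom_mem fun x => (ext_apply φ x).symm
  · obtain ⟨hP, s, hs, hse⟩ := hφ
    exact (isMap_cj (F := F) hP hs).hom_mem fun x => hse x

theorem inner_of_center_and_J (hS : IsPGroup p S) {F : FusionSystem S} (hF : F.IsSaturated p)
    (hp : p ≠ 2 ∨ F.IsSectionFree p (Equiv.Perm (Fin 4)))
    (hC : ∀ C : FusionSystem (centralizerIn S (S ⊓ Subgroup.centralizer (S : Set Ω))),
      F.IsCentralizerSystem (S ⊓ Subgroup.centralizer (S : Set Ω)) C → ∀ P : Subgroup Ω,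
        C.Hom P = (innerFusionSystem
          (centralizerIn S (S ⊓ Subgroup.centralizer (S : Set Ω)))).Hom P)
    (hN : ∀ N : FusionSystem (normalizerIn S (thompsonSubgroupAOf S)),
      F.IsNormalizerSystem (thompsonSubgroupAOf S) N → ∀ P : Subgroup Ω,
        N.Hom P = (innerFusionSystem (normalizerIn S (thompsonSubgroupAOf S))).Hom P) :
    ∀ P : Subgroup Ω, F.Hom P = (innerFusionSystem S).Hom P := by
  obtain ⟨C, hC'⟩ := Fusion.KNormalizer.exists_centralizerSystem (F := F)
    (Q := S ⊓ Subgroup.centralizer (S : Set Ω)) inf_le_left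
  obtain ⟨N, hN'⟩ := Fusion.KNormalizer.exists_normalizerSystem (F := F)
    (Q := thompsonSubgroupAOf S) (Wof_le (W := LocalJ.J.{u}) S)
  refine inner_of_models hS hF (LocalModel.altModels_of_free hS hF hp) (fun P f hf hUP hfix => ?_) fun P f hf hJP himg => ?_
  · obtain ⟨φ, hφ, he⟩ := isMap_centralizer hC' le_rfl hf hUP hfix
    rw [hC C hC' P] at hφ
    obtain ⟨-, s, hs, hse⟩ := hφ
    exact ⟨φ, ⟨hf.le, s, hs.1, hse⟩, he⟩
  · obtain ⟨φ, hφ, he⟩ := isMap_normalizer_Wof (W := LocalJ.J.{u}) (N := N) hS LocalJ.isoInv_J hN'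
      hf hJP himg
    rw [hN N hN' P] at hφ
    obtain ⟨-, s, hs, hse⟩ := hφ
    exact ⟨φ, ⟨hf.le, s, hs.1, hse⟩, he⟩

end Cfsg.Agent.CharP.InnerThompson
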