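import Cfsg.Agent.Techniques.SL2.Nonstable
import Cfsg.Agent.Techniques.Functor.Chief
import Cfsg.Agent.Lib.PLocal.ZJ

/-!
An involution in the group generated by two quadratic elements commutes with both of them (odd characteristic);
consequently a badly quadratic element has, modulo the kernel on a chief factor, a centralizer of even order.
-/

set_option autoImplicit false
set_option linter.unusedSectionVars false

namespace Cfsg.Agent.CharP.QuadraticInvolution

open Subgroup Cfsg
open scoped MatrixGroups commutatorElement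

section ring

variable {R : Type*} [Ring R] (α β : R)

/-- The normal form `r₀ + r₁α + r₂β + r₃αβ` of an element together with that of its inverse. -/
def Form (u v : R) : Prop :=
  ∃ r0 r1 r2 r3 : R, (Commute r0 α ∧ Commute r0 β) ∧ (Commute r1 α ∧ Commute r1 β) ∧
    (Commute r2 α ∧ Commute r2 β) ∧ (Commute r3 α ∧ Commute r3 β) ∧
    u = r0 + r1 * α + r2 * β + r3 * (α * β) ∧ v = r0 - r1 * α - r2 * β + r3 * (β * α)

variable {α β} (ha : α * α = 0) (hb : β * β = 0)
include ha hb

theorem commute_c : Commute (α * β + β * α) α ∧ Commute (α * β + β * α) β := by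
  constructor
  · show (α * β + β * α) * α = α * (α * β + β * α)
    rw [add_mul, mul_add, mul_assoc β α α, ha, ← mul_assoc α α β, ha]
    simp [mul_assoc]
  · show (α * β + β * α) * β = β * (α * β + β * α)
    rw [add_mul, mul_add, mul_assoc α β β, hb, ← mul_assoc β β α, hb]
    simp [mul_assoc]

theorem Form.mul_left {u v : R} (h : Form α β u v) (e : ℤ) :
    Form α β (u * (1 + e • α)) ((1 - e • α) * v) := by
  obtain ⟨r0, r1, r2, r3, h0, h1, h2, h3, rfl, rfl⟩ := h
  obtain ⟨hca, hcb⟩ := commute_c ha hb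
  set c := α * β + β * α with hc
  have hba : β * α = c - α * β := by rw [hc]; abel
  have haba : α * β * α = c * α := by rw [hc, add_mul, mul_assoc β α α, ha, mul_zero, add_zero]
  refine ⟨r0 + e • (r2 * c), r1 + e • r0 + e • (r3 * c), r2, r3 - e • r2,
    ⟨h0.1.add_left ((h2.1.mul_left hca).smul_left e), h0.2.add_left ((h2.2.mul_left hcb).smul_left e)⟩,
    ⟨(h1.1.add_left (h0.1.smul_left e)).add_left ((h3.1.mul_left hca).smul_left e),
      (h1.2.add_left (h0.2.smul_left e)).add_left ((h3.2.mul_left hcb).smul_left e)⟩, h2,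
    ⟨h3.1.sub_left (h2.1.smul_left e), h3.2.sub_left (h2.2.smul_left e)⟩, ?_, ?_⟩
  · have e1 : r1 * α * α = 0 := by rw [mul_assoc, ha, mul_zero]
    have e2 : r2 * β * α = r2 * c - r2 * (α * β) := by rw [mul_assoc, hba, mul_sub]
    have e3 : r3 * (α * β) * α = r3 * c * α := by rw [mul_assoc, haba, mul_assoc]
    simp only [mul_add, mul_one, add_mul, sub_mul, mul_smul_comm, smul_mul_assoc, e1, e2, e3, smul_sub, smul_add, smul_zero]
    abel
  · have e1 : α * (r1 * α) = 0 := by rw [← mul_assoc, ← h1.1.eq, mul_assoc, ha, mul_zero]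
    have e0 : α * r0 = r0 * α := h0.1.eq.symm
    have e2 : α * (r2 * β) = r2 * c - r2 * (β * α) := by
      rw [← mul_assoc, ← h2.1.eq, mul_assoc, ← mul_sub, hc]; congr 1; abel
    have e3 : α * (r3 * (β * α)) = r3 * c * α := by
      rw [← mul_assoc, ← h3.1.eq, mul_assoc, ← mul_assoc α β α, haba, mul_assoc]
    simp only [mul_add, mul_sub, one_mul, sub_mul, add_mul, mul_smul_comm, smul_mul_assoc, e0, e1, e2, e3,
      smul_sub, smul_add, smul_zero]
    abel

theorem Form.mul_right {u v : R} (h : Form α β u v) (e : ℤ) :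
    Form α β (u * (1 + e • β)) ((1 - e • β) * v) := by
  obtain ⟨r0, r1, r2, r3, h0, h1, h2, h3, rfl, rfl⟩ := h
  refine ⟨r0, r1, r2 + e • r0, r3 + e • r1, h0, h1,
    ⟨h2.1.add_left (h0.1.smul_left e), h2.2.add_left (h0.2.smul_left e)⟩,
    ⟨h3.1.add_left (h1.1.smul_left e), h3.2.add_left (h1.2.smul_left e)⟩, ?_, ?_⟩
  · have e2 : r2 * β * β = 0 := by rw [mul_assoc, hb, mul_zero]
    have e3 : r3 * (α * β) * β = 0 := by rw [mul_assoc, mul_assoc α, hb, mul_zero, mul_zero]
    have e1 : r1 * α * β = r1 * (α * β) := mul_assoc _ _ _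
    simp only [mul_add, mul_one, add_mul, mul_smul_comm, smul_mul_assoc, e1, e2, e3, smul_add, smul_sub, smul_zero]
    abel
  · have e0 : β * r0 = r0 * β := h0.2.eq.symm
    have e1 : β * (r1 * α) = r1 * (β * α) := by rw [← mul_assoc, ← h1.2.eq, mul_assoc]
    have e2 : β * (r2 * β) = 0 := by rw [← mul_assoc, ← h2.2.eq, mul_assoc, hb, mul_zero]
    have e3 : β * (r3 * (β * α)) = 0 := by
      rw [← mul_assoc, ← h3.2.eq, mul_assoc, ← mul_assoc β β, hb, zero_mul, mul_zero]
    simp only [mul_add, mul_sub, one_mul, sub_mul, add_mul, mul_smul_comm, smul_mul_assoc, e0, e1, e2, e3,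
      smul_add, smul_sub, smul_zero]
    abel

end ring

/-- An involution in a group generated by two quadratic units commutes with both. -/
theorem involution_central {R : Type*} [Ring R] (h2 : ∀ y : R, (2 : ℕ) • y = 0 → y = 0) {A B : Rˣ}
    (hA : ((A : R) - 1) * ((A : R) - 1) = 0) (hB : ((B : R) - 1) * ((B : R) - 1) = 0) {h : Rˣ}
    (hh : h ∈ closure ({A, B} : Set Rˣ)) (hinv : h * h = 1) : h * A = A * h ∧ h * B = B * h := by
  set α := (A : R) - 1 with hα
  set β := (B : R) - 1 with hβ
  have key : Form α β (h : R) ((h⁻¹ : Rˣ) : R) := by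
    have hA' : (A : R) = 1 + (1 : ℤ) • α := by rw [one_zsmul, hα]; abel
    have hB' : (B : R) = 1 + (1 : ℤ) • β := by rw [one_zsmul, hβ]; abel
    have hAi : ((A⁻¹ : Rˣ) : R) = 1 + (-1 : ℤ) • α := by
      refine Units.inv_eq_of_mul_eq_one_right ?_
      rw [hA', one_zsmul, neg_one_zsmul, add_mul, one_mul, mul_add, mul_one, mul_neg, hA]; abel
    have hBi : ((B⁻¹ : Rˣ) : R) = 1 + (-1 : ℤ) • β := by
      refine Units.inv_eq_of_mul_eq_one_right ?_
      rw [hB', one_zsmul, neg_one_zsmul, add_mul, one_mul, mul_add, mul_one, mul_neg, hB]; abel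
    clear hinv
    induction hh using Subgroup.closure_induction_right with
    | one => exact ⟨1, 0, 0, 0, ⟨Commute.one_left _, Commute.one_left _⟩, ⟨Commute.zero_left _, Commute.zero_left _⟩,
        ⟨Commute.zero_left _, Commute.zero_left _⟩, ⟨Commute.zero_left _, Commute.zero_left _⟩, by simp, by simp⟩
    | mul_right x hx y hy ih =>
      rw [mul_inv_rev, Units.val_mul, Units.val_mul]
      rcases hy with rfl | rfl
      · rw [hAi, neg_one_zsmul, hA', ← sub_eq_add_neg]
        simpa using ih.mul_left hA hB 1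
      · rw [hBi, neg_one_zsmul, hB', ← sub_eq_add_neg]
        simpa using ih.mul_right hA hB 1
    | mul_inv_cancel x hx y hy ih =>
      rw [mul_inv_rev, inv_inv, Units.val_mul, Units.val_mul]
      rcases hy with rfl | rfl
      · rw [hAi, hA']
        simpa using ih.mul_left hA hB (-1)
      · rw [hBi, hB']
        simpa using ih.mul_right hA hB (-1)
  obtain ⟨r0, r1, r2, r3, h0, h1, h2', h3, hu, hv⟩ := key
  obtain ⟨hca, hcb⟩ := commute_c hA hB
  have hsum : (2 : ℕ) • (h : R) = r0 + r0 + r3 * (α * β + β * α) := by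
    have hi : ((h⁻¹ : Rˣ) : R) = (h : R) := by rw [inv_eq_of_mul_eq_one_right hinv]
    rw [two_nsmul]
    nth_rw 2 [← hi]
    rw [hu, hv, mul_add]
    abel
  have hcomm : ∀ γ : R, Commute r0 γ → Commute r3 γ → Commute (α * β + β * α) γ → Commute (h : R) γ := by
    intro γ g0 g3 gc
    have hc2 : Commute ((2 : ℕ) • (h : R)) γ := hsum ▸ (g0.add_left g0).add_left (g3.mul_left gc)
    refine sub_eq_zero.mp (h2 _ ?_)
    rw [smul_sub, ← smul_mul_assoc, ← mul_smul_comm, hc2.eq, sub_self]
  have cA := hcomm α h0.1 h3.1 hca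
  have cB := hcomm β h0.2 h3.2 hcb
  constructor
  · refine Units.ext ?_
    rw [Units.val_mul, Units.val_mul, show (A : R) = α + 1 from by rw [hα]; abel]
    exact (cA.add_right (Commute.one_right _)).eq
  · refine Units.ext ?_
    rw [Units.val_mul, Units.val_mul, show (B : R) = β + 1 from by rw [hβ]; abel]
    exact (cB.add_right (Commute.one_right _)).eq

variable {p : ℕ} [hp : Fact p.Prime]

open Cfsg.Agent.Techniques.KInf Cfsg.Agent.PLocal in
/-- A quadratic element acting unstably lies, with everything centralizing it, in a proper subgroup of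
even order containing `O_p(G)`. -/
theorem exists_even {G : Type*} [Group G] [Finite G] (hp2 : p ≠ 2) {P : Subgroup G} [P.Normal]
    (hP : IsPGroup p P) {a : G} (hq : ⁅⁅P, zpowers a⁆, zpowers a⁆ = ⊥)
    (hna : (QuotientGroup.mk a : G ⧸ centralizer (P : Set G)) ∉ pCore p (G ⧸ centralizer (P : Set G))) :
    a ∉ pCore p G ∧ ∃ H : Subgroup G, H ≠ ⊤ ∧ pCore p G ≤ H ∧ centralizer ({a} : Set G) ≤ H ∧ 2 ∣ Nat.card H := by
  have hst : a ∉ stabilizes P := by
    intro hs
    set π := QuotientGroup.mk' (centralizer (P : Set G)) with hπ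
    have himg : IsPGroup p ((stabilizes P).map π) := by
      rintro ⟨_, x, hx, rfl⟩
      obtain ⟨k, hk⟩ := exists_pow_coprime (p := p) x
      refine ⟨k, Subtype.ext ?_⟩
      rw [SubmonoidClass.coe_pow, OneMemClass.coe_one, ← map_pow, QuotientGroup.mk'_apply, QuotientGroup.eq_one_iff]
      exact mem_centralizer_of_stabilizes hP (pow_mem hx _) hk
    have : ((stabilizes P).map π).Normal := (stabilizes_normal P).map π (QuotientGroup.mk'_surjective _)
    exact hna (Cores.le_pCore himg (mem_map_of_mem π hs))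
  obtain ⟨U, V, hch, hU, hne⟩ := not_stabilizes hst
  have hUn : U.Normal := hch.2.1
  have hVn : V.Normal := hch.2.2.1
  set π := QuotientGroup.mk' V with hπ
  set W := U.map π with hW
  haveI hWn : W.Normal := hUn.map π (QuotientGroup.mk'_surjective V)
  have hUQ : U ≤ pCore p G := hU.trans (Cores.le_pCore hP)
  have hWel : IsElementaryAbelian p W := by
    refine ThompsonSubgroup.isElementaryAbelian_iff.mpr ⟨?_, ?_⟩
    · rintro _ ⟨x, hx, rfl⟩ _ ⟨y, hy, rfl⟩
      rw [← commutatorElement_eq_one_iff_mul_comm, ← map_commutatorElement]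
      exact (QuotientGroup.eq_one_iff _).mpr
        ((commutator_mono le_rfl hUQ).trans (Cfsg.Agent.Techniques.Functor.chief_commutator_le hch hUQ)
          (commutator_mem_commutator hx hy))
    · rintro _ ⟨x, hx, rfl⟩
      rw [← map_pow]
      exact (QuotientGroup.eq_one_iff _).mpr (Cfsg.Agent.Techniques.Functor.chief_pow_mem hch (hP.to_le hU) hx)
  have htop : ∀ x : G ⧸ V, x ∈ normalizer (W : Set (G ⧸ V)) := fun x => le_normalizer_of_normal (mem_top x)
  set g' := π a with hg'
  have hgq : Quadratic.Quad W g' := by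
    show ⁅⁅W, zpowers g'⁆, zpowers g'⁆ = ⊥
    rw [hW, hg', ← MonoidHom.map_zpowers, ← map_commutator, ← map_commutator, Subgroup.map_eq_bot_iff,
      QuotientGroup.ker_mk']
    exact (commutator_mono (commutator_mono hU le_rfl) le_rfl).trans (hq.le.trans bot_le)
  have hWne : W ≠ ⊥ := fun h => by
    rw [hW, Subgroup.map_eq_bot_iff, QuotientGroup.ker_mk'] at h
    exact hch.1.not_ge h
  have hgC : g' ∉ centralizer (W : Set (G ⧸ V)) := by
    intro hc
    refine hne ?_
    rw [← QuotientGroup.ker_mk' V, ← Subgroup.map_eq_bot_iff, map_commutator,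
      MonoidHom.map_zpowers, commutator_comm, commutator_eq_bot_iff_le_centralizer]
    exact zpowers_le.mpr hc
  have hmin : ∀ M : Subgroup (G ⧸ V), M.Normal → M ≤ W → M = ⊥ ∨ M = W := fun M hM hle => by
    have hsurj := QuotientGroup.mk'_surjective V
    have hker : π.ker = V := QuotientGroup.ker_mk' V
    have hVM : V ≤ M.comap π := hker.ge.trans (ker_le_comap π M)
    have hle' : M.comap π ≤ U := (comap_mono hle).trans_eq
      ((comap_map_eq _ _).trans (by rw [hker, sup_eq_left.mpr hch.1.le]))
    rcases hch.2.2.2 (M.comap π) (hM.comap π) hVM hle' with e | e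
    · left; rw [← map_comap_eq_self_of_surjective hsurj M, e, QuotientGroup.map_mk'_self]
    · right; rw [← map_comap_eq_self_of_surjective hsurj M, e]
  obtain ⟨h, hhN, hbad⟩ := Quadratic.exists_bad_pair
    (H := normalizer (W : Set (G ⧸ V))) hWel le_rfl (htop g') hgq (fun hm =>
      hgC (centralizes_of_mem_pCore ((hP.to_le hU).map π) hWne hmin (htop g') hm))
  set b' := h * g' * h⁻¹ with hb'
  have hbq : Quadratic.Quad W b' := Quadratic.quad_conj h hhN hgq
  obtain ⟨K, L, hL, hKle, hCL, ⟨e⟩⟩ :=
    Cfsg.Agent.Techniques.SL2.Pairs.exists_section hp2 hWel (htop g') (htop b') hgq hbq hbad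
  -- the representation on `W`
  letI : CommGroup W := { (inferInstance : Group W) with mul_comm := fun x y => hWel.1.is_comm.comm x y }
  let cj : G ⧸ V →* MulAut W := MulAut.conjNormal
  let L₀ : G ⧸ V →* AddMonoid.End (Additive W) :=
    { toFun := fun g => MonoidHom.toAdditive (cj g).toMonoidHom
      map_one' := AddMonoidHom.ext fun x => by
        show Additive.ofMul (cj 1 (Additive.toMul x)) = x
        rw [map_one]; rfl
      map_mul' := fun s t => AddMonoidHom.ext fun x => by
        show Additive.ofMul (cj (s * t) (Additive.toMul x)) =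
          Additive.ofMul (cj s (cj t (Additive.toMul x)))
        rw [map_mul]; rfl }
  let ρ : G ⧸ V →* (AddMonoid.End (Additive W))ˣ := L₀.toHomUnits
  have hρ : ∀ (g : G ⧸ V) (x : W), (((Additive.toMul ((ρ g : AddMonoid.End (Additive W)) (Additive.ofMul x))) : W) : G ⧸ V)
      = g * x * g⁻¹ := fun g x => MulAut.conjNormal_apply g x
  have hρker : ∀ g : G ⧸ V, ρ g = 1 ↔ g ∈ centralizer (W : Set (G ⧸ V)) := by
    intro g
    constructor
    · intro hg x hx
      have h1 := hρ g ⟨x, hx⟩
      rw [hg] at h1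
      exact (mul_inv_eq_iff_eq_mul.mp h1.symm).symm
    · intro hg
      refine Units.ext (AddMonoidHom.ext fun x => ?_)
      refine Additive.toMul.injective (Subtype.ext ?_)
      refine (hρ g (Additive.toMul x)).trans ?_
      rw [← hg _ (Additive.toMul x).2, mul_inv_cancel_right]
      rfl
  have hquad : ∀ z : G ⧸ V, Quadratic.Quad W z →
      ((ρ z : AddMonoid.End (Additive W)) - 1) * ((ρ z : AddMonoid.End (Additive W)) - 1) = 0 := by
    intro z hz
    set T := (ρ z : AddMonoid.End (Additive W)) with hT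
    refine AddMonoidHom.ext fun x => ?_
    have h3 : T (x - T x) = x - T x := by
      have e' : x - T x = Additive.ofMul (Additive.toMul x * (cj z (Additive.toMul x))⁻¹) := sub_eq_add_neg _ _
      refine Additive.toMul.injective (Subtype.ext ?_)
      rw [e', hT]
      refine (hρ z _).trans ?_
      show z * ((Additive.toMul x : W) * ((cj z (Additive.toMul x) : W) : G ⧸ V)⁻¹) * z⁻¹ =
        (Additive.toMul x : W) * ((cj z (Additive.toMul x) : W) : G ⧸ V)⁻¹
      rw [MulAut.conjNormal_apply]
      exact Quadratic.fix_of_quad hz (Additive.toMul x).2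
    rw [map_sub] at h3
    show T (T x - x) - (T x - x) = 0
    rw [map_sub]
    calc T (T x) - T x - (T x - x) = (x - T x) - (T x - T (T x)) := by abel
      _ = 0 := by rw [h3, sub_self]
  have h2 : ∀ y : AddMonoid.End (Additive W), (2 : ℕ) • y = 0 → y = 0 := by
    intro y hy
    refine AddMonoidHom.ext fun x => ?_
    have h1 : (2 : ℕ) • y x = 0 := by
      have := congrArg (fun f : AddMonoid.End (Additive W) => f x) hy
      exact this
    have h5 : p • y x = 0 := by
      refine Additive.toMul.injective (Subtype.ext ?_)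
      rw [toMul_nsmul, SubmonoidClass.coe_pow]
      exact hWel.2 _ (Additive.toMul (y x)).2
    have h6 := Nat.dvd_gcd (addOrderOf_dvd_iff_nsmul_eq_zero.mpr h1) (addOrderOf_dvd_iff_nsmul_eq_zero.mpr h5)
    rw [(Nat.coprime_primes Nat.prime_two hp.out).mpr (Ne.symm hp2)] at h6
    exact AddMonoid.addOrderOf_eq_one_iff.mp (Nat.dvd_one.mp h6)
  -- an involution
  haveI : Finite (AddMonoid.End (Additive W)) := Finite.of_injective _ DFunLike.coe_injective
  let f : K →* (AddMonoid.End (Additive W))ˣ := ρ.comp K.subtype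
  have hev : 2 ∣ Nat.card f.range := by
    have hker : f.ker ≤ L.subgroupOf K := fun x hx => hCL (mem_subgroupOf.mpr ((hρker x).mp hx))
    rw [← index_ker]
    refine dvd_trans ?_ (index_dvd_of_le hker)
    rw [index_eq_card, Nat.card_congr e.toEquiv]
    have h2o : (-1 : SL(2, ZMod p)) ^ 2 = 1 := by simp
    refine (orderOf_eq_prime h2o ?_).symm.dvd.trans (orderOf_dvd_natCard _)
    intro heq
    have h7 := congrArg (fun M : SL(2, ZMod p) => (M : Matrix (Fin 2) (Fin 2) (ZMod p)) 0 0) heq
    simp at h7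
    haveI : Fact (2 < p) := ⟨lt_of_le_of_ne hp.out.two_le (Ne.symm hp2)⟩
    exact ZMod.neg_one_ne_one h7
  obtain ⟨w, hw⟩ := exists_prime_orderOf_dvd_card' 2 hev
  obtain ⟨x, hx⟩ := w.2
  set t : G ⧸ V := (x : G ⧸ V) with ht
  have hot : orderOf (ρ t) = 2 := by
    rw [show ρ t = f x from rfl, hx, ← Subgroup.orderOf_coe] at *
    exact hw
  have htmem : ρ t ∈ closure ({ρ g', ρ b'} : Set _) := by
    rw [← Set.image_pair, ← MonoidHom.map_closure]
    exact mem_map_of_mem ρ (hKle x.2)
  obtain ⟨hta, -⟩ := involution_central h2 (hquad g' hgq) (hquad b' hbq) htmem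
    (by rw [← pow_two, ← hot, pow_orderOf_eq_one])
  set ψ : G →* (AddMonoid.End (Additive W))ˣ := ρ.comp π with hψ
  refine ⟨fun haQ => hgC fun y hy => ?_, (centralizer ({ψ a} : Set _)).comap ψ, ?_, ?_, ?_, ?_⟩
  · obtain ⟨u, hu, rfl⟩ := hy
    rw [hg', ← map_mul, ← map_mul]
    refine (commutatorElement_eq_one_iff_mul_comm.mp ?_)  |> fun h => (by rwa [map_mul, map_mul])
    rw [← map_commutatorElement]
    exact (QuotientGroup.eq_one_iff _).mpr
      (Cfsg.Agent.Techniques.Functor.chief_commutator_le hch hUQ (commutator_mem_commutator hu haQ))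
  · intro htop'
    obtain ⟨h₀, hh₀⟩ := QuotientGroup.mk'_surjective V h
    have hc : h₀ ∈ (centralizer ({ψ a} : Set _)).comap ψ := htop' ▸ mem_top _
    rw [mem_comap, mem_centralizer_singleton_iff] at hc
    have hbg : ρ b' = ρ g' := by
      rw [hb', map_mul, map_mul, map_inv, ← hh₀]
      show ψ h₀ * ψ a * (ψ h₀)⁻¹ = ψ a
      rw [hc, mul_inv_cancel_right]
    have hpow : ρ g' ^ p = 1 := by
      rw [← map_pow]; exact (hρker _).mpr (Quadratic.pow_mem_centralizer hWel (htop g') hgq)
    refine hbad fun z hz => ⟨1, (hρker _).mp ?_⟩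
    have hz' : ρ z ∈ closure ({ρ g', ρ b'} : Set _) := by
      rw [← Set.image_pair, ← MonoidHom.map_closure]; exact mem_map_of_mem ρ hz
    rw [hbg, Set.pair_eq_singleton, ← zpowers_eq_closure] at hz'
    obtain ⟨i, hi⟩ := mem_zpowers_iff.mp hz'
    rw [map_pow, pow_one, ← hi, ← zpow_natCast, ← zpow_mul, mul_comm, zpow_mul, zpow_natCast, hpow, one_zpow]
  · intro q hq
    rw [mem_comap, mem_centralizer_singleton_iff]
    have : ψ q = 1 := (hρker _).mpr (by
      rintro _ ⟨u, hu, rfl⟩
      show π u * π q = π q * π u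
      rw [← commutatorElement_eq_one_iff_mul_comm, ← map_commutatorElement]
      exact (QuotientGroup.eq_one_iff _).mpr
        (Cfsg.Agent.Techniques.Functor.chief_commutator_le hch hUQ (commutator_mem_commutator hu hq)))
    rw [this, one_mul, mul_one]
  · intro g hg
    rw [mem_comap, mem_centralizer_singleton_iff, ← map_mul, ← map_mul, mem_centralizer_singleton_iff.mp hg]
  · obtain ⟨t₀, ht₀⟩ := QuotientGroup.mk'_surjective V t
    have hψt : ψ t₀ = ρ t := congrArg ρ ht₀
    have hm : t₀ ∈ (centralizer ({ψ a} : Set _)).comap ψ := by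
      rw [mem_comap, mem_centralizer_singleton_iff, hψt]
      exact hta
    refine (hot ▸ hψt ▸ orderOf_map_dvd ψ t₀).trans ?_
    rw [← Subgroup.orderOf_mk _ hm]
    exact orderOf_dvd_natCard _

end Cfsg.Agent.CharP.QuadraticInvolution
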