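import Cfsg.Agent.Lib.CharP.StableFamily
import Cfsg.Agent.Lib.CharP.QuadraticInvolution
import Cfsg.Agent.Lib.PLocal.StronglyClosedZJ
import Cfsg.Agent.Lib.Transfer.NormalPComplement
import Cfsg.Agent.Techniques.Sylow
import Cfsg.Agent.Lib.CharP.AgemoNormal

/-!
Glauberman: for an odd prime `p`, if some nontrivial `p`-element is conjugate to its inverse then this already
happens in the normalizer of `ZJ(T)`, `T` a Sylow `p`-subgroup.
-/

set_option autoImplicit false
set_option linter.unusedSectionVars false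

universe u

namespace Cfsg.Agent.CharP.InversionZJ

open Subgroup Cfsg Cfsg.Agent.PLocal
open scoped commutatorElement

variable {p : ℕ}

/-- Some nontrivial `p`-element of `H` is conjugate in `H` to its inverse. -/
def InvIn {G : Type*} [Group G] (p : ℕ) (H : Subgroup G) : Prop :=
  ∃ x ∈ H, ∃ g ∈ H, x ≠ 1 ∧ (∃ k : ℕ, x ^ p ^ k = 1) ∧ g * x * g⁻¹ = x⁻¹

section basic

variable {G X : Type*} [Group G] [Group X]

theorem InvIn.mono {H K : Subgroup G} (h : InvIn p H) (hle : H ≤ K) : InvIn p K := by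
  obtain ⟨x, hx, g, hg, h1, h2, h3⟩ := h
  exact ⟨x, hle hx, g, hle hg, h1, h2, h3⟩

theorem InvIn.map {H : Subgroup G} (h : InvIn p H) {f : G →* X} (hf : Function.Injective f) :
    InvIn p (H.map f) := by
  obtain ⟨x, hx, g, hg, h1, ⟨k, h2⟩, h3⟩ := h
  refine ⟨f x, mem_map_of_mem f hx, f g, mem_map_of_mem f hg, fun e => h1 (hf (e.trans (map_one f).symm)),
    ⟨k, by rw [← map_pow, h2, map_one]⟩, ?_⟩
  rw [← map_inv, ← map_mul, ← map_mul, h3, map_inv]

theorem InvIn.top {H : Subgroup G} (h : InvIn p H) : InvIn p (⊤ : Subgroup H) := by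
  obtain ⟨x, hx, g, hg, h1, ⟨k, h2⟩, h3⟩ := h
  exact ⟨⟨x, hx⟩, mem_top _, ⟨g, hg⟩, mem_top _, fun e => h1 (congrArg Subtype.val e), ⟨k, Subtype.ext h2⟩,
    Subtype.ext h3⟩

variable [hp : Fact p.Prime] (hp2 : p ≠ 2)
include hp2

theorem eq_one_of_eq_inv {x : G} {k : ℕ} (hk : x ^ p ^ k = 1) (h : x = x⁻¹) : x = 1 := by
  have h2 : x ^ 2 = 1 := by rw [pow_two]; nth_rw 2 [h]; exact mul_inv_cancel x
  have := Nat.dvd_gcd (orderOf_dvd_of_pow_eq_one h2) (orderOf_dvd_of_pow_eq_one hk)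
  rw [Nat.Coprime.gcd_eq_one (Nat.Coprime.pow_right k ((Nat.coprime_primes Nat.prime_two hp.out).mpr (Ne.symm hp2)))] at this
  exact orderOf_eq_one_iff.mp (Nat.dvd_one.mp this)

omit hp2 in
theorem conj_odd_pow {x g : G} (h : g * x * g⁻¹ = x⁻¹) (m : ℕ) :
    g ^ (2 * m + 1) * x * (g ^ (2 * m + 1))⁻¹ = x⁻¹ := by
  induction m with
  | zero => simpa using h
  | succ m ih =>
    have hi : g * x⁻¹ * g⁻¹ = x := by rw [← conj_inv, h, inv_inv]
    calc g ^ (2 * (m + 1) + 1) * x * (g ^ (2 * (m + 1) + 1))⁻¹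
        = g * (g * (g ^ (2 * m + 1) * x * (g ^ (2 * m + 1))⁻¹) * g⁻¹) * g⁻¹ := by
          rw [show 2 * (m + 1) + 1 = (2 * m + 1) + 1 + 1 by ring, pow_succ' g (2 * m + 1 + 1),
            pow_succ' g (2 * m + 1)]
          group
      _ = g * x * g⁻¹ := by rw [ih, hi]
      _ = x⁻¹ := h

/-- A `2`-element acting nontrivially on a `p`-group inverts something. -/
theorem invol_inverts {P H : Subgroup G} (hP : IsPGroup p P) (hPH : P ≤ H) {n : G} (hn : n ∈ H)
    (hnP : n ∈ normalizer (P : Set G)) {i : ℕ} (hi : n ^ 2 ^ i ∈ centralizer (P : Set G))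
    (hne : n ∉ centralizer (P : Set G)) : InvIn p H := by
  induction i generalizing n with
  | zero => exact absurd (by simpa using hi) hne
  | succ i ih =>
    by_cases h2 : n ^ 2 ∈ centralizer (P : Set G)
    · rw [mem_centralizer_iff] at hne
      push Not at hne
      obtain ⟨y, hy, hyn⟩ := hne
      set z := y⁻¹ * (n * y * n⁻¹) with hz
      have hzP : z ∈ P := mul_mem (inv_mem hy) ((mem_normalizer_iff.mp hnP y).mp hy)
      obtain ⟨k, hk⟩ := hP ⟨z, hzP⟩
      refine ⟨z, hPH hzP, n, hn, fun h1 => hyn ?_, ⟨k, congrArg Subtype.val hk⟩, ?_⟩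
      · rw [hz, inv_mul_eq_one] at h1
        exact eq_mul_inv_iff_mul_eq.mp h1
      · have hc : n * (n * y * n⁻¹) * n⁻¹ = y := by
          rw [show n * (n * y * n⁻¹) * n⁻¹ = n ^ 2 * y * (n ^ 2)⁻¹ from by rw [pow_two]; group,
            ← mem_centralizer_iff.mp h2 y hy, mul_inv_cancel_right]
        calc n * z * n⁻¹ = (n * y * n⁻¹)⁻¹ * (n * (n * y * n⁻¹) * n⁻¹) := by rw [hz]; group
          _ = z⁻¹ := by rw [hc, hz]; group
    · exact ih (n := n ^ 2) (pow_mem hn 2) (pow_mem hnP 2) (by rwa [← pow_mul, ← pow_succ']) h2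

variable [Finite G]

theorem InvIn.exists_two_element {H : Subgroup G} (h : InvIn p H) :
    ∃ x ∈ H, ∃ g ∈ H, x ≠ 1 ∧ (∃ k, x ^ p ^ k = 1) ∧ (∃ i : ℕ, g ^ 2 ^ i = 1) ∧ g * x * g⁻¹ = x⁻¹ := by
  obtain ⟨x, hx, g, hg, h1, h2, h3⟩ := h
  obtain ⟨i, m, hm, hgm⟩ := Nat.exists_eq_two_pow_mul_odd (orderOf_pos g).ne'
  obtain ⟨m, rfl⟩ := hm
  refine ⟨x, hx, g ^ (2 * m + 1), pow_mem hg _, h1, h2, ⟨i, ?_⟩, conj_odd_pow h3 m⟩
  rw [← pow_mul, mul_comm, ← hgm, pow_orderOf_eq_one]

theorem InvIn.two_dvd {H : Subgroup G} (h : InvIn p H) : 2 ∣ Nat.card H := by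
  obtain ⟨x, hx, g, hg, h1, ⟨k, hk⟩, ⟨i, hi⟩, h3⟩ := h.exists_two_element hp2
  obtain ⟨j, -, hj⟩ := (Nat.dvd_prime_pow Nat.prime_two).mp (orderOf_dvd_of_pow_eq_one hi)
  rcases j with _ | j
  · rw [pow_zero, orderOf_eq_one_iff] at hj
    subst hj
    exact absurd (eq_one_of_eq_inv hp2 hk (by simpa using h3)) h1
  · refine (dvd_pow_self 2 j.succ_ne_zero).trans (hj ▸ ?_)
    rw [← Subgroup.orderOf_mk g hg]
    exact orderOf_dvd_natCard _

theorem invIn_of_even {Q H : Subgroup G} [hQn : Q.Normal] (hQ : IsPGroup p Q)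
    (hc : centralizer (Q : Set G) ≤ Q) (hQH : Q ≤ H) (h2 : 2 ∣ Nat.card H) : InvIn p H := by
  obtain ⟨t, ht⟩ := exists_prime_orderOf_dvd_card' (G := H) 2 h2
  rw [← Subgroup.orderOf_coe] at ht
  have ht2 : (t : G) ^ 2 = 1 := ht ▸ pow_orderOf_eq_one _
  refine invol_inverts hp2 hQ hQH t.2 (le_normalizer_of_normal (mem_top (t : G))) (i := 1)
    (by rw [pow_one, ht2]; exact one_mem _) fun h => ?_
  obtain ⟨k, hk⟩ := hQ ⟨t, hc h⟩
  have := eq_one_of_eq_inv hp2 (congrArg Subtype.val hk)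
    (eq_inv_iff_mul_eq_one.mpr (by rw [← pow_two, ht2]))
  rw [show (t : G) = 1 from this, orderOf_one] at ht
  omega

variable [Finite X]

/-- Inverted `p`-elements lift. -/
theorem lift {f : G →* X} (hf : Function.Surjective f) (h : InvIn p (⊤ : Subgroup X)) :
    InvIn p (⊤ : Subgroup G) := by
  obtain ⟨x, -, t, -, hx1, ⟨k, hk⟩, ⟨i, hi⟩, hinv⟩ := h.exists_two_element hp2
  obtain ⟨y₀, hy₀⟩ := hf x
  obtain ⟨e, m, hm, hord⟩ := Nat.exists_eq_pow_mul_and_not_dvd (orderOf_pos y₀).ne' p hp.out.ne_one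
  have hcop : Nat.Coprime m (p ^ k) := (Nat.Coprime.pow_left k (hp.out.coprime_iff_not_dvd.mpr hm)).symm
  obtain ⟨j, hj⟩ := Nat.exists_mul_mod_eq_one_of_coprime hcop (by
    rcases Nat.eq_zero_or_pos k with rfl | hk0
    · exact absurd (by simpa using hk) hx1
    · exact Nat.one_lt_pow hk0.ne' hp.out.one_lt)
  set y := y₀ ^ (m * j) with hy
  have hyf : f y = x := by
    rw [hy, map_pow, hy₀, ← Nat.div_add_mod (m * j) (p ^ k), hj.2, pow_add, pow_mul, hk, one_pow, one_mul, pow_one]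
  have hyp : y ^ p ^ e = 1 := by
    rw [hy, ← pow_mul, show m * j * p ^ e = p ^ e * m * j by ring, pow_mul, ← hord, pow_orderOf_eq_one, one_pow]
  obtain ⟨j', -, hj'⟩ := (Nat.dvd_prime_pow hp.out).mp (orderOf_dvd_of_pow_eq_one hyp)
  set Y := (zpowers x).comap f with hY
  have hyY : y ∈ Y := by rw [hY, mem_comap, hyf]; exact mem_zpowers x
  have hyZ : IsPGroup p (zpowers y) := IsPGroup.of_card (by rw [Nat.card_zpowers, hj'])
  obtain ⟨P, hP⟩ := (hyZ.comap_subtype (K := Y)).exists_le_sylow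
  set P' := (P : Subgroup Y).map Y.subtype with hP'
  obtain ⟨g, hg⟩ := hf t
  have hgY : ∀ z ∈ Y, g * z * g⁻¹ ∈ Y := by
    intro z hz
    obtain ⟨l, hl⟩ := mem_zpowers_iff.mp (mem_comap.mp hz)
    rw [hY, mem_comap, map_mul, map_mul, map_inv, hg, ← hl, ← conj_zpow, hinv]
    exact zpow_mem (inv_mem (mem_zpowers x)) l
  have hP'Y : P' ≤ Y := map_subtype_le _
  have hidx : ¬ p ∣ P'.relIndex Y := by
    rw [hP', relIndex, subgroupOf, comap_map_eq_self_of_injective Y.subtype_injective]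
    exact P.not_dvd_index
  obtain ⟨c, hc, hcc⟩ := Techniques.exists_conj_le_of_not_dvd_relIndex hP'Y (P.isPGroup'.map _) hidx
    ((P.isPGroup'.map Y.subtype).map (MulAut.conj g).toMonoidHom)
    (by rintro _ ⟨z, hz, rfl⟩; exact hgY z (hP'Y hz))
  set n₀ := c * g with hn₀
  have hn₀N : n₀ ∈ normalizer (P' : Set G) := by
    refine mem_normalizer_iff_map_conj_eq.mpr (eq_of_le_of_card_ge ?_ ?_)
    · rintro _ ⟨z, hz, rfl⟩
      have := hcc (g * z * g⁻¹) ⟨z, hz, rfl⟩
      simpa [hn₀, mul_assoc] using this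
    · rw [Nat.card_congr (P'.equivMapOfInjective _ (MulAut.conj n₀).injective).symm.toEquiv]
  have hn₀inv : f n₀ * x * (f n₀)⁻¹ = x⁻¹ := by
    obtain ⟨l, hl⟩ := mem_zpowers_iff.mp (mem_comap.mp hc)
    rw [hn₀, map_mul, hg, ← hl, show x ^ l * t * x * (x ^ l * t)⁻¹ = x ^ l * (t * x * t⁻¹) * (x ^ l)⁻¹ by group, hinv]
    group
  obtain ⟨i', m', hm', hno⟩ := Nat.exists_eq_two_pow_mul_odd (orderOf_pos n₀).ne'
  obtain ⟨m', rfl⟩ := hm'
  refine invol_inverts hp2 (P.isPGroup'.map Y.subtype) le_top (mem_top (n₀ ^ (2 * m' + 1)))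
    (pow_mem hn₀N _) (i := i') ?_ fun hcen => hx1 (eq_one_of_eq_inv hp2 hk ?_)
  · rw [← pow_mul, mul_comm, ← hno, pow_orderOf_eq_one]; exact one_mem _
  · have hyP : y ∈ P' := ⟨⟨y, hyY⟩, hP (mem_subgroupOf.mpr (mem_zpowers y)), rfl⟩
    have h4 := congrArg f (mem_centralizer_iff.mp hcen y hyP)
    rw [map_mul, map_mul, hyf, map_pow] at h4
    have h5 := conj_odd_pow hn₀inv m'
    rw [← h4, mul_inv_cancel_right] at h5
    exact h5

end basic

section zj

open Cfsg.Agent.PLocal.MaxAbelian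

variable {G X : Type*} [Group G] [Group X] [Finite G] [Finite X] [hp : Fact p.Prime]

theorem core_map_on {f : G →* X} {U : Subgroup G} (hf : Set.InjOn f (U : Set G)) :
    core 0 (U.map f) = (core 0 U).map f := by
  have h1 := core_map 0 (f := f.comp U.subtype) (fun a b h => Subtype.ext (hf a.2 b.2 h)) (⊤ : Subgroup U)
  have h2 := core_map 0 U.subtype_injective (⊤ : Subgroup U)
  rw [← MonoidHom.range_eq_map, MonoidHom.range_comp, range_subtype, ← map_map, ← h2,
    ← MonoidHom.range_eq_map, range_subtype] at h1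
  exact h1

/-- A largest abelian subgroup of a Sylow subgroup is one of every Sylow subgroup containing it. -/
theorem family_of_le {S S' : Sylow p G} {A : Subgroup G} (hA : A ∈ family 0 (S : Subgroup G))
    (hAS : A ≤ (S' : Subgroup G)) : A ∈ family 0 (S' : Subgroup G) := by
  refine ⟨hAS, hA.2.1, fun C hC hg => ?_⟩
  obtain ⟨g, hgS⟩ := MulAction.exists_smul_eq G S' S
  rw [Nat.card_congr (C.equivMapOfInjective (MulAut.conj g).toMonoidHom (MulAut.conj g).injective).toEquiv]
  refine hA.2.2 _ ?_ (hg.map _)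
  rw [← hgS]
  exact map_mono hC

theorem core_le_core {S : Sylow p G} {A R : Subgroup G} (hA : A ∈ family 0 (S : Subgroup G)) (hAR : A ≤ R)
    (hRS : R ≤ (S : Subgroup G)) : core 0 (S : Subgroup G) ≤ core 0 R ∧ core 0 R ≤ A := by
  have hAfR : A ∈ family 0 R := ⟨hAR, hA.2.1, fun C hC hg => hA.2.2 C (hC.trans hRS) hg⟩
  refine ⟨le_sInf fun B hB => sInf_le ?_, sInf_le hAfR⟩
  exact ⟨hB.1.trans hRS, hB.2.1, fun C hC hg => (hA.2.2 C hC hg).trans (hB.2.2 A hAR hA.2.1)⟩

end zj

section main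

open Cfsg.Agent.PLocal.MaxAbelian

variable {G : Type u} [Group G] [Finite G] [hp : Fact p.Prime]

/-- The inductive hypothesis. -/
def Below (p n : ℕ) : Prop :=
  ∀ (H : Type u) [Group H] [Finite H], Nat.card H < n → InvIn p (⊤ : Subgroup H) →
    ∀ T : Sylow p H, InvIn p (normalizer (core 0 (T : Subgroup H) : Set H))

theorem local_step (ih : Below.{u} p (Nat.card G)) {H : Subgroup G} (hH : H ≠ ⊤) (h : InvIn p H)
    (T : Sylow p H) : InvIn p (normalizer (core 0 ((T : Subgroup H).map H.subtype) : Set G)) := by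
  have hlt : Nat.card H < Nat.card G := by
    rcases Nat.lt_or_ge (Nat.card H) (Nat.card G) with h' | h'
    · exact h'
    · exact absurd (eq_top_of_le_card H h') hH
  have h1 := (ih H hlt h.top T).map H.subtype_injective
  refine h1.mono ?_
  rw [core_map 0 H.subtype_injective]
  exact le_normalizer_map _

theorem exists_normal_core (hp2 : p ≠ 2) (ih : Below.{u} p (Nat.card G))
    (hnone : ∀ S : Sylow p G, ¬ InvIn p (normalizer (core 0 (S : Subgroup G) : Set G))) :
    ∀ m : ℕ, ∀ H P : Subgroup G, Nat.card G - Nat.card P = m → H ≠ ⊤ → InvIn p H → P ≤ H → IsPGroup p P →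
      ∃ R : Subgroup G, P ≤ R ∧ IsPGroup p R ∧ R ≠ ⊥ ∧ (core 0 R).Normal := by
  intro m
  induction m using Nat.strong_induction_on with
  | _ m IH =>
  intro H P hm hH hinv hPH hP
  obtain ⟨T, hT⟩ := (hP.comap_subtype (K := H)).exists_le_sylow
  set R := (T : Subgroup H).map H.subtype with hR
  have hPR : P ≤ R := fun x hx => ⟨⟨x, hPH hx⟩, hT (mem_subgroupOf.mpr hx), rfl⟩
  have hRp : IsPGroup p R := T.isPGroup'.map _
  have hN := local_step ih hH hinv T
  rw [← hR] at hN
  obtain ⟨S, hS⟩ := hRp.exists_le_sylow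
  by_cases he : R = S
  · exact absurd (he ▸ hN) (hnone S)
  have hR1 : R ≠ ⊥ := by
    intro hbot
    obtain ⟨x, hx, g, -, hx1, ⟨k, hk⟩, -⟩ := hinv
    obtain ⟨j, -, hj⟩ := (Nat.dvd_prime_pow hp.out).mp (orderOf_dvd_of_pow_eq_one hk)
    have hT1 : (T : Subgroup H) = ⊥ := (map_eq_bot_iff_of_injective _ H.subtype_injective).mp hbot
    refine T.ne_bot_of_dvd_card ?_ hT1
    rcases j with _ | j
    · exact absurd (orderOf_eq_one_iff.mp (by simpa using hj)) hx1
    · refine (dvd_pow_self p j.succ_ne_zero).trans (hj ▸ ?_)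
      rw [← Subgroup.orderOf_mk x hx]
      exact orderOf_dvd_natCard _
  by_cases hn : normalizer (core 0 R : Set G) = ⊤
  · exact ⟨R, hPR, hRp, hR1, normalizer_eq_top_iff.mp hn⟩
  have hlt : R < (S : Subgroup G) ⊓ normalizer (R : Set G) :=
    Cfsg.Agent.Transfer.Frobenius.lt_inf_normalizer S.2 (lt_of_le_of_ne hS he)
  have hcard : Nat.card P < Nat.card ↥((S : Subgroup G) ⊓ normalizer (R : Set G)) := by
    refine lt_of_le_of_lt (card_le_of_le hPR) ?_
    rcases Nat.lt_or_ge (Nat.card R) (Nat.card ↥((S : Subgroup G) ⊓ normalizer (R : Set G))) with h | h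
    · exact h
    · exact absurd (eq_of_le_of_card_ge hlt.le h) hlt.ne
  obtain ⟨R', hR', h2, h3, h4⟩ := IH _ (by
      have := ((S : Subgroup G) ⊓ normalizer (R : Set G)).card_le_card_group
      omega) _ _ rfl hn hN (inf_le_right.trans (normalizer_le_normalizer_core 0 R)) (S.2.to_le inf_le_left)
  exact ⟨R', (hPR.trans hlt.le).trans hR', h2, h3, h4⟩

theorem main_step (hp2 : p ≠ 2) (ih : Below.{u} p (Nat.card G)) (hG : InvIn p (⊤ : Subgroup G))
    (T₀ : Sylow p G) : InvIn p (normalizer (core 0 (T₀ : Subgroup G) : Set G)) := by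
  by_contra hT₀
  have hnone : ∀ S : Sylow p G, ¬ InvIn p (normalizer (core 0 (S : Subgroup G) : Set G)) := by
    intro S h
    obtain ⟨g, hg⟩ := MulAction.exists_smul_eq G S T₀
    refine hT₀ ((h.map (f := (MulAut.conj g).toMonoidHom) (MulAut.conj g).injective).mono ?_)
    have e : (T₀ : Subgroup G) = (S : Subgroup G).map (MulAut.conj g).toMonoidHom := by rw [← hg]; rfl
    rw [e, core_map 0 (MulAut.conj g).injective]
    exact le_normalizer_map _
  -- proper overgroups of Sylow subgroups have no inverted elements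
  have hover : ∀ (S : Sylow p G) (H : Subgroup G), (S : Subgroup G) ≤ H → H ≠ ⊤ → ¬ InvIn p H := by
    intro S H hSH hH h
    refine hnone S ?_
    have := local_step ih hH h (S.subtype hSH)
    rwa [Sylow.coe_subtype, map_subgroupOf_eq_of_le hSH] at this
  set Q := pCore p G with hQdef
  -- `O_p(G)` is nontrivial
  have hQ1 : Q ≠ ⊥ := by
    obtain ⟨x, -, g, -, hx1, ⟨k, hk⟩, hg⟩ := hG
    obtain ⟨j, -, hj⟩ := (Nat.dvd_prime_pow hp.out).mp (orderOf_dvd_of_pow_eq_one hk)
    have hxp : IsPGroup p (zpowers x) := IsPGroup.of_card (by rw [Nat.card_zpowers, hj])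
    have hN : InvIn p (normalizer (zpowers x : Set G)) := by
      refine ⟨x, le_normalizer (mem_zpowers x), g, mem_normalizer_iff_map_conj_eq.mpr ?_, hx1, ⟨k, hk⟩, hg⟩
      rw [MonoidHom.map_zpowers]
      show zpowers (g * x * g⁻¹) = zpowers x
      rw [hg, zpowers_inv]
    by_cases htop : normalizer (zpowers x : Set G) = ⊤
    · haveI := normalizer_eq_top_iff.mp htop
      intro hbot
      exact hx1 (mem_bot.mp (hbot ▸ Cores.le_pCore hxp (mem_zpowers x)))
    · obtain ⟨R, -, hRp, hR1, hRn⟩ := exists_normal_core hp2 ih hnone _ _ _ rfl htop hN le_normalizer hxp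
      intro hbot
      refine StronglyClosedZJ.core_ne_bot (dvd_zero p) hRp hR1 (le_bot_iff.mp ?_)
      rw [← hbot]
      exact Cores.le_pCore (hRp.to_le (core_le 0 R))
  -- `O_{p'}(G) = 1`
  have hK : pPrimeCore p G = ⊥ := by
    by_contra hK
    set K := pPrimeCore p G with hKdef
    set π := QuotientGroup.mk' K with hπ
    have hπs : Function.Surjective π := QuotientGroup.mk'_surjective K
    have hinj : Set.InjOn π ((T₀ : Subgroup G) : Set G) := by
      intro a ha b hb h
      have h1 : a⁻¹ * b ∈ (T₀ : Subgroup G) ⊓ K := ⟨(T₀ : Subgroup G).mul_mem ((T₀ : Subgroup G).inv_mem ha) hb, QuotientGroup.eq.mp h⟩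
      rw [Cores.inf_eq_bot_of_isPGroup_of_coprime T₀.2 Cores.coprime_card_pPrimeCore] at h1
      exact inv_mul_eq_one.mp h1
    have hlt : Nat.card (G ⧸ K) < Nat.card G := by
      rw [K.card_eq_card_quotient_mul_card_subgroup]
      exact lt_mul_of_one_lt_right Nat.card_pos ((one_lt_card_iff_ne_bot K).mpr hK)
    have hGq : InvIn p (⊤ : Subgroup (G ⧸ K)) := by
      obtain ⟨x, -, g, -, hx1, ⟨k, hk⟩, hg⟩ := hG
      refine ⟨π x, mem_top _, π g, mem_top _, fun h => hx1 ?_, ⟨k, by rw [← map_pow, hk, map_one]⟩,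
        by rw [← map_inv, ← map_mul, ← map_mul, hg, map_inv]⟩
      obtain ⟨j, -, hj⟩ := (Nat.dvd_prime_pow hp.out).mp (orderOf_dvd_of_pow_eq_one hk)
      have h1 : x ∈ zpowers x ⊓ K := ⟨mem_zpowers x, (QuotientGroup.eq_one_iff x).mp h⟩
      rwa [Cores.inf_eq_bot_of_isPGroup_of_coprime
        (IsPGroup.of_card (p := p) (by rw [Nat.card_zpowers, hj])) Cores.coprime_card_pPrimeCore, mem_bot] at h1
    have h1 := ih (G ⧸ K) hlt hGq (T₀.mapSurjective hπs)
    rw [Sylow.coe_mapSurjective, core_map_on hinj] at h1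
    refine hT₀ ?_
    set Z := core 0 (T₀ : Subgroup G) with hZ
    set M := (Z.map π).comap π with hM
    have hMeq : M = Z ⊔ K := by rw [hM, comap_map_eq, hπ, QuotientGroup.ker_mk']
    have hsurj : ∀ z ∈ normalizer (Z.map π : Set (G ⧸ K)), ∃ n ∈ normalizer (Z : Set G), π n = z := by
      intro z hz
      obtain ⟨g, rfl⟩ := hπs z
      have hidx : ¬ p ∣ Z.relIndex (Z ⊔ K) := by
        have h2 := relIndex_mul_relIndex ⊥ Z (Z ⊔ K) bot_le le_sup_left
        have h3 := Cfsg.Agent.Cores.card_sup_mul_card_inf Z K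
        rw [Cores.inf_eq_bot_of_isPGroup_of_coprime (T₀.2.to_le (core_le 0 _)) Cores.coprime_card_pPrimeCore,
          card_bot, mul_one] at h3
        rw [relIndex_bot_left, relIndex_bot_left, h3] at h2
        rw [Nat.eq_of_mul_eq_mul_left Nat.card_pos h2]
        exact fun hd => hp.out.one_lt.ne' (Nat.eq_one_of_dvd_coprimes
          (Cores.coprime_card_pPrimeCore (G := G) (p := p)) hd dvd_rfl)
      obtain ⟨c, hc, hcc⟩ := Techniques.exists_conj_le_of_not_dvd_relIndex le_sup_left (T₀.2.to_le (core_le 0 _))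
        hidx ((T₀.2.to_le (core_le 0 _)).map (MulAut.conj g).toMonoidHom) (by
          rintro _ ⟨y, hy, rfl⟩
          rw [← hMeq, hM, mem_comap]
          show π (g * y * g⁻¹) ∈ _
          rw [map_mul, map_mul, map_inv]
          exact (mem_normalizer_iff.mp hz _).mp (mem_map_of_mem π hy))
      have hn : c * g ∈ normalizer (Z : Set G) := by
        refine mem_normalizer_iff_map_conj_eq.mpr (eq_of_le_of_card_ge ?_ ?_)
        · rintro _ ⟨y, hy, rfl⟩
          have := hcc (g * y * g⁻¹) ⟨y, hy, rfl⟩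
          simpa [mul_assoc] using this
        · rw [Nat.card_congr (Z.equivMapOfInjective _ (MulAut.conj (c * g)).injective).symm.toEquiv]
      have hc' : π c ∈ Z.map π := by
        rw [← hMeq] at hc; exact mem_comap.mp hc
      obtain ⟨d, hd, hde⟩ := hc'
      refine ⟨d⁻¹ * (c * g), mul_mem (inv_mem (le_normalizer hd)) hn, ?_⟩
      rw [map_mul, map_mul, map_inv, hde, inv_mul_cancel_left]
    let f : normalizer (Z : Set G) →* normalizer (Z.map π : Set (G ⧸ K)) :=
      (π.comp (normalizer (Z : Set G)).subtype).codRestrict _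
        (fun n => le_normalizer_map π (mem_map_of_mem π n.2))
    have := lift hp2 (f := f) (fun z => by
      obtain ⟨n, hn, he⟩ := hsurj z z.2
      exact ⟨⟨n, hn⟩, Subtype.ext he⟩) h1.top
    have h5 := this.map (normalizer (Z : Set G)).subtype_injective
    rwa [← MonoidHom.range_eq_map, range_subtype] at h5
  -- `G / Q` has no inverted elements
  have hQp : IsPGroup p Q := Cores.isPGroup_pCore
  have hquot : ¬ InvIn p (⊤ : Subgroup (G ⧸ Q)) := by
    intro h
    set π := QuotientGroup.mk' Q with hπ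
    have hπs : Function.Surjective π := QuotientGroup.mk'_surjective Q
    have hlt : Nat.card (G ⧸ Q) < Nat.card G := by
      rw [Q.card_eq_card_quotient_mul_card_subgroup]
      exact lt_mul_of_one_lt_right Nat.card_pos ((one_lt_card_iff_ne_bot Q).mpr hQ1)
    set T' := T₀.mapSurjective hπs with hT'
    have h1 := ih (G ⧸ Q) hlt h T'
    set Z' := core 0 (T' : Subgroup (G ⧸ Q)) with hZ'
    set N := (normalizer (Z' : Set (G ⧸ Q))).comap π with hN
    have hTN : (T₀ : Subgroup G) ≤ N := fun t ht => by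
      rw [hN, mem_comap]
      refine normalizer_le_normalizer_core 0 _ (le_normalizer ?_)
      rw [hT', Sylow.coe_mapSurjective]
      exact mem_map_of_mem π ht
    let f : N →* normalizer (Z' : Set (G ⧸ Q)) := π.subgroupComap _
    have hInvN : InvIn p N := by
      have h5 := (lift hp2 (f := f) (MonoidHom.subgroupComap_surjective_of_surjective π _ hπs) h1.top).map
        N.subtype_injective
      rwa [← MonoidHom.range_eq_map, range_subtype] at h5
    by_cases hNtop : N = ⊤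
    · have hn : normalizer (Z' : Set (G ⧸ Q)) = ⊤ := by
        rw [← map_comap_eq_self_of_surjective hπs (normalizer (Z' : Set (G ⧸ Q))), ← hN, hNtop,
          map_top_of_surjective π hπs]
      haveI := normalizer_eq_top_iff.mp hn
      have hT1 : (T' : Subgroup (G ⧸ Q)) ≠ ⊥ := by
        obtain ⟨x, -, g, -, hx1, ⟨k, hk⟩, -⟩ := h
        refine T'.ne_bot_of_dvd_card ?_
        obtain ⟨j, -, hj⟩ := (Nat.dvd_prime_pow hp.out).mp (orderOf_dvd_of_pow_eq_one hk)
        rcases j with _ | j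
        · exact absurd (orderOf_eq_one_iff.mp (by simpa using hj)) hx1
        · exact ((dvd_pow_self p j.succ_ne_zero).trans hj.symm.dvd).trans (orderOf_dvd_natCard x)
      refine StronglyClosedZJ.core_ne_bot (dvd_zero p) T'.2 hT1 (le_bot_iff.mp ?_)
      exact (Cores.le_pCore (T'.2.to_le (core_le 0 _))).trans Cores.pCore_quotient_pCore.le
    · exact hover T₀ N hTN hNtop hInvN
  set C := centralizer (Q : Set G) with hC
  -- some `2`-element acts nontrivially on `Q`
  obtain ⟨g₀, hg₀, hg₀C⟩ : ∃ g : G, (∃ i : ℕ, g ^ 2 ^ i = 1) ∧ g ∉ C := by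
    obtain ⟨x, -, g, -, hx1, ⟨k, hk⟩, hi, hg⟩ := hG.exists_two_element hp2
    refine ⟨g, hi, fun hgC => ?_⟩
    by_cases hxQ : x ∈ Q
    · refine hx1 (eq_one_of_eq_inv hp2 hk ?_)
      rw [← hg, ← mem_centralizer_iff.mp hgC x hxQ, mul_inv_cancel_right]
    · exact hquot ⟨QuotientGroup.mk' Q x, mem_top _, QuotientGroup.mk' Q g, mem_top _,
        fun h => hxQ ((QuotientGroup.eq_one_iff x).mp h), ⟨k, by rw [← map_pow, hk, map_one]⟩,
        by rw [← map_inv, ← map_mul, ← map_mul, hg, map_inv]⟩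
  -- `C(Q) ≤ Q`
  have hCQ : C ≤ Q := by
    set W := (T₀ : Subgroup G) ⊓ (C ⊔ Q) with hW
    have hQT : Q ≤ (T₀ : Subgroup G) := Cores.pCore_le_sylow T₀
    have hWn : normalizer (W : Set G) = ⊤ := by
      by_contra hne
      have hTW : (T₀ : Subgroup G) ≤ normalizer (W : Set G) := fun t ht =>
        GlaubermanReplacement.mem_normalizer_of_conj_mem fun w hw =>
          ⟨(T₀ : Subgroup G).mul_mem ((T₀ : Subgroup G).mul_mem ht hw.1) ((T₀ : Subgroup G).inv_mem ht), (inferInstance : (C ⊔ Q).Normal).conj_mem w hw.2 t⟩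
      refine hover T₀ _ hTW hne ?_
      obtain ⟨n, hn, l, hl, hnl⟩ := ZJ.frattini_inf T₀ (C ⊔ Q) g₀
      obtain ⟨i, hi⟩ := hg₀
      obtain ⟨c, hc, q, hq, rfl⟩ := mem_sup_of_normal_right.mp hl
      have hqn : q ∈ normalizer (W : Set G) := hTW (hQT hq)
      obtain ⟨e, m, hm, hord⟩ := Nat.exists_eq_two_pow_mul_odd (orderOf_pos (n * q)).ne'
      obtain ⟨m, rfl⟩ := hm
      have hnq : n * q ∈ normalizer (W : Set G) := mul_mem hn hqn
      refine invol_inverts hp2 hQp (hQT.trans hTW) (pow_mem hnq (2 * m + 1))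
        (le_normalizer_of_normal (mem_top _)) (i := e)
        (by rw [← pow_mul, mul_comm, ← hord, pow_orderOf_eq_one]; exact one_mem _) fun hmem => hg₀C ?_
      rw [← QuotientGroup.eq_one_iff]
      have hmk : (QuotientGroup.mk g₀ : G ⧸ C) = QuotientGroup.mk (n * q) := by
        rw [QuotientGroup.eq, ← hnl]
        have : (n * (c * q))⁻¹ * (n * q) = q⁻¹ * c⁻¹ * q := by group
        rw [this]
        simpa using (inferInstance : C.Normal).conj_mem c⁻¹ (inv_mem hc) q⁻¹
      have h2 : (QuotientGroup.mk g₀ : G ⧸ C) ^ (2 * m + 1) = 1 := by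
        rw [hmk, ← QuotientGroup.mk_pow]; exact (QuotientGroup.eq_one_iff _).mpr hmem
      have h3 : (QuotientGroup.mk g₀ : G ⧸ C) ^ 2 ^ i = 1 := by rw [← QuotientGroup.mk_pow, hi, QuotientGroup.mk_one]
      have := Nat.dvd_gcd (orderOf_dvd_of_pow_eq_one h3) (orderOf_dvd_of_pow_eq_one h2)
      rw [Nat.Coprime.gcd_eq_one (Nat.Coprime.pow_left i (Nat.coprime_two_left.mpr ⟨m, rfl⟩))] at this
      exact orderOf_eq_one_iff.mp (Nat.dvd_one.mp this)
    haveI := normalizer_eq_top_iff.mp hWn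
    have hWQ : W ≤ Q := Cores.le_pCore (T₀.2.to_le inf_le_left)
    obtain ⟨P, hP⟩ := Cfsg.Agent.CharP.AgemoNormal.exists_sylow_inf_normal T₀ C
    have hPQ : ∀ x : C, x ∈ (P : Subgroup C) → (x : G) ∈ Q := fun x hx =>
      hWQ ⟨(hP x).mp hx, mem_sup_left x.2⟩
    have hnpc : HasNormalPComplement p C := by
      refine Transfer.NormalPComplement.hasNormalPComplement_of_normalizer_le_centralizer P fun n _ => ?_
      intro x hx
      exact Subtype.ext (mem_centralizer_iff.mp n.2 x (hPQ x hx))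
    obtain ⟨N, hNn, hNc, k, hk⟩ := Transfer.NormalPComplement.hasNormalPComplement_iff_exists.mp hnpc
    haveI := hNn
    have hN1 : N = ⊥ := by
      have hle : N ≤ pPrimeCore p C := Cores.le_pPrimeCore hNc
      have h2 := Cores.map_subtype_pPrimeCore_le (p := p) C
      rw [hK] at h2
      exact le_bot_iff.mp (hle.trans ((map_eq_bot_iff_of_injective _ C.subtype_injective).mp (le_bot_iff.mp h2)).le)
    rw [hN1, index_bot] at hk
    intro x hx
    have : (⊤ : Subgroup C) ≤ P := by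
      have hp' : IsPGroup p (⊤ : Subgroup C) := IsPGroup.of_card (n := k) (by rw [card_top, hk])
      rw [P.is_maximal' hp' le_top]
    exact hPQ ⟨x, hx⟩ (this (mem_top _))
  have hQodd : ∀ H : Subgroup G, 2 ∣ Nat.card H → Q ≤ H → InvIn p H := fun H h2 hQH =>
    invIn_of_even hp2 hQp hCQ hQH h2
  have hG2 : 2 ∣ Nat.card G := by
    have := hG.two_dvd hp2
    rwa [card_top] at this
  -- no proper subgroup of even order contains `Q` and a largest abelian subgroup outside `Q`
  have key : ∀ (S : Sylow p G) (A : Subgroup G), A ∈ family 0 (S : Subgroup G) → ¬ A ≤ Q →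
      ∀ H : Subgroup G, H ≠ ⊤ → 2 ∣ Nat.card H → Q ≤ H → A ≤ H → False := by
    intro S A hA hAQ H hH h2 hQH hAH
    obtain ⟨R, hR, hRp, -, hRn⟩ := exists_normal_core hp2 ih hnone _ H (Q ⊔ A) rfl hH (hQodd H h2 hQH)
      (sup_le hQH hAH) (S.2.to_le (sup_le (Cores.pCore_le_sylow S) hA.1))
    obtain ⟨S', hS'⟩ := hRp.exists_le_sylow
    have hAR : A ≤ R := le_sup_right.trans hR
    have hA' := family_of_le hA (hAR.trans hS')
    obtain ⟨hle, hleA⟩ := core_le_core hA' hAR hS'
    haveI := hRn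
    set V := core 0 R with hV
    have hAC : A ≤ centralizer (V : Set G) := fun a ha v hv => hA.2.1.1 v (hleA hv) a ha
    set C' := centralizer (V : Set G) with hC'
    have hCN : C' ≤ normalizer (core 0 (S' : Subgroup G) : Set G) := fun c hc =>
      GlaubermanReplacement.mem_normalizer_of_conj_mem fun z hz => by
        rw [← mem_centralizer_iff.mp hc z (hle hz), mul_inv_cancel_right]; exact hz
    have hSN : (S' : Subgroup G) ≤ normalizer (core 0 (S' : Subgroup G) : Set G) :=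
      le_normalizer.trans (normalizer_le_normalizer_core 0 _)
    have hQN : Q ≤ normalizer (core 0 (S' : Subgroup G) : Set G) := (Cores.pCore_le_sylow S').trans hSN
    have hCodd : ¬ 2 ∣ Nat.card C' := fun h =>
      hnone S' (hQodd _ (h.trans (card_dvd_of_le hCN)) hQN)
    set W := (S' : Subgroup G) ⊓ C' with hW
    have hSW : (S' : Subgroup G) ≤ normalizer (W : Set G) := fun s hs =>
      GlaubermanReplacement.mem_normalizer_of_conj_mem fun w hw =>
        ⟨(S' : Subgroup G).mul_mem ((S' : Subgroup G).mul_mem hs hw.1) ((S' : Subgroup G).inv_mem hs), (inferInstance : C'.Normal).conj_mem w hw.2 s⟩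
    have hWtop : normalizer (W : Set G) = ⊤ := by
      by_contra hne
      refine hover S' _ hSW hne (hQodd _ ?_ ((Cores.pCore_le_sylow S').trans hSW))
      by_contra hodd
      have hsup : normalizer (W : Set G) ⊔ C' = ⊤ := top_le_iff.mp fun g _ => by
        obtain ⟨n, hn, l, hl, rfl⟩ := ZJ.frattini_inf S' C' g
        exact mul_mem (mem_sup_left hn) (mem_sup_right hl)
      have hc := Cfsg.Agent.Cores.card_sup_mul_card_inf (normalizer (W : Set G)) C'
      rw [hsup, card_top] at hc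
      have := hc ▸ hG2.mul_right _
      exact (Nat.prime_two.dvd_mul.mp this).elim hodd hCodd
    haveI := normalizer_eq_top_iff.mp hWtop
    have hWQ : W ≤ Q := Cores.le_pCore (S'.2.to_le inf_le_left)
    exact hAQ ((le_inf (hAR.trans hS') hAC).trans hWQ)
  -- hence all elements of largest abelian subgroups act stably
  have hst : StableFamily.StableFam p 0 (T₀ : Subgroup G) := by
    intro A hA a ha P hPn hP hq
    by_contra hna
    haveI := hPn
    obtain ⟨haQ, H, hH, hQH, hcH, h2⟩ := QuadraticInvolution.exists_even hp2 hP hq hna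
    refine key T₀ A hA (fun h => haQ (h ha)) H hH h2 hQH (le_trans ?_ hcH)
    exact fun b hb => mem_centralizer_singleton_iff.mpr (hA.2.1.1 b hb a ha)
  have := StableFamily.core_normal hp2 hCQ 0 T₀ hst
  exact hT₀ (normalizer_eq_top_iff.mpr this ▸ hG)

theorem exists_in_normalizer (hp2 : p ≠ 2) : ∀ n : ℕ, Below.{u} p n := by
  intro n
  induction n using Nat.strong_induction_on with
  | _ n IH =>
  intro H _ _ hH hinv T
  exact main_step hp2 (IH _ hH) hinv T

/-- Glauberman: an inverted `p`-element gives one in the normalizer of `ZJ(T)`, and it may be taken in `T`. -/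
theorem inverted_in_normalizer (hp2 : p ≠ 2) (hG : InvIn p (⊤ : Subgroup G)) (T : Sylow p G) :
    ∃ x ∈ (T : Subgroup G), x ≠ 1 ∧
      ∃ g ∈ normalizer (centerThompsonAOf (T : Subgroup G) : Set G), g * x * g⁻¹ = x⁻¹ := by
  obtain ⟨x, hx, g, hg, hx1, ⟨k, hk⟩, he⟩ := exists_in_normalizer hp2 _ G (Nat.lt_succ_self _) hG T
  rw [centerThompsonA_eq]
  set N := normalizer (core 0 (T : Subgroup G) : Set G) with hN
  have hTN : (T : Subgroup G) ≤ N := le_normalizer.trans (normalizer_le_normalizer_core 0 _)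
  obtain ⟨j, -, hj⟩ := (Nat.dvd_prime_pow hp.out).mp (orderOf_dvd_of_pow_eq_one hk)
  obtain ⟨n, hn, hnn⟩ := Techniques.exists_conj_le_of_not_dvd_relIndex (Q := (T : Subgroup G)) (N := N) hTN T.2
    (fun h => T.not_dvd_index (h.trans (relIndex_dvd_index_of_le hTN)))
    (IsPGroup.of_card (p := p) (n := j) (by rw [Nat.card_zpowers, hj])) (zpowers_le.mpr hx)
  refine ⟨n * x * n⁻¹, hnn x (mem_zpowers x), fun h => hx1 (conj_eq_one_iff.mp h), n * g * n⁻¹,
    mul_mem (mul_mem hn hg) (inv_mem hn), ?_⟩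
  rw [show n * g * n⁻¹ * (n * x * n⁻¹) * (n * g * n⁻¹)⁻¹ = n * (g * x * g⁻¹) * n⁻¹ by group, he, conj_inv]

end main

end Cfsg.Agent.CharP.InversionZJ
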