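import Mathlib
import Cfsg.Agent.Lib.CharP.Basic
import Cfsg.Agent.Lib.PLocal.Cores
import Cfsg.Agent.Lib.PLocal.Replacement
import Cfsg.Agent.Lib.Involutions.BaerSuzuki

/-!
Best offenders in groups without a section isomorphic to the symmetric group of degree three,
for quadratic actions of the 2-subgroups.

If such a group acts faithfully on an elementary abelian 2-group `V` and every 2-subgroup acts
quadratically, then every best offender lies in the largest normal 2-subgroup. In a minimal
counterexample the offender `A` and a conjugate generate the group; on the fixed points of the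
largest normal 2-subgroup the two fixed spaces are complementary modulo the fixed points of the
group and the map `a ↦ [y, a]` is onto, which produces an involution inverting an element of
order three.
-/

set_option autoImplicit false
set_option linter.unusedSectionVars false
set_option linter.style.haveILetI false

namespace Cfsg.Agent.CharP.S3FreeOffender

open Subgroup

universe u v

variable {G : Type u} [Group G] {V : Type v} [CommGroup V] [MulDistribMulAction G V]

/-- The points fixed by a subgroup. -/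
def fix (A : Subgroup G) : Subgroup V where
  carrier := {v | ∀ a ∈ A, a • v = v}
  one_mem' := fun a _ => smul_one a
  mul_mem' := fun {v w} hv hw a ha => by rw [smul_mul', hv a ha, hw a ha]
  inv_mem' := fun {v} hv a ha => by rw [smul_inv', hv a ha]

theorem mem_fix {A : Subgroup G} {v : V} : v ∈ fix A ↔ ∀ a ∈ A, a • v = v := Iff.rfl

theorem fix_anti {A B : Subgroup G} (h : A ≤ B) : (fix B : Subgroup V) ≤ fix A :=
  fun _ hv a ha => hv a (h ha)

theorem fix_sup (A B : Subgroup G) : (fix (A ⊔ B) : Subgroup V) = fix A ⊓ fix B := by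
  refine le_antisymm (le_inf (fix_anti le_sup_left) (fix_anti le_sup_right)) ?_
  intro v hv g hg
  exact (sup_le (a := A) (b := B) (c := MulAction.stabilizer G v)
    (fun a ha => hv.1 a ha) (fun b hb => hv.2 b hb)) hg

/-- An element of `G` as an endomorphism of `V`. -/
abbrev act (g : G) : V →* V := MulDistribMulAction.toMonoidHom V g

theorem act_injective (g : G) : Function.Injective (act (V := V) g) := fun x y h => by
  simpa using congrArg (fun w => g⁻¹ • w) (show g • x = g • y from h)

theorem fix_map (A : Subgroup G) (g : G) :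
    (fix (A.map (MulAut.conj g).toMonoidHom) : Subgroup V) = (fix A).map (act g) := by
  ext v
  constructor
  · intro hv
    refine ⟨g⁻¹ • v, fun a ha => ?_, smul_inv_smul g v⟩
    have h := hv (g * a * g⁻¹) ⟨a, ha, rfl⟩
    rw [mul_smul, mul_smul, smul_eq_iff_eq_inv_smul] at h
    exact h
  · rintro ⟨w, hw, rfl⟩ _ ⟨a, ha, rfl⟩
    change (g * a * g⁻¹) • (g • w) = g • w
    rw [mul_smul, mul_smul, inv_smul_smul, hw a ha]

/-- The best offender condition. -/
def IsBest (V : Type v) [CommGroup V] [MulDistribMulAction G V] (A : Subgroup G) : Prop :=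
  ∀ B : Subgroup G, B ≤ A →
    Nat.card B * Nat.card (fix B : Subgroup V) ≤ Nat.card A * Nat.card (fix A : Subgroup V)

/-- Elementary abelian of exponent two. -/
def IsElem (A : Subgroup G) : Prop :=
  (∀ a ∈ A, ∀ b ∈ A, a * b = b * a) ∧ ∀ a ∈ A, a * a = 1

theorem IsElem.isPGroup {A : Subgroup G} (h : IsElem A) : IsPGroup 2 A :=
  fun a => ⟨1, Subtype.ext (by simpa [pow_two] using h.2 a a.2)⟩

theorem IsElem.map {A : Subgroup G} (h : IsElem A) (g : G) :
    IsElem (A.map (MulAut.conj g).toMonoidHom) := by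
  refine ⟨?_, ?_⟩
  · rintro _ ⟨a, ha, rfl⟩ _ ⟨b, hb, rfl⟩
    rw [← map_mul, ← map_mul, h.1 a ha b hb]
  · rintro _ ⟨a, ha, rfl⟩
    rw [← map_mul, h.2 a ha, map_one]

theorem IsBest.map [Finite G] [Finite V] {A : Subgroup G} (h : IsBest V A) (g : G) :
    IsBest V (A.map (MulAut.conj g).toMonoidHom) := by
  intro B hB
  set C := B.comap (MulAut.conj g).toMonoidHom
  have hBC : C.map (MulAut.conj g).toMonoidHom = B :=
    map_comap_eq_self_of_surjective (MulAut.conj g).surjective B
  have hCA : C ≤ A := by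
    rw [← comap_map_eq_self_of_injective (f := (MulAut.conj g).toMonoidHom) (MulAut.conj g).injective A]
    exact comap_mono hB
  rw [← hBC, fix_map, fix_map,
    card_map_of_injective (f := (MulAut.conj g).toMonoidHom) (MulAut.conj g).injective,
    card_map_of_injective (f := (MulAut.conj g).toMonoidHom) (MulAut.conj g).injective,
    card_map_of_injective (act_injective g), card_map_of_injective (act_injective g)]
  exact h C hCA

section core

variable [Finite G] [Finite V]

theorem sq_act (hexp : ∀ v : V, v * v = 1) (v w : V) : v * (v * w) = w := by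
  rw [← mul_assoc, hexp, one_mul]

/-- The fixed points of `A` inside the fixed points of the largest normal 2-subgroup. -/
abbrev UX (V : Type v) [CommGroup V] [MulDistribMulAction G V] (A : Subgroup G) : Subgroup V :=
  fix (Cfsg.pCore 2 G) ⊓ fix A

/-- The fixed points of the whole group, inside the same space. -/
abbrev ZX (G : Type u) [Group G] (V : Type v) [CommGroup V] [MulDistribMulAction G V] :
    Subgroup V :=
  fix (Cfsg.pCore 2 G : Subgroup G) ⊓ fix (⊤ : Subgroup G)

theorem smul_mem_fix_pCore {v : V} (hv : v ∈ (fix (Cfsg.pCore 2 G) : Subgroup V)) (g : G) :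
    g • v ∈ (fix (Cfsg.pCore 2 G) : Subgroup V) := by
  intro q hq
  have h := hv _ ((inferInstance : (Cfsg.pCore 2 G).Normal).conj_mem q hq g⁻¹)
  rw [inv_inv, mul_smul, mul_smul] at h
  exact (eq_inv_smul_iff.1 h.symm).symm

theorem UX_map (A : Subgroup G) (g : G) :
    UX V (A.map (MulAut.conj g).toMonoidHom) = (UX V A).map (act g) := by
  refine le_antisymm ?_ ?_
  · intro v hv
    have h2 := hv.2
    rw [fix_map] at h2
    obtain ⟨w, hw, rfl⟩ := h2
    refine ⟨w, ⟨?_, hw⟩, rfl⟩
    simpa using smul_mem_fix_pCore hv.1 g⁻¹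
  · rintro _ ⟨w, hw, rfl⟩
    exact ⟨smul_mem_fix_pCore hw.1 g, by rw [fix_map]; exact ⟨w, hw.2, rfl⟩⟩

theorem card_UX_map (A : Subgroup G) (g : G) :
    Nat.card (UX V (A.map (MulAut.conj g).toMonoidHom)) = Nat.card (UX V A) := by
  rw [UX_map, card_map_of_injective (act_injective g)]

theorem UX_inf_eq {A A' : Subgroup G} (h : A ⊔ A' = ⊤) : UX V A ⊓ UX V A' = ZX G V := by
  show (_ ⊓ _) ⊓ (_ ⊓ _) = _ ⊓ _
  rw [← h, fix_sup, inf_inf_inf_comm, inf_idem]

variable (hexp : ∀ v : V, v * v = 1)
  (hquad : ∀ P : Subgroup G, IsPGroup 2 P → ∀ a ∈ P, ∀ b ∈ P, ∀ v : V,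
    a • (b • v * v) = b • v * v)

include hquad in
theorem comm_mem_UX {A : Subgroup G} (hA : IsElem A) {a : G} (ha : a ∈ A) {y : V}
    (hy : y ∈ (fix (Cfsg.pCore 2 G) : Subgroup V)) : a • y * y ∈ UX V A :=
  ⟨mul_mem (smul_mem_fix_pCore hy a) hy, fun b hb => hquad A hA.isPGroup b hb a ha y⟩

include hexp hquad in
/-- Two generating offenders give an invariant sum of fixed spaces. -/
theorem smul_mem_sup {A A' : Subgroup G} (hA : IsElem A) (hA' : IsElem A') (hgen : A ⊔ A' = ⊤)
    (g : G) {w : V} (hw : w ∈ UX V A ⊔ UX V A') : g • w ∈ UX V A ⊔ UX V A' := by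
  have h0 : ∀ B B' : Subgroup G, IsElem B → ∀ b ∈ B, ∀ w ∈ UX V B ⊔ UX V B',
      b • w ∈ UX V B ⊔ UX V B' := by
    intro B B' hB b hb w hw
    obtain ⟨p, hp, r, hr, rfl⟩ := mem_sup.1 hw
    rw [smul_mul', hp.2 b hb]
    refine mul_mem (mem_sup_left hp) ?_
    have : b • r = (b • r * r) * r := by rw [mul_assoc, hexp, mul_one]
    rw [this]
    exact mul_mem (mem_sup_left (comm_mem_UX hquad hB hb hr.1)) (mem_sup_right hr)
  let W := UX V A ⊔ UX V A'
  let L : Subgroup G :=
    { carrier := {g | ∀ w, w ∈ W ↔ g • w ∈ W}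
      one_mem' := fun w => by rw [one_smul]
      mul_mem' := fun {g k} hg hk w => by rw [mul_smul, ← hg, ← hk]
      inv_mem' := fun {g} hg w => by rw [hg (g⁻¹ • w), smul_inv_smul] }
  have hb : ∀ B : Subgroup G, (∀ b ∈ B, ∀ w ∈ W, b • w ∈ W) → B ≤ L := fun B hB b hb w =>
    ⟨hB b hb w, fun h => by simpa using hB b⁻¹ (B.inv_mem hb) _ h⟩
  have hL : A ⊔ A' ≤ L := sup_le (hb A fun a ha => h0 A A' hA a ha)
    (hb A' fun a ha w hw => by
      have hw' : w ∈ UX V A' ⊔ UX V A := by rwa [sup_comm]
      have := h0 A' A hA' a ha w hw'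
      rwa [sup_comm] at this)
  exact ((hL (hgen.ge (mem_top g))) w).1 hw

variable (hpair : ∀ A A' : Subgroup G, IsElem A → IsBest V A → IsElem A' → IsBest V A' →
  A ⊔ A' ≠ ⊤ → IsPGroup 2 ↥(A ⊔ A'))

include hpair in
/-- An element of an offender outside `O₂` moves some conjugate to a generating partner. -/
theorem exists_generating {A : Subgroup G} (hA : IsElem A) (hbest : IsBest V A) {a : G}
    (ha : a ∈ A) (haQ : a ∉ Cfsg.pCore 2 G) :
    ∃ h : G, A ⊔ A.map (MulAut.conj h).toMonoidHom = ⊤ ∧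
      A.map (MulAut.conj h).toMonoidHom ⊔ A.map (MulAut.conj (a * h)).toMonoidHom = ⊤ := by
  haveI : Fact (Nat.Prime 2) := ⟨Nat.prime_two⟩
  have haa : a * a = 1 := hA.2 a ha
  by_contra hcon
  apply haQ
  suffices hbs : ∀ h : G, IsPGroup 2
      ↥(zpowers a ⊔ (zpowers a).map (MulAut.conj h).toMonoidHom) by
    obtain ⟨N, hN, hNp, hXN⟩ := Involutions.BaerSuzuki.baer_suzuki (p := 2) (zpowers a)
      (hA.isPGroup.to_le (zpowers_le.2 ha)) hbs
    haveI := hN
    exact PLocal.Cores.le_pCore hNp (hXN (mem_zpowers a))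
  intro h
  set a' := h * a * h⁻¹ with ha'
  have ha'A : a' ∈ A.map (MulAut.conj h).toMonoidHom := ⟨a, ha, rfl⟩
  have hmapz : (zpowers a).map (MulAut.conj h).toMonoidHom = zpowers a' := by
    rw [MonoidHom.map_zpowers]; rfl
  rw [hmapz]
  by_cases h1 : A ⊔ A.map (MulAut.conj h).toMonoidHom = ⊤
  swap
  · exact (hpair _ _ hA hbest (hA.map h) (hbest.map h) h1).to_le
      (sup_le (zpowers_le.2 (mem_sup_left ha)) (zpowers_le.2 (mem_sup_right ha'A)))
  have h2 : ¬ A.map (MulAut.conj h).toMonoidHom ⊔ A.map (MulAut.conj (a * h)).toMonoidHom = ⊤ :=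
    fun e => hcon ⟨h, h1, e⟩
  have hp := hpair _ _ (hA.map h) (hbest.map h) (hA.map (a * h)) (hbest.map (a * h)) h2
  have ha'2 : a' * a' = 1 := (hA.map h).2 a' ha'A
  have hw : (a * a') ^ 2 ∈
      A.map (MulAut.conj h).toMonoidHom ⊔ A.map (MulAut.conj (a * h)).toMonoidHom := by
    have e : (a * a') ^ 2 = (a * h) * a * (a * h)⁻¹ * a' := by
      rw [pow_two, ha', mul_inv_rev, show a⁻¹ = a from inv_eq_of_mul_eq_one_right haa]
      group
    rw [e]
    exact mul_mem (mem_sup_right ⟨a, ha, rfl⟩) (mem_sup_left ha'A)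
  obtain ⟨k, hk⟩ := hp ⟨_, hw⟩
  have hC : IsPGroup 2 ↥(zpowers (a * a')) := by
    intro x
    refine ⟨k + 1, Subtype.ext ?_⟩
    obtain ⟨i, hi⟩ := mem_zpowers_iff.1 x.2
    have hk' : ((a * a') ^ 2) ^ 2 ^ k = 1 := congrArg Subtype.val hk
    rw [← pow_mul, ← pow_succ'] at hk'
    rw [SubmonoidClass.coe_pow, ← hi, ← zpow_natCast, ← zpow_mul, mul_comm, zpow_mul,
      zpow_natCast, hk', one_zpow]
    rfl
  have hinv : a * (a * a') * a⁻¹ = (a * a')⁻¹ := by
    rw [mul_inv_rev, inv_eq_of_mul_eq_one_right haa, inv_eq_of_mul_eq_one_right ha'2,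
      ← mul_assoc, haa, one_mul]
  have hn : zpowers a ≤ normalizer (zpowers (a * a') : Set G) := by
    rw [zpowers_le, mem_normalizer_iff_map_conj_eq, MonoidHom.map_zpowers]
    change zpowers (a * (a * a') * a⁻¹) = _
    rw [hinv, zpowers_inv]
  refine ((hA.isPGroup.to_le (zpowers_le.2 ha)).to_sup_of_normal_right' hC hn).to_le ?_
  refine sup_le le_sup_left (zpowers_le.2 ?_)
  have e2 : a * (a * a') = a' := by rw [← mul_assoc, haa, one_mul]
  exact e2.subst (motive := fun z => z ∈ zpowers a ⊔ zpowers (a * a'))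
    (mul_mem (mem_sup_left (mem_zpowers a)) (mem_sup_right (mem_zpowers _)))

include hexp hquad hpair in
/-- An element of `A` outside `O₂` fixes modulo the centre only what `A` fixes. -/
theorem mem_UX_of_comm_mem {A : Subgroup G} (hA : IsElem A) (hbest : IsBest V A) {a : G}
    (ha : a ∈ A) (haQ : a ∉ Cfsg.pCore 2 G) (g : G) {x : V}
    (hx : x ∈ UX V (A.map (MulAut.conj g).toMonoidHom)) (hxa : a • x * x ∈ ZX G V) :
    x ∈ UX V A := by
  obtain ⟨h, -, hgen⟩ := exists_generating hpair hA hbest ha haQ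
  set P := UX V (A.map (MulAut.conj h).toMonoidHom) with hP
  set R := UX V (A.map (MulAut.conj (a * h)).toMonoidHom) with hR
  set Z := ZX G V with hZ
  have hPR : P ⊓ R = Z := UX_inf_eq hgen
  have haP : ∀ p ∈ P, a • p ∈ R := by
    intro p hp
    rw [hP, UX_map] at hp
    obtain ⟨w, hw, rfl⟩ := hp
    rw [hR, UX_map]
    exact ⟨w, hw, mul_smul a h w⟩
  have haR : ∀ r ∈ R, a • r ∈ P := by
    intro r hr
    rw [hR, UX_map] at hr
    obtain ⟨w, hw, rfl⟩ := hr
    rw [hP, UX_map]
    refine ⟨w, hw, ?_⟩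
    show h • w = a • ((a * h) • w)
    rw [← mul_smul, ← mul_assoc, hA.2 a ha, one_mul]
  have hinv := smul_mem_sup hexp hquad (hA.map h) (hA.map (a * h)) hgen
  have hall : ∀ k : G, UX V (A.map (MulAut.conj k).toMonoidHom) ≤ P ⊔ R := by
    intro k v hv
    rw [UX_map] at hv
    obtain ⟨w, hw, rfl⟩ := hv
    have hhw : h • w ∈ P := by rw [hP, UX_map]; exact ⟨w, hw, rfl⟩
    have := hinv (k * h⁻¹) (mem_sup_left hhw)
    rwa [← mul_smul, inv_mul_cancel_right] at this
  let f : ↥P →* V :=
    { toFun := fun p => (p : V) * a • (p : V)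
      map_one' := by simp
      map_mul' := fun p q => by
        simp only [Subgroup.coe_mul, smul_mul']
        ac_rfl }
  have hmem : ∀ y ∈ P ⊔ R, a • y * y ∈ Z → y ∈ Z ⊔ f.range := by
    intro y hy hya
    obtain ⟨p, hp, r, hr, rfl⟩ := mem_sup.1 hy
    have he : a • p * r ∈ Z := by
      rw [← hPR]
      refine ⟨?_, mul_mem (haP p hp) hr⟩
      have hzP : a • (p * r) * (p * r) ∈ P := ((hPR.ge hya).1)
      have e : a • p * r = a • (p * r) * (p * r) * (a • r * p) := by
        rw [smul_mul', show a • p * a • r * (p * r) * (a • r * p) =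
          a • p * r * ((a • r * a • r) * (p * p)) by ac_rfl, hexp, hexp, mul_one, mul_one]
      rw [e]
      exact mul_mem hzP (mul_mem (haR r hr) hp)
    have e : p * r = (a • p * r) * (p * a • p) := by
      rw [show a • p * r * (p * a • p) = p * r * (a • p * a • p) by ac_rfl, hexp, mul_one]
    rw [e]
    exact mul_mem (mem_sup_left he) (mem_sup_right ⟨⟨p, hp⟩, rfl⟩)
  have hle : UX V A ≤ Z ⊔ f.range := by
    intro y hy
    refine hmem y ?_ ?_
    · have := hall 1
      rw [show A.map (MulAut.conj (1 : G)).toMonoidHom = A by ext; simp] at this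
      exact this hy
    · rw [hy.2 a ha, hexp]
      exact one_mem _
  have hZP : Z ≤ P := hPR ▸ inf_le_left
  have hker : Z.subgroupOf P ≤ f.ker := by
    intro z hz
    rw [MonoidHom.mem_ker]
    show (z : V) * a • (z : V) = 1
    rw [(mem_subgroupOf.1 hz).2 a (mem_top a), hexp]
  have hc1 : Nat.card f.range * Nat.card Z ≤ Nat.card P := by
    rw [Nat.card_congr (QuotientGroup.quotientKerEquivRange f).symm.toEquiv,
      ← Nat.card_congr (subgroupOfEquivOfLe hZP).toEquiv, card_eq_card_quotient_mul_card_subgroup f.ker]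
    exact Nat.mul_le_mul_left _ (card_le_of_le hker)
  have hc2 : Nat.card ↥(Z ⊔ f.range) ≤ Nat.card Z * Nat.card f.range :=
    Nat.le_of_dvd (Nat.mul_pos Nat.card_pos Nat.card_pos) (PLocal.Cores.card_sup_dvd_of_normal Z f.range)
  have heq : UX V A = Z ⊔ f.range := by
    refine eq_of_le_of_card_ge hle (hc2.trans ?_)
    rw [mul_comm, ← card_UX_map A h]
    exact hc1
  rw [heq]
  exact hmem x (hall g hx) hxa

include hexp hquad hpair in
/-- The commutator map is onto. -/
theorem comm_surjective {A : Subgroup G} (hA : IsElem A) (hbest : IsBest V A) (g : G)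
    (hgen : A ⊔ A.map (MulAut.conj g).toMonoidHom = ⊤) {y : V}
    (hy : y ∈ UX V (A.map (MulAut.conj g).toMonoidHom)) (hyZ : y ∉ ZX G V)
    {x : V} (hx : x ∈ UX V A) : ∃ a ∈ A, a • y * y * x ∈ ZX G V := by
  set Z := ZX G V with hZ
  set A' := A.map (MulAut.conj g).toMonoidHom with hA'
  set π := QuotientGroup.mk' Z with hπ
  let φ : ↥A →* V ⧸ Z := MonoidHom.mk' (fun a => π ((a : G) • y * y)) (fun a b => by
    rw [← map_mul]
    congr 1
    have h := hquad A hA.isPGroup (a : G) a.2 b b.2 y
    rw [smul_mul'] at h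
    calc ((a * b : A) : G) • y * y = (a : G) • ((b : G) • y) * y := by
          rw [Subgroup.coe_mul, mul_smul]
      _ = (a : G) • ((b : G) • y) * (a : G) • y * ((a : G) • y * y) := by
          rw [show (a : G) • ((b : G) • y) * (a : G) • y * ((a : G) • y * y) =
            (a : G) • ((b : G) • y) * y * ((a : G) • y * (a : G) • y) by ac_rfl, hexp, mul_one]
      _ = (b : G) • y * y * ((a : G) • y * y) := by rw [h]
      _ = _ := mul_comm _ _)
  have hrange : φ.range ≤ (UX V A).map π := by
    rintro _ ⟨a, rfl⟩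
    exact ⟨_, comm_mem_UX hquad hA a.2 hy.1, rfl⟩
  have hZA : Z ≤ UX V A := fun z hz => ⟨hz.1, fix_anti le_top hz.2⟩
  have hynA : y ∉ UX V A := fun h => hyZ ((UX_inf_eq hgen).le ⟨h, hy⟩)
  set B := A ⊓ Cfsg.pCore 2 G with hB
  have hker : Nat.card φ.ker ≤ Nat.card B := by
    refine Nat.card_le_card_of_injective
      (fun a : φ.ker => (⟨((a : A) : G), (a : A).2, ?_⟩ : B)) fun a b h => ?_
    · by_contra haQ
      exact hynA (mem_UX_of_comm_mem hexp hquad hpair hA hbest (a : A).2 haQ g hy
        ((QuotientGroup.eq_one_iff _).1 (MonoidHom.mem_ker.1 a.2)))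
    · exact Subtype.ext (Subtype.ext (congrArg (fun z : B => (z : G)) h))
  set W := UX V A ⊔ UX V A' with hW
  have hWB : W ⊔ fix A ≤ fix B :=
    sup_le ((sup_le inf_le_left inf_le_left).trans (fix_anti inf_le_right)) (fix_anti inf_le_left)
  have h1 : Nat.card W * Nat.card (fix A : Subgroup V) ≤
      Nat.card (fix B : Subgroup V) * Nat.card (UX V A) :=
    (PLocal.Replacement.card_mul_card_le W (fix A)).trans (Nat.mul_le_mul (card_le_of_le hWB)
      (card_le_of_le (le_inf (inf_le_left.trans (sup_le inf_le_left inf_le_left)) inf_le_right)))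
  have h2 : Nat.card (UX V A) * Nat.card (UX V A) ≤ Nat.card W * Nat.card Z := by
    have := PLocal.Replacement.card_mul_card_le (UX V A) (UX V A')
    rwa [card_UX_map, UX_inf_eq hgen] at this
  have h3 : Nat.card ((UX V A).map π) * Nat.card Z = Nat.card (UX V A) := by
    have e := Subgroup.relIndex_mul_relIndex ⊥ Z (UX V A) bot_le hZA
    rw [relIndex_bot_left, relIndex_bot_left] at e
    rw [← relIndex_ker, hπ, QuotientGroup.ker_mk', mul_comm, e]
  have h4 : Nat.card ((UX V A).map π) * Nat.card B ≤ Nat.card A := by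
    refine Nat.le_of_mul_le_mul_right ?_ (Nat.card_pos (α := (fix A : Subgroup V)))
    refine le_trans ?_ (hbest B inf_le_left)
    refine Nat.le_of_mul_le_mul_right ?_ (Nat.mul_pos (Nat.card_pos (α := UX V A)) (Nat.card_pos (α := Z)))
    calc Nat.card ((UX V A).map π) * Nat.card B * Nat.card (fix A : Subgroup V) *
          (Nat.card (UX V A) * Nat.card Z)
        = Nat.card B * Nat.card (fix A : Subgroup V) * (Nat.card (UX V A) * Nat.card (UX V A)) := by
          rw [← h3]; ring
      _ ≤ Nat.card B * Nat.card (fix A : Subgroup V) * (Nat.card W * Nat.card Z) :=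
          Nat.mul_le_mul_left _ h2
      _ = Nat.card B * (Nat.card W * Nat.card (fix A : Subgroup V)) * Nat.card Z := by ring
      _ ≤ Nat.card B * (Nat.card (fix B : Subgroup V) * Nat.card (UX V A)) * Nat.card Z :=
          Nat.mul_le_mul_right _ (Nat.mul_le_mul_left _ h1)
      _ = _ := by ring
  have heq : φ.range = (UX V A).map π := by
    refine eq_of_le_of_card_ge hrange ?_
    refine Nat.le_of_mul_le_mul_right (h4.trans ?_) (Nat.card_pos (α := B))
    rw [card_eq_card_quotient_mul_card_subgroup φ.ker,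
      ← Nat.card_congr (QuotientGroup.quotientKerEquivRange φ).symm.toEquiv]
    exact Nat.mul_le_mul_left _ hker
  obtain ⟨a, ha⟩ := heq.ge ⟨x, hx, rfl⟩
  refine ⟨a, a.2, (QuotientGroup.eq_one_iff (N := Z) _).1 ?_⟩
  show π ((a : G) • y * y * x) = 1
  rw [map_mul]
  change φ a * π x = 1
  rw [ha, ← map_mul, hexp, map_one]

variable (hfaith : ∀ g : G, (∀ v : V, g • v = v) → g = 1)
  (hno : ∀ a c : G, a * a = 1 → c ^ 3 = 1 → c ≠ 1 → a * c * a = c⁻¹ → False)

include hexp hquad hpair hfaith hno in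
theorem le_pCore_of_pair {A : Subgroup G} (hA : IsElem A) (hbest : IsBest V A) :
    A ≤ Cfsg.pCore 2 G := by
  by_contra hnle
  obtain ⟨a₀, ha₀, ha₀Q⟩ := SetLike.not_le_iff_exists.1 hnle
  obtain ⟨h, hgen, -⟩ := exists_generating hpair hA hbest ha₀ ha₀Q
  set A' := A.map (MulAut.conj h).toMonoidHom with hA'
  set Z := ZX G V with hZ
  haveI : Fact (Nat.Prime 2) := ⟨Nat.prime_two⟩
  -- the fixed space of `A` is larger than that of `G`
  obtain ⟨x, hx, hxZ⟩ : ∃ x ∈ UX V A, x ∉ Z := by
    by_contra hcon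
    push Not at hcon
    have hUZ' : ∀ x ∈ UX V A', x ∈ Z := by
      intro x hx
      rw [hA', UX_map] at hx
      obtain ⟨w, hw, rfl⟩ := hx
      have := (hcon w hw).2 h (mem_top h)
      change h • w ∈ Z
      rw [this]
      exact hcon w hw
    let L : Subgroup G :=
      { carrier := {g | (∀ v : V, g • v * v ∈ (fix (Cfsg.pCore 2 G) : Subgroup V)) ∧
          ∀ x ∈ (fix (Cfsg.pCore 2 G) : Subgroup V), g • x * x ∈ Z}
        one_mem' := ⟨fun v => by rw [one_smul, hexp]; exact one_mem _,
          fun v _ => by rw [one_smul, hexp]; exact one_mem _⟩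
        mul_mem' := fun {g k} hg hk => by
          have e : ∀ v : V, (g * k) • v * v = (g • (k • v) * k • v) * (k • v * v) := fun v => by
            rw [mul_smul, mul_assoc (g • (k • v)), sq_act hexp]
          exact ⟨fun v => by rw [e]; exact mul_mem (hg.1 _) (hk.1 v),
            fun v hv => by rw [e]; exact mul_mem (hg.2 _ (smul_mem_fix_pCore hv k)) (hk.2 v hv)⟩
        inv_mem' := fun {g} hg => by
          have e : ∀ v : V, g⁻¹ • v * v = g • (g⁻¹ • v) * g⁻¹ • v := fun v => by
            rw [smul_inv_smul, mul_comm]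
          exact ⟨fun v => by rw [e]; exact hg.1 _,
            fun v hv => by rw [e]; exact hg.2 _ (smul_mem_fix_pCore hv g⁻¹)⟩ }
    have hbase : ∀ B : Subgroup G, IsElem B → (∀ x ∈ UX V B, x ∈ Z) → B ≤ L := by
      intro B hB hBZ b hb
      refine ⟨fun v => ?_, fun x hx => hBZ _ (comm_mem_UX hquad hB hb hx)⟩
      intro q hq
      exact hquad (B ⊔ Cfsg.pCore 2 G)
        (hB.isPGroup.to_sup_of_normal_right PLocal.Cores.isPGroup_pCore) q (mem_sup_right hq) b
        (mem_sup_left hb) v
    have hall : ∀ g : G, g ∈ L := fun g =>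
      (sup_le (hbase A hA hcon) (hbase A' (hA.map h) hUZ')) (hgen.ge (mem_top g))
    have hpow : ∀ g : G, g ^ 4 = 1 := by
      intro g
      refine hfaith _ fun v => ?_
      set d := g • v * v with hd
      have hgv : g • v = d * v := by rw [hd, mul_assoc, hexp, mul_one]
      set z := g • d * d with hz
      have hgd : g • d = z * d := by rw [hz, mul_assoc, hexp, mul_one]
      have hzZ : z ∈ Z := (hall g).2 d ((hall g).1 v)
      have hgz : g • z = z := hzZ.2 g (mem_top g)
      have h2 : (g ^ 2) • v = z * v := by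
        rw [pow_two, mul_smul, hgv, smul_mul', hgd, hgv, mul_assoc, sq_act hexp]
      rw [show g ^ 4 = g ^ 2 * g ^ 2 by rw [← pow_add], mul_smul, h2, smul_mul', h2,
        show (g ^ 2) • z = z by rw [pow_two, mul_smul, hgz, hgz], sq_act hexp]
    have htop : IsPGroup 2 (⊤ : Subgroup G) :=
      fun g => ⟨2, Subtype.ext (by simpa using hpow (g : G))⟩
    exact ha₀Q (PLocal.Cores.le_pCore htop (mem_top a₀))
  set y := h • x with hy
  have hyA' : y ∈ UX V A' := by rw [hA', UX_map]; exact ⟨x, hx, rfl⟩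
  have hfixZ : ∀ z ∈ Z, ∀ g : G, g • z = z := fun z hz g => hz.2 g (mem_top g)
  have hyZ : y ∉ Z := fun hyz => hxZ (by
    have e : x = y := by
      conv_lhs => rw [show x = h⁻¹ • y by rw [hy, inv_smul_smul], hfixZ y hyz]
    rwa [e])
  obtain ⟨a, ha, hay⟩ := comm_surjective hexp hquad hpair hA hbest h hgen hyA' hyZ hx
  have hback : A'.map (MulAut.conj h⁻¹).toMonoidHom = A := by
    rw [hA', Involutions.BaerSuzuki.map_conj_map_conj, inv_mul_cancel]
    ext; simp
  obtain ⟨b, hb, hbx⟩ := comm_surjective hexp hquad hpair (hA.map h) (hbest.map h) h⁻¹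
    (by rw [hback, sup_comm]; exact hgen) (by rw [hback]; exact hx) hxZ hyA'
  -- the product has order divisible by three
  set t := a * b with ht
  have hxyZ : x * y ∉ Z := by
    intro hm
    apply hxZ
    rw [hZ, ← UX_inf_eq hgen]
    refine ⟨hx, ?_⟩
    have e : x = x * y * y := by rw [mul_assoc, hexp, mul_one]
    rw [e]
    exact mul_mem (show x * y ∈ UX V A' from ⟨hm.1, fix_anti le_top hm.2⟩) hyA'
  have hab : a • y = y * x * (a • y * y * x) := by
    rw [show y * x * (a • y * y * x) = a • y * ((y * y) * (x * x)) by ac_rfl, hexp, hexp,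
      one_mul, mul_one]
  have hbb : b • x = x * y * (b • x * x * y) := by
    rw [show x * y * (b • x * x * y) = b • x * ((x * x) * (y * y)) by ac_rfl, hexp, hexp,
      one_mul, mul_one]
  set z₁ := a • y * y * x with hz₁
  set z₂ := b • x * x * y with hz₂
  have htx : t • x = y * (z₁ * z₂) := by
    rw [ht, mul_smul, hbb, smul_mul', smul_mul', hab, hx.2 a ha, hfixZ z₂ hbx a,
      show x * (y * x * z₁) * z₂ = (x * x) * (y * (z₁ * z₂)) by ac_rfl, hexp, one_mul]
  have hty : t • y = y * x * z₁ := by rw [ht, mul_smul, hyA'.2 b hb, hab]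
  have ht2 : (t ^ 2) • x = y * x * z₂ := by
    rw [pow_two, mul_smul, htx, smul_mul', smul_mul', hty, hfixZ z₁ hay, hfixZ z₂ hbx,
      show y * x * z₁ * (z₁ * z₂) = y * x * z₂ * (z₁ * z₁) by ac_rfl, hexp, mul_one]
  have ht3 : (t ^ 3) • x = x * z₂ * z₂ * z₂ * z₂ * z₂ * z₂ := by
    rw [pow_succ', mul_smul, ht2, smul_mul', smul_mul', htx, hty, hfixZ z₂ hbx,
      show y * x * z₁ * (y * (z₁ * z₂)) * z₂ = x * ((y * y) * (z₁ * z₁) * (z₂ * z₂)) by ac_rfl,
      hexp, hexp, hexp]
    simp only [mul_one, mul_assoc, sq_act hexp]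
    rw [hexp, mul_one]
  have ht3' : (t ^ 3) • x = x := by
    rw [ht3]; simp only [mul_assoc, sq_act hexp]; rw [hexp, mul_one]
  have hiter : ∀ k, ((t ^ 3) ^ k) • x = x := fun k => by
    induction k with
    | zero => simp
    | succ k ih => rw [pow_succ, mul_smul, ht3', ih]
  obtain ⟨m, hm⟩ : 3 ∣ orderOf t := by
    by_contra h3
    have hn := pow_orderOf_eq_one t
    rw [← Nat.div_add_mod (orderOf t) 3, pow_add, pow_mul] at hn
    have hq : (t ^ (orderOf t % 3)) • x = x := by
      have := congrArg (fun g : G => g • x) hn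
      simp only [mul_smul, one_smul] at this
      rw [smul_eq_iff_eq_inv_smul] at this
      rw [this, inv_smul_eq_iff]
      exact (hiter _).symm
    have hzz : z₁ * z₂ ∈ Z := mul_mem hay hbx
    rcases (show orderOf t % 3 = 1 ∨ orderOf t % 3 = 2 by omega) with e | e
    · rw [e, pow_one, htx] at hq
      refine hxyZ ?_
      have : x * y = z₁ * z₂ := by
        conv_lhs => rw [← hq, mul_comm (y * _), sq_act hexp]
      rwa [this]
    · rw [e, ht2] at hq
      refine hyZ ?_
      have : y = z₂ := by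
        have h2 := congrArg (· * (x * z₂)) hq
        simp only [show y * x * z₂ * (x * z₂) = y * ((x * x) * (z₂ * z₂)) by ac_rfl, hexp, mul_one,
          sq_act hexp] at h2
        exact h2
      rwa [this]
  have haa : a * a = 1 := hA.2 a ha
  have hbb2 : b * b = 1 := (hA.map h).2 b hb
  have hinv : a * t * a⁻¹ = t⁻¹ := by
    rw [ht, mul_inv_rev, inv_eq_of_mul_eq_one_right haa, inv_eq_of_mul_eq_one_right hbb2,
      ← mul_assoc, haa, one_mul]
  refine hno a (t ^ m) haa ?_ ?_ ?_
  · rw [← pow_mul, mul_comm, ← hm, pow_orderOf_eq_one]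
  · intro e
    have h1 := orderOf_dvd_of_pow_eq_one e
    have h2 : 0 < orderOf t := orderOf_pos t
    have h3 := Nat.le_of_dvd (by omega) h1
    omega
  · rw [← inv_pow, ← hinv, conj_pow, inv_eq_of_mul_eq_one_right haa]

end core

/-- Best offenders lie in the largest normal 2-subgroup. -/
theorem le_pCore [Finite V] (hexp : ∀ v : V, v * v = 1) :
    ∀ (n : ℕ) (G : Type u) [Group G] [Finite G] [MulDistribMulAction G V],
      Nat.card G = n → (∀ g : G, (∀ v : V, g • v = v) → g = 1) →
      (∀ a c : G, a * a = 1 → c ^ 3 = 1 → c ≠ 1 → a * c * a = c⁻¹ → False) →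
      (∀ P : Subgroup G, IsPGroup 2 P → ∀ a ∈ P, ∀ b ∈ P, ∀ v : V,
        a • (b • v * v) = b • v * v) →
      ∀ A : Subgroup G, IsElem A → IsBest V A → A ≤ Cfsg.pCore 2 G := by
  intro n
  induction n using Nat.strong_induction_on with
  | _ n ih =>
  intro G _ _ _ hn hfaith hno hquad A hA hbest
  subst hn
  refine le_pCore_of_pair hexp hquad (fun A A' hA hb hA' hb' hne => ?_) hfaith hno hA hbest
  set L := A ⊔ A' with hL
  have key : ∀ B : Subgroup G, IsElem B → IsBest V B → B ≤ L →
      B ≤ (Cfsg.pCore 2 L).map L.subtype := by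
    intro B hB hbB hBL
    have hfix : ∀ C : Subgroup L, (fix C : Subgroup V) = fix (C.map L.subtype) := fun C => by
      ext v
      exact ⟨fun hv => by rintro _ ⟨c, hc, rfl⟩; exact hv c hc, fun hv c hc => hv _ ⟨c, hc, rfl⟩⟩
    have h1 := ih (Nat.card L)
      (lt_of_le_of_ne (Subgroup.card_le_card_group L) fun e => hne (Subgroup.eq_top_of_card_eq L e)) L rfl
      (fun g hg => Subtype.ext (hfaith g hg))
      (fun a c ha hc hc1 hac => hno a c (congrArg Subtype.val ha) (congrArg Subtype.val hc)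
        (fun e => hc1 (Subtype.ext e)) (congrArg Subtype.val hac))
      (fun P hP a ha b hb v => hquad (P.map L.subtype) (hP.map _) _ ⟨a, ha, rfl⟩ _ ⟨b, hb, rfl⟩ v)
      (B.subgroupOf L)
      ⟨fun a ha b hb => Subtype.ext (hB.1 a ha b hb), fun a ha => Subtype.ext (hB.2 a ha)⟩
      (fun C hC => by
        rw [hfix, hfix, map_subgroupOf_eq_of_le hBL,
          Nat.card_congr (subgroupOfEquivOfLe hBL).toEquiv,
          ← card_map_of_injective (f := L.subtype) L.subtype_injective]
        exact hbB _ ((map_mono hC).trans (map_subgroupOf_eq_of_le hBL).le))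
    exact le_trans (map_subgroupOf_eq_of_le hBL).ge (map_mono h1)
  exact (PLocal.Cores.isPGroup_pCore.map _).to_le
    (sup_le (key A hA hb le_sup_left) (key A' hA' hb' le_sup_right))

end Cfsg.Agent.CharP.S3FreeOffender
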