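import Mathlib
import Cfsg.Agent.Lib.CharP.S3FreeOffender

/-!
Bounds for elementary abelian 2-groups acting on an elementary abelian 2-group `V`.

If `a ∈ A` inverts an element `x` of odd prime order `p` which commutes with `B ≤ A`, then `a` moves a
subgroup of index at least `2 ^ j` in the fixed points of `B`, and in `V / [V, B]`, for some `j > 0`
with `p ∣ 4 ^ j - 1`.
-/

set_option autoImplicit false
set_option linter.unusedSectionVars false

namespace Cfsg.Agent.CharP.InvertedBound

open Subgroup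
open Cfsg.Agent.CharP.S3FreeOffender (fix IsElem)

universe u v

section pair

variable {W : Type v} [CommGroup W]

/-- The map `w ↦ w / σ w`. -/
def move (σ : MulAut W) : W →* W where
  toFun w := σ w / w
  map_one' := by simp
  map_mul' v w := by rw [map_mul, mul_div_mul_comm]

theorem move_apply (σ : MulAut W) (w : W) : move σ w = σ w / w := rfl

theorem mem_ker_move {σ : MulAut W} {w : W} : w ∈ (move σ).ker ↔ σ w = w := by
  rw [MonoidHom.mem_ker, move_apply, div_eq_one]

theorem pow_apply_fixed {σ : MulAut W} {w : W} (h : σ w = w) (n : ℕ) : (σ ^ n) w = w := by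
  induction n with
  | zero => rfl
  | succ n ih => rw [pow_succ, MulAut.mul_apply, h, ih]

theorem pow_apply_of_commute {σ : MulAut W} {w : W} (h : σ (move σ w) = move σ w) (n : ℕ) :
    (σ ^ n) w = w * move σ w ^ n := by
  induction n with
  | zero => simp
  | succ n ih =>
    rw [pow_succ', MulAut.mul_apply, ih, map_mul, map_pow, h, move_apply, pow_succ']
    rw [show σ w * (σ w / w) ^ n = w * ((σ w / w) * (σ w / w) ^ n) by
      rw [← mul_assoc w, mul_div_cancel]]

variable [Finite W]

/-- An element of odd order of the automorphism group fixes no non-identity element of the image of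
`w ↦ w / x w`. -/
theorem eq_one_of_move_fixed (hexp : ∀ w : W, w * w = 1) {x : MulAut W} {p : ℕ} (hp : Odd p)
    (hx : x ^ p = 1) {w : W} (h : x (move x w) = move x w) : move x w = 1 := by
  have h1 := pow_apply_of_commute h p
  rw [hx, MulAut.one_apply] at h1
  obtain ⟨k, rfl⟩ := hp
  rwa [pow_succ, pow_mul, pow_two, hexp, one_pow, one_mul, left_eq_mul] at h1

/-- An involution inverting a fixed-point-free automorphism of odd prime order moves half. -/
theorem card_fixed_free {α x : MulAut W} (hexp : ∀ w : W, w * w = 1) {p : ℕ} [hp : Fact p.Prime]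
    (hp2 : p ≠ 2) (hα : α * α = 1) (hx : x ^ p = 1) (hinv : α * x * α⁻¹ = x⁻¹)
    (hfree : ∀ w : W, x w = w → w = 1) :
    (move α).ker.index = Nat.card (move α).ker ∧
      (Nat.card W ≠ 1 → p ∣ Nat.card W - 1) := by
  have hαi : α⁻¹ = α := inv_eq_of_mul_eq_one_right hα
  have hodd := hp.out.odd_of_ne_two hp2
  set C := (move α).ker with hC
  have hrange : (move α).range ≤ C := by
    rintro _ ⟨w, rfl⟩
    rw [hC, mem_ker_move, move_apply, map_div, ← MulAut.mul_apply, hα, MulAut.one_apply]
    rw [div_eq_mul_inv, div_eq_mul_inv, inv_eq_of_mul_eq_one_right (hexp w),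
      inv_eq_of_mul_eq_one_right (hexp (α w)), mul_comm]
  have h1 : C.index ≤ Nat.card C := by
    rw [hC, index_ker]
    exact card_le_of_le hrange
  obtain ⟨k, hk⟩ := hodd
  -- `α x` is conjugate to `α` by a power of `x`.
  set σ := x ^ k with hσ
  have hax : α * x = σ * α * σ⁻¹ := by
    have h2 : σ * α = α * σ⁻¹ := by
      have := (hσ ▸ (conj_pow (a := α) (b := x) (i := k)).symm : α * σ * α⁻¹ = (α * x * α⁻¹) ^ k)
      rw [hinv, inv_pow, ← hσ, hαi] at this
      have h3 := congrArg (α * ·) this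
      simp only [← mul_assoc, hα, one_mul] at h3
      exact h3
    rw [h2, mul_assoc, ← mul_inv_rev, hσ, ← pow_add]
    congr 1
    rw [eq_inv_iff_mul_eq_one, ← pow_succ', show k + k + 1 = p by omega, hx]
  have hcard : Nat.card (move (α * x)).ker = Nat.card C := by
    refine Nat.card_congr
      { toFun := fun w => ⟨σ⁻¹ w.1, ?_⟩
        invFun := fun w => ⟨σ w.1, ?_⟩
        left_inv := fun w => Subtype.ext (by simp)
        right_inv := fun w => Subtype.ext (by simp) }
    · have := mem_ker_move.1 w.2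
      rw [hC, mem_ker_move]
      have h2 : (σ * α * σ⁻¹) w.1 = w.1 := (DFunLike.congr_fun hax w.1).symm.trans this
      rw [MulAut.mul_apply, MulAut.mul_apply] at h2
      conv_rhs => rw [← h2]
      simp
    · have := mem_ker_move.1 w.2
      rw [mem_ker_move, hax]
      simp only [MulAut.mul_apply, MulAut.inv_apply_self, this]
  have hint : C ⊓ (move (α * x)).ker = ⊥ := by
    rw [eq_bot_iff]
    intro w hw
    refine mem_bot.2 (hfree w ?_)
    have h2 := mem_ker_move.1 hw.2
    rw [MulAut.mul_apply] at h2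
    have h3 := congrArg α h2
    rwa [← MulAut.mul_apply, hα, MulAut.one_apply, mem_ker_move.1 hw.1] at h3
  have h2 : Nat.card C ≤ C.index := by
    refine Nat.le_of_mul_le_mul_left ?_ (Nat.card_pos (α := C))
    rw [Subgroup.card_mul_index]
    calc Nat.card C * Nat.card C = Nat.card (C × (move (α * x)).ker) := by
          rw [Nat.card_prod, hcard]
      _ ≤ Nat.card W := by
          refine Nat.card_le_card_of_injective (fun z => (z.1 : W) * z.2) fun z z' h => ?_
          have hd : (z.1 : W) / z'.1 ∈ C ⊓ (move (α * x)).ker := ⟨C.div_mem z.1.2 z'.1.2, by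
            have : (z.1 : W) / z'.1 = z'.2 / z.2 := div_eq_div_iff_mul_eq_mul.2 (by
              simpa [mul_comm] using h)
            rw [this]
            exact Subgroup.div_mem _ z'.2.2 z.2.2⟩
          rw [hint, mem_bot, div_eq_one] at hd
          refine Prod.ext (Subtype.ext hd) (Subtype.ext ?_)
          simpa [hd] using h
  refine ⟨le_antisymm h1 h2, fun hW => ?_⟩
  have hxp : IsPGroup p ↥(zpowers x) := fun g => ⟨1, Subtype.ext (by
    obtain ⟨i, hi⟩ := mem_zpowers_iff.1 g.2
    rw [pow_one, SubmonoidClass.coe_pow, ← hi, ← zpow_natCast, ← zpow_mul, mul_comm, zpow_mul,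
      zpow_natCast, hx, one_zpow]
    rfl)⟩
  have h3 := hxp.card_modEq_card_fixedPoints W
  have hfp : MulAction.fixedPoints ↥(zpowers x) W = {1} := by
    ext w
    refine ⟨fun h => hfree w (h ⟨x, mem_zpowers x⟩), fun h g => ?_⟩
    rw [Set.mem_singleton_iff.1 h]
    exact map_one (g : MulAut W)
  rw [hfp, Nat.card_coe_set_eq, Set.ncard_singleton] at h3
  exact (Nat.modEq_iff_dvd' Nat.card_pos).1 h3.symm

/-- An involution inverting a non-trivial automorphism of odd prime order. -/
theorem exists_index_fixed (hexp : ∀ w : W, w * w = 1) {α x : MulAut W} {p : ℕ} [hp : Fact p.Prime]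
    (hp2 : p ≠ 2) (hα : α * α = 1) (hx : x ^ p = 1) (hinv : α * x * α⁻¹ = x⁻¹) (hx1 : x ≠ 1) :
    ∃ j : ℕ, 0 < j ∧ p ∣ 4 ^ j - 1 ∧ 2 ^ j ≤ (move α).ker.index := by
  have hαi : α⁻¹ = α := inv_eq_of_mul_eq_one_right hα
  set Z := (move x).ker with hZ
  have hαx : ∀ w, α (x w) = x⁻¹ (α w) := fun w => by
    rw [← MulAut.mul_apply, ← MulAut.mul_apply, ← hinv, inv_mul_cancel_right]
  have hxi : ∀ w, x w = w → x⁻¹ w = w := fun w h => by
    conv_lhs => rw [← h]
    rw [MulAut.inv_apply_self]
  have hZα : Z.map (α : W ≃* W).toMonoidHom = Z := by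
    have hle : Z.map (α : W ≃* W).toMonoidHom ≤ Z := by
      rintro _ ⟨w, hw, rfl⟩
      have hw' := mem_ker_move.1 hw
      rw [hZ, mem_ker_move]
      show x (α w) = α w
      have h := hαx w
      rw [hw'] at h
      conv_lhs => rw [h]
      rw [MulAut.apply_inv_self]
    exact eq_of_le_of_card_ge hle (by rw [card_map_of_injective (α : W ≃* W).injective])
  have hZx : Z.map (x : W ≃* W).toMonoidHom = Z := by
    have hle : Z.map (x : W ≃* W).toMonoidHom ≤ Z := by
      rintro _ ⟨w, hw, rfl⟩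
      show x w ∈ Z
      rwa [mem_ker_move.1 hw]
    exact eq_of_le_of_card_ge hle (by rw [card_map_of_injective (x : W ≃* W).injective])
  let α' : MulAut (W ⧸ Z) := QuotientGroup.congr Z Z α hZα
  let x' : MulAut (W ⧸ Z) := QuotientGroup.congr Z Z x hZx
  have hα' : ∀ w : W, α' (w : W ⧸ Z) = ((α w : W) : W ⧸ Z) := fun w => rfl
  have hx' : ∀ w : W, x' (w : W ⧸ Z) = ((x w : W) : W ⧸ Z) := fun w => rfl
  have hx'i : ∀ w : W, x'⁻¹ (w : W ⧸ Z) = ((x⁻¹ w : W) : W ⧸ Z) := fun w => by
    apply x'.injective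
    rw [MulAut.apply_inv_self, hx', MulAut.apply_inv_self]
  have hx'n : ∀ (n : ℕ) (w : W), (x' ^ n) (w : W ⧸ Z) = (((x ^ n) w : W) : W ⧸ Z) := by
    intro n
    induction n with
    | zero => intro w; rfl
    | succ n ih => intro w; rw [pow_succ, MulAut.mul_apply, hx', ih, pow_succ, MulAut.mul_apply]
  have hexp' : ∀ q : W ⧸ Z, q * q = 1 := fun q => by
    induction q using QuotientGroup.induction_on with
    | H w => rw [← QuotientGroup.mk_mul, hexp]; rfl
  have hfree : ∀ q : W ⧸ Z, x' q = q → q = 1 := by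
    intro q hq
    induction q using QuotientGroup.induction_on with
    | H w =>
      rw [hx', QuotientGroup.eq_iff_div_mem, ← move_apply, hZ, mem_ker_move] at hq
      rw [QuotientGroup.eq_one_iff, hZ, MonoidHom.mem_ker]
      exact eq_one_of_move_fixed hexp (hp.out.odd_of_ne_two hp2) hx hq
  obtain ⟨hidx, hdvd⟩ := card_fixed_free (α := α') (x := x') hexp' hp2
    (MulEquiv.ext fun q => by
      induction q using QuotientGroup.induction_on with
      | H w => rw [MulAut.mul_apply, hα', hα', ← MulAut.mul_apply, hα]; rfl)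
    (MulEquiv.ext fun q => by
      induction q using QuotientGroup.induction_on with
      | H w => rw [hx'n, hx]; rfl)
    (mul_inv_eq_iff_eq_mul.2 (MulEquiv.ext fun q => by
      induction q using QuotientGroup.induction_on with
      | H w => rw [MulAut.mul_apply, MulAut.mul_apply, hx', hα', hα', hx'i, hαx]))
    hfree
  have hne : Nat.card (W ⧸ Z) ≠ 1 := by
    intro h
    rw [← index, index_eq_one] at h
    exact hx1 (MulEquiv.ext fun w => by
      rw [MulAut.one_apply]
      exact mem_ker_move.1 (hZ ▸ h ▸ mem_top w))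
  set D := (move α').ker with hD
  have hcW : Nat.card (W ⧸ Z) = D.index * D.index := by
    rw [← Subgroup.card_mul_index D, ← hidx]
  have hle : D.index ≤ (move α).ker.index := by
    rw [← index_comap_of_surjective D (QuotientGroup.mk'_surjective Z)]
    refine Nat.le_of_dvd (Nat.pos_of_ne_zero FiniteIndex.index_ne_zero) (index_dvd_of_le ?_)
    intro w hw
    rw [mem_comap, hD, mem_ker_move, QuotientGroup.mk'_apply, hα', mem_ker_move.1 hw]
  obtain ⟨j, hj⟩ : ∃ j, D.index = 2 ^ j := by
    have hp2g : IsPGroup 2 (W ⧸ Z) := fun q => ⟨1, by rw [pow_one, pow_two, hexp']⟩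
    have : Fact (Nat.Prime 2) := ⟨Nat.prime_two⟩
    obtain ⟨n, hn⟩ := IsPGroup.iff_card.1 hp2g
    obtain ⟨j, -, hj⟩ := (Nat.dvd_prime_pow Nat.prime_two).1 (hn ▸ D.index_dvd_card)
    exact ⟨j, hj⟩
  refine ⟨j, ?_, ?_, hj ▸ hle⟩
  · rcases Nat.eq_zero_or_pos j with rfl | h
    · exact absurd (by rw [hcW, hj, pow_zero, one_mul]) hne
    · exact h
  · have := hdvd hne
    rwa [hcW, hj, ← mul_pow] at this

end pair

section action

variable {G : Type u} [Group G] {V : Type v} [CommGroup V] [MulDistribMulAction G V]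

/-- The commutator `[V, A]`. -/
def comm (V : Type v) [CommGroup V] [MulDistribMulAction G V] (A : Subgroup G) : Subgroup V :=
  closure {v | ∃ a ∈ A, ∃ w : V, a • w / w = v}

theorem smul_div_mem_comm {A : Subgroup G} {a : G} (ha : a ∈ A) (w : V) : a • w / w ∈ comm V A :=
  subset_closure ⟨a, ha, w, rfl⟩

theorem comm_le_iff {A : Subgroup G} {M : Subgroup V} :
    comm V A ≤ M ↔ ∀ a ∈ A, ∀ w : V, a • w / w ∈ M :=
  ⟨fun h _ ha w => h (smul_div_mem_comm ha w), fun h => (closure_le M).2 (by
    rintro _ ⟨a, ha, w, rfl⟩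
    exact h a ha w)⟩

theorem smul_mem_comm {B : Subgroup G} {g : G} (hg : ∀ b ∈ B, g * b = b * g) {v : V}
    (hv : v ∈ comm V B) : g • v ∈ comm V B := by
  refine (show comm V B ≤ (comm V B).comap (MulDistribMulAction.toMonoidHom V g) from
    comm_le_iff.2 fun b hb w => ?_) hv
  show g • (b • w / w) ∈ comm V B
  rw [smul_div', ← mul_smul, hg b hb, mul_smul]
  exact smul_div_mem_comm hb _

variable [Finite G] [Finite V]

/-- A 2-group acting on a non-trivial exponent-two group fixes a non-identity point. -/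
theorem exists_ne_one_fixed {B : Subgroup G} (hB : IsPGroup 2 B) (hexp : ∀ v : V, v * v = 1)
    {M : Subgroup V} (hM : M ≠ ⊥) (hinv : ∀ b ∈ B, ∀ m ∈ M, b • m ∈ M) :
    ∃ m ∈ M, m ≠ 1 ∧ ∀ b ∈ B, b • m = m := by
  have : Fact (Nat.Prime 2) := ⟨Nat.prime_two⟩
  letI : MulAction ↥B ↥M :=
    { smul := fun b m => ⟨(b : G) • (m : V), hinv b b.2 m m.2⟩
      one_smul := fun m => Subtype.ext (one_smul G (m : V))
      mul_smul := fun b c m => Subtype.ext (mul_smul (b : G) (c : G) (m : V)) }
  obtain ⟨m, hm, hm1⟩ : ∃ m : M, m ∈ MulAction.fixedPoints ↥B ↥M ∧ (1 : M) ≠ m := by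
    refine hB.exists_fixed_point_of_prime_dvd_card_of_fixed_point M ?_ (a := (1 : M)) ?_
    · obtain ⟨n, hn⟩ := (IsPGroup.iff_card (p := 2) (G := M)).1
        (fun m => ⟨1, Subtype.ext (by rw [pow_one, SubmonoidClass.coe_pow, pow_two, hexp]; rfl)⟩)
      rcases n with _ | n
      · exact absurd (Subgroup.card_eq_one.1 (by simpa using hn)) hM
      · exact hn ▸ dvd_pow_self 2 n.succ_ne_zero
    · exact fun b => Subtype.ext (smul_one (b : G))
  exact ⟨m, m.2, fun h => hm1 (Subtype.ext h.symm), fun b hb => congrArg Subtype.val (hm ⟨b, hb⟩)⟩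

theorem eq_bot_of_le_comm {B : Subgroup G} (hB : IsPGroup 2 B) (hexp : ∀ v : V, v * v = 1)
    {M : Subgroup V} (hinv : ∀ b ∈ B, ∀ m ∈ M, b • m ∈ M)
    (hle : M ≤ closure {v | ∃ b ∈ B, ∃ m ∈ M, b • m / m = v}) : M = ⊥ := by
  by_contra hM
  -- a maximal proper invariant subgroup of `M`
  obtain ⟨U, ⟨hUM, hUinv⟩, hmax⟩ :=
    (Set.toFinite {U : Subgroup V | U < M ∧ ∀ b ∈ B, ∀ m ∈ U, b • m ∈ U}).exists_maximal
      ⟨⊥, bot_lt_iff_ne_bot.2 hM, fun b _ m hm => by rw [mem_bot.1 hm, smul_one]; exact one_mem _⟩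
  letI : MulDistribMulAction ↥B (V ⧸ U) :=
    { smul := fun b => QuotientGroup.map U U (MulDistribMulAction.toMonoidHom V (b : G))
        (fun u hu => hUinv b b.2 u hu)
      one_smul := fun q => by
        induction q using QuotientGroup.induction_on with
        | H v => exact congrArg QuotientGroup.mk (one_smul G v)
      mul_smul := fun b c q => by
        induction q using QuotientGroup.induction_on with
        | H v => exact congrArg QuotientGroup.mk (mul_smul (b : G) (c : G) v)
      smul_mul := fun b => map_mul _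
      smul_one := fun b => map_one _ }
  obtain ⟨q, hq, hq1, hqf⟩ := exists_ne_one_fixed (G := ↥B) (V := V ⧸ U) (B := ⊤)
    (hB.of_equiv Subgroup.topEquiv.symm)
    (fun q => by
      induction q using QuotientGroup.induction_on with
      | H v => rw [← QuotientGroup.mk_mul, hexp]; rfl)
    (M := M.map (QuotientGroup.mk' U)) (by
      rw [Ne, Subgroup.map_eq_bot_iff, QuotientGroup.ker_mk']
      exact hUM.not_ge)
    (fun b _ q hq => by
      obtain ⟨m, hm, rfl⟩ := hq
      exact ⟨(b : G) • m, hinv b b.2 m hm, rfl⟩)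
  obtain ⟨m, hm, rfl⟩ := hq
  -- the points of `M` fixed modulo `U`
  let T : Subgroup V :=
    { carrier := {v | v ∈ M ∧ ∀ b ∈ B, b • v / v ∈ U}
      one_mem' := ⟨one_mem _, fun b _ => by simp⟩
      mul_mem' := fun {v w} hv hw => ⟨mul_mem hv.1 hw.1, fun b hb => by
        rw [smul_mul', mul_div_mul_comm]; exact mul_mem (hv.2 b hb) (hw.2 b hb)⟩
      inv_mem' := fun {v} hv => ⟨inv_mem hv.1, fun b hb => by
        rw [smul_inv', inv_div_inv, ← inv_div]; exact inv_mem (hv.2 b hb)⟩ }
  have hUT : U ≤ T := fun u hu => ⟨hUM.le hu, fun b hb => div_mem (hUinv b hb u hu) hu⟩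
  have hmT : m ∈ T := ⟨hm, fun b hb => by
    have := hqf ⟨b, hb⟩ (mem_top _)
    exact QuotientGroup.eq_iff_div_mem.1 this⟩
  have hTinv : ∀ b ∈ B, ∀ v ∈ T, b • v ∈ T := fun b hb v hv => by
    have h := mul_mem (hUT (hv.2 b hb)) hv
    rwa [div_mul_cancel] at h
  have hTM : T = M := by
    by_contra hne
    refine hq1 ((QuotientGroup.eq_one_iff m).2 ?_)
    have := hmax ⟨lt_of_le_of_ne (fun v (hv : v ∈ T) => hv.1) hne, hTinv⟩ hUT
    exact this hmT
  refine hUM.not_ge (hle.trans ((closure_le U).2 ?_))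
  rintro _ ⟨b, hb, v, hv, rfl⟩
  exact (hTM.symm ▸ hv : v ∈ T).2 b hb

/-- One step: an inverted element commuting with `B`. -/
theorem step (hexp : ∀ v : V, v * v = 1) (hfaith : ∀ g : G, (∀ v : V, g • v = v) → g = 1)
    {A B : Subgroup G} (hA : IsElem A) (hBA : B ≤ A) {a x : G} (ha : a ∈ A) {p : ℕ}
    [hp : Fact p.Prime] (hp2 : p ≠ 2) (hxo : orderOf x = p) (hinv : a * x * a⁻¹ = x⁻¹)
    (hxB : ∀ b ∈ B, x * b = b * x) :
    (∃ j, 0 < j ∧ p ∣ 4 ^ j - 1 ∧
      2 ^ j * Nat.card (fix A : Subgroup V) ≤ Nat.card (fix B : Subgroup V)) ∧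
    (∃ j, 0 < j ∧ p ∣ 4 ^ j - 1 ∧ 2 ^ j * Nat.card (comm V B) ≤ Nat.card (comm V A)) := by
  have hodd := hp.out.odd_of_ne_two hp2
  have hB2 : IsPGroup 2 B := fun b => ⟨1, Subtype.ext (by
    rw [pow_one, SubmonoidClass.coe_pow, pow_two]; exact hA.2 b (hBA b.2))⟩
  have hxp : x ^ p = 1 := by rw [← hxo, pow_orderOf_eq_one]
  have haB : ∀ b ∈ B, a * b = b * a := fun b hb => hA.1 a ha b (hBA hb)
  -- the image of `v ↦ x v / v` has no non-trivial fixed point of `x`
  let ξ : MulAut V := MulDistribMulAction.toMulAut G V x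
  have hξp : ξ ^ p = 1 := by rw [← map_pow, hxp, map_one]
  set E := (move ξ).range with hE
  have hEne : E ≠ ⊥ := by
    intro h
    have : x = 1 := hfaith x fun v => by
      have hv : move ξ v ∈ E := ⟨v, rfl⟩
      rw [h, mem_bot, move_apply, div_eq_one] at hv
      exact hv
    rw [this, orderOf_one] at hxo
    exact hp.out.ne_one hxo.symm
  have hEfree : ∀ v ∈ E, x • v = v → v = 1 := by
    rintro _ ⟨w, rfl⟩ h
    exact eq_one_of_move_fixed hexp hodd hξp h
  have heq : ∀ b ∈ B, ∀ w : V, b • move ξ w = move ξ (b • w) := fun b hb w => by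
    show b • (x • w / w) = x • (b • w) / b • w
    rw [smul_div', ← mul_smul, ← mul_smul, hxB b hb]
  have hEB : ∀ b ∈ B, ∀ v ∈ E, b • v ∈ E := by
    rintro b hb _ ⟨w, rfl⟩
    exact ⟨b • w, (heq b hb w).symm⟩
  constructor
  · -- fixed points of `B`
    obtain ⟨v, hvE, hv1, hvB⟩ := exists_ne_one_fixed hB2 hexp hEne hEB
    set Y : Subgroup V := fix B with hY
    have hYinv : ∀ g : G, (∀ b ∈ B, g * b = b * g) → ∀ y ∈ Y, g • y ∈ Y := fun g hg y hy b hb => by
      rw [← mul_smul, ← hg b hb, mul_smul, hy b hb]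
    have hcen : ∀ g ∈ centralizer (B : Set G), ∀ y ∈ Y, g • y ∈ Y := fun g hg y hy =>
      hYinv g (fun b hb => (hg b hb).symm) y hy
    letI : MulDistribMulAction ↥(centralizer (B : Set G)) ↥Y :=
      { smul := fun g y => ⟨(g : G) • (y : V), hcen g g.2 y y.2⟩
        one_smul := fun y => Subtype.ext (one_smul G (y : V))
        mul_smul := fun g h y => Subtype.ext (mul_smul (g : G) (h : G) (y : V))
        smul_mul := fun g y z => Subtype.ext (smul_mul' (g : G) (y : V) (z : V))
        smul_one := fun g => Subtype.ext (smul_one (g : G)) }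
    let x₀ : ↥(centralizer (B : Set G)) := ⟨x, fun b hb => (hxB b hb).symm⟩
    let a₀ : ↥(centralizer (B : Set G)) := ⟨a, fun b hb => (haB b hb).symm⟩
    let f := MulDistribMulAction.toMulAut ↥(centralizer (B : Set G)) ↥Y
    obtain ⟨j, hj, hjd, hjle⟩ := exists_index_fixed (W := ↥Y) (α := f a₀) (x := f x₀)
      (fun y => Subtype.ext (hexp y)) hp2
      (by rw [← map_mul, show a₀ * a₀ = 1 from Subtype.ext (hA.2 a ha), map_one])
      (by rw [← map_pow, show x₀ ^ p = 1 from Subtype.ext (by simpa using hxp), map_one])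
      (by rw [← map_inv, ← map_mul, ← map_mul, ← map_inv,
        show a₀ * x₀ * a₀⁻¹ = x₀⁻¹ from Subtype.ext hinv])
      (fun h => hv1 (hEfree v hvE (congrArg Subtype.val
        (DFunLike.congr_fun h (⟨v, hvB⟩ : ↥Y) : f x₀ ⟨v, hvB⟩ = (1 : MulAut ↥Y) ⟨v, hvB⟩))))
    refine ⟨j, hj, hjd, ?_⟩
    have hle : Nat.card (fix A : Subgroup V) ≤ Nat.card (move (f a₀)).ker :=
      Nat.card_le_card_of_injective
        (fun y => ⟨⟨y.1, fix_anti' hBA y.2⟩, mem_ker_move.2 (Subtype.ext (y.2 a ha))⟩)
        fun y z h => Subtype.ext (congrArg (fun w => (w.1.1 : V)) h)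
    calc 2 ^ j * Nat.card (fix A : Subgroup V)
        ≤ (move (f a₀)).ker.index * Nat.card (move (f a₀)).ker := Nat.mul_le_mul hjle hle
      _ = Nat.card ↥Y := by rw [mul_comm, card_mul_index]
  · -- `V / [V, B]`
    set U : Subgroup V := comm V B with hU
    have hUinv : ∀ g ∈ centralizer (B : Set G), ∀ u ∈ U, g • u ∈ U := fun g hg u hu =>
      smul_mem_comm (fun b hb => (hg b hb).symm) hu
    letI : MulDistribMulAction ↥(centralizer (B : Set G)) (V ⧸ U) :=
      { smul := fun g => QuotientGroup.map U U (MulDistribMulAction.toMonoidHom V (g : G))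
          (fun u hu => hUinv g g.2 u hu)
        one_smul := fun q => by
          induction q using QuotientGroup.induction_on with
          | H w => exact congrArg QuotientGroup.mk (one_smul G w)
        mul_smul := fun g h q => by
          induction q using QuotientGroup.induction_on with
          | H w => exact congrArg QuotientGroup.mk (mul_smul (g : G) (h : G) w)
        smul_mul := fun g => map_mul _
        smul_one := fun g => map_one _ }
    let x₀ : ↥(centralizer (B : Set G)) := ⟨x, fun b hb => (hxB b hb).symm⟩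
    let a₀ : ↥(centralizer (B : Set G)) := ⟨a, fun b hb => (haB b hb).symm⟩
    let f := MulDistribMulAction.toMulAut ↥(centralizer (B : Set G)) (V ⧸ U)
    have hexp' : ∀ q : V ⧸ U, q * q = 1 := fun q => by
      induction q using QuotientGroup.induction_on with
      | H w => rw [← QuotientGroup.mk_mul, hexp]; rfl
    obtain ⟨j, hj, hjd, hjle⟩ := exists_index_fixed (W := V ⧸ U) (α := f a₀) (x := f x₀) hexp' hp2
      (by rw [← map_mul, show a₀ * a₀ = 1 from Subtype.ext (hA.2 a ha), map_one])
      (by rw [← map_pow, show x₀ ^ p = 1 from Subtype.ext (by simpa using hxp), map_one])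
      (by rw [← map_inv, ← map_mul, ← map_mul, ← map_inv,
        show a₀ * x₀ * a₀⁻¹ = x₀⁻¹ from Subtype.ext hinv])
      (fun h => by
        have hEU : E ≤ U := by
          rintro _ ⟨w, rfl⟩
          exact QuotientGroup.eq_iff_div_mem.1 (DFunLike.congr_fun h (w : V ⧸ U))
        refine hEne (eq_bot_of_le_comm hB2 hexp hEB ?_)
        rintro e ⟨w, rfl⟩
        -- `e` is the image of some element of `E`, as `x` has odd order
        have hinj : Function.Injective fun z : E => (⟨move ξ z.1, ⟨z.1, rfl⟩⟩ : E) := by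
          intro z z' hzz
          have h1 : move ξ (z.1 / z'.1) = 1 := by
            have h2 : move ξ z.1 = move ξ z'.1 := congrArg Subtype.val hzz
            rw [map_div, h2, div_self']
          have hzE : z.1 / z'.1 ∈ E := div_mem z.2 z'.2
          rw [move_apply, div_eq_one] at h1
          exact Subtype.ext (div_eq_one.1 (hEfree _ hzE h1))
        obtain ⟨z, hz⟩ := Finite.surjective_of_injective hinj ⟨move ξ w, ⟨w, rfl⟩⟩
        have h5 : move ξ z.1 = move ξ w := congrArg Subtype.val hz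
        rw [← h5]
        have hmap : U ≤ (closure {v | ∃ b ∈ B, ∃ m ∈ E, b • m / m = v}).comap (move ξ) :=
          comm_le_iff.2 fun b hb u => by
            rw [mem_comap, map_div, ← heq b hb]
            exact subset_closure ⟨b, hb, move ξ u, ⟨u, rfl⟩, rfl⟩
        exact hmap (hEU z.2))
    refine ⟨j, hj, hjd, ?_⟩
    set q := QuotientGroup.mk' U
    have hle : Nat.card (move (f a₀)).range ≤ Nat.card ((comm V A).map q) := by
      refine card_le_of_le ?_
      rintro _ ⟨w, rfl⟩
      induction w using QuotientGroup.induction_on with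
      | H w => exact ⟨a • w / w, smul_div_mem_comm ha w, rfl⟩
    have hUA : U ≤ comm V A := closure_mono fun v hv => by
      obtain ⟨b, hb, w, rfl⟩ := hv
      exact ⟨b, hBA hb, w, rfl⟩
    calc 2 ^ j * Nat.card ↥U ≤ Nat.card ((comm V A).map q) * Nat.card ↥U := by
          refine Nat.mul_le_mul_right _ (hjle.trans ?_)
          rwa [index_ker]
      _ = Nat.card (comm V A) := by
          rw [show Nat.card ((comm V A).map q) = U.relIndex (comm V A) by
              rw [← relIndex_ker, QuotientGroup.ker_mk'], mul_comm, ← relIndex_bot_left,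
            relIndex_mul_relIndex _ _ _ bot_le hUA, relIndex_bot_left]
where
  fix_anti' {A B : Subgroup G} (h : B ≤ A) {v : V} (hv : v ∈ (fix A : Subgroup V)) :
      v ∈ (fix B : Subgroup V) := fun b hb => hv b (h hb)

/-- Every elementary abelian 2-subgroup has an inverted element of large order for `2`. -/
def HasSplit (G : Type u) [Group G] : Prop :=
  ∀ A : Subgroup G, IsElem A → A ≠ ⊥ → ∃ B ≤ A, ∃ a ∈ A, ∃ x : G, ∃ p : ℕ,
    p.Prime ∧ p ≠ 2 ∧ orderOf x = p ∧ a * x * a⁻¹ = x⁻¹ ∧ (∀ b ∈ B, x * b = b * x) ∧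
    ∀ j : ℕ, 0 < j → p ∣ 4 ^ j - 1 → Nat.card A ^ 2 ≤ 2 ^ j * Nat.card B ^ 2

theorem bounds (hexp : ∀ v : V, v * v = 1) (hfaith : ∀ g : G, (∀ v : V, g • v = v) → g = 1)
    (hsplit : HasSplit G) {A : Subgroup G} (hA : IsElem A) :
    Nat.card A ^ 2 * Nat.card (fix A : Subgroup V) ≤ Nat.card V ∧
      Nat.card A ^ 2 ≤ Nat.card (comm V A) := by
  induction hn : Nat.card A using Nat.strong_induction_on generalizing A with
  | _ n ih =>
    subst hn
    by_cases hA1 : A = ⊥
    · subst hA1
      simp only [card_bot, one_pow, one_mul]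
      exact ⟨card_le_card_group _, Nat.card_pos⟩
    obtain ⟨B, hBA, a, ha, x, p, hp, hp2, hxo, hinv, hxB, hsize⟩ := hsplit A hA hA1
    have : Fact p.Prime := ⟨hp⟩
    have hlt : B < A := by
      refine lt_of_le_of_ne hBA fun h => ?_
      have hc := hxB a (h ▸ ha)
      rw [← hc, mul_inv_cancel_right] at hinv
      have : x ^ 2 = 1 := by rw [pow_two]; exact eq_inv_iff_mul_eq_one.1 hinv
      have := orderOf_dvd_of_pow_eq_one this
      rw [hxo, Nat.prime_dvd_prime_iff_eq hp Nat.prime_two] at this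
      exact hp2 this
    have hBe : IsElem B := ⟨fun s hs t ht => hA.1 s (hBA hs) t (hBA ht), fun s hs => hA.2 s (hBA hs)⟩
    obtain ⟨h1, h2⟩ := ih _ (Set.ncard_lt_ncard (SetLike.coe_ssubset_coe.2 hlt) (Set.toFinite _))
      hBe rfl
    obtain ⟨⟨i, hi, hid, hile⟩, ⟨j, hj, hjd, hjle⟩⟩ :=
      step hexp hfaith hA hBA ha hp2 hxo hinv hxB (V := V)
    constructor
    · calc Nat.card A ^ 2 * Nat.card (fix A : Subgroup V)
          ≤ 2 ^ i * Nat.card B ^ 2 * Nat.card (fix A : Subgroup V) :=
            Nat.mul_le_mul_right _ (hsize i hi hid)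
        _ = Nat.card B ^ 2 * (2 ^ i * Nat.card (fix A : Subgroup V)) := by ring
        _ ≤ Nat.card B ^ 2 * Nat.card (fix B : Subgroup V) := Nat.mul_le_mul_left _ hile
        _ ≤ Nat.card V := h1
    · calc Nat.card A ^ 2 ≤ 2 ^ j * Nat.card B ^ 2 := hsize j hj hjd
        _ ≤ 2 ^ j * Nat.card (comm V B) := Nat.mul_le_mul_left _ h2
        _ ≤ Nat.card (comm V A) := hjle

end action

end Cfsg.Agent.CharP.InvertedBound
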