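import Mathlib

/-!
Inverted elements of prime order from inverted elements in a component and its conjugates.
-/

set_option autoImplicit false
set_option linter.unusedSectionVars false

namespace Cfsg.Agent.CharP.InvertedElement

open Subgroup

universe u

variable {G : Type u} [Group G] [Finite G]

/-- A prime divisor of the order of an element gives a power of that order with the same commutation and
inversion properties. -/
theorem exists_prime_power {a x : G} {q : ℕ} (hqx : q ∣ orderOf x)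
    (hinv : a * x * a⁻¹ = x⁻¹) : ∃ e : ℕ, orderOf (x ^ e) = q ∧ a * x ^ e * a⁻¹ = (x ^ e)⁻¹ := by
  refine ⟨orderOf x / q, orderOf_pow_orderOf_div (orderOf_pos x).ne' hqx, ?_⟩
  rw [← conj_pow, hinv, inv_pow]

/-- Every element has a power which is a `q`-element with the same image under a homomorphism onto an
element of order `q`. -/
theorem exists_qElement {K : Type*} [Group K] (ψ : G →* K) {q : ℕ} (hq : q.Prime) {y : G}
    (h : orderOf (ψ y) = q) : ∃ (c k : ℕ), orderOf (ψ (y ^ c)) = q ∧ (y ^ c) ^ q ^ k = 1 := by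
  obtain ⟨k, c, hc, hk⟩ := Nat.exists_eq_pow_mul_and_not_dvd (orderOf_pos y).ne' q hq.ne_one
  refine ⟨c, k, ?_, ?_⟩
  · rw [map_pow, orderOf_pow' _ (fun e => hc (by rw [e]; exact dvd_zero q)), h,
      Nat.Coprime.gcd_eq_one (hq.coprime_iff_not_dvd.2 hc), Nat.div_one]
  · rw [← pow_mul, mul_comm, ← hk, pow_orderOf_eq_one]

/-- A conjugation-invariant abelian situation: symmetrising an element of the preimage. -/
theorem exists_fixed {K : Type*} [Group K] {L : Subgroup G} (ψ : ↥L →* K)
    (hker : ψ.ker = center ↥L) {A : Subgroup G} (hexp : ∀ b ∈ A, b * b = 1)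
    (hAL : A ≤ normalizer (L : Set G)) {q : ℕ} [hq : Fact q.Prime] (hq2 : q ≠ 2) {a : G}
    (ha : a * a = 1) (haL : a ∈ normalizer (L : Set G)) (hac : ∀ b ∈ A, a * b = b * a)
    {y : ↥L} (hy : orderOf (ψ y) = q) {k : ℕ} (hyk : y ^ q ^ k = 1)
    (hA : ∀ b ∈ A, ∀ z : ↥L, (z : G) = b * y * b⁻¹ → ψ z = ψ y)
    (hainv : ∀ z : ↥L, (z : G) = a * y * a⁻¹ → ψ z = (ψ y)⁻¹) :
    ∃ x : ↥L, orderOf (ψ x) = q ∧ (x : G) ^ q ^ k = 1 ∧ a * x * a⁻¹ = (x : G)⁻¹ ∧
      ∀ b ∈ A, (x : G) * b = b * x := by
  classical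
  have hodd := hq.out.odd_of_ne_two hq2
  -- elements with the same image up to a power commute
  have hcomm : ∀ u v : ↥L, (∃ i : ℤ, ψ v = ψ u ^ i) → u * v = v * u := by
    rintro u v ⟨i, hi⟩
    have hm : (u ^ i)⁻¹ * v ∈ center ↥L := by
      rw [← hker, MonoidHom.mem_ker, map_mul, map_inv, map_zpow, hi, inv_mul_cancel]
    have h2 := mem_center_iff.1 hm u
    calc u * v = u * (u ^ i * ((u ^ i)⁻¹ * v)) := by rw [mul_inv_cancel_left]
      _ = u ^ i * (u * ((u ^ i)⁻¹ * v)) := by
          rw [← mul_assoc, ← mul_assoc (u ^ i), (Commute.self_zpow u i).eq]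
      _ = u ^ i * ((u ^ i)⁻¹ * v) * u := by rw [h2]; simp only [mul_assoc]
      _ = v * u := by rw [mul_inv_cancel_left]
  have hmem : ∀ g ∈ normalizer (L : Set G), ∀ z : ↥L, g * (z : G) * g⁻¹ ∈ L := fun g hg z =>
    (mem_normalizer_iff.1 hg z).1 z.2
  let cj : ∀ g ∈ normalizer (L : Set G), ↥L → ↥L := fun g hg z => ⟨g * z * g⁻¹, hmem g hg z⟩
  have hψcj : ∀ g (hg : g ∈ normalizer (L : Set G)) (u v : ↥L), ψ u = ψ v →
      ψ (cj g hg u) = ψ (cj g hg v) := by
    intro g hg u v huv
    have hm : u⁻¹ * v ∈ center ↥L := by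
      rw [← hker, MonoidHom.mem_ker, map_mul, map_inv, huv, inv_mul_cancel]
    have hm' : cj g hg (u⁻¹ * v) ∈ center ↥L := by
      refine mem_center_iff.2 fun w => Subtype.ext ?_
      have h2 := congrArg Subtype.val (mem_center_iff.1 hm (cj g⁻¹ (inv_mem hg) w))
      simp only [Subgroup.coe_mul, cj, inv_inv] at h2 ⊢
      calc (w : G) * (g * (((u⁻¹ : ↥L) : G) * v) * g⁻¹)
          = g * ((g⁻¹ * w * g) * (((u⁻¹ : ↥L) : G) * v)) * g⁻¹ := by group
        _ = g * ((((u⁻¹ : ↥L) : G) * v) * (g⁻¹ * w * g)) * g⁻¹ := by rw [h2]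
        _ = _ := by group
    rw [← hker, MonoidHom.mem_ker] at hm'
    have he : cj g hg v = cj g hg u * cj g hg (u⁻¹ * v) := Subtype.ext (by
      simp [cj, mul_assoc])
    rw [he, map_mul, hm', mul_one]
  have hpow : ∀ g (hg : g ∈ normalizer (L : Set G)) (u : ↥L) (n : ℕ), cj g hg (u ^ n) = cj g hg u ^ n :=
    fun g hg u n => Subtype.ext (by simp [cj, conj_pow])
  -- invariant
  have key : ∀ (l : List G), (∀ b ∈ l, b ∈ A) → ∃ (u : ↥L) (n : ℕ), orderOf (ψ u) = q ∧
      u ^ q ^ k = 1 ∧ ψ u = ψ y ^ n ∧ ∀ b ∈ l, (u : G) * b = b * u := by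
    intro l
    induction l with
    | nil => exact fun _ => ⟨y, 1, hy, hyk, (pow_one _).symm, by simp⟩
    | cons b l ih =>
      intro hl
      have hb : b ∈ A := hl b (List.mem_cons_self)
      obtain ⟨u, n, huo, huk, hun, hufix⟩ := ih fun c hc => hl c (List.mem_cons_of_mem _ hc)
      set v := cj b (hAL hb) u with hv
      have hψv : ψ v = ψ u := by
        rw [hv, hψcj b (hAL hb) u (y ^ n) (by rw [map_pow, hun]), hpow b (hAL hb), map_pow,
          hA b hb _ rfl, hun]
      have huv : u * v = v * u := hcomm u v ⟨1, by rw [zpow_one, hψv]⟩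
      refine ⟨u * v, n + n, ?_, ?_, ?_, ?_⟩
      · rw [map_mul, hψv, ← pow_two, orderOf_pow' _ two_ne_zero, huo,
          Nat.Coprime.gcd_eq_one (Nat.coprime_two_right.2 hodd), Nat.div_one]
      · rw [(show Commute u v from huv).mul_pow, huk, hv, ← hpow b (hAL hb), huk, one_mul]
        exact Subtype.ext (by simp [cj])
      · rw [map_mul, hψv, hun, pow_add]
      · intro c hc
        have hbb := hexp b hb
        have hbi : b⁻¹ = b := inv_eq_of_mul_eq_one_right hbb
        have huv' : (u : G) * (b * u * b⁻¹) = b * u * b⁻¹ * u := congrArg Subtype.val huv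
        rcases List.mem_cons.1 hc with rfl | hc'
        · show (u : G) * (c * u * c⁻¹) * c = c * ((u : G) * (c * u * c⁻¹))
          calc (u : G) * (c * u * c⁻¹) * c = u * c * u := by group
            _ = (c * c) * u * c⁻¹ * u := by rw [hbb, hbi, one_mul]
            _ = c * (c * u * c⁻¹ * u) := by group
            _ = c * ((u : G) * (c * u * c⁻¹)) := by rw [huv']
        · have h1 := hufix c hc'
          have hbc : b * c = c * b := by
            have h := hexp (b * c) (mul_mem hb (hl c (List.mem_cons_of_mem _ hc')))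
            rw [← inv_eq_of_mul_eq_one_right h, mul_inv_rev, hbi,
              inv_eq_of_mul_eq_one_right (hexp c (hl c (List.mem_cons_of_mem _ hc')))]
          show (u : G) * (b * u * b⁻¹) * c = c * ((u : G) * (b * u * b⁻¹))
          rw [hbi]
          calc (u : G) * (b * u * b) * c = u * b * u * (b * c) := by group
            _ = u * b * (u * c) * b := by rw [hbc]; group
            _ = u * (b * c) * u * b := by rw [h1]; group
            _ = (u * c) * b * u * b := by rw [hbc]; group
            _ = c * u * b * u * b := by rw [h1]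
            _ = _ := by group
  obtain ⟨l, hl⟩ : ∃ l : List G, ∀ b, b ∈ l ↔ b ∈ A :=
    ⟨(A : Set G).toFinite.toFinset.toList, fun b => by simp⟩
  obtain ⟨u, n, huo, huk, hun, hufix⟩ := key l fun b hb => (hl b).1 hb
  set v := cj a haL u with hv
  have hψv : ψ v = (ψ u)⁻¹ := by
    rw [hv, hψcj a haL u (y ^ n) (by rw [map_pow, hun]), hpow a haL, map_pow, hainv _ rfl, hun, inv_pow]
  have huv : u * v⁻¹ = v⁻¹ * u := hcomm u v⁻¹ ⟨1, by rw [zpow_one, map_inv, hψv, inv_inv]⟩
  refine ⟨u * v⁻¹, ?_, ?_, ?_, ?_⟩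
  · rw [map_mul, map_inv, hψv, inv_inv, ← pow_two, orderOf_pow' _ two_ne_zero, huo,
      Nat.Coprime.gcd_eq_one (Nat.coprime_two_right.2 hodd), Nat.div_one]
  · rw [← Subgroup.coe_pow, (show Commute u v⁻¹ from huv).mul_pow, huk, inv_pow, hv, ← hpow a haL, huk, one_mul]
    simp [cj]
  · have hai : a⁻¹ = a := inv_eq_of_mul_eq_one_right ha
    simp only [hv, cj, Subgroup.coe_mul, Subgroup.coe_inv]
    calc a * ((u : G) * (a * u * a⁻¹)⁻¹) * a⁻¹ = a * u * a * (u : G)⁻¹ * (a * a)⁻¹ := by group
      _ = a * u * a⁻¹ * (u : G)⁻¹ := by rw [ha, inv_one, mul_one, hai]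
      _ = _ := by group
  · intro b hb
    have h1 := hufix b ((hl b).2 hb)
    have h2 := hac b hb
    simp only [hv, cj, Subgroup.coe_mul, Subgroup.coe_inv]
    have h3 : (a * (u : G) * a⁻¹)⁻¹ * b = b * (a * u * a⁻¹)⁻¹ := by
      have e1 : Commute (u : G) b := h1
      have e2 : Commute a b := h2
      exact ((e2.mul_left e1).mul_left e2.inv_left).inv_left.eq
    rw [mul_assoc, h3, ← mul_assoc, h1, mul_assoc]

/-- The span of the conjugates of `L` under `U`. -/
def orbitSup (L U : Subgroup G) : Subgroup G := ⨆ t : U, L.map (MulAut.conj (t : G)).toMonoidHom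

/-- The span over `W` commutes with its translates by elements outside `W`. -/
theorem conj_commute {L : Subgroup G} {Com : Subgroup G → Prop}
    (hCom : ∀ D E : Subgroup G, Com D → Com E → D ≠ E → ∀ d ∈ D, ∀ e ∈ E, d * e = e * d)
    (hL : Com L) (hconj : ∀ D, Com D → ∀ g : G, Com (D.map (MulAut.conj g).toMonoidHom))
    {T : Subgroup G} (hT : ∀ t ∈ T, t ∈ normalizer (L : Set G) → t = 1)
    {W : Subgroup G} (hWT : W ≤ T) {t : G} (htT : t ∈ T) (htW : t ∉ W) {x u : G}
    (hxM : x ∈ orbitSup L W) (hu : u ∈ orbitSup L W) : t * x * t⁻¹ * u = u * (t * x * t⁻¹) := by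
  have hne : ∀ r ∈ W, ∀ s ∈ W, L.map (MulAut.conj r).toMonoidHom ≠
      L.map (MulAut.conj (t * s)).toMonoidHom := by
    intro r hr s hs e
    have h2 := congrArg (Subgroup.map (MulAut.conj r⁻¹).toMonoidHom) e
    rw [Subgroup.map_map, Subgroup.map_map] at h2
    have e1 : (MulAut.conj r⁻¹).toMonoidHom.comp (MulAut.conj r).toMonoidHom = MonoidHom.id G :=
      MonoidHom.ext fun g => by simp [mul_assoc]
    have e2 : (MulAut.conj r⁻¹).toMonoidHom.comp (MulAut.conj (t * s)).toMonoidHom =
        (MulAut.conj (r⁻¹ * (t * s))).toMonoidHom := MonoidHom.ext fun g => by simp [mul_assoc]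
    rw [e1, e2, Subgroup.map_id] at h2
    have hm : r⁻¹ * (t * s) ∈ normalizer (L : Set G) := by
      refine mem_normalizer_iff.2 fun g => ⟨fun hg => h2.symm ▸ ⟨g, hg, rfl⟩, fun hg => ?_⟩
      rw [h2] at hg
      obtain ⟨g', hg', heq⟩ := hg
      exact (MulAut.conj (r⁻¹ * (t * s))).injective heq ▸ hg'
    have h3 := hT _ (mul_mem (inv_mem (hWT hr)) (mul_mem htT (hWT hs))) hm
    rw [inv_mul_eq_one, eq_comm] at h3
    refine htW ?_
    rw [show t = t * s * s⁻¹ by group, h3]
    exact mul_mem hr (inv_mem hs)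
  have hle : orbitSup L W ≤ centralizer ({t * x * t⁻¹} : Set G) := iSup_le fun r => by
    rintro _ ⟨d, hd, rfl⟩
    rw [mem_centralizer_singleton_iff]
    have hle2 : orbitSup L W ≤
        (centralizer ({MulAut.conj (r : G) d} : Set G)).comap (MulAut.conj t).toMonoidHom :=
      iSup_le fun s => by
        rintro _ ⟨e, he, rfl⟩
        rw [mem_comap, mem_centralizer_singleton_iff]
        refine (hCom _ _ (hconj L hL r) (hconj L hL (t * s)) (hne r r.2 s s.2) _ ⟨d, hd, rfl⟩ _
          ⟨e, he, ?_⟩).symm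
        simp [mul_assoc]
    exact (mem_centralizer_singleton_iff.1 (hle2 hxM)).symm
  exact (mem_centralizer_singleton_iff.1 (hle hu)).symm

/-- Spreading an element of a component over a regular orbit. -/
theorem exists_spread {L : Subgroup G} {Com : Subgroup G → Prop}
    (hCom : ∀ D E : Subgroup G, Com D → Com E → D ≠ E → ∀ d ∈ D, ∀ e ∈ E, d * e = e * d)
    (hL : Com L) (hconj : ∀ D, Com D → ∀ g : G, Com (D.map (MulAut.conj g).toMonoidHom))
    {T : Subgroup G} (hTexp : ∀ t ∈ T, t * t = 1) (hT : ∀ t ∈ T, t ∈ normalizer (L : Set G) → t = 1)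
    {y : G} (hy : y ∈ L) {N : ℕ} (hyN : y ^ N = 1) (hync : ∃ l ∈ L, y * l ≠ l * y) :
    ∃ x : G, x ∈ orbitSup L T ∧ x ^ N = 1 ∧ (∃ l ∈ L, x * l ≠ l * x) ∧ (∀ t ∈ T, x * t = t * x) ∧
      (∀ c : G, (∀ t ∈ T, c * t = t * c) → c * y = y * c → c * x = x * c) ∧
      (∀ a : G, (∀ t ∈ T, a * t = t * a) → a * y * a⁻¹ = y⁻¹ → a * x * a⁻¹ = x⁻¹) := by
  classical
  let M : Subgroup G → Subgroup G := fun U => orbitSup L U
  suffices h : ∀ U : Subgroup G, U ≤ T → ∃ x ∈ M U, x ^ N = 1 ∧
      (∃ l ∈ L, x * l ≠ l * x) ∧ (∀ t ∈ U, x * t = t * x) ∧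
      (∀ c : G, (∀ t ∈ T, c * t = t * c) → c * y = y * c → c * x = x * c) ∧
      (∀ a : G, (∀ t ∈ T, a * t = t * a) → a * y * a⁻¹ = y⁻¹ → a * x * a⁻¹ = x⁻¹) by
    exact h T le_rfl
  intro U
  induction hn : Nat.card U using Nat.strong_induction_on generalizing U with
  | _ n ih =>
    subst hn
    intro hUT
    by_cases hU : U = ⊥
    · refine ⟨y, mem_iSup_of_mem (⟨1, one_mem U⟩ : U) ⟨y, hy, by simp⟩, hyN, hync,
        fun t ht => ?_, fun c _ h => h, fun a _ h => h⟩
      rw [hU, mem_bot] at ht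
      rw [ht, mul_one, one_mul]
    obtain ⟨⟨t, htU⟩, ht1⟩ := ne_bot_iff_exists_ne_one.1 hU
    have ht1' : t ≠ 1 := fun e => ht1 (Subtype.ext e)
    have htt := hTexp t (hUT htU)
    have hti : t⁻¹ = t := inv_eq_of_mul_eq_one_right htt
    have hcom : ∀ r ∈ U, ∀ s ∈ U, r * s = s * r := fun r hr s hs => by
      have h := hTexp (r * s) (hUT (mul_mem hr hs))
      rw [← inv_eq_of_mul_eq_one_right h, mul_inv_rev, inv_eq_of_mul_eq_one_right (hTexp r (hUT hr)),
        inv_eq_of_mul_eq_one_right (hTexp s (hUT hs))]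
    obtain ⟨W, ⟨hWU, htW⟩, hWmax⟩ :=
      (Set.toFinite {W : Subgroup G | W ≤ U ∧ t ∉ W}).exists_maximal
        ⟨⊥, bot_le, fun h => ht1' (mem_bot.1 h)⟩
    have hgen : ∀ r ∈ U, r ∈ W ∨ r * t ∈ W := by
      intro r hr
      by_contra hcon
      push Not at hcon
      -- adjoin `r` to `W`
      let W' : Subgroup G :=
        { carrier := {g | g ∈ W ∨ g * r ∈ W}
          one_mem' := Or.inl (one_mem W)
          mul_mem' := fun {g h} hg hh => by
            have hrr := hTexp r (hUT hr)
            rcases hg with hg | hg <;> rcases hh with hh | hh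
            · exact Or.inl (mul_mem hg hh)
            · exact Or.inr (by rw [mul_assoc]; exact mul_mem hg hh)
            · refine Or.inr ?_
              rw [show g * h * r = g * r * h by
                rw [mul_assoc, mul_assoc, hcom h (hWU hh) r hr]]
              exact mul_mem hg hh
            · refine Or.inl ?_
              have e : g * h = g * r * (h * r) := by
                rw [show g * r * (h * r) = g * (r * h * r) by group,
                  show r * h = h * r from hcom r hr h (by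
                    have := mul_mem (hWU hh) hr
                    rwa [mul_assoc, hrr, mul_one] at this), mul_assoc h, hrr, mul_one]
              rw [e]
              exact mul_mem hg hh
          inv_mem' := fun {g} hg => by
            rcases hg with hg | hg
            · exact Or.inl (inv_mem hg)
            · refine Or.inr ?_
              have hgU : g ∈ U := by
                have := mul_mem (hWU hg) hr
                rwa [mul_assoc, hTexp r (hUT hr), mul_one] at this
              rw [inv_eq_of_mul_eq_one_right (hTexp g (hUT hgU))]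
              exact hg }
      have hle : W ≤ W' := fun g hg => Or.inl hg
      have hW'U : W' ≤ U := fun g hg => hg.elim (fun h => hWU h) fun h => by
        have := mul_mem (hWU h) hr
        rwa [mul_assoc, hTexp r (hUT hr), mul_one] at this
      have htW' : t ∉ W' := fun h => h.elim htW fun h2 => hcon.2 (hcom r hr t htU ▸ h2)
      have : W' ≤ W := hWmax ⟨hW'U, htW'⟩ hle
      exact hcon.1 (this (Or.inr (by rw [hTexp r (hUT hr)]; exact one_mem W)))
    have hlt : Nat.card W < Nat.card U :=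
      Set.ncard_lt_ncard (SetLike.coe_ssubset_coe.2 (lt_of_le_of_ne hWU fun e => htW (e ▸ htU)))
        (Set.toFinite _)
    obtain ⟨x, hxM, hxN, ⟨l, hl, hxl⟩, hxW, hxc, hxa⟩ := ih _ hlt W rfl (hWU.trans hUT)
    set z := t * x * t⁻¹ with hz
    have hzc : ∀ u ∈ M W, z * u = u * z := fun u hu =>
      conj_commute hCom hL hconj hT (hWU.trans hUT) (hUT htU) htW hxM hu
    have hxz : x * z = z * x := (hzc x hxM).symm
    have hMmono : M W ≤ M U := iSup_le fun r => le_iSup_of_le (⟨r, hWU r.2⟩ : U) le_rfl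
    have hzM : z ∈ M U := by
      have hle : M W ≤ (M U).comap (MulAut.conj t).toMonoidHom := iSup_le fun r => by
        rintro _ ⟨d, hd, rfl⟩
        exact mem_iSup_of_mem (⟨t * r, mul_mem htU (hWU r.2)⟩ : U) ⟨d, hd, by simp [mul_assoc]⟩
      exact hle hxM
    refine ⟨x * z, mul_mem (hMmono hxM) hzM, ?_, ⟨l, hl, ?_⟩, ?_, ?_, ?_⟩
    · rw [(show Commute x z from hxz).mul_pow, hxN, hz, conj_pow, hxN, one_mul, mul_one, mul_inv_cancel]
    · have hzl : z * l = l * z := hzc l (mem_iSup_of_mem (⟨1, one_mem W⟩ : W) ⟨l, hl, by simp⟩)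
      intro e
      apply hxl
      rw [mul_assoc x z l, hzl, ← mul_assoc x l z, ← mul_assoc l x z] at e
      exact mul_right_cancel e
    · have hkey : ∀ r ∈ W, (x * z) * r = r * (x * z) := by
        intro r hr
        have e1 : Commute x r := hxW r hr
        have e2 : Commute t r := hcom t htU r (hWU hr)
        exact (e1.mul_left ((e2.mul_left e1).mul_left e2.inv_left)).eq
      have hkt : (x * z) * t = t * (x * z) := by
        have hz2 : z * t = t * x := by rw [hz]; group
        rw [mul_assoc, hz2, hxz, hz, hti]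
        calc x * (t * x) = t * t * x * t * x := by rw [htt]; group
          _ = t * (t * x * t * x) := by group
      intro r hr
      rcases hgen r hr with h | h
      · exact hkey r h
      · have h2 : r = r * t * t := by rw [mul_assoc, htt, mul_one]
        rw [h2]
        exact ((show Commute (x * z) (r * t) from hkey _ h).mul_right hkt).eq
    · intro c hc hcy
      have e1 : Commute c x := hxc c hc hcy
      have e2 : Commute c t := hc t (hUT htU)
      exact (e1.mul_right ((e2.mul_right e1).mul_right e2.inv_right)).eq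
    · intro a hac hay
      have h1 := hxa a hac hay
      have e2 : a * t = t * a := hac t (hUT htU)
      rw [show a * (x * z) * a⁻¹ = (a * x * a⁻¹) * ((a * t) * x * (t⁻¹ * a⁻¹)) by rw [hz]; group,
        e2, show t⁻¹ * a⁻¹ = a⁻¹ * t⁻¹ by rw [← mul_inv_rev, ← mul_inv_rev, e2],
        show (t * a) * x * (a⁻¹ * t⁻¹) = t * (a * x * a⁻¹) * t⁻¹ by group, h1,
        show t * x⁻¹ * t⁻¹ = z⁻¹ by rw [hz]; group, ← mul_inv_rev, hxz]

end Cfsg.Agent.CharP.InvertedElement
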