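import Cfsg.Agent.Lib.CharP.IsolatedPMinimal

/-!
Isolated `p`-minimal subgroups: reading the two cases inside the normal closure `Y` of `O^p(P)`.
-/

set_option autoImplicit false
set_option linter.unusedSectionVars false

namespace Cfsg.Agent.CharP.IsolatedPMinimal

open Subgroup
open scoped Pointwise commutatorElement

variable {G : Type*} [Group G] [Finite G] {p : ℕ} [hp : Fact p.Prime] {S : Sylow p G} {P L : Subgroup G}

/-- The hypothesis in the form used by the statements. -/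
theorem isolated_of_hyp (hSP : (S : Subgroup G) ≤ P) (hPmin : Cfsg.IsPMinimal p ↥P)
    (hL : L = normalizer ((S : Subgroup G) : Set G) ⊔
      ⨆ P' : {P' : Subgroup G // (S : Subgroup G) ≤ P' ∧ Cfsg.IsPMinimal p ↥P' ∧ P' ≠ P}, (P' : Subgroup G))
    (hiso : ¬ (Cfsg.pCore p ↥L).map L.subtype ≤ (Cfsg.pCore p ↥P).map P.subtype) : Isolated S P L :=
  ⟨hSP, hPmin, hL ▸ le_sup_left, fun P' h1 h2 h3 => hL ▸ le_sup_of_le_right
    (le_iSup (fun Q : {P' : Subgroup G // (S : Subgroup G) ≤ P' ∧ Cfsg.IsPMinimal p ↥P' ∧ P' ≠ P} =>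
      (Q : Subgroup G)) ⟨P', h1, h2, h3⟩), hiso⟩

theorem Isolated.cases (h : Isolated S P L) : FittingCase S P ∨ LayerCase S P := by
  by_cases hF : ∃ t : ℕ, t.Prime ∧ ¬ ⁅Cfsg.pCore t (G ⧸ Cfsg.pCore p G),
      (Cfsg.pCoreOf p L).map (QuotientGroup.mk' (Cfsg.pCore p G))⁆ = ⊥
  · obtain ⟨t, ht, hne⟩ := hF
    have := Fact.mk ht
    exact Or.inl (h.fitting_case hne)
  · push Not at hF
    exact Or.inr (h.layer_case hF)

/-- For a normal `Y`, `Y / O_p(Y)` is the image of `Y` in `G / O_p(G)`. -/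
theorem exists_quotEquiv (Y : Subgroup G) [Y.Normal] :
    ∃ _ : (Cfsg.pCore p ↥Y).Normal,
      ∃ e : (↥Y ⧸ Cfsg.pCore p ↥Y) ≃* ↥(Y.map (QuotientGroup.mk' (Cfsg.pCore p G))),
        ∀ y : ↥Y, (e (QuotientGroup.mk y) : G ⧸ Cfsg.pCore p G) = QuotientGroup.mk (y : G) := by
  refine ⟨Cores.pCore_normal p, ?_⟩
  let f := (QuotientGroup.mk' (Cfsg.pCore p G)).subgroupMap Y
  have hker : Cfsg.pCore p ↥Y = f.ker := by
    have h1 : (Cfsg.pCore p ↥Y).map Y.subtype ≤ Cfsg.pCore p G :=
      CharP.le_pCore inferInstance ((CharP.isPGroup_pCore p ↥Y).map _)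
    ext y
    rw [MonoidHom.mem_ker, Subtype.ext_iff]
    show y ∈ Cfsg.pCore p ↥Y ↔ ((y : G) : G ⧸ Cfsg.pCore p G) = 1
    rw [QuotientGroup.eq_one_iff]
    refine ⟨fun hy => h1 (mem_map_of_mem _ hy), fun hy => ?_⟩
    exact CharP.le_pCore (N := (Cfsg.pCore p G).subgroupOf Y) inferInstance
      (CharP.isPGroup_pCore p G).comap_subtype hy
  let e := (QuotientGroup.quotientMulEquivOfEq hker).trans
    (QuotientGroup.quotientKerEquivOfSurjective f
      ((QuotientGroup.mk' (Cfsg.pCore p G)).subgroupMap_surjective Y))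
  exact ⟨e, fun y => rfl⟩

theorem card_quot_of_layerCase (h : LayerCase S P) {Y : Subgroup G}
    (hY : Y = normalClosure (((Cfsg.pResidual p ↥P).map P.subtype : Subgroup G) : Set G)) :
    ∃ _ : (Cfsg.pCore p ↥Y).Normal,
      p ∣ Nat.card (↥Y ⧸ Cfsg.pCore p ↥Y) ∧ Cfsg.layer (↥Y ⧸ Cfsg.pCore p ↥Y) = ⊤ ∧
       ∀ K₁ K₂ : Subgroup (↥Y ⧸ Cfsg.pCore p ↥Y), Cfsg.IsComponent K₁ → Cfsg.IsComponent K₂ →
         ∃ s ∈ (S : Subgroup G), ((K₂.comap (QuotientGroup.mk' (Cfsg.pCore p ↥Y))).map Y.subtype) =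
          (((K₁.comap (QuotientGroup.mk' (Cfsg.pCore p ↥Y))).map Y.subtype)).map
            (MulAut.conj s).toMonoidHom := by
  subst hY
  set Y := normalClosure (((Cfsg.pResidual p ↥P).map P.subtype : Subgroup G) : Set G) with hY
  obtain ⟨K, hK, hpY, hYK⟩ := h
  set π := QuotientGroup.mk' (Cfsg.pCore p G) with hπ
  obtain ⟨hn, e, he⟩ := exists_quotEquiv (p := p) Y
  have hYb : (Y.map π).Normal := Normal.map inferInstance _ (QuotientGroup.mk'_surjective _)
  have hle : ∀ s : ↥(S : Subgroup G), K.map (MulAut.conj (π s)).toMonoidHom ≤ Y.map π := fun s =>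
    (le_iSup (fun s : ↥(S : Subgroup G) => K.map (MulAut.conj (π s)).toMonoidHom) s).trans hYK.ge
  refine ⟨hn, ?_, ?_, ?_⟩
  · rw [Nat.card_congr e.toEquiv]; exact hpY
  · have h1 : Y.map π ≤ (Cfsg.layer ↥(Y.map π)).map (Y.map π).subtype := by
      refine le_trans hYK.le (iSup_le fun s => ?_)
      rw [← map_subgroupOf_eq_of_le (hle s)]
      exact map_mono (Components.Basic.le_layer
        (Components.Basic.component_subgroupOf (Components.Basic.component_conj hK _) (hle s)))
    have h2 : Cfsg.layer ↥(Y.map π) = ⊤ := by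
      refine top_le_iff.1 fun x _ => ?_
      obtain ⟨y, hy, hyx⟩ := h1 x.2
      rwa [← Subtype.ext hyx]
    refine map_injective (f := e.toMonoidHom) e.injective ?_
    rw [Components.Basic.layer_map_equiv, h2, map_top_of_surjective _ e.surjective]
  · -- every component comes from a conjugate of `K`
    have key : ∀ K' : Subgroup (↥Y ⧸ Cfsg.pCore p ↥Y), Cfsg.IsComponent K' →
        ∃ s : ↥(S : Subgroup G), (K'.comap (QuotientGroup.mk' (Cfsg.pCore p ↥Y))).map Y.subtype =
          (Y ⊓ K.comap π).map (MulAut.conj (s : G)).toMonoidHom := by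
      intro K' hK'
      set M := (K'.map e.toMonoidHom).map (Y.map π).subtype with hM
      have hMc : Cfsg.IsComponent M :=
        (Components.Basic.isComponent_map_subtype_iff hYb.isSubnormal _).2
          ((Components.Basic.isComponent_map_equiv e K').2 hK')
      obtain ⟨s, hs⟩ : ∃ s : ↥(S : Subgroup G), M = K.map (MulAut.conj (π s)).toMonoidHom := by
        by_contra hcon
        push Not at hcon
        apply Components.Basic.component_ne_bot hMc
        rw [← Components.Basic.component_commutator_self hMc]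
        refine le_bot_iff.1 ((commutator_mono le_rfl ((map_subtype_le _).trans hYK.le)).trans ?_)
        rw [le_bot_iff, commutator_eq_bot_iff_le_centralizer, le_centralizer_iff]
        exact iSup_le fun s => le_centralizer_iff.1 (commutator_eq_bot_iff_le_centralizer.1
          (Components.Basic.component_commutator_eq_bot_of_ne hMc
            (Components.Basic.component_conj hK _) (hcon s)))
      have hmem : ∀ g : G, g ∈ (K'.comap (QuotientGroup.mk' (Cfsg.pCore p ↥Y))).map Y.subtype ↔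
          g ∈ Y ∧ π g ∈ M := by
        intro g
        constructor
        · rintro ⟨y, hy, rfl⟩
          exact ⟨y.2, e (QuotientGroup.mk y), mem_map_of_mem _ hy, he y⟩
        · rintro ⟨hg, x, ⟨q, hq, rfl⟩, hx⟩
          refine ⟨⟨g, hg⟩, ?_, rfl⟩
          have : q = QuotientGroup.mk (⟨g, hg⟩ : ↥Y) :=
            e.injective (Subtype.ext (hx.trans (he ⟨g, hg⟩).symm))
          show QuotientGroup.mk (⟨g, hg⟩ : ↥Y) ∈ K'
          rw [← this]
          exact hq
      refine ⟨s, SetLike.ext fun g => ?_⟩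
      rw [hmem, hs, mem_map_equiv, mem_map_equiv, mem_inf, mem_comap]
      refine and_congr ?_ ?_
      · simp only [MulAut.conj_symm_apply]
        refine ⟨fun hg => ?_, fun hg => ?_⟩
        · simpa using (inferInstance : Y.Normal).conj_mem g hg (s : G)⁻¹
        · simpa [mul_assoc] using (inferInstance : Y.Normal).conj_mem _ hg (s : G)
      · simp only [MulAut.conj_symm_apply, map_mul, map_inv]
    intro K₁ K₂ h₁ h₂
    obtain ⟨s₁, hs₁⟩ := key K₁ h₁
    obtain ⟨s₂, hs₂⟩ := key K₂ h₂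
    refine ⟨(s₂ : G) * (s₁ : G)⁻¹, mul_mem s₂.2 (inv_mem s₁.2), ?_⟩
    rw [hs₁, hs₂, CharP.conj_map_map, inv_mul_cancel_right]

theorem Isolated.isolated_sup (h : Isolated S P L) {Y L₀ : Subgroup G}
    (h1 : normalizer ((S : Subgroup G) : Set G) ⊓ (Y ⊔ (S : Subgroup G)) ≤ L₀) (h2 : L₀ ≤ L) :
    ¬ (Cfsg.pCore p ↥L₀).map L₀.subtype ≤ (Cfsg.pCore p ↥P).map P.subtype := fun hc =>
  h.iso (le_trans (CharP.le_pCoreOf (h.core_le.trans ((le_inf le_normalizer le_sup_right).trans h1))
    (h2.trans (CharP.le_normalizer_pCoreOf p L)) (CharP.isPGroup_pCoreOf p L)) hc)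

theorem Isolated.residual_eq_of_isSolvable (h : Isolated S P L) {Y : Subgroup G}
    (hY : Y = normalClosure (((Cfsg.pResidual p ↥P).map P.subtype : Subgroup G) : Set G))
    (hs : Group.IsSolvable ↥Y) :
    (Cfsg.pResidual p ↥P).map P.subtype = Y ∧
       ∃ _ : (Cfsg.pCore p ↥Y).Normal, ∃ t : ℕ, t.Prime ∧ t ≠ p ∧ IsPGroup t (↥Y ⧸ Cfsg.pCore p ↥Y) ∧
         ∃ _ : Group.IsNilpotent (↥Y ⧸ Cfsg.pCore p ↥Y),
          Group.nilpotencyClass (↥Y ⧸ Cfsg.pCore p ↥Y) ≤ 2 := by
  subst hY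
  rcases h.cases with ⟨hR, t, ht, htp, hpg, hcl⟩ | ⟨K, hK, -, hYK⟩
  · refine ⟨hR, ?_⟩
    set Y := normalClosure (((Cfsg.pResidual p ↥P).map P.subtype : Subgroup G) : Set G) with hY
    rw [hR] at hpg hcl
    obtain ⟨hn, e, -⟩ := exists_quotEquiv (p := p) Y
    have := Fact.mk ht
    have hq : IsPGroup t (↥Y ⧸ Cfsg.pCore p ↥Y) := hpg.of_equiv e.symm
    have hnil := hq.isNilpotent
    refine ⟨hn, t, ht, htp, hq, hnil, ?_⟩
    rw [← Subgroup.lowerCentralSeries_eq_bot_iff_nilpotencyClass_le]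
    refine map_injective (f := ((Y.map (QuotientGroup.mk' (Cfsg.pCore p G))).subtype.comp e.toMonoidHom))
      ((subtype_injective _).comp e.injective) ?_
    rw [← Subgroup.map_map, Subgroup.map_lowerCentralSeries _ e.toMonoidHom,
      map_top_of_surjective _ e.surjective, top_subtype_lowerCentralSeries, hcl, Subgroup.map_bot]
  · exfalso
    have hs' : Group.IsSolvable ↥((normalClosure (((Cfsg.pResidual p ↥P).map P.subtype : Subgroup G) :
        Set G)).map (QuotientGroup.mk' (Cfsg.pCore p G))) :=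
      Group.isSolvable_of_surjective ((QuotientGroup.mk' (Cfsg.pCore p G)).subgroupMap_surjective _)
    refine Components.Basic.component_not_le_of_isSolvable hK hs'
      (le_trans ?_ hYK.ge)
    exact le_iSup_of_le (1 : ↥(S : Subgroup G))
      (le_of_eq (by rw [OneMemClass.coe_one, map_one, CharP.conj_map_one]))

end Cfsg.Agent.CharP.IsolatedPMinimal
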