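import Cfsg.Agent.Lib.CharP.AsymmetricL
import Cfsg.Agent.Lib.CharP.WeaklyClosed
import Cfsg.Agent.Lib.CharP.AmalgamVIter
import Cfsg.Agent.Lib.Components.Basic

/-!
A large subgroup in a subgroup acting on an elementary abelian group as a group with quasisimple `O^p`.
-/

set_option autoImplicit false
set_option linter.style.haveILetI false
set_option linter.unusedSectionVars false

namespace Cfsg.Agent.CharP.LargeQS

open Subgroup
open scoped commutatorElement
open Cfsg.Agent.CharP.AsymL (im mem_im im_mono im_sup im_self im_normalizer isPGroup_im)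

local notation:70 A:70 " ⊛ " g:71 => Subgroup.map (MulEquiv.toMonoidHom (MulAut.conj g)) A

section abstract

variable {Γ : Type*} [Group Γ]

/-- A normal subgroup of a quasisimple subgroup is everything or is centralized. -/
theorem eq_or_commutator_eq_bot {R K : Subgroup Γ} (hR : Cfsg.IsQuasisimple ↥R) (hKR : K ≤ R)
    (hn : R ≤ normalizer (K : Set Γ)) : K = R ∨ ⁅K, R⁆ = ⊥ := by
  haveI := (normal_subgroupOf_iff_le_normalizer hKR).2 hn
  rcases Cfsg.Agent.Components.Basic.quasisimple_eq_top_or_le_center_of_normal hR (K.subgroupOf R)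
    with h | h
  · exact Or.inl (le_antisymm hKR (subgroupOf_eq_top.1 h))
  · right
    rw [eq_bot_iff, commutator_le]
    intro k hk r hr
    rw [mem_bot, commutatorElement_eq_one_iff_mul_comm]
    have hk' : (⟨k, hKR hk⟩ : ↥R) ∈ K.subgroupOf R := hk
    exact congrArg Subtype.val (mem_center_iff.1 (h hk') ⟨r, hr⟩).symm

theorem self_commutator {R : Subgroup Γ} (hR : Cfsg.IsQuasisimple ↥R) : ⁅R, R⁆ = R := by
  have h := hR.1
  have := congrArg (Subgroup.map R.subtype) (Group.IsPerfect.commutator_eq_top (G := ↥R))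
  rw [_root_.commutator_def, map_commutator, ← MonoidHom.range_eq_map, range_subtype] at this
  exact this

theorem ne_bot {R : Subgroup Γ} (hR : Cfsg.IsQuasisimple ↥R) : R ≠ ⊥ :=
  (nontrivial_iff_ne_bot R).1 (Cfsg.Agent.Components.Basic.quasisimple_nontrivial hR)

variable [Finite Γ] {p : ℕ} [Fact p.Prime] {R : Subgroup Γ}

theorem resOf_self (hR : Cfsg.IsQuasisimple ↥R) : resOf p R = R := by
  rcases eq_or_commutator_eq_bot hR (resOf_le p R) (le_normalizer.trans (le_normalizer_resOf p R))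
    with h | h
  · exact h
  · exfalso
    apply Cfsg.Agent.Components.Basic.quasisimple_not_isSolvable hR
    -- modulo the centre the group is a `p`-group
    have hZ : Cfsg.pResidual p ↥R ≤ center ↥R := fun x hx => mem_center_iff.2 fun y => Subtype.ext
      (commutatorElement_eq_one_iff_mul_comm.1 ((eq_bot_iff_forall _).1 h _
        (commutator_mem_commutator (mem_map_of_mem R.subtype hx) y.2))).symm
    have hq : IsPGroup p (↥R ⧸ center ↥R) := fun q => by
      obtain ⟨x, rfl⟩ := QuotientGroup.mk'_surjective _ q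
      obtain ⟨k, y, hy, hyx⟩ := exists_pow_mem_resOf (p := p) x.2
      refine ⟨k, ?_⟩
      rw [← map_pow]
      refine (QuotientGroup.eq_one_iff _).2 ?_
      rw [show x ^ p ^ k = y from Subtype.ext hyx.symm]
      exact hZ hy
    haveI : Group.IsNilpotent (↥R ⧸ center ↥R) := hq.isNilpotent
    haveI : Group.IsNilpotent ↥R := Subgroup.isNilpotent_of_ker_le_center (QuotientGroup.mk' (center ↥R))
      (by rw [QuotientGroup.ker_mk'])
    infer_instance

variable (hR : Cfsg.IsQuasisimple ↥R) [R.Normal] (h0 : Cfsg.pCore p Γ = ⊥)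
  (hp : ∀ x : Γ, ∃ k : ℕ, x ^ p ^ k ∈ R)
include hR h0 hp

theorem eq_bot_of_centralizes {X : Subgroup Γ} (hX : IsPGroup p ↥X) (h : ⁅R, X⁆ = ⊥) : X = ⊥ := by
  set Cc := centralizer (R : Set Γ)
  have hXC : X ≤ Cc := commutator_eq_bot_iff_le_centralizer.1 (by rwa [Subgroup.commutator_comm])
  obtain ⟨T, hT, hXT⟩ := exists_isSylIn_ge hX hXC
  obtain ⟨T', hT'⟩ := hT
  haveI : Cc.Normal := Subgroup.normal_centralizer
  set Z := Cc ⊓ R
  have hres : resOf p Cc ≤ Z := resOf_le_of_isPGroup_quotient inf_le_left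
    ((normalizer_eq_top (H := Z)).ge.trans' le_top) fun x hx => by
      obtain ⟨k, hk⟩ := hp x
      exact ⟨k, pow_mem hx _, hk⟩
  have hgen : resOf p Cc ⊔ T = Cc := by
    have := congrArg (Subgroup.map Cc.subtype)
      (Cfsg.Agent.Transfer.NormalPComplement.pResidual_sup_sylow (p := p) T')
    rw [Subgroup.map_sup, hT', ← MonoidHom.range_eq_map, range_subtype] at this
    exact this
  have hT0 : IsSylIn p T Cc := ⟨T', hT'⟩
  have hTn : Cc ≤ normalizer (T : Set Γ) := by
    refine hgen.ge.trans (sup_le ?_ le_normalizer)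
    exact (hres.trans inf_le_right).trans
      ((le_centralizer_iff.1 hT0.le).trans (centralizer_le_normalizer _))
  have h1 : T ≤ Cfsg.pCoreOf p Cc := le_pCoreOf hT0.le hTn hT0.isPGroup
  have h2 := (FrakH.pCoreOf_le_of_normal (p := p) le_top ((normalizer_eq_top (H := Cc)).ge))
  rw [pCoreOf_top, h0] at h2
  exact le_bot_iff.1 (hXT.trans (h1.trans h2))

theorem commutator_eq {X : Subgroup Γ} (hX : IsPGroup p ↥X) (hne : X ≠ ⊥) : ⁅R, X⁆ = R := by
  have hle : ⁅R, X⁆ ≤ R := commutator_le_left R X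
  refine (eq_or_commutator_eq_bot hR hle (normalizer_commutator_ge_left R X)).resolve_right
    fun h => hne (eq_bot_of_centralizes hR h0 hp hX ?_)
  have h' : ⁅⁅X, R⁆, R⁆ = ⊥ := by rwa [Subgroup.commutator_comm X R]
  have := commutator_commutator_eq_bot_of_rotate h h'
  rwa [self_commutator hR] at this

theorem le_of_pgroup_le {N X : Subgroup Γ} [N.Normal] (hX : IsPGroup p ↥X) (hne : X ≠ ⊥)
    (hXN : X ≤ N) : R ≤ N :=
  (commutator_eq hR h0 hp hX hne).ge.trans ((commutator_mono le_rfl hXN).trans (commutator_le_right R N))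

end abstract

section extension

variable {Γ A : Type*} [Group Γ] [Group A]

/-- A perfect central extension of a quasisimple group is quasisimple. -/
theorem isQuasisimple_of_central (f : Γ →* A) (hf : Function.Surjective f) (hA : Cfsg.IsQuasisimple A)
    (hperf : Group.IsPerfect Γ) (hker : f.ker ≤ center Γ) : Cfsg.IsQuasisimple Γ := by
  haveI := Cfsg.Agent.Components.Basic.quasisimple_nontrivial hA
  refine Cfsg.Agent.Components.Basic.isQuasisimple_of_normal hperf hf.nontrivial fun N hN => ?_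
  haveI := hN
  haveI := hperf
  haveI := hN.map f hf
  rcases Cfsg.Agent.Components.Basic.quasisimple_eq_top_or_le_center_of_normal hA (N.map f) with h | h
  · left
    have hsup : N ⊔ f.ker = ⊤ := by
      have := congrArg (Subgroup.comap f) h
      rwa [comap_map_eq, comap_top] at this
    rw [eq_top_iff, ← Group.IsPerfect.commutator_eq_top (G := Γ)]
    exact Subgroup.Normal.commutator_le_of_self_sup_commutative_eq_top hsup
      ⟨⟨fun a b => Subtype.ext ((mem_center_iff.1 (hker b.2) a))⟩⟩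
  · right
    have h1 : ⁅N, (⊤ : Subgroup Γ)⁆ ≤ center Γ := by
      refine le_trans ?_ hker
      rw [commutator_le]
      intro n hn g _
      rw [MonoidHom.mem_ker, map_commutatorElement, commutatorElement_eq_one_iff_mul_comm]
      exact (mem_center_iff.1 (h (mem_map_of_mem f hn)) (f g)).symm
    have h2 : ⁅⁅N, (⊤ : Subgroup Γ)⁆, (⊤ : Subgroup Γ)⁆ = ⊥ :=
      commutator_eq_bot_iff_le_centralizer.2 (by rwa [coe_top, centralizer_univ])
    have h3 := commutator_commutator_eq_bot_of_rotate (H₁ := (⊤ : Subgroup Γ)) (H₂ := ⊤) (H₃ := N)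
      (by rwa [Subgroup.commutator_comm ⊤ N]) h2
    rw [← _root_.commutator_def, Group.IsPerfect.commutator_eq_top (G := Γ),
      Subgroup.commutator_comm, commutator_eq_bot_iff_le_centralizer, coe_top, centralizer_univ] at h3
    exact h3

end extension

variable {G : Type*} [Group G] [Finite G] {p : ℕ} [Fact p.Prime]

theorem conclusion {Q U E : Subgroup G} (hQp : IsPGroup p ↥Q) (hQ : Cfsg.IsLarge Q)
    (hU : Cfsg.IsElementaryAbelian p U) (hU1 : U ≠ ⊥) (hQE : Q ≤ E)
    (hEU : E ≤ normalizer (U : Set G)) (hQn : ¬ E ≤ normalizer (Q : Set G))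
    [hn : ((centralizer (U : Set G)).subgroupOf E).Normal]
    (hred : Cfsg.pCore p (↥E ⧸ (centralizer (U : Set G)).subgroupOf E) = ⊥)
    (hqs : Cfsg.IsQuasisimple ↥(((Cfsg.pResidual p ↥E) ⊔ (centralizer (U : Set G)).subgroupOf E).map
      (QuotientGroup.mk' ((centralizer (U : Set G)).subgroupOf E))))
    {Er : Subgroup G} (hEr : Er = resOf p (Cfsg.weakClosure Q E))
    [hn2 : ((centralizer (U : Set G)).subgroupOf Er).Normal] :
    resOf p E ⊔ (E ⊓ centralizer (U : Set G)) = Er ⊔ (E ⊓ centralizer (U : Set G)) ∧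
      ⁅Er, Er⁆ = Er ∧ resOf p Er = Er ∧
      Cfsg.IsQuasisimple (↥Er ⧸ (centralizer (U : Set G)).subgroupOf Er) ∧
      Cfsg.IsQuasisimple (↥Er ⧸ Cfsg.pCore p ↥Er) ∧
      ∀ Y : Subgroup G, Y ≤ E → IsPGroup p ↥Y → ¬ Y ≤ centralizer (U : Set G) → ⁅Er, Y⁆ = Er := by
  set CU := centralizer (U : Set G) with hCU
  set C := E ⊓ CU with hC
  set E0 := Cfsg.weakClosure Q E with hE0
  set D := Cfsg.pCoreOf p C with hD
  have hCE : C ≤ E := inf_le_left
  have hEC : E ≤ normalizer (C : Set G) :=
    (le_inf le_normalizer (hEU.trans (normalizer_le_normalizer_centralizer U))).trans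
      inf_normalizer_le_normalizer_inf
  have hED : E ≤ normalizer (D : Set G) := hEC.trans (normalizer_le_normalizer_pCoreOf p C)
  have hE0E : E0 ≤ E := weakClosure_le_self Q E
  have hEE0 : E ≤ normalizer (E0 : Set G) :=
    le_normalizer.trans (normalizer_le_normalizer_weakClosure Q E)
  have hUp : IsPGroup p ↥U := isPGroup_of_isElementaryAbelian hU
  have hconj : ∀ g : G, Q ⊛ g ≤ E → C ≤ normalizer ((Q ⊛ g : Subgroup G) : Set G) := fun g hg =>
    inf_le_right.trans (isLarge_centralizer_le (isPGroup_conj hQp g) (isLarge_conj hQ g) hUp hU1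
      (hg.trans hEU))
  have hnotC : ¬ Q ≤ CU := fun h => hQn (hEU.trans (hQ.2 U (le_centralizer_iff.1 h) hU1))
  have hEr0 : Er ≤ E0 := hEr ▸ resOf_le p E0
  have hErE : Er ≤ E := hEr0.trans hE0E
  have hEEr : E ≤ normalizer (Er : Set G) := hEr ▸ hEE0.trans (le_normalizer_resOf p E0)
  have hCD : ⁅E0, C⁆ ≤ D := by
    have hle : E0 ≤ LModule.stab C D := by
      refine weakClosure_le_iff.2 fun g hg x hx => ⟨hEC (hg hx), hED (hg hx), fun c hc => ?_⟩
      have h1 : (Q ⊛ g) ⊓ C ≤ D := le_pCoreOf inf_le_right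
        ((le_inf (hconj g hg) le_normalizer).trans inf_normalizer_le_normalizer_inf)
        ((isPGroup_conj hQp g).to_le inf_le_left)
      refine h1 ⟨?_, ?_⟩
      · rw [commutatorElement_def, mul_assoc, mul_assoc, ← mul_assoc c]
        exact (Q ⊛ g).mul_mem hx ((mem_normalizer_iff.1 (hconj g hg hc) _).1 ((Q ⊛ g).inv_mem hx))
      · rw [commutatorElement_def]
        exact C.mul_mem ((mem_normalizer_iff.1 (hEC (hg hx)) c).1 hc) (C.inv_mem hc)
    exact commutator_le.2 fun x hx c hc => (hle hx).2.2 c hc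
  -- the quotient `E / C_E(U)`
  set π := QuotientGroup.mk' (CU.subgroupOf E) with hπ
  have hker : ∀ x : ↥E, π x = 1 ↔ (x : G) ∈ CU := fun x =>
    (QuotientGroup.eq_one_iff x).trans mem_subgroupOf
  have hsurj := QuotientGroup.mk'_surjective (CU.subgroupOf E)
  set R := ((Cfsg.pResidual p ↥E) ⊔ CU.subgroupOf E).map π with hR
  have hRE : R = im π (resOf p E) := by
    have e : (resOf p E).subgroupOf E = Cfsg.pResidual p ↥E :=
      comap_map_eq_self_of_injective E.subtype_injective _
    rw [hR, Subgroup.map_sup, QuotientGroup.map_mk'_self, sup_bot_eq, im, e]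
  haveI hRn : R.Normal := by
    rw [hRE]
    exact normalizer_eq_top_iff.1 (top_le_iff.1 ((im_self π hsurj).ge.trans
      (im_normalizer π (le_normalizer.trans (le_normalizer_resOf p E)))))
  have hp : ∀ x, ∃ k : ℕ, x ^ p ^ k ∈ R := by
    intro x
    obtain ⟨x, rfl⟩ := hsurj x
    obtain ⟨k, hk⟩ := exists_pow_mem_resOf (p := p) x.2
    refine ⟨k, ?_⟩
    rw [hRE, ← map_pow]
    exact mem_im π _ hk
  have himne : ∀ X : Subgroup G, X ≤ E → ¬ X ≤ CU → im π X ≠ ⊥ := fun X hX hne h =>
    hne fun x hx => (hker ⟨x, hX hx⟩).1 ((eq_bot_iff_forall _).1 h _ (mem_im π _ hx))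
  -- a subgroup with the same image is the same modulo `C`
  have himle : ∀ X X' : Subgroup G, X ≤ E → X' ≤ E → im π X ≤ im π X' → X ≤ X' ⊔ C := by
    intro X X' hX hX' h x hx
    obtain ⟨y, hy, hyx⟩ := h (mem_im π (hX hx) hx)
    have h1 : ((y⁻¹ * ⟨x, hX hx⟩ : ↥E) : G) ∈ CU := (hker _).1 (by
      rw [map_mul, map_inv, hyx, inv_mul_cancel])
    have h2 : ((y⁻¹ * ⟨x, hX hx⟩ : ↥E) : G) ∈ C := ⟨(y⁻¹ * ⟨x, hX hx⟩ : ↥E).2, h1⟩
    have h3 := mul_mem (mem_sup_left (T := C) (show (y : G) ∈ X' from hy)) (mem_sup_right (S := X') h2)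
    simpa using h3
  have hQ0 : Q ≤ E0 := le_weakClosure hQE
  have hER : im π Er = R := by
    refine le_antisymm (hRE ▸ im_mono π (hEr ▸ resOf_mono p hE0E)) ?_
    haveI : (im π E0).Normal := normalizer_eq_top_iff.1 (top_le_iff.1 ((im_self π hsurj).ge.trans
      (im_normalizer π hEE0)))
    have h1 : R ≤ im π E0 := le_of_pgroup_le hqs hred hp (isPGroup_im π hQp)
      (himne Q hQE hnotC) (im_mono π hQ0)
    have h2 : resOf p R ≤ resOf p (im π E0) := resOf_mono p h1
    rw [resOf_self hqs] at h2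
    refine h2.trans (le_of_eq ?_)
    rw [im, im, ← map_resOf, hEr]
    congr 1
    have e := map_resOf (p := p) E.subtype (E0.subgroupOf E)
    rw [subgroupOf_map_subtype, inf_eq_left.2 hE0E] at e
    rw [← e]
    exact (comap_map_eq_self_of_injective E.subtype_injective _).symm
  have hsupR : resOf p E ⊔ C = Er ⊔ C := by
    refine le_antisymm (sup_le ?_ le_sup_right)
      (sup_le ((hEr ▸ resOf_mono p hE0E : Er ≤ resOf p E).trans le_sup_left) le_sup_right)
    exact himle _ _ (resOf_le p E) hErE (by rw [hER, hRE])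
  have hcomap : ∀ A B : Subgroup G, A ≤ E → B ≤ E → im π ⁅A, B⁆ = ⁅im π A, im π B⁆ := by
    intro A B hA hB
    rw [im, im, im, ← Subgroup.map_commutator]
    congr 1
    apply map_injective E.subtype_injective
    rw [subgroupOf_map_subtype, Subgroup.map_commutator, subgroupOf_map_subtype,
      subgroupOf_map_subtype, inf_eq_left.2 hA, inf_eq_left.2 hB]
    exact inf_eq_left.2 ((commutator_mono hA hB).trans (commutator_le_self E))
  -- perfectness
  set K := ⁅Er, Er⁆ with hK
  have hKle : K ≤ Er := commutator_le_self Er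
  have hE0K : E0 ≤ normalizer (K : Set G) := by
    intro x hx
    refine mem_normalizer_of_conj_map ?_
    rw [hK, Subgroup.map_commutator]
    exact congrArg₂ (⁅·, ·⁆) (conj_map_of_mem (hEEr (hE0E hx))) (conj_map_of_mem (hEEr (hE0E hx)))
  have hEK : im π K = R := by rw [hK, hcomap _ _ hErE hErE, hER]; exact self_commutator hqs
  have hErKC : Er ≤ K ⊔ C := himle _ _ hErE (hKle.trans hErE) (by rw [hEK, hER])
  have hperf : K = Er := by
    refine le_antisymm hKle ?_
    haveI hKn : (K.subgroupOf E0).Normal :=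
      (normal_subgroupOf_iff_le_normalizer (hKle.trans hEr0)).2 hE0K
    set σ := QuotientGroup.mk' (K.subgroupOf E0) with hσ
    have hs := QuotientGroup.mk'_surjective (K.subgroupOf E0)
    set Z := im σ Er
    set Dz := im σ (D ⊓ Er)
    obtain ⟨T0, hT0⟩ := exists_isSylIn p E0
    obtain ⟨T1, hT1⟩ := hT0
    -- `Z` is generated by elements of order prime to `p`, and is abelian
    have hZab : ∀ a ∈ Z, ∀ b ∈ Z, a * b = b * a := by
      rintro _ ⟨a, ha, rfl⟩ _ ⟨b, hb, rfl⟩
      rw [← commutatorElement_eq_one_iff_mul_comm, ← map_commutatorElement]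
      exact (QuotientGroup.eq_one_iff _).2 (commutator_mem_commutator (show (a : G) ∈ Er from ha)
        (show (b : G) ∈ Er from hb))
    have hZcop : ∀ z ∈ Z, (orderOf z).Coprime p := by
      rintro _ ⟨⟨a, ha0⟩, ha, rfl⟩
      have ha' : a ∈ resOf p E0 := hEr ▸ (show a ∈ Er from ha)
      obtain ⟨b, hb, hba⟩ := ha'
      have hb' : b = ⟨a, ha0⟩ := Subtype.ext hba
      rw [← hb']
      clear ha hb' hba ha0
      suffices hmain : σ b ∈ Z ∧ (orderOf (σ b)).Coprime p from hmain.2
      induction hb using closure_induction with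
      | mem y hy =>
        refine ⟨mem_im σ y.2 ?_, Nat.Coprime.coprime_dvd_left (orderOf_map_dvd σ y) hy⟩
        rw [hEr]
        exact ⟨y, subset_closure hy, rfl⟩
      | one => exact ⟨by rw [map_one]; exact one_mem Z, by simp⟩
      | mul x y _ _ ihx ihy =>
        rw [map_mul]
        exact ⟨mul_mem ihx.1 ihy.1, Nat.Coprime.coprime_dvd_left
          ((show Commute (σ x) (σ y) from hZab _ ihx.1 _ ihy.1).orderOf_mul_dvd_mul_orderOf)
          (Nat.Coprime.mul_left ihx.2 ihy.2)⟩
      | inv x _ ihx => rw [map_inv, orderOf_inv]; exact ⟨inv_mem ihx.1, ihx.2⟩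
    -- `Z` is central
    have hZc : Z ≤ center _ := by
      rintro _ ⟨⟨a, ha0⟩, ha, rfl⟩
      refine mem_center_iff.2 fun q => ?_
      obtain ⟨x, rfl⟩ := hs q
      obtain ⟨k, hk, c, hc, hkc⟩ : ∃ k ∈ K, ∃ c ∈ C, k * c = a := by
        have h1 := hErKC (show a ∈ Er from ha)
        rw [← SetLike.mem_coe,
          coe_mul_of_left_le_normalizer_right _ _ ((hKle.trans hErE).trans hEC)] at h1
        exact h1
      have hcEr : c ∈ Er := by
        have := mul_mem (inv_mem (hKle hk)) (show a ∈ Er from ha)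
        rwa [← hkc, inv_mul_cancel_left] at this
      have e1 : σ ⟨a, ha0⟩ = σ ⟨c, hEr0 hcEr⟩ := by
        have e : (⟨a, ha0⟩ : ↥E0) = ⟨k, hEr0 (hKle hk)⟩ * ⟨c, hEr0 hcEr⟩ := Subtype.ext hkc.symm
        rw [e, map_mul, show σ ⟨k, hEr0 (hKle hk)⟩ = 1 from
          (QuotientGroup.eq_one_iff _).2 (mem_subgroupOf.2 hk), one_mul]
      rw [e1, ← commutatorElement_eq_one_iff_mul_comm, ← map_commutatorElement]
      -- a commutator lying in the image of a `p`-group and of order prime to `p`
      have hd : ⁅(x : G), c⁆ ∈ D ⊓ Er := by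
        refine ⟨hCD (commutator_mem_commutator x.2 hc), ?_⟩
        rw [commutatorElement_def]
        exact Er.mul_mem ((mem_normalizer_iff.1 (hEEr (hE0E x.2)) c).1 hcEr) (Er.inv_mem hcEr)
      refine eq_one_of_mem_pgroup (isPGroup_im σ ((isPGroup_pCoreOf p C).to_le inf_le_left))
        (mem_im σ (⁅x, ⟨c, hEr0 hcEr⟩⁆ : ↥E0).2 hd) (hZcop _ (mem_im σ _ hd.2))
    set T := (T1 : Subgroup ↥E0).map σ
    have hgen : Z ⊔ T = ⊤ := by
      have h1 : Z = (Cfsg.pResidual p ↥E0).map σ := by
        have e : (resOf p E0).subgroupOf E0 = Cfsg.pResidual p ↥E0 :=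
          comap_map_eq_self_of_injective E0.subtype_injective _
        rw [show Z = im σ Er from rfl, im, hEr, e]
      rw [h1, ← Subgroup.map_sup,
        Cfsg.Agent.Transfer.NormalPComplement.pResidual_sup_sylow (p := p) T1,
        map_top_of_surjective σ hs]
    have hTn : T.Normal := normalizer_eq_top_iff.1 (top_le_iff.1 (hgen.ge.trans (sup_le
      (hZc.trans (center_le_normalizer _)) le_normalizer)))
    have hTall : ⊤ ≤ T := by
      refine (im_self σ hs).ge.trans ?_
      rw [im, map_le_iff_le_comap]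
      intro x _
      have hle : E0 ≤ (T.comap σ).map E0.subtype := weakClosure_le_iff.2 fun g hg y hy => by
        have hg0 : Q ⊛ g ≤ E0 := conj_le_weakClosure hg
        obtain ⟨T2, hT2⟩ := ((isPGroup_conj hQp g).comap_subtype (K := E0)).exists_le_sylow
        obtain ⟨a, ha⟩ := MulAction.exists_smul_eq ↥E0 T1 T2
        refine ⟨⟨y, hg0 hy⟩, ?_, rfl⟩
        have h2 : (⟨y, hg0 hy⟩ : ↥E0) ∈ (T2 : Subgroup ↥E0) := hT2 hy
        rw [← ha, Sylow.coe_subgroup_smul, mem_pointwise_smul_iff_inv_smul_mem] at h2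
        have h3 := mem_map_of_mem σ h2
        have h4 := hTn.conj_mem _ h3 (σ a)
        rw [SetLike.mem_coe, mem_comap]
        simp only [← map_inv, ← map_mul] at h4
        simpa [MulAut.smul_def, MulAut.conj_symm_apply, mul_assoc] using h4
      obtain ⟨z, hz, hzx⟩ := hle x.2
      exact (Subtype.ext hzx : z = x) ▸ hz
    intro a ha
    have hap : IsPGroup p ↥T := T1.2.map σ
    exact (QuotientGroup.eq_one_iff (⟨a, hEr0 ha⟩ : ↥E0)).1
      (eq_one_of_mem_pgroup hap (hTall (mem_top _)) (hZcop _ (mem_im σ (hEr0 ha) ha)))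
  have hres : resOf p Er = Er := by rw [hEr, resOf_resOf]
  have hperfG : Group.IsPerfect ↥Er := ⟨by
    apply map_injective Er.subtype_injective
    rw [_root_.commutator_def, map_commutator, ← MonoidHom.range_eq_map, range_subtype]
    exact hperf⟩
  -- the map onto `R`
  let f : ↥Er →* ↥R := (π.comp (inclusion hErE)).codRestrict R fun x => hER ▸ mem_im π _ x.2
  have hf : Function.Surjective f := fun ⟨r, hr⟩ => by
    rw [← hER] at hr
    obtain ⟨x, hx, rfl⟩ := hr
    exact ⟨⟨x, hx⟩, Subtype.ext rfl⟩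
  have hfker : f.ker = CU.subgroupOf Er := by
    ext x
    rw [MonoidHom.mem_ker, mem_subgroupOf, Subtype.ext_iff]
    exact hker (inclusion hErE x)
  refine ⟨hsupR, hperf, hres, ?_, ?_, fun Y hYE hYp hYn => ?_⟩
  · exact Cfsg.Agent.Components.Basic.quasisimple_of_mulEquiv
      ((QuotientGroup.quotientKerEquivOfSurjective f hf).symm.trans
        (QuotientGroup.quotientMulEquivOfEq hfker)) hqs
  · have hOC : Cfsg.pCore p ↥Er ≤ f.ker := by
      intro x hx
      rw [MonoidHom.mem_ker]
      haveI : ((Cfsg.pCore p ↥Er).map f).Normal := (Cfsg.Agent.Cores.pCore_normal p).map f hf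
      have h1 : ((Cfsg.pCore p ↥Er).map f).map R.subtype ≤ Cfsg.pCoreOf p R :=
        map_mono (le_pCore inferInstance ((isPGroup_pCore p ↥Er).map f))
      have h2 := h1.trans (FrakH.pCoreOf_le_of_normal (p := p) le_top
        (normalizer_eq_top (H := R)).ge)
      rw [pCoreOf_top, hred] at h2
      exact Subtype.ext ((eq_bot_iff_forall _).1 (le_bot_iff.1 h2) _
        (mem_map_of_mem _ (mem_map_of_mem f hx)))
    refine isQuasisimple_of_central (QuotientGroup.lift (Cfsg.pCore p ↥Er) f hOC) ?_ hqs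
      (Group.IsPerfect.ofSurjective (f := QuotientGroup.mk' (Cfsg.pCore p ↥Er))
        (QuotientGroup.mk'_surjective _)) ?_
    · intro r
      obtain ⟨x, rfl⟩ := hf r
      exact ⟨QuotientGroup.mk x, rfl⟩
    · intro q hq
      obtain ⟨x, rfl⟩ := QuotientGroup.mk'_surjective (Cfsg.pCore p ↥Er) q
      have hx : x ∈ CU.subgroupOf Er := hfker ▸ (show x ∈ f.ker from hq)
      refine mem_center_iff.2 fun q' => ?_
      obtain ⟨y, rfl⟩ := QuotientGroup.mk'_surjective (Cfsg.pCore p ↥Er) q'
      rw [← commutatorElement_eq_one_iff_mul_comm, ← map_commutatorElement]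
      refine (QuotientGroup.eq_one_iff _).2 ?_
      have h1 : D ⊓ Er ≤ Cfsg.pCoreOf p Er := le_pCoreOf inf_le_right
        ((le_inf (hErE.trans hED) le_normalizer).trans inf_normalizer_le_normalizer_inf)
        ((isPGroup_pCoreOf p C).to_le inf_le_left)
      obtain ⟨z, hz, hze⟩ := h1 (show ((⁅y, x⁆ : ↥Er) : G) ∈ D ⊓ Er from
        ⟨hCD (commutator_mem_commutator (hEr0 y.2) ⟨hErE x.2, hx⟩), (⁅y, x⁆ : ↥Er).2⟩)
      exact (Subtype.ext hze : z = ⁅y, x⁆) ▸ hz
  · set L := ⁅Er, Y⁆ with hL
    have hLle : L ≤ Er := commutator_le_left_iff.2 (hYE.trans hEEr)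
    have hErL : Er ≤ normalizer (L : Set G) := normalizer_commutator_ge_left Er Y
    have hEL : im π L = R := by
      rw [hL, hcomap _ _ hErE hYE, hER]
      exact commutator_eq hqs hred hp (isPGroup_im π hYp) (himne Y hYE hYn)
    have h1 : Er ≤ L ⊔ C := himle _ _ hErE (hLle.trans hErE) (by rw [hEL, hER])
    refine le_antisymm hLle ?_
    have hW : ∀ x ∈ Er, x ∈ L ⊔ (D ⊓ Er) := by
      have hDn : Er ≤ normalizer ((D ⊓ Er : Subgroup G) : Set G) :=
        (le_inf (hErE.trans hED) le_normalizer).trans inf_normalizer_le_normalizer_inf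
      have hWn : Er ≤ normalizer ((L ⊔ (D ⊓ Er) : Subgroup G) : Set G) :=
        (le_inf hErL hDn).trans (normalizer_inf_normalizer_le_normalizer_sup _ _)
      have hdec : Er ≤ L ⊔ (C ⊓ Er) := by
        intro x hx
        have hx1 := h1 hx
        rw [← SetLike.mem_coe,
          coe_mul_of_left_le_normalizer_right _ _ ((hLle.trans hErE).trans hEC)] at hx1
        obtain ⟨l, hl, c, hc, rfl⟩ := hx1
        refine mul_mem (mem_sup_left hl) (mem_sup_right ⟨hc, ?_⟩)
        have := mul_mem (inv_mem (hLle hl)) hx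
        simpa using this
      have h2 : ⁅Er, Er⁆ ≤ L ⊔ (D ⊓ Er) := by
        refine (commutator_mono hdec le_rfl).trans (AmalgamVIter.commutator_sup_le (hLle.trans hWn)
          (inf_le_right.trans hWn) ((commutator_le_left_iff.2 hErL).trans le_sup_left) ?_)
        refine (le_inf ?_ ?_).trans le_sup_right
        · exact (Subgroup.commutator_comm (C ⊓ Er) Er).le.trans
            ((commutator_mono hEr0 inf_le_left).trans hCD)
        · exact (commutator_mono inf_le_right le_rfl).trans (commutator_le_self Er)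
      exact fun x hx => h2 (hperf.ge hx)
    refine hres.ge.trans (resOf_le_of_isPGroup_quotient hLle hErL fun x hx => ?_)
    have hx' := hW x hx
    rw [sup_comm, ← SetLike.mem_coe,
      coe_mul_of_left_le_normalizer_right _ _ (inf_le_right.trans hErL)] at hx'
    obtain ⟨o, ho, c, hc, rfl⟩ := hx'
    obtain ⟨k, hk⟩ := isPGroup_pCoreOf p C ⟨o, (mem_inf.1 ho).1⟩
    refine ⟨k, ?_⟩
    have h3 := inv_pow_mul_mul_pow_mem (hErL (mem_inf.1 ho).2) hc (p ^ k)
    rwa [show o ^ p ^ k = 1 from congrArg Subtype.val hk, inv_one, one_mul] at h3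

end Cfsg.Agent.CharP.LargeQS
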