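import Cfsg.Agent.Lib.Leech.Gen
import Cfsg.Agent.Lib.Golay.M24

/-!
A quadratic map on the rank-24 lattice with values in `ZMod 2`, invariant under the automorphism
group of the lattice, vanishes on the vectors with all coordinates divisible by four.
Only sign changes on code words and permutations from `M24` are used.
-/

set_option autoImplicit false

set_option linter.unusedSectionVars false

namespace Cfsg.Agent.CharP.LeechForm

open Cfsg Cfsg.Agent.Leech.Basic Cfsg.Agent.Leech.Gen Cfsg.Agent.Golay.Design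
  Cfsg.Agent.Golay.Basic Finset

/-- The polarisation. -/
def pol (f : leechLattice → ZMod 2) (v w : leechLattice) : ZMod 2 := f (v + w) + f v + f w

/-- An invariant quadratic map. -/
structure InvForm (f : leechLattice → ZMod 2) : Prop where
  bil : ∀ u v w, pol f (u + v) w = pol f u w + pol f v w
  dbl : ∀ v, f (v + v) = 0
  inv : ∀ (g : Co0) (v : leechLattice), f (g • v) = f v

theorem U_mem (a b : GolayPt) :
    (Pi.single a 4 + Pi.single b 4 : GolayPt → ℤ) ∈ leechLattice := by
  rw [← closure_minVecs]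
  have h := four_even_mem (y := Pi.single a 1 + Pi.single b 1)
    (by simp [sum_add_distrib, sum_pi_single'])
  convert h using 1
  funext i
  simp only [Pi.add_apply, Pi.single_apply]
  split_ifs <;> norm_num

/-- `4e_a + 4e_b` as a lattice vector. -/
def U (a b : GolayPt) : leechLattice := ⟨Pi.single a 4 + Pi.single b 4, U_mem a b⟩

theorem U_apply (a b i : GolayPt) :
    (U a b : GolayPt → ℤ) i = (if i = a then 4 else 0) + (if i = b then 4 else 0) := by
  simp [U, Pi.single_apply]

theorem U_comm (a b : GolayPt) : U a b = U b a := by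
  apply Subtype.ext; funext i; rw [U_apply, U_apply]; ring

theorem U_triangle (a b c : GolayPt) : U a b + U b c = U a c + U b b := by
  apply Subtype.ext; funext i
  simp only [AddSubgroup.coe_add, Pi.add_apply, U_apply]; ring

theorem U_diag (a b : GolayPt) : U a a = U b b + ((U a b - U b b) + (U a b - U b b)) := by
  apply Subtype.ext; funext i
  simp only [AddSubgroup.coe_add, AddSubgroup.coe_sub, Pi.add_apply, Pi.sub_apply, U_apply]; ring

theorem exists_avoid (s : Finset GolayPt) (h : s.card < 24) : ∃ a, a ∉ s := by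
  by_contra hc
  push Not at hc
  have hs : s = univ := eq_univ_of_forall hc
  rw [hs, card_univ, show Fintype.card GolayPt = 24 by decide] at h
  omega

/-- Permutation by an element of `M24` as a lattice automorphism. -/
theorem exists_perm {σ : Equiv.Perm GolayPt} (hσ : σ ∈ M24) :
    ∃ g : Co0, ∀ (v : leechLattice) (i : GolayPt),
      ((g • v : leechLattice) : GolayPt → ℤ) i = (v : GolayPt → ℤ) (σ i) := by
  let e : Equiv.Perm leechLattice :=
    { toFun := fun v => ⟨fun i => (v : GolayPt → ℤ) (σ i), perm_mem hσ v.2⟩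
      invFun := fun v => ⟨fun i => (v : GolayPt → ℤ) (σ⁻¹ i), perm_mem (M24.inv_mem hσ) v.2⟩
      left_inv := fun v => Subtype.ext (funext fun i => by simp)
      right_inv := fun v => Subtype.ext (funext fun i => by simp) }
  refine ⟨⟨e, fun v w => Subtype.ext (funext fun i => ?_), fun v => ?_⟩, fun v i => rfl⟩
  · simp [e]
  · exact Equiv.sum_comp σ fun i => (v : GolayPt → ℤ) i ^ 2

/-- Sign change on the support of a code word as a lattice automorphism. -/
theorem exists_sign {c : Finset GolayPt} (hc : c ∈ codeSets) :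
    ∃ g : Co0, ∀ (v : leechLattice) (i : GolayPt),
      ((g • v : leechLattice) : GolayPt → ℤ) i =
        if i ∈ c then -(v : GolayPt → ℤ) i else (v : GolayPt → ℤ) i := by
  let F : leechLattice → leechLattice := fun v => ⟨_, sign_mem hc v.2⟩
  have hF : Function.Involutive F := fun v => Subtype.ext (funext fun i => by
    by_cases h : i ∈ c <;> simp [F, h])
  refine ⟨⟨hF.toPerm F, fun v w => Subtype.ext (funext fun i => ?_), fun v => ?_⟩, fun v i => rfl⟩
  · by_cases h : i ∈ c <;> simp [F, h]; ring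
  · exact sum_congr rfl fun i _ => by by_cases h : i ∈ c <;> simp [F, h]

theorem perm_U {n : ℕ} (hn : n ≤ 5) (x y : Fin n → GolayPt) (hx : Function.Injective x)
    (hy : Function.Injective y) :
    ∃ g : Co0, ∀ i j, g • U (x i) (x j) = U (y i) (y j) := by
  obtain ⟨σ, hσ, h⟩ := Cfsg.Agent.Golay.M24.exists_map_tuple hn ⟨y, hy⟩ ⟨x, hx⟩
  obtain ⟨g, hg⟩ := exists_perm hσ
  refine ⟨g, fun i j => Subtype.ext (funext fun k => ?_)⟩
  have hi : σ (y i) = x i := h i
  have hj : σ (y j) = x j := h j
  rw [hg, U_apply, U_apply, ← hi, ← hj]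
  simp only [σ.injective.eq_iff]

theorem inj_two {a b : GolayPt} (h : a ≠ b) : Function.Injective ![a, b] := by
  intro i j hij; fin_cases i <;> fin_cases j <;> simp_all

theorem inj_three {a b c : GolayPt} (h1 : a ≠ b) (h2 : a ≠ c) (h3 : b ≠ c) :
    Function.Injective ![a, b, c] := by
  intro i j hij; fin_cases i <;> fin_cases j <;> simp_all

theorem inj_four {a b c d : GolayPt} (h1 : a ≠ b) (h2 : a ≠ c) (h3 : a ≠ d) (h4 : b ≠ c)
    (h5 : b ≠ d) (h6 : c ≠ d) : Function.Injective ![a, b, c, d] := by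
  intro i j hij; fin_cases i <;> fin_cases j <;> simp_all

theorem zmod_two_cancel {x y : ZMod 2} (h : x + x + y = 0) : y = 0 := by
  revert x y; decide

variable {f : leechLattice → ZMod 2}

theorem pol_comm (v w : leechLattice) : pol f v w = pol f w v := by
  rw [pol, pol, add_comm v w]; ring

namespace InvForm

variable (hf : InvForm f)
include hf

theorem f_zero : f 0 = 0 := by simpa using hf.dbl 0

theorem pol_self (v : leechLattice) : pol f v v = 0 := by
  rw [pol, hf.dbl]; have := CharTwo.add_self_eq_zero (f v); simpa using this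

theorem pol_add_right (u v w : leechLattice) : pol f u (v + w) = pol f u v + pol f u w := by
  rw [pol_comm, hf.bil, pol_comm v, pol_comm w]

/-- The polarisation in the first argument as a homomorphism. -/
theorem pol_hom (w : leechLattice) : ∃ φ : leechLattice →+ ZMod 2, ∀ v, φ v = pol f v w :=
  ⟨AddMonoidHom.mk' (fun v => pol f v w) fun u v => hf.bil u v w, fun _ => rfl⟩

theorem pol_double (v w : leechLattice) : pol f v (w + w) = 0 := by
  rw [hf.pol_add_right]; exact CharTwo.add_self_eq_zero _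

theorem add_double (v w : leechLattice) : f (v + (w + w)) = f v := by
  have h := hf.pol_double v w
  rw [pol, hf.dbl, add_zero] at h
  exact CharTwo.add_eq_zero.1 h

theorem f_add (v w : leechLattice) : f (v + w) = f v + f w + pol f v w := by
  rw [pol]
  have : ∀ x y z : ZMod 2, x = y + z + (x + y + z) := by decide
  exact this _ _ _

theorem pol_inv (g : Co0) (v w : leechLattice) : pol f (g • v) (g • w) = pol f v w := by
  have h : g • (v + w) = g • v + g • w := g.2.1 v w
  rw [pol, pol, ← h, hf.inv, hf.inv, hf.inv]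

theorem diag_eq (a b : GolayPt) : f (U a a) = f (U b b) := by
  rw [U_diag a b, hf.add_double]

theorem pol_diag_eq (v : leechLattice) (a b : GolayPt) :
    pol f v (U a a) = pol f v (U b b) := by
  rw [U_diag a b, hf.pol_add_right, hf.pol_double, add_zero]

theorem f_pair {a b a' b' : GolayPt} (h : a ≠ b) (h' : a' ≠ b') : f (U a b) = f (U a' b') := by
  obtain ⟨g, hg⟩ := perm_U (by norm_num) ![a, b] ![a', b'] (inj_two h) (inj_two h')
  have : g • U a b = U a' b' := hg 0 1
  rw [← this, hf.inv]

theorem pol_pair_diag_eq {a b a' b' : GolayPt} (h : a ≠ b) (h' : a' ≠ b') (x y : GolayPt) :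
    pol f (U a b) (U x x) = pol f (U a' b') (U y y) := by
  obtain ⟨g, hg⟩ := perm_U (by norm_num) ![a, b] ![a', b'] (inj_two h) (inj_two h')
  have h1 : g • U a b = U a' b' := hg 0 1
  have h2 : g • U a a = U a' a' := hg 0 0
  rw [hf.pol_diag_eq _ x a, hf.pol_diag_eq _ y a', ← h1, ← h2, hf.pol_inv]

theorem sign_eq {c : Finset GolayPt} (hc : c ∈ codeSets) {v : leechLattice} {a : GolayPt}
    (ha : a ∈ c) (hv : ∀ i ∈ c, (v : GolayPt → ℤ) i = if i = a then 4 else 0) :
    pol f v (U a a) = f (U a a) := by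
  obtain ⟨g, hg⟩ := exists_sign hc
  have hgv : g • v + U a a = v := by
    apply Subtype.ext; funext i
    rw [AddSubgroup.coe_add, Pi.add_apply, hg, U_apply]
    by_cases hi : i ∈ c
    · rw [if_pos hi, hv i hi]; split_ifs <;> norm_num
    · rw [if_neg hi, if_neg fun h : i = a => hi (h ▸ ha)]; ring
  have h2 := hf.f_add (g • v) (U a a)
  rw [hgv, hf.inv] at h2
  have h3 : pol f (g • v) (U a a) = pol f v (U a a) := by
    have := hf.bil (g • v) (U a a) (U a a)
    rw [hgv, hf.pol_self, add_zero] at this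
    exact this.symm
  rw [h3] at h2
  have : ∀ x y z : ZMod 2, x = x + y + z → z = y := by decide
  exact this _ _ _ h2

theorem exists_octad_points : ∃ o ∈ octads, ∃ a b c d, a ∈ o ∧ b ∉ o ∧ c ∉ o ∧ d ∉ o ∧
    c ≠ d ∧ b ≠ c ∧ b ≠ d := by
  obtain ⟨o, ho⟩ : octads.Nonempty := Set.nonempty_of_ncard_ne_zero (by rw [octads_ncard]; norm_num)
  have h8 := octad_card ho
  obtain ⟨a, ha⟩ : o.Nonempty := card_pos.1 (by omega)
  obtain ⟨b, c, d, hb, hc, hd, hbc, hbd, hcd⟩ := two_lt_card_iff.1
    (show 2 < oᶜ.card by rw [card_compl, h8, show Fintype.card GolayPt = 24 by decide]; norm_num)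
  exact ⟨o, ho, a, b, c, d, ha, mem_compl.1 hb, mem_compl.1 hc, mem_compl.1 hd, hcd, hbc, hbd⟩

theorem diag_facts : (∀ a, f (U a a) = 0) ∧
    ∀ a b x, a ≠ b → pol f (U a b) (U x x) = 0 := by
  obtain ⟨o, ho, a, b, c, d, ha, hb, hc, hd, hcd, -, -⟩ := hf.exists_octad_points
  have hab : a ≠ b := fun h => hb (h ▸ ha)
  have h1 := hf.sign_eq ho.1 (v := U a b) ha fun i hi => by
    rw [U_apply, if_neg (c := i = b) fun h => hb (h ▸ hi), add_zero]
  have h2 := hf.sign_eq ho.1 (v := U a b + U c d) ha fun i hi => by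
    rw [AddSubgroup.coe_add, Pi.add_apply, U_apply, U_apply, if_neg (c := i = b) fun h => hb (h ▸ hi),
      if_neg (c := i = c) fun h => hc (h ▸ hi), if_neg (c := i = d) fun h => hd (h ▸ hi)]
    ring
  rw [hf.bil, h1, hf.pol_pair_diag_eq hcd hab a a, h1] at h2
  have h0 : f (U a a) = 0 := zmod_two_cancel (x := f (U a a)) (by
    have : ∀ x : ZMod 2, x + x = x → x + x + x = 0 := by decide
    exact this _ h2)
  refine ⟨fun x => (hf.diag_eq x a).trans h0, fun p q x hpq => ?_⟩
  rw [hf.pol_pair_diag_eq hpq hab x a, h1, h0]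

theorem pol_disjoint {a b d e : GolayPt} (h1 : a ≠ b) (h2 : a ≠ d) (h3 : a ≠ e) (h4 : b ≠ d)
    (h5 : b ≠ e) (h6 : d ≠ e) : pol f (U a b) (U d e) = 0 := by
  obtain ⟨c, hc⟩ := exists_avoid {a, b, d, e} (lt_of_le_of_lt card_le_four (by norm_num))
  simp only [mem_insert, mem_singleton, not_or] at hc
  obtain ⟨ca, cb, cd, ce⟩ := hc
  have key := hf.bil (U a b) (U b c) (U d e)
  rw [U_triangle, hf.bil, pol_comm (U b b), hf.diag_facts.2 d e b h6, add_zero] at key
  obtain ⟨g, hg⟩ := perm_U (by norm_num) ![b, c, d, e] ![a, b, d, e]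
    (inj_four (Ne.symm cb) h4 h5 cd ce h6) (inj_four h1 h2 h3 h4 h5 h6)
  have e1 : g • U b c = U a b := hg 0 1
  have e2 : g • U d e = U d e := hg 2 3
  obtain ⟨g', hg'⟩ := perm_U (by norm_num) ![a, c, d, e] ![a, b, d, e]
    (inj_four (Ne.symm ca) h2 h3 cd ce h6) (inj_four h1 h2 h3 h4 h5 h6)
  have e3 : g' • U a c = U a b := hg' 0 1
  have e4 : g' • U d e = U d e := hg' 2 3
  have r1 := hf.pol_inv g (U b c) (U d e)
  have r2 := hf.pol_inv g' (U a c) (U d e)
  rw [e1, e2] at r1
  rw [e3, e4] at r2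
  rw [← r1, ← r2] at key
  have : ∀ x : ZMod 2, x = x + x → x = 0 := by decide
  exact this _ key

theorem pol_adjacent {a b c : GolayPt} (h1 : a ≠ b) (h2 : a ≠ c) (h3 : b ≠ c) :
    pol f (U a b) (U a c) = 0 := by
  obtain ⟨o, ho, p, q, -, -, hp, hq, -, -, -, -, -⟩ := hf.exists_octad_points
  have h8 := octad_card ho
  have hpq : p ≠ q := fun h => hq (h ▸ hp)
  have hterm : ∀ i ∈ o.erase p, pol f (U p i) (U p q) = pol f (U a b) (U a c) := by
    intro i hi
    obtain ⟨hip, hio⟩ := mem_erase.1 hi
    obtain ⟨g, hg⟩ := perm_U (by norm_num) ![p, i, q] ![a, b, c]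
      (inj_three (Ne.symm hip) hpq fun h => hq (h ▸ hio)) (inj_three h1 h2 h3)
    have e1 : g • U p i = U a b := hg 0 1
    have e2 : g • U p q = U a c := hg 0 2
    rw [← e1, ← e2, hf.pol_inv]
  obtain ⟨φ, hφ⟩ := hf.pol_hom (U p q)
  let x : leechLattice := ⟨twoInd o, (twoInd_mem ho).1⟩
  have hsum : ∑ i ∈ o.erase p, U p i = (x + x) + (U p p + (U p p + U p p)) := by
    apply Subtype.ext; funext j
    rw [AddSubgroup.val_finsetSum, Finset.sum_apply]
    simp only [AddSubgroup.coe_add, Pi.add_apply, x, twoInd, U_apply, sum_add_distrib, sum_const,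
      sum_ite_eq]
    rw [card_erase_of_mem hp, h8]
    by_cases hj : j = p
    · subst hj; simp [ind, hp]
    · by_cases hjo : j ∈ o <;> simp [ind, hj, hjo]
  have hL : φ (∑ i ∈ o.erase p, U p i) = 7 • pol f (U a b) (U a c) := by
    rw [map_sum, sum_congr rfl fun i hi => (hφ _).trans (hterm i hi), sum_const,
      card_erase_of_mem hp, h8]
  have hp0 : pol f (U p p) (U p q) = 0 := by rw [pol_comm]; exact hf.diag_facts.2 p q p hpq
  rw [hsum, map_add, map_add, map_add, map_add, CharTwo.add_self_eq_zero, hφ, hp0] at hL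
  have h7 : ∀ z : ZMod 2, (7 : ℕ) • z = z := by decide
  rw [h7] at hL
  rw [← hL]
  simp

theorem f_pair_zero {a b : GolayPt} (h : a ≠ b) : f (U a b) = 0 := by
  obtain ⟨c, hc⟩ := exists_avoid {a, b} (lt_of_le_of_lt card_le_two (by norm_num))
  simp only [mem_insert, mem_singleton, not_or] at hc
  obtain ⟨ca, cb⟩ := hc
  have key := hf.f_add (U a b) (U b c)
  rw [U_triangle, hf.f_add, hf.diag_facts.1, hf.diag_facts.2 a c b (Ne.symm ca),
    show pol f (U a b) (U b c) = 0 by
      rw [U_comm a b]; exact hf.pol_adjacent (Ne.symm h) (Ne.symm cb) (Ne.symm ca),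
    hf.f_pair (Ne.symm ca) h, hf.f_pair (Ne.symm cb) h] at key
  have : ∀ x : ZMod 2, x + 0 + 0 = x + x + 0 → x = 0 := by decide
  exact this _ key

theorem f_U (a b : GolayPt) : f (U a b) = 0 := by
  rcases eq_or_ne a b with rfl | h
  · exact hf.diag_facts.1 a
  · exact hf.f_pair_zero h

theorem pol_U (a b c d : GolayPt) : pol f (U a b) (U c d) = 0 := by
  rcases eq_or_ne c d with rfl | hcd
  · rcases eq_or_ne a b with rfl | hab
    · rw [hf.pol_diag_eq _ c a, hf.pol_self]
    · exact hf.diag_facts.2 a b c hab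
  rcases eq_or_ne a b with rfl | hab
  · rw [pol_comm]; exact hf.diag_facts.2 c d a hcd
  by_cases hac : a = c
  · subst hac
    by_cases hbd : b = d
    · subst hbd; exact hf.pol_self _
    · exact hf.pol_adjacent hab hcd hbd
  by_cases had : a = d
  · subst had
    rw [U_comm c a]
    by_cases hbc : b = c
    · subst hbc; exact hf.pol_self _
    · exact hf.pol_adjacent hab (Ne.symm hcd) hbc
  by_cases hbc : b = c
  · subst hbc
    rw [U_comm a b]
    exact hf.pol_adjacent (Ne.symm hab) hcd had
  by_cases hbd : b = d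
  · subst hbd
    rw [U_comm a b, U_comm c b]
    exact hf.pol_adjacent (Ne.symm hab) (Ne.symm hcd) hac
  exact hf.pol_disjoint hab hac had hbc hbd hcd

/-- The span of the vectors `U a b` and of the doubles. -/
theorem f_eq_zero {v : leechLattice}
    (hv : v ∈ AddSubgroup.closure (Set.range (fun p : GolayPt × GolayPt => U p.1 p.2))) :
    ∀ w : leechLattice, f (v + (w + w)) = 0 := by
  intro w
  rw [hf.add_double]
  have hpol : ∀ u ∈ AddSubgroup.closure (Set.range (fun p : GolayPt × GolayPt => U p.1 p.2)),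
      ∀ a b, pol f u (U a b) = 0 := by
    intro u hu a b
    obtain ⟨φ, hφ⟩ := hf.pol_hom (U a b)
    rw [← hφ]
    have : AddSubgroup.closure (Set.range (fun p : GolayPt × GolayPt => U p.1 p.2)) ≤ φ.ker := by
      rw [AddSubgroup.closure_le]
      rintro _ ⟨p, rfl⟩
      exact (hφ _).trans (hf.pol_U _ _ _ _)
    exact this hu
  induction hv using AddSubgroup.closure_induction_right with
  | zero => exact hf.f_zero
  | add_right x hx y hy ih =>
    obtain ⟨p, rfl⟩ := hy
    rw [hf.f_add, ih, hf.f_U, hpol x hx]; rfl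
  | add_neg_cancel x hx y hy ih =>
    obtain ⟨p, rfl⟩ := hy
    rw [show x + -U p.1 p.2 = x + U p.1 p.2 + (-U p.1 p.2 + -U p.1 p.2) by abel, hf.add_double,
      hf.f_add, ih, hf.f_U, hpol x hx]; rfl

end InvForm

end Cfsg.Agent.CharP.LeechForm
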