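import Mathlib
import Cfsg.Prelude.Def_ConjugacyFunctors
import Cfsg.Prelude.Def_PLocal
import Cfsg.Agent.Lib.Fusion.Basic
import Cfsg.Agent.Lib.CharP.AgemoNormal
import Cfsg.Agent.Lib.Cores.Basic
import Cfsg.Agent.Lib.PLocal.MaxAbelian
import Cfsg.Agent.Lib.PLocal.ThompsonTransfer

/-!
Control of fusion in a group of characteristic `p` by the centralizer of `p`-th powers in the centre
of a Sylow subgroup and the normalizer of a functor image.
-/

set_option autoImplicit false
set_option linter.unusedSectionVars false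
set_option linter.style.haveILetI false

universe u

namespace Cfsg.Agent.CharP.LocalControl

open Cfsg Cfsg.Agent.Fusion.Basic
open scoped commutatorElement

/-- The image of a functor at a subgroup. -/
def Wof (W : ∀ (Q : Type u) [Group Q], Subgroup Q) {G : Type u} [Group G] (R : Subgroup G) :
    Subgroup G := (W ↥R).map R.subtype

/-- Invariance under isomorphisms. -/
def IsoInv (p : ℕ) (W : ∀ (Q : Type u) [Group Q], Subgroup Q) : Prop :=
  ∀ (Q R : Type u) [Group Q] [Group R] [Finite Q], IsPGroup p Q → ∀ φ : Q ≃* R,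
    (W Q).map φ.toMonoidHom = W R

variable {p : ℕ} {W : ∀ (Q : Type u) [Group Q], Subgroup Q}

section

variable {G H : Type u} [Group G] [Group H]

theorem Wof_le (R : Subgroup G) : Wof W R ≤ R := Subgroup.map_subtype_le _

/-- Transport of the functor along an isomorphism of subgroups. -/
theorem mem_Wof_iff (hW : IsoInv p W) {R : Subgroup G} [Finite R] (hR : IsPGroup p R)
    {R' : Subgroup H} (e : R ≃* R') (x : R) :
    (x : G) ∈ Wof W R ↔ (e x : H) ∈ Wof W R' := by
  have h := hW R R' hR e
  simp only [Wof, Subgroup.mem_map, Subgroup.coe_subtype]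
  constructor
  · rintro ⟨y, hy, he⟩
    rw [Subtype.ext he] at hy
    exact ⟨e x, h ▸ ⟨x, hy, rfl⟩, rfl⟩
  · rintro ⟨y, hy, he⟩
    rw [Subtype.ext he, ← h] at hy
    obtain ⟨z, hz, hze⟩ := hy
    exact ⟨x, e.injective (show e z = e x from hze) ▸ hz, rfl⟩

theorem Wof_img (hW : IsoInv p W) {R : Subgroup G} [Finite R] (hR : IsPGroup p R) {f : G → G}
    (hf : IsHomOn R f) (hinj : Set.InjOn f (R : Set G)) :
    img f (Wof W R) = Wof W (img f R) := by
  let e : R ≃* (img f R : Subgroup G) := MulEquiv.ofBijective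
    (MonoidHom.mk' (fun x : R => (⟨f x, mem_img_self f x.2⟩ : (img f R : Subgroup G)))
      fun x y => Subtype.ext (hf x x.2 y y.2))
    ⟨fun x y h => Subtype.ext (hinj x.2 y.2 (congrArg Subtype.val h)), fun y => by
      have hy : (y : G) ∈ ((img f R : Subgroup G) : Set G) := y.2
      rw [coe_img_of_hom hf] at hy
      obtain ⟨x, hx, hxy⟩ := hy
      exact ⟨⟨x, hx⟩, Subtype.ext hxy⟩⟩
  refine le_antisymm (img_le fun x hx => (mem_Wof_iff hW hR e ⟨x, Wof_le R hx⟩).1 hx) fun y hy => ?_
  obtain ⟨x, hx⟩ := e.surjective ⟨y, Wof_le _ hy⟩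
  have hxy : f x = y := congrArg Subtype.val hx
  rw [← hxy]
  refine mem_img_self f ((mem_Wof_iff hW hR e x).2 ?_)
  rw [hx]
  exact hy

theorem isHomOn_cj (g : G) (R : Subgroup G) : IsHomOn R (cj g) := fun x _ y _ => by
  simp [cj, mul_assoc]

theorem injOn_cj (g : G) (R : Subgroup G) : Set.InjOn (cj g) (R : Set G) := fun x _ y _ h => by
  simpa [cj] using h

theorem normalizer_le_Wof (hW : IsoInv p W) {R : Subgroup G} [Finite R] (hR : IsPGroup p R) :
    Subgroup.normalizer (R : Set G) ≤ Subgroup.normalizer (Wof W R : Set G) := by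
  intro g hg
  have h1 := Wof_img hW hR (isHomOn_cj g R) (injOn_cj g R)
  rw [img_cj_eq_of_mem_normalizer hg] at h1
  have hg' := Subgroup.inv_mem _ hg
  have h2 := Wof_img hW hR (isHomOn_cj g⁻¹ R) (injOn_cj g⁻¹ R)
  rw [img_cj_eq_of_mem_normalizer hg'] at h2
  refine Subgroup.mem_normalizer_iff.2 fun x => ⟨fun hx => h1 ▸ mem_img_self (cj g) hx, fun hx => ?_⟩
  have := mem_img_self (cj g⁻¹) hx
  rw [h2] at this
  simpa [cj, mul_assoc] using this

/-- `A` and its image under conjugation by `g` lie in `P`. -/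
def InP (P A : Subgroup G) (g : G) : Prop := A ≤ P ∧ ∀ a ∈ A, cj g a ∈ P

theorem InP.mono {P A B : Subgroup G} {g : G} (h : InP P A g) (hB : B ≤ A) : InP P B g :=
  ⟨hB.trans h.1, fun a ha => h.2 a (hB ha)⟩

theorem InP.sup {P A B : Subgroup G} {g : G} (hA : InP P A g) (hB : InP P B g) :
    InP P (A ⊔ B) g := by
  refine ⟨sup_le hA.1 hB.1, fun a ha => ?_⟩
  have : A ⊔ B ≤ P.comap (MulAut.conj g).toMonoidHom := sup_le hA.2 hB.2
  exact this ha

end

/-- Fusion in `P` is controlled by the centralizer of `U₀` and the normalizer of `Wof W P`. -/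
def ControlAt (W : ∀ (Q : Type u) [Group Q], Subgroup Q) (fix : Prop) {G : Type u} [Group G]
    (U₀ P : Subgroup G) : Prop :=
  ∀ good : Subgroup G → G → Prop,
    (∀ A g k, InP P A g → InP P (img (cj g) A) k → good A g → good (img (cj g) A) k →
      good A (k * g)) →
    (∀ A B g, B ≤ A → InP P A g → good A g → good B g) →
    (∀ A g, InP P A g → U₀ ≤ A → (∀ u ∈ U₀, g * u * g⁻¹ = u) → good A g) →
    (∀ A g, InP P A g → Wof W P ≤ A → g ∈ Subgroup.normalizer (Wof W P : Set G) → good A g) →
    (fix → ∀ A g, InP P A g → U₀ ≤ A → good A g → ∀ u ∈ U₀, g * u * g⁻¹ = u) →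
    ∀ A g, InP P A g → good A g

/-- The local condition used for climbing. -/
def Local (p m : ℕ) (W : ∀ (Q : Type u) [Group Q], Subgroup Q) (fix : Prop) : Prop :=
  ∀ (G : Type u) [Group G] [Finite G] (P : Sylow p G),
    Subgroup.centralizer ((pCore p G : Subgroup G) : Set G) ≤ pCore p G →
    ∀ U₀ : Subgroup G, U₀ ≤ powerClosure p m ((P : Subgroup G) ⊓ Subgroup.centralizer (P : Set G)) →
      ControlAt W fix U₀ (P : Subgroup G)

section Powers

variable {G : Type u} [Group G] [Finite G] [Fact p.Prime]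

theorem exists_pow_eq {V : Subgroup G} [IsMulCommutative V] {m : ℕ} {x : G}
    (hx : x ∈ powerClosure p m V) : ∃ y ∈ V, x = y ^ (p ^ m) := by
  induction hx using Subgroup.closure_induction with
  | mem y hy => exact hy
  | one => exact ⟨1, V.one_mem, (one_pow _).symm⟩
  | mul a b _ _ iha ihb =>
    obtain ⟨u, hu, rfl⟩ := iha
    obtain ⟨v, hv, rfl⟩ := ihb
    refine ⟨u * v, V.mul_mem hu hv, ?_⟩
    rw [Commute.mul_pow (congrArg Subtype.val (mul_comm' (⟨u, hu⟩ : V) ⟨v, hv⟩))]
  | inv a _ iha =>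
    obtain ⟨u, hu, rfl⟩ := iha
    exact ⟨u⁻¹, V.inv_mem hu, (inv_pow _ _).symm⟩

theorem powerClosure_le (m : ℕ) (V : Subgroup G) : powerClosure p m V ≤ V :=
  (Subgroup.closure_le _).2 (by rintro _ ⟨x, hx, rfl⟩; exact V.pow_mem hx _)

theorem powerClosure_mono (m : ℕ) {V V' : Subgroup G} (h : V ≤ V') :
    powerClosure p m V ≤ powerClosure p m V' :=
  Subgroup.closure_mono (by rintro _ ⟨x, hx, rfl⟩; exact ⟨x, h hx, rfl⟩)

theorem powerClosure_normal (m : ℕ) (V : Subgroup G) [V.Normal] :
    (powerClosure p m V).Normal := by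
  refine ⟨fun n hn g => ?_⟩
  have : powerClosure p m V ≤ (powerClosure p m V).comap (MulAut.conj g).toMonoidHom := by
    refine (Subgroup.closure_le _).2 ?_
    rintro _ ⟨x, hx, rfl⟩
    exact Subgroup.subset_closure ⟨g * x * g⁻¹, ‹V.Normal›.conj_mem x hx g, map_pow _ _ _⟩
  exact this hn

/-- A `p'`-element acting trivially on an abelian `p`-group modulo `p`-th powers centralizes it. -/
theorem fixes_of_coprime {V : Subgroup G} (hVp : IsPGroup p V) [IsMulCommutative V] {h : G}
    (hq : (orderOf h).Coprime p)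
    (hh : ∀ v ∈ V, h * v * h⁻¹ * v⁻¹ ∈ powerClosure p 1 V) : ∀ v ∈ V, h * v * h⁻¹ = v := by
  obtain ⟨e, he⟩ := IsPGroup.iff_card.1 hVp
  suffices ∀ d i, i + d = e → ∀ v ∈ V, h * v ^ (p ^ i) * h⁻¹ = v ^ (p ^ i) by
    intro v hv
    simpa using this e 0 (zero_add e) v hv
  intro d
  induction d with
  | zero =>
    intro i hi v hv
    have : v ^ (p ^ i) = 1 := by
      rw [show i = e by omega, ← he]
      exact congrArg Subtype.val (pow_card_eq_one' (x := (⟨v, hv⟩ : V)))
    rw [this]; group
  | succ d ih =>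
    intro i hi v hv
    obtain ⟨y, hy, hye⟩ := exists_pow_eq (hh v hv)
    have hy' := ih (i + 1) (by omega) y hy
    set w := (h * v * h⁻¹ * v⁻¹) ^ (p ^ i) with hw
    have hwy : w = y ^ (p ^ (i + 1)) := by
      rw [hw, hye, ← pow_mul, pow_one, ← pow_succ']
    have hwV : w ∈ V := hwy ▸ V.pow_mem hy _
    have hcomm : ∀ a ∈ V, ∀ b ∈ V, Commute a b := fun a ha b hb =>
      congrArg Subtype.val (mul_comm' (⟨a, ha⟩ : V) ⟨b, hb⟩)
    have hstep : h * v ^ (p ^ i) * h⁻¹ = w * v ^ (p ^ i) := by
      rw [hw, ← Commute.mul_pow (hcomm _ (powerClosure_le 1 V (hh v hv)) _ hv)]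
      rw [inv_mul_cancel_right, conj_pow]
    have hiter : ∀ k : ℕ, h ^ k * v ^ (p ^ i) * (h ^ k)⁻¹ = w ^ k * v ^ (p ^ i) := by
      intro k
      induction k with
      | zero => simp
      | succ k ihk =>
        rw [pow_succ', show h * h ^ k * v ^ (p ^ i) * (h * h ^ k)⁻¹ =
          h * (h ^ k * v ^ (p ^ i) * (h ^ k)⁻¹) * h⁻¹ by group, ihk,
          show h * (w ^ k * v ^ (p ^ i)) * h⁻¹ = (h * w * h⁻¹) ^ k * (h * v ^ (p ^ i) * h⁻¹) by
            rw [conj_pow]; group, hstep, show h * w * h⁻¹ = w by rw [hwy]; exact hy',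
          pow_succ, mul_assoc]
    have hwq : w ^ orderOf h = 1 := by
      have := hiter (orderOf h)
      rw [pow_orderOf_eq_one, one_mul, inv_one, mul_one] at this
      exact (right_eq_mul.1 this)
    have hw1 : w = 1 := by
      obtain ⟨k, hk⟩ := hVp ⟨w, hwV⟩
      have hk' : w ^ (p ^ k) = 1 := congrArg Subtype.val hk
      refine orderOf_eq_one_iff.1 (Nat.eq_one_of_dvd_coprimes (hq.pow_right k)
        (orderOf_dvd_of_pow_eq_one hwq) (orderOf_dvd_of_pow_eq_one hk'))
    rw [hstep, hw1, one_mul]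

end Powers

/-- Every element quadratic on `V` lies in `Q`. -/
def QuadIn {G : Type u} [Group G] (P Q V : Subgroup G) : Prop :=
  ∀ x ∈ P, (∀ v ∈ V, x * (x * v * x⁻¹ * v⁻¹) = (x * v * x⁻¹ * v⁻¹) * x) → x ∈ Q

section Control

variable [Fact p.Prime]

/-- Fusion control by `C(℧¹Z(P))` and `N(W(P))` from: quadratic elements inside the core force
`W(P)` to be normal. -/
theorem local_of_quad (hW : IsoInv p W)
    (key : ∀ (G : Type u) [Group G] [Finite G] (P : Sylow p G) (V : Subgroup G), V.Normal →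
      IsMulCommutative V → V ≤ pCore p G →
      (∀ v ∈ V, ∀ q ∈ pCore p G, q * v = v * q) →
      Subgroup.centralizer ((pCore p G : Subgroup G) : Set G) ≤ pCore p G →
      QuadIn (P : Subgroup G) (pCore p G) V → (Wof W (P : Subgroup G)).Normal) :
    Local p 1 W False := by
  suffices ∀ (n : ℕ) (G : Type u) [Group G] [Finite G], Nat.card G = n → ∀ (P : Sylow p G),
      Subgroup.centralizer ((pCore p G : Subgroup G) : Set G) ≤ pCore p G →
      ∀ U₀ : Subgroup G,
        U₀ ≤ powerClosure p 1 ((P : Subgroup G) ⊓ Subgroup.centralizer (P : Set G)) →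
        ControlAt W False U₀ (P : Subgroup G) from
    fun G _ _ P => this _ G rfl P
  intro n
  induction n using Nat.strong_induction_on with
  | _ n ih =>
  intro G _ _ hn P hchar U₀ hU good hcomp hres hC hN _ A g hA
  set Q := pCore p G with hQdef
  haveI hQn : Q.Normal := Cores.pCore_normal p
  have hQP : Q ≤ (P : Subgroup G) := Cores.pCore_le_sylow P
  set Z := (P : Subgroup G) ⊓ Subgroup.centralizer (P : Set G) with hZdef
  have hZQ : Z ≤ Q ⊓ Subgroup.centralizer (Q : Set G) := fun z hz =>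
    ⟨hchar (fun q hq => hz.2 q (hQP hq)), fun q hq => hz.2 q (hQP hq)⟩
  let V := Subgroup.normalClosure (Z : Set G)
  haveI hVn : V.Normal := Subgroup.normalClosure_normal
  have hVQ : V ≤ Q ⊓ Subgroup.centralizer (Q : Set G) := by
    haveI : (Subgroup.centralizer (Q : Set G)).Normal := Subgroup.normal_centralizer
    exact Subgroup.normalClosure_le_normal hZQ
  haveI hVc : IsMulCommutative V :=
    ⟨⟨fun a b => Subtype.ext ((hVQ b.2).2 a (hVQ a.2).1)⟩⟩
  have hVp : IsPGroup p V := (Cores.pCore_isPGroup p).to_le (hVQ.trans inf_le_left)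
  have hZV : Z ≤ V := Subgroup.le_normalClosure
  haveI hΨn := powerClosure_normal (p := p) 1 V
  set Ψ := powerClosure p 1 V with hΨdef
  have hUΨ : U₀ ≤ Ψ := hU.trans (powerClosure_mono 1 hZV)
  let K := Subgroup.centralizer (Ψ : Set G)
  haveI hKn : K.Normal := Subgroup.normal_centralizer
  obtain ⟨T, hT⟩ := AgemoNormal.exists_sylow_inf_normal P K
  set N := Subgroup.normalizer ((((T : Subgroup K).map K.subtype : Subgroup G)) : Set G) with hNdef
  have htop : N ⊔ K = ⊤ := Sylow.normalizer_sup_eq_top T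
  have hPN : (P : Subgroup G) ≤ N := by
    intro x hx
    rw [hNdef]
    refine Cfsg.Agent.PLocal.GlaubermanReplacement.mem_normalizer_of_conj_mem ?_
    rintro _ ⟨y, hy, rfl⟩
    refine ⟨⟨x * y * x⁻¹, hKn.conj_mem _ y.2 x⟩, (hT _).2 ?_, rfl⟩
    exact (P : Subgroup G).mul_mem ((P : Subgroup G).mul_mem hx ((hT y).1 hy))
      ((P : Subgroup G).inv_mem hx)
  have hKU : ∀ x ∈ K, ∀ u ∈ U₀, x * u * x⁻¹ = u := fun x hx u hu => by
    rw [← hx u (hUΨ hu)]; group
  have hU₀P : U₀ ≤ (P : Subgroup G) := hU.trans ((powerClosure_le 1 Z).trans inf_le_left)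
  have hPU : ∀ x ∈ (P : Subgroup G), ∀ u ∈ U₀, x * u * x⁻¹ = u := fun x hx u hu => by
    rw [(powerClosure_le 1 Z (hU hu)).2 x hx]; group
  have hCgood : ∀ B k, InP (P : Subgroup G) B k → (∀ u ∈ U₀, k * u * k⁻¹ = u) → good B k := by
    intro B k hB hk
    have hU0 : InP (P : Subgroup G) U₀ k :=
      ⟨hU₀P, fun u hu => by rw [cj_apply, hk u hu]; exact hU₀P hu⟩
    exact hres _ _ _ le_sup_left (hB.sup hU0) (hC _ _ (hB.sup hU0) le_sup_right hk)
  -- fusion inside the normalizer of `T`
  have hNgood : ∀ B k, InP (P : Subgroup G) B k → k ∈ N → good B k := by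
    by_cases hNtop : N = ⊤
    · have hTn : ((T : Subgroup K).map K.subtype).Normal := Subgroup.normalizer_eq_top_iff.1 hNtop
      have hTQ : (T : Subgroup K).map K.subtype ≤ Q := Cores.le_pCore (T.isPGroup'.map _)
      have hquad : QuadIn (P : Subgroup G) Q V := by
        intro x hxP hx
        have hxK : x ∈ K := by
          intro y hy
          have hpow : ∀ v ∈ V, ∀ k : ℕ,
              x ^ k * v * (x ^ k)⁻¹ = (x * v * x⁻¹ * v⁻¹) ^ k * v := by
            intro v hv k
            induction k with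
            | zero => simp
            | succ k ihk =>
              rw [pow_succ', show x * x ^ k * v * (x * x ^ k)⁻¹ =
                x * (x ^ k * v * (x ^ k)⁻¹) * x⁻¹ by group, ihk,
                show x * ((x * v * x⁻¹ * v⁻¹) ^ k * v) * x⁻¹ =
                  (x * (x * v * x⁻¹ * v⁻¹) ^ k) * v * x⁻¹ by group,
                ((show Commute x (x * v * x⁻¹ * v⁻¹) from hx v hv).pow_right k).eq, pow_succ]
              group
          -- the subgroup acting trivially modulo `Ψ`
          let L : Subgroup G :=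
            { carrier := {a | ∀ v ∈ V, a * v * a⁻¹ * v⁻¹ ∈ Ψ}
              one_mem' := fun v _ => by simp
              mul_mem' := fun {a b} ha hb v hv => by
                have e : a * b * v * (a * b)⁻¹ * v⁻¹ =
                    (a * (b * v * b⁻¹ * v⁻¹) * a⁻¹) * (a * v * a⁻¹ * v⁻¹) := by group
                rw [e]
                exact Ψ.mul_mem (hΨn.conj_mem _ (hb v hv) a) (ha v hv)
              inv_mem' := fun {a} ha v hv => by
                have e : a⁻¹ * v * a⁻¹⁻¹ * v⁻¹ = a⁻¹ * (a * v * a⁻¹ * v⁻¹)⁻¹ * a⁻¹⁻¹ := by group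
                rw [e]
                exact hΨn.conj_mem _ (Ψ.inv_mem (ha v hv)) a⁻¹ }
          haveI hLn : L.Normal := ⟨fun a ha b v hv => by
            have hv' : b⁻¹ * v * b ∈ V := by simpa using hVn.conj_mem v hv b⁻¹
            have e : b * a * b⁻¹ * v * (b * a * b⁻¹)⁻¹ * v⁻¹ =
                b * (a * (b⁻¹ * v * b) * a⁻¹ * (b⁻¹ * v * b)⁻¹) * b⁻¹ := by group
            rw [e]
            exact hΨn.conj_mem _ (ha _ hv') b⟩
          obtain ⟨T', hT'⟩ := AgemoNormal.exists_sylow_inf_normal P L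
          let M : Subgroup L := (Subgroup.centralizer (V : Set G)).subgroupOf L
          haveI hMn : M.Normal := Subgroup.Normal.subgroupOf Subgroup.normal_centralizer L
          have hquot : IsPGroup p (L ⧸ M) := by
            intro a
            obtain ⟨l, rfl⟩ := QuotientGroup.mk_surjective a
            obtain ⟨k, q, hq, hkq⟩ := Nat.exists_eq_pow_mul_and_not_dvd (orderOf_pos l).ne' p
              (Fact.out : p.Prime).ne_one
            refine ⟨k, ?_⟩
            rw [← QuotientGroup.mk_pow, QuotientGroup.eq_one_iff]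
            refine Subgroup.mem_subgroupOf.2 fun v hv => ?_
            have hord : (orderOf ((l ^ p ^ k : L) : G)).Coprime p := by
              refine Nat.Coprime.coprime_dvd_left ?_
                (((Fact.out : p.Prime).coprime_iff_not_dvd.2 hq).symm)
              refine orderOf_dvd_of_pow_eq_one ?_
              rw [Subgroup.coe_pow, ← pow_mul, ← hkq, ← Subgroup.coe_pow, pow_orderOf_eq_one]
              rfl
            have := fixes_of_coprime hVp hord (fun w hw => (l ^ p ^ k : L).2 w hw) v hv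
            rw [mul_inv_eq_iff_eq_mul] at this
            exact this.symm
          have hTM : (T' : Subgroup L) ⊔ M = ⊤ := by
            have h := (T'.mapSurjective (f := QuotientGroup.mk' M)
              (QuotientGroup.mk'_surjective M))
            have htop' : (T' : Subgroup L).map (QuotientGroup.mk' M) = ⊤ :=
              ((T'.mapSurjective (f := QuotientGroup.mk' M)
                (QuotientGroup.mk'_surjective M)).is_maximal' (Q := ⊤)
                (hquot.to_subgroup ⊤) le_top).symm
            have := congrArg (Subgroup.comap (QuotientGroup.mk' M)) htop'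
            rwa [Subgroup.comap_map_eq, QuotientGroup.ker_mk', Subgroup.comap_top] at this
          have hLZ : ∀ l : L, ∀ z ∈ Z, (l : G) * z * (l : G)⁻¹ = z := by
            intro l z hz
            have hl : l ∈ (T' : Subgroup L) ⊔ M := hTM ▸ Subgroup.mem_top l
            rw [← SetLike.mem_coe, Subgroup.mul_normal] at hl
            obtain ⟨t, ht, c, hc, rfl⟩ := hl
            have h1 : z * (c : G) = (c : G) * z := hc z (hZV hz)
            have h2 : (t : G) * z = z * (t : G) := hz.2 _ ((hT' t).1 ht)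
            rw [Subgroup.coe_mul, mul_assoc (t : G) (c : G) z, ← h1, ← mul_assoc (t : G) z,
              h2]
            group
          have hT'V : ∀ t ∈ (T' : Subgroup L), ∀ v ∈ V, (t : G) * v = v * (t : G) := by
            intro t ht
            suffices V ≤ Subgroup.centralizer {(t : G)} from
              fun v hv => (Subgroup.mem_centralizer_singleton_iff.1 (this hv)).symm
            refine (Subgroup.closure_le _).2 ?_
            intro v hv
            obtain ⟨z, hz, hzv⟩ := Group.mem_conjugatesOfSet_iff.1 hv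
            obtain ⟨c, hc⟩ := isConj_iff.1 hzv
            have hNL : Subgroup.normalizer
                ((((T' : Subgroup L).map L.subtype : Subgroup G)) : Set G) ⊔ L = ⊤ :=
              Sylow.normalizer_sup_eq_top T'
            have hcm : c ∈ ((Subgroup.normalizer
                ((((T' : Subgroup L).map L.subtype : Subgroup G)) : Set G) ⊔ L : Subgroup G) :
                  Set G) := by rw [hNL]; trivial
            rw [Subgroup.mul_normal] at hcm
            obtain ⟨n', hn', l, hl, rfl⟩ := hcm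
            obtain ⟨t', ht', hte⟩ :=
              (Subgroup.mem_normalizer_iff.1 (Subgroup.inv_mem _ hn') (t : G)).1 ⟨t, ht, rfl⟩
            have h2 : (t' : G) * z = z * (t' : G) := hz.2 _ ((hT' t').1 ht')
            have hte' : (t' : G) = n'⁻¹ * (t : G) * n'⁻¹⁻¹ := hte
            rw [hte', inv_inv] at h2
            rw [SetLike.mem_coe, Subgroup.mem_centralizer_singleton_iff, ← hc,
              show n' * l * z * (n' * l)⁻¹ = n' * (l * z * l⁻¹) * n'⁻¹ by group,
              hLZ ⟨l, hl⟩ z hz]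
            calc n' * z * n'⁻¹ * (t : G) = n' * (z * (n'⁻¹ * (t : G) * n')) * n'⁻¹ := by group
              _ = n' * ((n'⁻¹ * (t : G) * n') * z) * n'⁻¹ := by rw [h2]
              _ = (t : G) * (n' * z * n'⁻¹) := by group
          have hxpL : x ^ p ∈ L := by
            intro v hv
            rw [hpow v hv p, mul_inv_cancel_right]
            refine Subgroup.subset_closure ⟨_, ?_, by rw [pow_one]⟩
            exact V.mul_mem (hVn.conj_mem v hv x) (V.inv_mem hv)
          have hxpV := hT'V ⟨x ^ p, hxpL⟩ ((hT' _).2 ((P : Subgroup G).pow_mem hxP p))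
          obtain ⟨v, hv, rfl⟩ := exists_pow_eq hy
          have h1 : (x * v * x⁻¹ * v⁻¹) ^ p = 1 := by
            have := hpow v hv p
            rw [hxpV v hv, mul_inv_cancel_right] at this
            exact right_eq_mul.1 this
          have hcw : Commute (x * v * x⁻¹ * v⁻¹) v := congrArg Subtype.val
            (mul_comm' (⟨_, V.mul_mem (hVn.conj_mem v hv x) (V.inv_mem hv)⟩ : V) ⟨v, hv⟩)
          have h2 : x * v ^ (p ^ 1) * x⁻¹ = v ^ (p ^ 1) := by
            rw [pow_one]
            calc x * v ^ p * x⁻¹ = (x * v * x⁻¹ * v⁻¹ * v) ^ p := by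
                  rw [inv_mul_cancel_right, conj_pow]
              _ = v ^ p := by rw [hcw.mul_pow, h1, one_mul]
          rw [mul_inv_eq_iff_eq_mul] at h2
          exact h2.symm
        exact hTQ ⟨⟨x, hxK⟩, (hT _).2 hxP, rfl⟩
      haveI hWn : (Wof W (P : Subgroup G)).Normal :=
        key G P V hVn hVc (hVQ.trans inf_le_left) (fun v hv q hq => (hVQ hv).2 q hq) hchar hquad
      intro B k hB _
      have hWin : InP (P : Subgroup G) (Wof W (P : Subgroup G)) k :=
        ⟨Wof_le _, fun a ha => Wof_le _ (hWn.conj_mem a ha k)⟩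
      refine hres _ _ _ le_sup_left (hB.sup hWin) (hN _ _ (hB.sup hWin) le_sup_right ?_)
      rw [Subgroup.normalizer_eq_top]
      trivial
    · -- pass to the proper subgroup `N`
      have hlt : Nat.card N < Nat.card G := lt_of_le_of_ne (Subgroup.card_le_card_group N) fun h => hNtop (Subgroup.eq_top_of_card_eq N h)
      intro B k hB hk
      let PN : Sylow p N := P.subtype hPN
      have hPNmap : ((PN : Subgroup N)).map N.subtype = (P : Subgroup G) := by
        rw [Sylow.coe_subtype, Subgroup.map_subgroupOf_eq_of_le hPN]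
      have hmemP : ∀ x : N, x ∈ (PN : Subgroup N) ↔ (x : G) ∈ (P : Subgroup G) := fun x => by
        rw [Sylow.coe_subtype, Subgroup.mem_subgroupOf]
      have hQN : Q ≤ N := hQP.trans hPN
      have hcharN : Subgroup.centralizer ((pCore p N : Subgroup N) : Set N) ≤ pCore p N := by
        haveI : (Q.subgroupOf N).Normal := hQn.subgroupOf N
        have hle : Q.subgroupOf N ≤ pCore p N :=
          Cores.le_pCore ((Cores.pCore_isPGroup p).comap_of_injective _ N.subtype_injective)
        intro x hx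
        refine hle (Subgroup.mem_subgroupOf.2 (hchar fun q hq => ?_))
        exact congrArg Subtype.val (hx ⟨q, hQN hq⟩ (hle (Subgroup.mem_subgroupOf.2 hq)))
      let e : (PN : Subgroup N) ≃* (P : Subgroup G) :=
        (Subgroup.equivMapOfInjective _ N.subtype N.subtype_injective).trans
          (MulEquiv.subgroupCongr hPNmap)
      have hWmem : ∀ x : N, x ∈ Wof W (PN : Subgroup N) ↔ (x : G) ∈ Wof W (P : Subgroup G) := by
        intro x
        constructor
        · intro hx
          exact (mem_Wof_iff hW PN.isPGroup' e ⟨x, Wof_le _ hx⟩).1 hx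
        · intro hx
          exact (mem_Wof_iff hW PN.isPGroup' e ⟨x, (hmemP x).2 (Wof_le _ hx)⟩).2 hx
      let U₁ : Subgroup N := U₀.subgroupOf N
      have hU₁ : U₁ ≤ powerClosure p 1
          ((PN : Subgroup N) ⊓ Subgroup.centralizer ((PN : Subgroup N) : Set N)) := by
        intro x hx
        have hxu : (x : G) ∈ powerClosure p 1 Z := hU hx
        have hZc : IsMulCommutative Z :=
          ⟨⟨fun a b => Subtype.ext (b.2.2 a a.2.1)⟩⟩
        obtain ⟨y, hy, hye⟩ := exists_pow_eq hxu
        refine Subgroup.subset_closure ⟨⟨y, hPN hy.1⟩, ⟨(hmemP _).2 hy.1, fun q hq => ?_⟩, ?_⟩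
        · exact Subtype.ext (hy.2 q ((hmemP q).1 hq))
        · exact Subtype.ext hye
      have hin : ∀ (B' : Subgroup N) (k' : N), InP (PN : Subgroup N) B' k' →
          InP (P : Subgroup G) (B'.map N.subtype) (k' : G) := fun B' k' h =>
        ⟨by rintro _ ⟨b, hb, rfl⟩; exact (hmemP b).1 (h.1 hb),
          by rintro _ ⟨b, hb, rfl⟩; exact (hmemP _).1 (h.2 b hb)⟩
      have himg : ∀ (B' : Subgroup N) (k' : N),
          (img (cj k') B').map N.subtype = img (cj (k' : G)) (B'.map N.subtype) := by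
        intro B' k'
        rw [img_cj, img_cj, Subgroup.map_map, Subgroup.map_map]
        rfl
      have hgood := ih _ (hn ▸ hlt) N rfl PN hcharN U₁ hU₁
        (fun B' k' => good (B'.map N.subtype) (k' : G))
        (fun B' k' l hB' hl h1 h2 => hcomp _ _ _ (hin _ _ hB') (himg B' k' ▸ hin _ _ hl) h1
          (himg B' k' ▸ h2))
        (fun B' B'' k' hle hB' h1 => hres _ _ _ (Subgroup.map_mono hle) (hin _ _ hB') h1)
        (fun B' k' hB' hUB hfix => hCgood _ _ (hin _ _ hB') fun u hu =>
          congrArg Subtype.val (hfix ⟨u, hPN (hU₀P hu)⟩ hu))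
        (fun B' k' hB' hWB hk' => hN _ _ (hin _ _ hB') (fun w hw =>
            ⟨⟨w, hPN (Wof_le _ hw)⟩, hWB ((hWmem _).2 hw), rfl⟩) (by
          rw [Subgroup.mem_normalizer_iff] at hk' ⊢
          intro w
          constructor
          · intro hw
            exact (hWmem _).1 ((hk' ⟨w, hPN (Wof_le _ hw)⟩).1 ((hWmem _).2 hw))
          · intro hw
            have hwN : w ∈ N := by
              have := N.mul_mem (N.mul_mem (N.inv_mem k'.2) (hPN (Wof_le _ hw))) k'.2
              simpa [mul_assoc] using this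
            exact (hWmem _).1 ((hk' ⟨w, hwN⟩).2 ((hWmem _).2 hw))))
        (fun h => h.elim) (B.subgroupOf N) ⟨k, hk⟩
        ⟨fun b hb => (hmemP b).2 (hB.1 hb), fun b hb => (hmemP _).2 (hB.2 _ hb)⟩
      rwa [Subgroup.map_subgroupOf_eq_of_le (hB.1.trans hPN)] at hgood
  -- factorisation of an arbitrary element
  have hg : g ∈ ((K ⊔ N : Subgroup G) : Set G) := by rw [sup_comm, htop]; trivial
  rw [Subgroup.normal_mul] at hg
  obtain ⟨κ, hκ, ν, hν, rfl⟩ := hg
  set A₁ := img (cj ν) A with hA₁
  set H := ((P : Subgroup G) ⊔ K) ⊓ N with hHdef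
  have hA₁H : A₁ ≤ H := img_le fun a ha => by
    refine ⟨?_, N.mul_mem (N.mul_mem hν (hPN (hA.1 ha))) (N.inv_mem hν)⟩
    have h1 : cj ν a = κ⁻¹ * cj (κ * ν) a * κ := by simp only [cj]; group
    show cj ν a ∈ (P : Subgroup G) ⊔ K
    rw [h1]
    exact Subgroup.mul_mem _ (Subgroup.mul_mem _ (Subgroup.mem_sup_right (K.inv_mem hκ))
      (Subgroup.mem_sup_left (hA.2 a ha))) (Subgroup.mem_sup_right hκ)
  have hPH : (P : Subgroup G) ≤ H := le_inf le_sup_left hPN
  have hA₁p : IsPGroup p (A₁.subgroupOf H) := by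
    have h1 : IsPGroup p A₁ := by
      rw [hA₁, img_cj]
      exact (P.isPGroup'.to_le hA.1).map _
    exact h1.comap_of_injective _ H.subtype_injective
  obtain ⟨c, hc⟩ := Cfsg.Agent.Fusion.Saturation.exists_conj_le_sylow (P.subtype hPH) hA₁p
  have hHU : ∀ x ∈ H, ∀ u ∈ U₀, x * u * x⁻¹ = u := by
    intro x hx u hu
    have : (P : Subgroup G) ⊔ K ≤ Subgroup.centralizer {u} := by
      refine sup_le (fun y hy => ?_) fun y hy => ?_
      · rw [Subgroup.mem_centralizer_singleton_iff]
        exact mul_inv_eq_iff_eq_mul.1 (hPU y hy u hu)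
      · rw [Subgroup.mem_centralizer_singleton_iff]
        exact mul_inv_eq_iff_eq_mul.1 (hKU y hy u hu)
    exact mul_inv_eq_iff_eq_mul.2 (Subgroup.mem_centralizer_singleton_iff.1 (this hx.1))
  have hstep1 : InP (P : Subgroup G) A ((c : G) * ν) := ⟨hA.1, fun a ha => by
    have hmem : (⟨cj ν a, hA₁H (mem_img_self _ ha)⟩ : H) ∈ A₁.subgroupOf H := mem_img_self _ ha
    have := hc _ hmem
    rw [Sylow.coe_subtype, Subgroup.mem_subgroupOf] at this
    rw [cj_mul]
    exact this⟩
  have hstep2 : InP (P : Subgroup G) (img (cj ((c : G) * ν)) A) (κ * (c : G)⁻¹) :=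
    ⟨img_le fun a ha => hstep1.2 a ha, fun b hb => by
      have hb' : b ∈ ((img (cj ((c : G) * ν)) A : Subgroup G) : Set G) := hb
      rw [coe_img_of_hom (isHomOn_cj _ _)] at hb'
      obtain ⟨a, ha, rfl⟩ := hb'
      rw [← cj_mul, show κ * (c : G)⁻¹ * ((c : G) * ν) = κ * ν by group]
      exact hA.2 a ha⟩
  have h1 : good A ((c : G) * ν) := hNgood _ _ hstep1 (N.mul_mem c.2.2 hν)
  have h2 : good (img (cj ((c : G) * ν)) A) (κ * (c : G)⁻¹) := by
    refine hCgood _ _ hstep2 fun u hu => ?_
    rw [show κ * (c : G)⁻¹ * u * (κ * (c : G)⁻¹)⁻¹ =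
      κ * ((c : G)⁻¹ * u * (c : G)⁻¹⁻¹) * κ⁻¹ by group, hHU _ (H.inv_mem c.2) u hu,
      hKU _ hκ u hu]
  have h3 := hcomp _ _ _ hstep1 hstep2 h1 h2
  rwa [show κ * (c : G)⁻¹ * ((c : G) * ν) = κ * ν by group] at h3

end Control

end Cfsg.Agent.CharP.LocalControl
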