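import Cfsg.Agent.Lib.CharP.Climbing
import Cfsg.Prelude.Def_FusionReduction
import Cfsg.Agent.Techniques.SL2.ZJFusion

/-!
Local models at a fully normalized subgroup: a section-free system gives section-free groups
realizing the maps that preserve `Y` and `Y C_S(Y)`.
-/

set_option autoImplicit false
set_option linter.unusedSectionVars false
set_option linter.style.haveILetI false

universe u v

namespace Cfsg.Agent.CharP.LocalModel

open Cfsg Cfsg.FusionSystem Cfsg.Agent.Fusion.Basic Cfsg.Agent.Fusion.Saturation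
  Cfsg.Agent.Fusion.Normal Cfsg.Agent.Fusion.CentricExt Cfsg.Agent.Fusion.KNormalizer
  Cfsg.Agent.CharP.Climbing

variable {Ω : Type u} [Group Ω] {S : Subgroup Ω} [Finite S] {p : ℕ} [Fact p.Prime]

theorem involves_subgroup {H : Type v} [Group H] {L : Type u} [Group L] {M : Subgroup L}
    (h : Involves H ↥M) : Involves H L :=
  Cfsg.Agent.Techniques.SL2.ZJFusion.involves_of_top h

/-- `Y C_S(Y)` is centric for fully normalized `Y`. -/
theorem centric_sup_centralizer (hS : IsPGroup p S) {F : FusionSystem S} (hF : F.IsSaturated p)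
    {Y : Subgroup Ω} (hY : F.IsFullyNormalized Y) :
    F.IsCentric (Y ⊔ centralizerIn S Y) := by
  set X := Y ⊔ centralizerIn S Y with hXdef
  have hXS : X ≤ S := sup_le hY.1 centralizerIn_le
  refine ⟨hXS, fun X' hX' => ?_⟩
  obtain ⟨f, hf, rfl⟩ := isConj_iff_map.1 hX'
  have hfY := hf.restrict (le_sup_left : Y ≤ X)
  obtain ⟨g, hg, hgY⟩ := exists_map_to_fullyNormalized hS hF hY (isConj_symm hfY.isConj)
  set N' := normalizerIn S (img f Y)
  have hYX' : img f Y ≤ img f X := img_mono f le_sup_left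
  have hXnorm : ∀ x ∈ X, x ∈ Subgroup.normalizer (Y : Set Ω) := fun x hx =>
    (sup_le (le_normalizerIn hY.1) centralizerIn_le_normalizerIn hx :).2
  have hXN : img f X ≤ N' := img_le fun x hx =>
    ⟨hf.mem hx, hf.mem_normalizer_img le_sup_left hx (hXnorm x hx)⟩
  intro z hz
  have hzC : z ∈ centralizerIn S (img f Y) := ⟨hz.1, fun y hy => hz.2 y (hYX' hy)⟩
  have hfinX : Finite X := finite_of_le hXS
  have hgX : img g (img f X) ≤ X := by
    rw [hXdef, hf.img_sup, (hg.restrict (sup_le (le_normalizerIn (isConj_le hfY.isConj).2)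
      (img_le fun x hx => hXN (mem_img_self f (Subgroup.mem_sup_right hx))))).img_sup, hgY]
    refine sup_le_sup_left (img_le fun y hy => ?_) Y
    obtain ⟨x, hx, rfl⟩ := (hf.restrict (le_sup_right : centralizerIn S Y ≤ X)).mem_img.1 hy
    have hfx : f x ∈ N' := hXN (mem_img_self f (Subgroup.mem_sup_right hx))
    refine ⟨hg.mem hfx, ?_⟩
    have h1 := hf.mem_centralizer_img le_sup_left (Subgroup.mem_sup_right hx) hx.2
    have h2 := hg.mem_centralizer_img (le_normalizerIn (isConj_le hfY.isConj).2) hfx h1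
    rwa [hgY] at h2
  have hgXeq : img g (img f X) = X := eq_of_le_card hgX (by
    rw [(hg.restrict hXN).card_img, hf.card_img])
  have hzN : z ∈ N' := centralizerIn_le_normalizerIn hzC
  have hgz : g z ∈ X := by
    refine Subgroup.mem_sup_right ⟨hg.mem hzN, ?_⟩
    have h2 := hg.mem_centralizer_img (le_normalizerIn (isConj_le hfY.isConj).2) hzN hzC.2
    rwa [hgY] at h2
  obtain ⟨y, hy, hye⟩ := (hg.restrict hXN).mem_img.1 (hgXeq.ge hgz)
  exact hg.inj hzN (hXN hy) hye.symm ▸ hy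

/-- `G` realizes the maps of `F` preserving `Y` and `Y C_S(Y)`. -/
structure IsLocalModel (F : FusionSystem S) (p : ℕ) (Y : Subgroup Ω) {G : Type u} [Group G]
    (ι : normalizerIn S Y →* G) (T : Sylow p G) : Prop where
  inj : Function.Injective ι
  sylow : (T : Subgroup G) = ι.range
  charp : Subgroup.centralizer ((pCore p G : Subgroup G) : Set G) ≤ pCore p G
  normalY : ((Y.subgroupOf (normalizerIn S Y)).map ι).Normal
  model : ∀ (D : Subgroup Ω) (k : Ω → Ω), IsMap F D k → Y ⊔ centralizerIn S Y ≤ D →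
    D ≤ normalizerIn S Y → img k Y = Y →
    img k (Y ⊔ centralizerIn S Y) = Y ⊔ centralizerIn S Y →
    ∃ g : G, ∀ s : normalizerIn S Y, (s : Ω) ∈ D →
      ∃ hk : k s ∈ normalizerIn S Y, ι ⟨k s, hk⟩ = g * ι s * g⁻¹
  maps : ∀ (g : G) (A : Subgroup G), (∀ a ∈ A, g * a * g⁻¹ ∈ ι.range) →
    ∃ f : Ω → Ω, IsMap F ((A.comap ι).map (normalizerIn S Y).subtype) f ∧
      ∀ s : normalizerIn S Y, ι s ∈ A →
        ∃ hf : f s ∈ normalizerIn S Y, ι ⟨f s, hf⟩ = g * ι s * g⁻¹

/-- Every fully normalized subgroup has a local model with the property `Φ`. -/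
def HasModels (F : FusionSystem S) (p : ℕ) (Φ : ∀ (G : Type u) [Group G], Prop) : Prop :=
  ∀ Y : Subgroup Ω, F.IsFullyNormalized Y →
    ∃ (G : Type u) (_ : Group G) (_ : Finite G) (ι : normalizerIn S Y →* G) (T : Sylow p G),
      IsLocalModel F p Y ι T ∧ Φ G

/-- A local model at a fully normalized subgroup. -/
theorem exists_localModel (hS : IsPGroup p S) {F : FusionSystem S} (hF : F.IsSaturated p)
    {Y : Subgroup Ω} (hY : F.IsFullyNormalized Y) :
    ∃ (G : Type u) (_ : Group G) (_ : Finite G) (ι : normalizerIn S Y →* G) (T : Sylow p G),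
      IsLocalModel F p Y ι T ∧
      ∀ (H : Type v) [Group H], F.IsSectionFree p H → ¬ Involves H G := by
  classical
  set R := normalizerIn S Y with hRdef
  set X := Y ⊔ centralizerIn S Y with hXdef
  have hXc : F.IsCentric X := centric_sup_centralizer hS hF hY
  have hXR : X ≤ R := sup_le (le_normalizerIn hY.1) centralizerIn_le_normalizerIn
  obtain ⟨X', hXX', hX'n⟩ := exists_fullyNormalized (F := F) hXc.1
  obtain ⟨β, hβ, hβX⟩ := exists_map_to_fullyNormalized hS hF hX'n hXX'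
  have hRS : R ≤ S := normalizerIn_le
  have hfinR : Finite R := finite_of_le hRS
  have hfinX : Finite X := finite_of_le hXc.1
  have hRX : R ≤ normalizerIn S X := fun r hr => ⟨hRS hr, by
    refine mem_normalizer_of_forall fun x hx => ?_
    have hle : X ≤ X.comap (MulAut.conj r).toMonoidHom := by
      rw [hXdef]
      refine sup_le (fun y hy => Subgroup.mem_sup_left ((Subgroup.mem_normalizer_iff.1 hr.2 y).1 hy))
        fun c hc => Subgroup.mem_sup_right ⟨S.mul_mem (S.mul_mem (hRS hr) hc.1) (S.inv_mem (hRS hr)),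
          fun y hy => ?_⟩
      have hy' : r⁻¹ * y * r ∈ Y := by
        simpa using (Subgroup.mem_normalizer_iff.1 (Subgroup.inv_mem _ hr.2) y).1 hy
      show y * (r * c * r⁻¹) = r * c * r⁻¹ * y
      calc y * (r * c * r⁻¹) = r * ((r⁻¹ * y * r) * c) * r⁻¹ := by group
        _ = r * (c * (r⁻¹ * y * r)) * r⁻¹ := by rw [hc.2 _ hy']
        _ = _ := by group
    exact hle hx⟩
  set T' := normalizerIn S X' with hT'def
  obtain ⟨N, hN⟩ := exists_normalizerSystem (F := F) hX'n.1
  have hNs := normalizerSystem_saturated hS hF hX'n hN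
  have hX'T : X' ≤ T' := le_normalizerIn hX'n.1
  have hfinT : Finite T' := finite_of_le normalizerIn_le
  have hT'p : IsPGroup p T' := hS.to_le normalizerIn_le
  have hX'c : F.IsCentric X' := centric_conj hXc hXX'
  have hNX := normalizer_isNormal hX'n.1 hN
  have hNc : N.IsCentric X' := by
    refine ⟨hX'T, fun Q hQ => ?_⟩
    obtain ⟨k, hk, rfl⟩ := isConj_iff_map.1 hQ
    rw [normal_img_eq hNX hk le_rfl]
    exact fun x hx => centric_centralizerIn_le hX'c ⟨hx.1.1, hx.2⟩
  obtain ⟨L, _, ι, hfinL, ⟨hι, hreal⟩, ⟨TL, hTL⟩, hchar⟩ :=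
    Cfsg.Agent.Fusion.Model.exists_model hT'p (⟨hNs, X', hNX, hNc⟩ : N.IsConstrained p)
  -- `X'` is normal in the model
  let JX : Subgroup L := (X'.subgroupOf T').map ι
  haveI hQn : (pCore p L).Normal := Cores.pCore_normal p
  have hQr : pCore p L ≤ ι.range := hTL ▸ Cores.pCore_le_sylow TL
  have hJX : ∀ t : T', ι t ∈ JX ↔ (t : Ω) ∈ X' := fun t =>
    ⟨fun ⟨s, hs, he⟩ => (hι he) ▸ hs, fun h => ⟨t, h, rfl⟩⟩
  have hconj : ∀ (l : L) (A : Subgroup L), (∀ a ∈ A, l * a * l⁻¹ ∈ ι.range) →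
      ∃ f : Ω → Ω, IsMap N ((A.comap ι).map T'.subtype) f ∧
        ∀ t : T', ι t ∈ A → ∃ hf : f t ∈ T', ι ⟨f t, hf⟩ = l * ι t * l⁻¹ := by
    intro l A hA
    have hle : (A.comap ι).map T'.subtype ≤ T' := Subgroup.map_subtype_le _
    have hmem : ∀ t : T', (t : Ω) ∈ (A.comap ι).map T'.subtype ↔ ι t ∈ A := fun t =>
      ⟨fun ⟨s, hs, he⟩ => (Subtype.ext he : s = t) ▸ hs, fun h => ⟨t, h, rfl⟩⟩
    have hex : ∀ x : ((A.comap ι).map T'.subtype : Subgroup Ω),
        ∃ s : T', ι s = l * ι ⟨x, hle x.2⟩ * l⁻¹ := fun x =>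
      hA _ ((hmem ⟨x, hle x.2⟩).1 x.2)
    choose s hs using hex
    let φ : ((A.comap ι).map T'.subtype : Subgroup Ω) →* Ω :=
      T'.subtype.comp (MonoidHom.mk' s fun x y => hι (by
        rw [map_mul, hs, hs, hs,
          show (⟨((x * y : ((A.comap ι).map T'.subtype : Subgroup Ω)) : Ω), hle (x * y).2⟩ : T') =
            ⟨x, hle x.2⟩ * ⟨y, hle y.2⟩ from rfl, map_mul]
        group))
    have hφ : φ ∈ N.Hom _ := (hreal _ hle φ fun x => (s x).2).2 ⟨l, fun x => hs x⟩
    refine ⟨ext φ, IsMap.of_hom hφ, fun t ht => ⟨?_, ?_⟩⟩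
    · rw [ext_of_mem φ ((hmem t).2 ht)]; exact (s _).2
    · simp only [ext_of_mem φ ((hmem t).2 ht)]
      exact hs _
  have hJXnorm : ∀ t : T', ι t ∈ Subgroup.normalizer (JX : Set L) := fun t => by
    rw [Subgroup.mem_normalizer_iff]
    intro z
    constructor
    · rintro ⟨s, hs, rfl⟩
      exact ⟨t * s * t⁻¹, (Subgroup.mem_normalizer_iff.1 t.2.2 _).1 hs, by simp⟩
    · rintro ⟨s, hs, hse⟩
      refine ⟨t⁻¹ * s * t, ?_, ?_⟩
      · have := (Subgroup.mem_normalizer_iff.1 (Subgroup.inv_mem _ t.2.2) _).1 hs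
        simpa [Subgroup.mem_subgroupOf] using this
      · rw [map_mul, map_mul, map_inv, hse]; group
  have hCQ : ∀ c ∈ Subgroup.centralizer ((pCore p L : Subgroup L) : Set L),
      c ∈ Subgroup.normalizer (JX : Set L) := fun c hc => by
    obtain ⟨t, ht⟩ := hQr (hchar hc)
    exact ht ▸ hJXnorm t
  haveI hJn : JX.Normal := by
    rw [← Subgroup.normalizer_eq_top_iff]
    refine eq_top_iff.2 fun l _ => ?_
    obtain ⟨f, hf, hfe⟩ := hconj l (pCore p L) fun a ha => hQr (hQn.conj_mem a ha l)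
    obtain ⟨g, hg, hge, hgX⟩ := (isNormal_iff.1 hNX).2 _ f hf
    obtain ⟨l', hl'⟩ := (hreal _ hg.le hg.hom fun x => hg.mem x.2).1 hg.hom_mem_self
    have hl'X : l' ∈ Subgroup.normalizer (JX : Set L) := by
      have : Finite JX := inferInstance
      refine mem_normalizer_of_forall ?_
      rintro _ ⟨t, ht, rfl⟩
      have h1 := hl' ⟨t, Subgroup.mem_sup_right ht⟩
      rw [← h1]
      exact (hJX _).2 (hgX.le (mem_img_self g ht))
    have hll : l'⁻¹ * l ∈ Subgroup.centralizer ((pCore p L : Subgroup L) : Set L) := by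
      intro a ha
      obtain ⟨t, rfl⟩ := hQr ha
      obtain ⟨hft, hft'⟩ := hfe t ha
      have hd : (t : Ω) ∈ ((pCore p L).comap ι).map T'.subtype := ⟨t, ha, rfl⟩
      have h1 := hl' ⟨t, Subgroup.mem_sup_left hd⟩
      have h2 : (⟨hg.hom ⟨t, Subgroup.mem_sup_left hd⟩, hg.mem (Subgroup.mem_sup_left hd)⟩ : T') =
          ⟨f t, hft⟩ := Subtype.ext (hge t hd)
      rw [h2, hft'] at h1
      calc ι t * (l'⁻¹ * l) = l'⁻¹ * (l' * ι t * l'⁻¹) * l := by group
        _ = l'⁻¹ * (l * ι t * l⁻¹) * l := by rw [h1]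
        _ = l'⁻¹ * l * ι t := by group
    have := Subgroup.mul_mem _ hl'X (hCQ _ hll)
    rwa [mul_inv_cancel_left] at this
  -- the stabilizer of the image of `Y`
  have hYX : Y ≤ X := le_sup_left
  set Y' := img β Y with hY'def
  have hβN : ∀ x ∈ normalizerIn S X, β x ∈ T' := fun x hx =>
    ⟨hβ.mem hx, hβX ▸ hβ.mem_normalizer_img (le_normalizerIn hXc.1) hx hx.2⟩
  have hY'X : Y' ≤ X' := hβX ▸ img_mono β hYX
  have hY'T : Y' ≤ T' := hY'X.trans hX'T
  have hβY : IsMap F Y β := hβ.restrict (hYX.trans (le_normalizerIn hXc.1))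
  let JY : Subgroup L := (Y'.subgroupOf T').map ι
  have hJY : ∀ t : T', ι t ∈ JY ↔ (t : Ω) ∈ Y' := fun t =>
    ⟨fun ⟨s, hs, he⟩ => (hι he) ▸ hs, fun h => ⟨t, h, rfl⟩⟩
  let M : Subgroup L := Subgroup.normalizer (JY : Set L)
  have hfinY' : Finite Y' := finite_of_le (hY'T.trans normalizerIn_le)
  have hRM : ∀ r : R, ι ⟨β r, hβN r (hRX r.2)⟩ ∈ M := by
    intro r
    have : Finite JY := inferInstance
    refine mem_normalizer_of_forall ?_
    rintro _ ⟨t, ht, rfl⟩
    rw [← map_inv, ← map_mul, ← map_mul, hJY]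
    exact (Subgroup.mem_normalizer_iff.1
      (hβ.mem_normalizer_img (hYX.trans (le_normalizerIn hXc.1)) (hRX r.2) r.2.2) _).1 ht
  let ι' : R →* M := MonoidHom.mk' (fun r => ⟨ι ⟨β r, hβN r (hRX r.2)⟩, hRM r⟩) fun a b =>
    Subtype.ext (by
      show ι _ = ι _ * ι _
      rw [← map_mul]
      exact congrArg ι (Subtype.ext (hβ.map_mul (hRX a.2) (hRX b.2))))
  have hι' : Function.Injective ι' := fun a b h => Subtype.ext (hβ.inj (hRX a.2) (hRX b.2)
    (congrArg Subtype.val (hι (congrArg Subtype.val h))))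
  -- an element of `S` normalizing `Y'` and `X'` comes from `R`
  have hback : ∀ t : T', ι t ∈ M → ∃ r : R, β r = t := by
    intro t ht
    have htn : (t : Ω) ∈ normalizerIn S Y' := ⟨t.2.1, mem_normalizer_of_forall fun y hy => by
      have h1 := (Subgroup.mem_normalizer_iff.1 ht _).1 ((hJY ⟨y, hY'T hy⟩).2 hy)
      rw [← map_inv, ← map_mul, ← map_mul, hJY] at h1
      exact h1⟩
    have hle : img β R ≤ normalizerIn S Y' := img_le fun r hr =>
      ⟨hβ.mem (hRX hr), hβ.mem_normalizer_img (hYX.trans (le_normalizerIn hXc.1)) (hRX hr) hr.2⟩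
    have hfinN : Finite (normalizerIn S Y') := finite_of_le normalizerIn_le
    have heq : img β R = normalizerIn S Y' := eq_of_le_card hle (by
      rw [(hβ.restrict hRX).card_img]
      exact hY.2 Y' hβY.isConj)
    obtain ⟨r, hr, hre⟩ := (hβ.restrict hRX).mem_img.1 (heq.ge htn)
    exact ⟨⟨r, hr⟩, hre⟩
  have hrange : ∀ m : M, (m : L) ∈ ι.range → m ∈ ι'.range := by
    rintro ⟨m, hm⟩ ⟨t, rfl⟩
    obtain ⟨r, hr⟩ := hback t hm
    exact ⟨r, Subtype.ext (congrArg ι (Subtype.ext hr))⟩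
  have hrange' : ∀ r : R, ((ι' r : M) : L) ∈ ι.range := fun r => ⟨_, rfl⟩
  -- its image is a Sylow subgroup
  have hP0 : IsPGroup p ι'.range :=
    (hS.to_le hRS).of_surjective ι'.rangeRestrict ι'.rangeRestrict_surjective
  obtain ⟨T0, hT0⟩ := hP0.exists_le_sylow
  have hT0eq : (T0 : Subgroup M) = ι'.range := by
    refine (Subgroup.eq_of_le_of_card_ge hT0 ?_).symm
    have hA : IsPGroup p ((T0 : Subgroup M).map M.subtype) := T0.isPGroup'.map _
    obtain ⟨l, hl⟩ := exists_conj_le_sylow TL hA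
    rw [← Nat.card_congr (MonoidHom.ofInjective hι').toEquiv,
      ← Subgroup.card_map_of_injective (K := (T0 : Subgroup M)) M.subtype_injective]
    set A := (T0 : Subgroup M).map M.subtype with hAdef
    have hYA : JY ≤ A := by
      rintro _ ⟨t, ht, rfl⟩
      obtain ⟨y, hy, hye⟩ := hβY.mem_img.1 ht
      refine ⟨ι' ⟨y, le_normalizerIn hY.1 hy⟩, hT0 ⟨_, rfl⟩, ?_⟩
      exact congrArg ι (Subtype.ext hye)
    obtain ⟨f, hf, hfe⟩ := hconj l A fun a ha => hTL ▸ hl a ha
    set P := (A.comap ι).map T'.subtype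
    have hY'P : Y' ≤ P := fun y hy =>
      ⟨⟨y, hY'T hy⟩, hYA ((hJY ⟨y, hY'T hy⟩).2 hy), rfl⟩
    have hfF : IsMap F Y' f := by
      obtain ⟨-, g, hg, hge, -⟩ := (isMap_normalizer_iff hN).1 hf
      exact ((hg.restrict le_sup_left).congr hge).restrict hY'P
    have hconj' : F.IsConj Y (img f Y') := isConj_trans hβY.isConj hfF.isConj
    -- the conjugate of `A` normalizes the image of `Y'`
    let B : Subgroup Ω := ((A.map (MulAut.conj l).toMonoidHom).comap ι).map T'.subtype
    have hfinB : Finite B := finite_of_le ((Subgroup.map_subtype_le _).trans normalizerIn_le)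
    have hfinY'' : Finite (img f Y') := finite_of_le hfF.img_le_S
    have hBN : B ≤ normalizerIn S (img f Y') := by
      rintro _ ⟨b, hb, rfl⟩
      refine ⟨b.2.1, mem_normalizer_of_forall fun z hz => ?_⟩
      obtain ⟨y, hy, rfl⟩ := hfF.mem_img.1 hz
      obtain ⟨a, ha, hab⟩ := hb
      have haM : a ∈ M := Subgroup.map_subtype_le _ ha
      have hya : ι ⟨y, hY'T hy⟩ ∈ A := hYA ((hJY ⟨y, hY'T hy⟩).2 hy)
      obtain ⟨hfy, hfy'⟩ := hfe ⟨y, hY'T hy⟩ hya
      obtain ⟨w, hw, hwe⟩ := (Subgroup.mem_normalizer_iff.1 haM _).1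
        ((hJY ⟨y, hY'T hy⟩).2 hy)
      have hwA : ι w ∈ A := hwe ▸ A.mul_mem (A.mul_mem ha hya) (A.inv_mem ha)
      obtain ⟨hfw, hfw'⟩ := hfe w hwA
      have key : b * ⟨f y, hfy⟩ * b⁻¹ = ⟨f w, hfw⟩ := hι (by
        rw [map_mul, map_mul, map_inv, hfy', hfw', hwe, ← hab]
        show l * a * l⁻¹ * _ * (l * a * l⁻¹)⁻¹ = _
        group)
      rw [show (T'.subtype b : Ω) * f y * (T'.subtype b)⁻¹ = f w from congrArg Subtype.val key]
      exact mem_img_self f hw
    have hB : Nat.card B = Nat.card A := by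
      have hle : A.map (MulAut.conj l).toMonoidHom ≤ ι.range := by
        rintro _ ⟨a, ha, rfl⟩
        exact hTL ▸ hl a ha
      show Nat.card (((A.map (MulAut.conj l).toMonoidHom).comap ι).map T'.subtype : Subgroup Ω) = _
      rw [Subgroup.card_map_of_injective T'.subtype_injective,
        ← Subgroup.card_map_of_injective (f := ι) (K := (A.map _).comap ι) hι,
        Subgroup.map_comap_eq_self hle, Subgroup.card_map_of_injective (MulAut.conj l).injective]
    have hfinN : Finite (normalizerIn S (img f Y')) := finite_of_le normalizerIn_le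
    rw [← hB]
    exact (card_le_card hBN).trans (hY.2 _ hconj')
  refine ⟨M, inferInstance, inferInstance, ι', T0, ⟨hι', hT0eq, ?_, ?_, ?_, ?_⟩, ?_⟩
  · -- characteristic `p`
    have hXM : JX ≤ M := by
      rintro _ ⟨t, ht, rfl⟩
      obtain ⟨x, hx, hxt⟩ := (hβ.restrict (le_normalizerIn hXc.1)).mem_img.1 (hβX.ge ht)
      have := hRM ⟨x, hXR hx⟩
      rwa [show (⟨β x, hβN x (hRX (hXR hx))⟩ : T') = t from Subtype.ext hxt] at this
    have hJp : IsPGroup p JX :=
      ((hT'p.to_subgroup (X'.subgroupOf T')).map ι)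
    haveI : (JX.subgroupOf M).Normal := hJn.subgroupOf M
    have hcore : JX.subgroupOf M ≤ pCore p M := Cores.le_pCore hJp.comap_subtype
    intro c hc
    refine hcore (Subgroup.mem_subgroupOf.2 ?_)
    have hcC : (c : L) ∈ Subgroup.centralizer (JX : Set L) := fun z hz =>
      congrArg Subtype.val (hc ⟨z, hXM hz⟩ (hcore (Subgroup.mem_subgroupOf.2 hz)))
    haveI : (Subgroup.centralizer (JX : Set L)).Normal := Subgroup.normal_centralizer
    have hCr : ∀ z ∈ Subgroup.centralizer (JX : Set L), z ∈ ι.range → z ∈ JX := by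
      rintro _ hz ⟨t, rfl⟩
      refine (hJX t).2 (centric_centralizerIn_le hX'c ⟨t.2.1, fun x hx => ?_⟩)
      exact congrArg Subtype.val (hι (show ι (⟨x, hX'T hx⟩ * t) = ι (t * ⟨x, hX'T hx⟩) by
        rw [map_mul, map_mul]; exact hz _ ((hJX _).2 hx)))
    obtain ⟨k, q, hq, hkq⟩ := Nat.exists_eq_pow_mul_and_not_dvd (orderOf_pos (c : L)).ne' p
      (Fact.out : p.Prime).ne_one
    set d := (c : L) ^ p ^ k with hd
    have hdC : d ∈ Subgroup.centralizer (JX : Set L) := Subgroup.pow_mem _ hcC _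
    have hdq : d ^ q = 1 := by rw [hd, ← pow_mul, ← hkq, pow_orderOf_eq_one]
    have hd1 : d = 1 := by
      have hdQ : d ∈ Subgroup.centralizer ((pCore p L : Subgroup L) : Set L) := by
        intro a ha
        set z := d * a * d⁻¹ * a⁻¹ with hzdef
        have hzC : z ∈ Subgroup.centralizer (JX : Set L) := by
          rw [hzdef, mul_assoc d a, mul_assoc d]
          exact Subgroup.mul_mem _ hdC (Subgroup.Normal.conj_mem ‹_› _ (Subgroup.inv_mem _ hdC) a)
        have hzQ : z ∈ pCore p L :=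
          (pCore p L).mul_mem (hQn.conj_mem a ha d) ((pCore p L).inv_mem ha)
        have hzJ : z ∈ JX := hCr z hzC (hQr hzQ)
        have hdz : Commute d z := (hdC z hzJ).symm
        have hiter : ∀ n : ℕ, d ^ n * a * (d ^ n)⁻¹ = z ^ n * a := by
          intro n
          induction n with
          | zero => simp
          | succ n ihn =>
            rw [pow_succ', show d * d ^ n * a * (d * d ^ n)⁻¹ = d * (d ^ n * a * (d ^ n)⁻¹) * d⁻¹ by
              group, ihn, show d * (z ^ n * a) * d⁻¹ = (d * z ^ n) * a * d⁻¹ by group,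
              (hdz.pow_right n).eq, pow_succ, hzdef]
            group
        have hzq : z ^ q = 1 := by
          have := hiter q
          rw [hdq, one_mul, inv_one, mul_one] at this
          exact right_eq_mul.1 this
        obtain ⟨j, hj⟩ := (Cores.pCore_isPGroup p) ⟨z, hzQ⟩
        have hz1 : z = 1 := orderOf_eq_one_iff.1 (Nat.eq_one_of_dvd_coprimes
          (((Fact.out : p.Prime).coprime_iff_not_dvd.2 hq).pow_left j).symm
          (orderOf_dvd_of_pow_eq_one hzq)
          (orderOf_dvd_of_pow_eq_one (congrArg Subtype.val hj :)))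
        rw [hzdef, mul_inv_eq_one, mul_inv_eq_iff_eq_mul] at hz1
        exact hz1.symm
      obtain ⟨j, hj⟩ := (Cores.pCore_isPGroup p) ⟨d, hchar hdQ⟩
      exact orderOf_eq_one_iff.1 (Nat.eq_one_of_dvd_coprimes
        (((Fact.out : p.Prime).coprime_iff_not_dvd.2 hq).pow_left j).symm
        (orderOf_dvd_of_pow_eq_one hdq)
        (orderOf_dvd_of_pow_eq_one (congrArg Subtype.val hj :)))
    have hcp : IsPGroup p (Subgroup.zpowers (c : L)) := by
      rintro ⟨x, hx⟩
      obtain ⟨i, rfl⟩ := Subgroup.mem_zpowers_iff.1 hx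
      refine ⟨k, Subtype.ext ?_⟩
      show ((c : L) ^ i) ^ p ^ k = 1
      rw [← zpow_natCast ((c : L) ^ i), ← zpow_mul, mul_comm, zpow_mul, zpow_natCast, ← hd, hd1,
        one_zpow]
    obtain ⟨l, hl⟩ := exists_conj_le_sylow TL hcp
    have h1 := hCr _ (Subgroup.Normal.conj_mem ‹_› _ hcC l)
      (hTL ▸ hl _ (Subgroup.mem_zpowers _))
    have h2 := hJn.conj_mem _ h1 l⁻¹
    simpa [mul_assoc] using h2
  · -- the image of `Y` is normal
    have heq : (Y.subgroupOf R).map ι' = JY.subgroupOf M := by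
      refine le_antisymm ?_ ?_
      · rintro _ ⟨r, hr, rfl⟩
        exact Subgroup.mem_subgroupOf.2 ((hJY _).2 (mem_img_self β hr))
      · rintro ⟨m, hm⟩ hmY
        obtain ⟨t, ht, hte⟩ := Subgroup.mem_subgroupOf.1 hmY
        obtain ⟨y, hy, hye⟩ := hβY.mem_img.1 ht
        exact ⟨⟨y, le_normalizerIn hY.1 hy⟩, hy,
          Subtype.ext ((congrArg ι (Subtype.ext hye)).trans hte)⟩
    rw [heq]
    exact Subgroup.normal_in_normalizer
  · -- maps preserving `Y` and `X` are conjugations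
    intro D k hk hXD hDR hkY hkX
    have hkR : ∀ x ∈ D, k x ∈ R := fun x hx => ⟨hk.mem hx, by
      have := hk.mem_normalizer_img (hYX.trans hXD) hx (hDR hx).2
      rwa [hkY] at this⟩
    have hDN := hDR.trans hRX
    obtain ⟨i, hi, -, hiβ, -⟩ := (hβ.restrict hDN).exists_inv
    have hival : ∀ y ∈ img β D, i y ∈ D := fun y hy => by
      obtain ⟨x, hx, rfl⟩ := (hβ.restrict hDN).mem_img.1 hy
      rwa [hiβ x hx]
    have hk' : IsMap F (img β D) (fun y => β (k (i y))) :=
      hβ.comp (hk.comp hi hival) fun y hy => hRX (hkR _ (hival y hy))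
    have hX'D : X' ≤ img β D := hβX ▸ img_mono β hXD
    have hk'X : img (fun y => β (k (i y))) X' = X' := by
      have : Finite X' := finite_of_le hX'n.1
      refine eq_of_le_card (img_le fun y hy => ?_) (hk'.restrict hX'D).card_img.ge
      obtain ⟨x, hx, rfl⟩ := (hβ.restrict (hXD.trans hDN)).mem_img.1 (hβX.ge hy)
      show β (k (i (β x))) ∈ X'
      rw [hiβ x (hXD hx), ← hβX]
      exact mem_img_self β (hkX.le (mem_img_self k hx))
    have hk'N : IsMap N (img β D) (fun y => β (k (i y))) := (isMap_normalizer_iff hN).2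
      ⟨img_le fun x hx => hβN x (hDN hx), _, by rwa [sup_eq_left.2 hX'D], fun _ _ => rfl, hk'X⟩
    obtain ⟨l, hl⟩ := (hreal _ hk'N.le hk'N.hom fun x => hk'N.mem x.2).1 hk'N.hom_mem_self
    have hl' : ∀ (x : Ω) (hx : x ∈ D), ι ⟨β (k x), hβN _ (hRX (hkR x hx))⟩ =
        l * ι ⟨β x, hβN x (hDN hx)⟩ * l⁻¹ := by
      intro x hx
      have h1 := hl ⟨β x, mem_img_self β hx⟩
      simp only [IsMap.hom_apply, hiβ x hx] at h1
      exact h1
    have hlM : l ∈ M := by
      have : Finite JY := inferInstance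
      refine mem_normalizer_of_forall ?_
      rintro _ ⟨t, ht, rfl⟩
      obtain ⟨y, hy, hye⟩ := hβY.mem_img.1 ht
      have hyD : y ∈ D := hXD (hYX hy)
      rw [show t = ⟨β y, hβN y (hDN hyD)⟩ from Subtype.ext hye.symm, ← hl' y hyD, hJY]
      exact mem_img_self β (hkY.le (mem_img_self k hy))
    exact ⟨⟨l, hlM⟩, fun s hs => ⟨hkR _ hs, Subtype.ext (hl' s hs)⟩⟩
  · -- conjugations are maps of the system
    intro g A hA
    obtain ⟨f, hf, hfe⟩ := hconj (g : L) (A.map M.subtype) (by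
      rintro _ ⟨a, ha, rfl⟩
      obtain ⟨r, hr⟩ := hA a ha
      exact ⟨⟨β r, hβN r (hRX r.2)⟩, congrArg Subtype.val hr⟩)
    obtain ⟨-, f', hf', hfe', -⟩ := (isMap_normalizer_iff hN).1 hf
    have hfF := (hf'.restrict le_sup_left).congr hfe'
    set P := (A.comap ι').map R.subtype
    have hPR : P ≤ R := Subgroup.map_subtype_le _
    have hmapsto : ∀ x ∈ P, β x ∈ ((A.map M.subtype).comap ι).map T'.subtype := by
      rintro _ ⟨r, hr, rfl⟩
      exact ⟨⟨β r, hβN r (hRX r.2)⟩, ⟨ι' r, hr, rfl⟩, rfl⟩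
    obtain ⟨i, hi, -, hiβ, -⟩ := (hβ.restrict hRX).exists_inv
    have hfR : ∀ r : R, ι' r ∈ A → ∃ r' : R, f (β r) = β r' ∧ ι' r' = g * ι' r * g⁻¹ := by
      intro r hr
      obtain ⟨hft, hft'⟩ := hfe ⟨β r, hβN r (hRX r.2)⟩ ⟨ι' r, hr, rfl⟩
      obtain ⟨r', hr'⟩ := hA _ hr
      refine ⟨r', ?_, hr'⟩
      exact congrArg Subtype.val (hι (hft'.trans (congrArg Subtype.val hr').symm))
    have hval : ∀ x ∈ P, f (β x) ∈ img β R := by
      rintro _ ⟨r, hr, rfl⟩
      obtain ⟨r', h1, -⟩ := hfR r hr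
      show f (β (r : Ω)) ∈ _
      rw [h1]
      exact mem_img_self β r'.2
    refine ⟨_, hi.comp (hfF.comp (hβ.restrict (hPR.trans hRX)) hmapsto) hval, fun s hs => ?_⟩
    obtain ⟨r', h1, h2⟩ := hfR s hs
    have hrs : i (f (β s)) = r' := by rw [h1, hiβ _ r'.2]
    refine ⟨by rw [hrs]; exact r'.2, ?_⟩
    rw [show (⟨i (f (β s)), _⟩ : R) = r' from Subtype.ext hrs]
    exact h2
  · intro H _ hfree hinv
    exact hfree X' hX'n hX'c N hN L ι ⟨hfinL, ⟨hι, hreal⟩, ⟨TL, hTL⟩, hchar⟩
      (involves_subgroup hinv)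

/-- The condition for the Thompson subgroup: odd prime or no section `S₄`. -/
def Alt (p : ℕ) (G : Type u) [Group G] : Prop := p ≠ 2 ∨ ¬ Involves (Equiv.Perm (Fin 4)) G

/-- The condition on systems: all local models satisfy `Alt`. -/
def AltModels (F : FusionSystem S) (p : ℕ) : Prop := HasModels F p (fun G [Group G] => Alt p G)

theorem altModels_of_free (hS : IsPGroup p S) {F : FusionSystem S} (hF : F.IsSaturated p)
    (hp : p ≠ 2 ∨ F.IsSectionFree p (Equiv.Perm (Fin 4))) : AltModels F p := fun _ hY => by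
  obtain ⟨G, _, _, ι, T, hm, hfree⟩ := exists_localModel.{u, 0} hS hF hY
  exact ⟨G, inferInstance, inferInstance, ι, T, hm, hp.imp_right fun h => hfree _ h⟩

end Cfsg.Agent.CharP.LocalModel
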