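import Cfsg.Agent.Lib.CharP.Sparse

/-!
In a section-free system the functor value of the whole group is normal as soon as it is normal in
all section-free groups of characteristic `p`.
-/

set_option autoImplicit false
set_option linter.unusedSectionVars false
set_option linter.style.haveILetI false

universe u v

namespace Cfsg.Agent.CharP.NormalFunctor

open Cfsg Cfsg.FusionSystem Cfsg.Agent.Fusion.Basic Cfsg.Agent.Fusion.Saturation
  Cfsg.Agent.Fusion.Normal Cfsg.Agent.Fusion.CentricExt Cfsg.Agent.Fusion.KNormalizer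
  Cfsg.Agent.Fusion.Factor Cfsg.Agent.Fusion.FactorExists Cfsg.Agent.Fusion.Alperin
  Cfsg.Agent.CharP.LocalControl Cfsg.Agent.CharP.Climbing Cfsg.Agent.CharP.InnerControl
  Cfsg.Agent.CharP.CharInner

variable {H : Type v} [Group H] {p : ℕ} [Fact p.Prime] {W : ∀ (Q : Type u) [Group Q], Subgroup Q}

variable {Ω : Type u} [Group Ω] {S : Subgroup Ω} [Finite S]

/-- A system over an equal group, keeping its maps and properties. -/
theorem exists_retype' {T : Subgroup Ω} (h : T = S) (N : FusionSystem T)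
    (hsat : N.IsSaturated p) (hfree : N.IsSectionFree p H) :
    ∃ E : FusionSystem S, (∀ P f, IsMap E P f ↔ IsMap N P f) ∧ E.IsSaturated p ∧
      E.IsSectionFree p H ∧ ∀ U, N.IsNormal U → E.IsNormal U := by
  subst h
  exact ⟨N, fun _ _ => Iff.rfl, hsat, hfree, fun _ => id⟩

variable (H W p) in
/-- The statement for all systems over groups of order `n`. -/
def Holds (n : ℕ) : Prop :=
  ∀ (Ω : Type u) [Group Ω] (S : Subgroup Ω) [Finite S], IsPGroup p S → Nat.card S = n →
    ∀ F : FusionSystem S, F.IsSaturated p → F.IsSectionFree p H → F.IsNormal (Wof W S)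

variable (hW : IsCharPFunctor p W)
  (hloc : ∀ (G : Type u) [Group G] [Finite G] (P : Sylow p G),
    Subgroup.centralizer ((pCore p G : Subgroup G) : Set G) ≤ pCore p G → ¬ Involves H G →
      (Wof W (P : Subgroup G)).Normal)

include hW in
theorem Wof_norm {T : Subgroup Ω} [Finite T] (hT : IsPGroup p T) :
    ∀ s ∈ T, s ∈ Subgroup.normalizer (Wof W T : Set Ω) := fun s hs =>
  normalizer_le_Wof hW.2 hT (Subgroup.le_normalizer hs)

include hW hloc in
/-- The statement for a system with a nontrivial normal subgroup. -/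
theorem isNormal_of_normal (hS : IsPGroup p S)
    (IH : ∀ m < Nat.card S, Holds.{u, v} H p W m) {Q : Subgroup Ω} (hQ0 : Q ≠ ⊥)
    {F : FusionSystem S} (hF : F.IsSaturated p) (hfree : F.IsSectionFree p H)
    (hQn : F.IsNormal Q) : F.IsNormal (Wof W S) := by
  classical
  induction hk : Nat.card S - Nat.card Q using Nat.strong_induction_on generalizing Q F with
  | _ k ih =>
  set Zw := Wof W S with hZwdef
  have hZwS : Zw ≤ S := Wof_le S
  have hQS : Q ≤ S := hQn.1
  have hfinQ : Finite Q := finite_of_le hQS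
  have hsc := normal_stronglyClosed hQn
  have hQnorm : ∀ s ∈ S, s ∈ Subgroup.normalizer (Q : Set Ω) := fun s hs =>
    le_normalizer_of_stronglyClosed hsc hs
  refine isNormal_iff.2 ⟨hZwS, fun P f hf => ?_⟩
  obtain ⟨g, hg, hge, hgQ⟩ := (isNormal_iff.1 hQn).2 P f hf
  have hPQ : P ⊔ Q ≤ S := hg.le
  suffices h : ∃ g', IsMap F ((P ⊔ Q) ⊔ Zw) g' ∧ (∀ x ∈ P ⊔ Q, g' x = g x) ∧ img g' Zw = Zw by
    obtain ⟨g', hg', he, himg⟩ := h
    exact ⟨g', hg'.restrict (sup_le_sup_right le_sup_left _),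
      fun x hx => (he x (Subgroup.mem_sup_left hx)).trans (hge x hx), himg⟩
  -- maps preserving a larger normal subgroup
  have recStep : ∀ (U : Subgroup Ω), Q < U → U ≤ S →
      (∀ s ∈ S, s ∈ Subgroup.normalizer (U : Set Ω)) → ∀ D k', IsMap F D k' → U ≤ D →
      img k' U = U → ∃ g', IsMap F (D ⊔ Zw) g' ∧ (∀ x ∈ D, g' x = k' x) ∧ img g' Zw = Zw := by
    intro U hlt hUS hUnorm D k' hk' hUD himg
    obtain ⟨N, hN⟩ := exists_normalizerSystem (F := F) hUS
    have hfinN : Finite (normalizerIn S U) := finite_of_le normalizerIn_le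
    have hUn := fullyNormalized_of_top (F := F) hUS hUnorm
    obtain ⟨E, hmap, hEs, hEfree, hnor⟩ := exists_retype' (normalizerIn_eq_self hUnorm) N
      (normalizerSystem_saturated hS hF hUn hN)
      (Fusion.LocalModels.sectionFree_normalizer hS hF hfree hUn hN)
    have hEU : E.IsNormal U := hnor _ (normalizer_isNormal hUS hN)
    have hEF : ∀ D' k'', IsMap E D' k'' → IsMap F D' k'' := fun D' k'' hk'' => by
      obtain ⟨-, a, ha, hae, -⟩ := (isMap_normalizer_iff hN).1 ((hmap _ _).1 hk'')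
      exact (ha.restrict le_sup_left).congr hae
    have hU0 : U ≠ ⊥ := fun h0 => hQ0 (le_bot_iff.1 (hlt.le.trans h0.le))
    have hfinU : Finite U := finite_of_le hUS
    have hres := ih (Nat.card S - Nat.card U)
      (by have h1 := card_lt_card hlt; have h2 := card_le_card hUS; omega) hU0 hEs hEfree hEU rfl
    have hk'E : IsMap E D k' := (hmap _ _).2 ((isMap_normalizer_iff hN).2
      ⟨fun x hx => ⟨hk'.le hx, hUnorm x (hk'.le hx)⟩, k', by rwa [sup_eq_left.2 hUD],
        fun _ _ => rfl, himg⟩)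
    obtain ⟨g', hg', he, hgZ⟩ := (isNormal_iff.1 hres).2 D k' hk'E
    exact ⟨g', hEF _ _ hg', he, hgZ⟩
  have hQfn : F.IsFullyNormalized Q := fullyNormalized_of_top hQS hQnorm
  set X := Q ⊔ centralizerIn S Q with hXdef
  have hXS : X ≤ S := sup_le hQS centralizerIn_le
  rcases eq_or_lt_of_le (le_sup_left : Q ≤ X) with hXQ | hXQ
  · -- `Q` is centric: use the model
    have hR := normalizerIn_eq_self hQnorm
    set R := normalizerIn S Q with hRdef
    obtain ⟨G, _, hfinG, ι, T, ⟨hι, hT, hchar, -, hmodel, hmaps⟩, hΦ⟩ :=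
      LocalModel.exists_localModel.{u, v} hS hF hQfn
    have hfinR : Finite R := finite_of_le normalizerIn_le
    have hRp : IsPGroup p R := hS.to_le normalizerIn_le
    have hWn := hloc G T hchar (hΦ H hfree)
    have hZwR : Zw ≤ R := hR.symm ▸ hZwS
    have hPQR : P ⊔ Q ≤ R := hR.symm ▸ hPQ
    obtain ⟨g₀, hg₀⟩ := hmodel (P ⊔ Q) g hg (hXQ ▸ le_sup_right) hPQR
      hgQ (hXQ ▸ hgQ)
    let e : R ≃* ι.range := MonoidHom.ofInjective hι
    have hWmem : ∀ s : R, (s : Ω) ∈ Zw ↔ ι s ∈ Wof W (T : Subgroup G) := by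
      intro s
      rw [hT, show Zw = Wof W R by rw [hR]]
      exact mem_Wof_iff hW.2 hRp e s
    let A : Subgroup G := (((P ⊔ Q) ⊔ Zw).subgroupOf R).map ι
    have hle : ((P ⊔ Q) ⊔ Zw).subgroupOf R ≤
        (ι.range.comap (MulAut.conj g₀).toMonoidHom).comap ι := by
      rw [Subgroup.subgroupOf_sup hPQR hZwR]
      refine sup_le (fun s hs => ?_) fun s hs => ?_
      · obtain ⟨hk, hk'⟩ := hg₀ s hs
        exact ⟨_, hk'⟩
      · show g₀ * ι s * g₀⁻¹ ∈ ι.range
        exact hT ▸ Wof_le (W := W) (T : Subgroup G) (hWn.conj_mem _ ((hWmem s).1 hs) g₀)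
    obtain ⟨f', hf', hfe'⟩ := hmaps g₀ A (by
      rintro _ ⟨s, hs, rfl⟩
      exact hle hs)
    have hD : (P ⊔ Q) ⊔ Zw ≤ (A.comap ι).map R.subtype := fun x hx =>
      ⟨⟨x, sup_le hPQR hZwR hx⟩, ⟨⟨x, sup_le hPQR hZwR hx⟩, hx, rfl⟩, rfl⟩
    have hmemA : ∀ s : R, (s : Ω) ∈ (P ⊔ Q) ⊔ Zw → ι s ∈ A := fun s hs => ⟨s, hs, rfl⟩
    refine ⟨f', hf'.restrict hD, fun x hx => ?_, ?_⟩
    · obtain ⟨h1, h1'⟩ := hfe' ⟨x, hPQR hx⟩ (hmemA _ (Subgroup.mem_sup_left hx))
      obtain ⟨h2, h2'⟩ := hg₀ ⟨x, hPQR hx⟩ hx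
      exact congrArg Subtype.val (hι (h1'.trans h2'.symm))
    · have : Finite Zw := finite_of_le hZwS
      refine eq_of_le_card (img_le fun x hx => ?_)
        (hf'.restrict (le_sup_right.trans hD)).card_img.ge
      obtain ⟨h1, h1'⟩ := hfe' ⟨x, hZwR hx⟩ (hmemA _ (Subgroup.mem_sup_right hx))
      refine (hWmem ⟨_, h1⟩).2 ?_
      rw [h1']
      exact hWn.conj_mem _ ((hWmem ⟨x, hZwR hx⟩).1 hx) g₀
  · -- split off a map fixing `Q`
    have hXnorm : ∀ s ∈ S, s ∈ Subgroup.normalizer (X : Set Ω) := fun s hs =>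
      le_normalizer_of_stronglyClosed (stronglyClosed_sup_centralizerIn hS hF hsc) hs
    have hgQ' : IsMap F Q g := hg.restrict le_sup_right
    obtain ⟨h, hh, hhe⟩ := exists_extension hS hF hgQ'
      (by rw [hgQ]; exact fullyNormalized_fullyCentralized hS hF hQfn)
    have hPn : P ⊔ Q ≤ nSub S Q g := fun t ht =>
      ⟨hg.le ht, hQnorm t (hg.le ht), g t, hg.mem ht,
        fun x hx => hg.map_conj ht (Subgroup.mem_sup_right hx)⟩
    have hXn' : X ≤ nSub S Q g := sup_le (le_nSub hgQ') centralizerIn_le_nSub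
    have hh' : IsMap F ((P ⊔ Q) ⊔ X) h := hh.restrict (sup_le hPn hXn')
    have hhQ : img h Q = Q := by rw [img_congr hhe, hgQ]
    have hhX : img h X = X := by
      have : Finite X := finite_of_le hXS
      refine eq_of_le_card ?_ (hh.restrict hXn').card_img.ge
      rw [hXdef, (hh.restrict hXn').img_sup, hhQ]
      refine sup_le le_sup_left (le_trans ?_ le_sup_right)
      have h2 := hh.img_centralizerIn_le (le_nSub hgQ') centralizerIn_le_nSub
      rwa [hhQ] at h2
    obtain ⟨h₁, hh₁, hh₁e, hh₁Z⟩ := recStep X hXQ hXS hXnorm _ h hh' le_sup_right hhX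
    have hhT : IsMap F (P ⊔ Q) h := hh'.restrict le_sup_left
    obtain ⟨i, hi, -, hih, hhi⟩ := hhT.exists_inv
    set P' := img h (P ⊔ Q) with hP'def
    have hP'S : P' ≤ S := hhT.img_le_S
    have hQP' : Q ≤ P' := hhQ.ge.trans (img_mono h le_sup_right)
    have hiT : ∀ y ∈ P', i y ∈ P ⊔ Q := fun y hy => by
      obtain ⟨x, hx, rfl⟩ := hhT.mem_img.1 hy
      rwa [hih x hx]
    have hkmap : IsMap F P' fun y => g (i y) := hg.comp hi hiT
    have hkfix : ∀ y ∈ Q, g (i y) = y := by
      intro y hy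
      obtain ⟨x, hx, rfl⟩ := (hhT.restrict le_sup_right).mem_img.1 (hhQ.ge hy)
      rw [hih x (Subgroup.mem_sup_right hx), hhe x hx]
    -- the maps inducing inner automorphisms on `Q`
    set K := autInducedBy S Q with hKdef
    have hTS : kNorm S K = S := le_antisymm kNorm_le_S fun s hs =>
      ⟨hs, conjAut S Q ⟨s, ⟨hs, hQnorm s hs⟩⟩, by rw [hKdef, ← conjAut_range]; exact ⟨_, rfl⟩,
        fun x hx => (conjAut_apply ⟨s, ⟨hs, hQnorm s hs⟩⟩ hx).symm⟩
    have hfinT : Finite (kNorm S K) := finite_of_le kNorm_le_S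
    obtain ⟨F₁, hF₁⟩ := exists_kSystem (F := F) (K := K) hQS
    have hF₁s : F₁.IsSaturated p := Fusion.KNormalizer.saturated hS hF
      ⟨fullyNormalized_fullyCentralized hS hF hQfn, by
        rw [inf_idem, inf_eq_right.2 (autInducedBy_le hQS), Subgroup.relIndex_self]
        exact (Fact.out : p.Prime).not_dvd_one⟩ rfl F₁ hF₁
    have hF₁map : ∀ D k', IsMap F₁ D k' → ∃ a, IsMap F (D ⊔ Q) a ∧ (∀ x ∈ D, a x = k' x) ∧
        ∃ s ∈ S, ∀ x ∈ Q, a x = s * x * s⁻¹ := by
      rintro D k' ⟨φ, hφ, he⟩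
      obtain ⟨-, -, a, ha, hae, c, hc, hce⟩ := (hF₁ D φ).1 hφ
      rw [hKdef, ← conjAut_range] at hc
      obtain ⟨⟨s, hs⟩, rfl⟩ := hc
      exact ⟨a, ha, fun x hx => by rw [hae x hx, ext_of_mem φ hx, he ⟨x, hx⟩], s, hs.1,
        fun x hx => by rw [hce x hx, conjAut_apply _ hx]; rfl⟩
    have hkF₁ : IsMap F₁ P' fun y => g (i y) := by
      refine ⟨hkmap.hom, (hF₁ _ _).2 ⟨hTS.symm ▸ hP'S, fun x hx => ?_, fun y => g (i y),
        by rwa [sup_eq_left.2 hQP'], fun x hx => ?_, 1, K.one_mem, fun x hx => ?_⟩,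
        fun x => hkmap.hom_apply x⟩
      · rw [ext_of_mem _ hx, hTS, hkmap.hom_apply]
        exact hkmap.mem hx
      · rw [ext_of_mem _ hx, hkmap.hom_apply]
      · rw [autFun_one]; exact hkfix x hx
    -- the quotient by `Q`
    haveI : (Q.subgroupOf S).Normal := Subgroup.normal_subgroupOf_of_le_normalizer hQnorm
    let θ : S →* S ⧸ Q.subgroupOf S := QuotientGroup.mk' _
    have hker : ∀ s : S, θ s = 1 ↔ (s : Ω) ∈ Q := fun s => by
      rw [QuotientGroup.mk'_apply, QuotientGroup.eq_one_iff, Subgroup.mem_subgroupOf]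
    set S' : Subgroup (S ⧸ Q.subgroupOf S) := ⊤ with hS'def
    have hrange : θ.range = S' := QuotientGroup.range_mk' _
    obtain ⟨E, hE⟩ := exists_factorSystem (F := F) hsc hker hrange
    have hq := isQuot_of_factorSystem hsc hE
    have hfinE : Finite S' := hq.finite
    have hpE := hq.isPGroup hS
    have hQne : Q ≠ S := fun h => hXQ.not_ge (hXS.trans h.ge)
    have hcard : Nat.card S' < Nat.card S := by
      rw [Subgroup.card_top,
        Subgroup.card_eq_card_quotient_mul_card_subgroup (Q.subgroupOf S)]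
      refine (Nat.lt_mul_iff_one_lt_right Nat.card_pos).2 ((Subgroup.one_lt_card_iff_ne_bot _).2 ?_)
      intro h0
      rw [Subgroup.subgroupOf_eq_bot, disjoint_iff, inf_eq_left.2 hQS] at h0
      exact hQ0 h0
    have hVn := IH _ hcard _ S' hpE rfl E (hq.saturated hS hF)
      (Fusion.SectionFreeQuot.sectionFree_quot hS hF hQn hq hfree)
    set V := preimageAlong θ (Wof W S') with hVdef
    have hVS : V ≤ S := preimageAlong_le _
    have hfinV : Finite V := finite_of_le hVS
    have hVlt : Q < V := by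
      refine SetLike.lt_iff_le_and_exists.2 ⟨hq.le_preimage _, ?_⟩
      have hS'0 : S' ≠ ⊥ := fun h0 => hQne (le_antisymm hQS fun x hx => by
        have := Subgroup.mem_top (θ ⟨x, hx⟩)
        rw [← hS'def, h0, Subgroup.mem_bot] at this
        exact (hker _).1 this)
      obtain ⟨⟨y, hy⟩, hy1⟩ := (Wof W S').ne_bot_iff_exists_ne_one.1
        (Wof_ne_bot hW hpE le_rfl hS'0)
      obtain ⟨x, hx, rfl⟩ := exists_along_eq hrange (Subgroup.mem_top y)
      refine ⟨x, mem_preimageAlong.2 ⟨hx, hy⟩, fun hxQ => hy1 (Subtype.ext ?_)⟩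
      show along θ x = 1
      rw [along_of_mem θ hx]
      exact (hker _).2 hxQ
    have hVnorm : ∀ t ∈ S, t ∈ Subgroup.normalizer (V : Set Ω) := fun t ht => by
      refine mem_normalizer_of_forall fun x hx => ?_
      obtain ⟨hxS, hxW⟩ := mem_preimageAlong.1 hx
      refine mem_preimageAlong.2 ⟨S.mul_mem (S.mul_mem ht hxS) (S.inv_mem ht), ?_⟩
      rw [along_mul θ (S.mul_mem ht hxS) (S.inv_mem ht), along_mul θ ht hxS, along_inv θ ht]
      exact (Subgroup.mem_normalizer_iff.1 (Wof_norm hW hpE _ (Subgroup.mem_top _)) _).1 hxW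
    -- `V` is normal in `F₁`
    obtain ⟨m, B, B0, Bm, Bmono, BN, Ble, Bcomm⟩ := normal_series hpE hVn
    have : Group.IsNilpotent S := hS.isNilpotent
    obtain ⟨l, hl⟩ := Group.IsNilpotent.nilpotent S
    let Zs : ℕ → Subgroup Ω := fun j => (Subgroup.upperCentralSeries S j).map S.subtype
    let Cs : ℕ → Subgroup Ω := fun j =>
      if j ≤ l then Q ⊓ Zs j else preimageAlong θ (B (j - l))
    have hpre0 : preimageAlong θ (⊥ : Subgroup (S ⧸ Q.subgroupOf S)) = Q := by
      refine le_antisymm (fun x hx => ?_) (hq.le_preimage _)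
      obtain ⟨hxS, hxb⟩ := mem_preimageAlong.1 hx
      rw [Subgroup.mem_bot, along_of_mem θ hxS] at hxb
      exact (hker _).1 hxb
    have hQl : Q ⊓ Zs l = Q := inf_eq_left.2 fun x hx =>
      ⟨⟨x, hQS hx⟩, hl ▸ Subgroup.mem_top _, rfl⟩
    have hlow : ∀ j ≤ l, Cs j = Q ⊓ Zs j := fun j hj => if_pos hj
    have hhigh : ∀ j, l ≤ j → Cs j = preimageAlong θ (B (j - l)) := by
      intro j hj
      rcases eq_or_lt_of_le hj with rfl | hlt
      · rw [hlow _ le_rfl, hQl, Nat.sub_self, B0, hpre0]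
      · exact if_neg (by omega)
    have hVF₁ : F₁.IsNormal V := by
      refine normal_of_series (hS.to_le kNorm_le_S) hF₁s (l + m) Cs ?_ ?_ (fun j _ => ?_)
        (fun j _ => ?_) ?_
      · rw [hlow 0 (Nat.zero_le _)]
        simp [Zs]
      · rw [hhigh _ (by omega), show l + m - l = m by omega, Bm]
      · rcases lt_or_ge j l with hj | hj
        · rw [hlow j hj.le, hlow (j + 1) hj]
          exact inf_le_inf_left _ (Subgroup.map_mono (Subgroup.upperCentralSeries_mono S (by omega)))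
        · rw [hhigh j hj, hhigh (j + 1) (by omega)]
          intro x hx
          obtain ⟨hxS, hxB⟩ := mem_preimageAlong.1 hx
          exact mem_preimageAlong.2 ⟨hxS, Bmono (by omega) hxB⟩
      · rcases le_or_gt j l with hj | hj
        · rw [hlow j hj]
          refine ⟨(inf_le_left.trans hQS).trans hTS.ge, fun D hD φ hφ x => ?_⟩
          obtain ⟨a, ha, hae, s, hs, hse⟩ := hF₁map _ _ (IsMap.of_hom hφ)
          obtain ⟨z, hz, hze⟩ := (hD x.2).2
          rw [← ext_apply φ x, ← hae x x.2, hse x (hD x.2).1]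
          exact ⟨(Subgroup.mem_normalizer_iff.1 (hQnorm s hs) _).1 (hD x.2).1,
            ⟨⟨s, hs⟩ * z * ⟨s, hs⟩⁻¹,
              (inferInstance : (Subgroup.upperCentralSeries S j).Normal).conj_mem z hz _,
              by rw [← hze]; rfl⟩⟩
        · rw [hhigh j hj.le]
          refine ⟨(preimageAlong_le _).trans hTS.ge, fun D hD φ hφ x => ?_⟩
          obtain ⟨a, ha, hae, -⟩ := hF₁map _ _ (IsMap.of_hom hφ)
          obtain ⟨a', ha', hcomp⟩ : ∃ a', IsMap F D a' ∧ ∀ y ∈ D, a' y = ext φ y :=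
            ⟨a, ha.restrict le_sup_left, hae⟩
          rw [← ext_apply φ x, ← hcomp x x.2]
          -- images under `F` of elements of the preimage of a normal subgroup of `E`
          set D' := imageAlong θ D
          obtain ⟨b, hb, hbe, -⟩ := (isNormal_iff.1 hQn).2 D a' ha'
          have hD' : D' ≤ S' := le_top
          have hpre : preimageAlong θ D' ≤ D ⊔ Q := by
            intro z hz
            obtain ⟨hzS, hzP⟩ := mem_preimageAlong.1 hz
            obtain ⟨r, hr, hrS, hre⟩ := mem_imageAlong.1 hzP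
            rw [show z = r * (r⁻¹ * z) by group]
            exact Subgroup.mul_mem _ (Subgroup.mem_sup_left hr)
              (Subgroup.mem_sup_right ((along_eq_iff hq.ker_iff hrS hzS).1 hre))
          obtain ⟨b', hb', hb'e⟩ := hq.descend D' b hD' (hb.restrict hpre)
          have hDS : D ≤ S := hD.trans (preimageAlong_le _)
          have hxD' : along θ (x : Ω) ∈ D' := mem_imageAlong.2 ⟨x, x.2, hDS x.2, rfl⟩
          refine mem_preimageAlong.2 ⟨ha'.mem x.2, ?_⟩
          rw [← hbe x x.2, ← hb'e _ (mem_preimageAlong.2 ⟨hDS x.2, hxD'⟩)]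
          exact stronglyClosed_mem (normal_stronglyClosed (BN (j - l))) hb' hxD'
            (mem_preimageAlong.1 (hD x.2)).2
      · intro j _ x hx y hy
        have hxS := hVS hx
        rcases lt_or_ge j l with hj | hj
        · rw [hlow (j + 1) hj] at hy
          rw [hlow j hj.le]
          obtain ⟨z, hz, hze⟩ := hy.2
          refine ⟨Q.mul_mem ((Subgroup.mem_normalizer_iff.1 (hQnorm x hxS) _).1 hy.1)
            (Q.inv_mem hy.1), ⟨_, (Subgroup.upperCentralSeries S j).inv_mem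
              (Subgroup.mem_upperCentralSeries_succ_iff.1 hz ⟨x, hxS⟩), ?_⟩⟩
          rw [← hze]
          simp [commutatorElement_def, mul_assoc]
        · rw [hhigh (j + 1) (by omega)] at hy
          rw [hhigh j hj]
          obtain ⟨hyS, hyB⟩ := mem_preimageAlong.1 hy
          refine mem_preimageAlong.2 ⟨S.mul_mem (S.mul_mem (S.mul_mem hxS hyS) (S.inv_mem hxS))
            (S.inv_mem hyS), ?_⟩
          rw [along_mul θ (S.mul_mem (S.mul_mem hxS hyS) (S.inv_mem hxS)) (S.inv_mem hyS),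
            along_mul θ (S.mul_mem hxS hyS) (S.inv_mem hxS), along_mul θ hxS hyS,
            along_inv θ hxS, along_inv θ hyS]
          exact Bcomm (j - l) _ (mem_preimageAlong.1 hx).2 _
            (by rwa [show j - l + 1 = j + 1 - l by omega])
    obtain ⟨k₁, hk₁, hk₁e, hk₁V⟩ := (isNormal_iff.1 hVF₁).2 P' _ hkF₁
    obtain ⟨a, ha, hae, -⟩ := hF₁map _ _ hk₁
    have hk₁F : IsMap F (P' ⊔ V) k₁ := (ha.restrict le_sup_left).congr hae
    obtain ⟨k₂, hk₂, hk₂e, hk₂Z⟩ :=
      recStep V hVlt hVS hVnorm _ k₁ hk₁F le_sup_right hk₁V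
    have hmaps : ∀ x ∈ (P ⊔ Q) ⊔ Zw, h₁ x ∈ (P' ⊔ V) ⊔ Zw := by
      have hh₂ := hh₁.restrict (sup_le_sup_right le_sup_left Zw :
        (P ⊔ Q) ⊔ Zw ≤ ((P ⊔ Q) ⊔ X) ⊔ Zw)
      intro x hx
      have h1 : h₁ x ∈ img h₁ ((P ⊔ Q) ⊔ Zw) := mem_img_self h₁ hx
      rw [hh₂.img_sup, hh₁Z, img_congr (f := h₁) (g := h) fun y hy =>
        hh₁e y (Subgroup.mem_sup_left hy)] at h1
      exact sup_le_sup_right le_sup_left Zw h1
    have hh₂ := hh₁.restrict (sup_le_sup_right le_sup_left Zw :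
      (P ⊔ Q) ⊔ Zw ≤ ((P ⊔ Q) ⊔ X) ⊔ Zw)
    refine ⟨fun x => k₂ (h₁ x), hk₂.comp hh₂ hmaps, fun x hx => ?_, ?_⟩
    · show k₂ (h₁ x) = g x
      have hhx : h x ∈ P' := mem_img_self h hx
      rw [hh₁e x (Subgroup.mem_sup_left hx), hk₂e _ (Subgroup.mem_sup_left hhx), hk₁e _ hhx,
        hih x hx]
    · rw [← (hh₂.restrict le_sup_right).img_img, hh₁Z, hk₂Z]

include hW hloc in
/-- The theorem. -/
theorem isNormal_Wof (hS : IsPGroup p S) {F : FusionSystem S} (hF : F.IsSaturated p)
    (hfree : F.IsSectionFree p H) : F.IsNormal (Wof W S) := by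
  suffices ∀ n, Holds.{u, v} H p W n from this _ Ω S hS rfl F hF hfree
  clear! S
  intro n
  induction n using Nat.strong_induction_on with
  | _ n IH =>
  intro Ω _ S _ hS hn F hF hfree
  set Zw := Wof W S with hZwdef
  have hZwS : Zw ≤ S := Wof_le S
  have hZnorm := Wof_norm hW hS
  -- the maps preserving `W(S)`
  let St := stabSystem F Zw hZwS fun _ hs => hZnorm _ hs
  have hSt : ∀ P f g, IsMap F P f → IsMap F (P ⊔ Zw) g → (∀ x ∈ P, g x = f x) →
      img g Zw = Zw → IsMap St P f := fun P f g hf hg he himg =>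
    ⟨hf.hom, ⟨hf.hom_mem_self, g, hg, fun x => by rw [IsMap.hom_apply]; exact (he x x.2).symm,
      himg⟩, fun x => hf.hom_apply x⟩
  refine isNormal_of_le_stab (hQS := hZwS) (hQ := fun s hs => hZnorm s hs) fun P φ hφ => ?_
  suffices ∀ P f, IsMap F P f → IsMap St P f from
    (this P _ (IsMap.of_hom hφ)).hom_mem fun x => (ext_apply φ x).symm
  clear! P
  intro P f hf
  induction hm : Nat.card S - Nat.card P using Nat.strong_induction_on generalizing P f with
  | _ m ih =>
  have hP := hf.le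
  have hbig : ∀ D k, IsMap F D k → Nat.card P < Nat.card D → IsMap St D k := fun D k hk hD => by
    have := card_le_card hk.le
    exact ih (Nat.card S - Nat.card D) (by omega) D k hk rfl
  have hStg : ∀ D k, IsMap St D k →
      ∃ g, IsMap F (D ⊔ Zw) g ∧ (∀ x ∈ D, g x = k x) ∧ img g Zw = Zw := by
    rintro D k ⟨φ, ⟨-, g, hg, hge, hgZ⟩, he⟩
    exact ⟨g, hg, fun x hx => (hge ⟨x, hx⟩).symm.trans (he ⟨x, hx⟩), hgZ⟩
  -- the climb along fully normalized subgroups
  have claim : ∀ (j : ℕ) (V : Subgroup Ω), Nat.card S - Nat.card (normalizerIn S V) = j →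
      F.IsFullyNormalized V → V ≠ ⊥ → Nat.card P < Nat.card (normalizerIn S V) ∨
        normalizerIn S V = S →
      ∀ D k, IsMap F D k → V ≤ D → D ≤ normalizerIn S V → img k V = V → IsMap St D k := by
    intro j
    induction j using Nat.strong_induction_on with
    | _ j ihj =>
    intro V hj hVn hV0 hPV D k hk hVD hDT hkV
    have hVS := hVn.1
    set T := normalizerIn S V with hTdef
    have hTS : T ≤ S := normalizerIn_le
    have hfinT : Finite T := finite_of_le hTS
    have hTp : IsPGroup p T := hS.to_le hTS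
    have hVT : V ≤ T := le_normalizerIn hVS
    obtain ⟨N, hN⟩ := exists_normalizerSystem (F := F) hVS
    have hNs := normalizerSystem_saturated hS hF hVn hN
    have hNfree := Fusion.LocalModels.sectionFree_normalizer hS hF hfree hVn hN
    have hNW : N.IsNormal (Wof W T) := by
      rcases eq_or_lt_of_le hTS with hTeq | hlt
      · exact isNormal_of_normal hW hloc hTp
          (fun a ha => IH a (hn ▸ hTeq ▸ ha)) hV0 hNs hNfree (normalizer_isNormal hVS hN)
      · exact IH _ (hn ▸ card_lt_card hlt) Ω T hTp rfl N hNs hNfree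
    have hkN : IsMap N D k := (isMap_normalizer_iff hN).2
      ⟨hDT, k, by rwa [sup_eq_left.2 hVD], fun _ _ => rfl, hkV⟩
    obtain ⟨g, hgN, hge, hgW⟩ := (isNormal_iff.1 hNW).2 D k hkN
    have hg : IsMap F (D ⊔ Wof W T) g := by
      obtain ⟨-, a, ha, hae, -⟩ := (isMap_normalizer_iff hN).1 hgN
      exact (ha.restrict le_sup_left).congr hae
    rcases eq_or_lt_of_le hTS with hTeq | hlt
    · have hWeq : Wof W T = Zw := by rw [hZwdef, hTeq]
      exact hSt D k g hk (hWeq ▸ hg) hge (hWeq ▸ hgW)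
    set Y := Wof W T with hYdef
    have hYT : Y ≤ T := Wof_le _
    have hYS : Y ≤ S := hYT.trans hTS
    have hY0 : Y ≠ ⊥ := Wof_ne_bot hW hTp le_rfl fun h0 => hV0 (le_bot_iff.1 (hVT.trans h0.le))
    have hNle : normalizerIn S T ≤ normalizerIn S Y := fun x hx =>
      ⟨hx.1, normalizer_le_Wof hW.2 hTp hx.2⟩
    have hfinNY : Finite (normalizerIn S Y) := finite_of_le normalizerIn_le
    have hfinNT : Finite (normalizerIn S T) := finite_of_le normalizerIn_le
    have hcard : Nat.card T < Nat.card (normalizerIn S Y) :=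
      lt_of_lt_of_le (card_lt_card (lt_normalizerIn hS hlt)) (card_le_card hNle)
    have hPT : Nat.card P < Nat.card T := hPV.resolve_right hlt.ne
    obtain ⟨Y', hconj, hY'n⟩ := exists_fullyNormalized (F := F) hYS
    obtain ⟨β, hβ, hβY⟩ := exists_map_to_fullyNormalized hS hF hY'n hconj
    have hβSt : IsMap St (normalizerIn S Y) β := hbig _ _ hβ (hPT.trans hcard)
    have hTN : T ≤ normalizerIn S Y := (le_normalizerIn hTS).trans hNle
    have hDY : D ⊔ Y ≤ normalizerIn S Y := sup_le (hDT.trans hTN) (le_normalizerIn hYS)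
    have hgT : ∀ x ∈ D ⊔ Y, g x ∈ normalizerIn S Y := fun x hx => hTN (hgN.mem hx)
    obtain ⟨i, hiSt, hiimg, hiβ, hβi⟩ := hβSt.exists_inv
    obtain ⟨i', hi', -, hi'β, -⟩ := hβ.exists_inv
    have hi : IsMap F (img β (normalizerIn S Y)) i := hi'.congr fun y hy => by
      obtain ⟨x, hx, rfl⟩ := hβ.mem_img.1 hy
      rw [hiβ x hx, hi'β x hx]
    set D' := img β (D ⊔ Y) with hD'def
    have hiD : ∀ y ∈ D', i y ∈ D ⊔ Y := by
      intro y hy
      obtain ⟨x, hx, rfl⟩ := (hβ.restrict hDY).mem_img.1 hy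
      rwa [hiβ x (hDY hx)]
    have hk' : IsMap F D' (fun y => β (g (i y))) :=
      hβ.comp (hg.comp (hi.restrict (img_mono β hDY)) hiD) fun y hy => hgT _ (hiD y hy)
    have hY'D : Y' ≤ D' := hβY ▸ img_mono β le_sup_right
    have hD'T : D' ≤ normalizerIn S Y' := img_le fun x hx =>
      ⟨hβ.mem (hDY hx), hβY ▸ hβ.mem_normalizer_img (le_normalizerIn hYS) (hDY hx) (hDY hx).2⟩
    have hfinNY' : Finite (normalizerIn S Y') := finite_of_le normalizerIn_le
    have hcardY' : Nat.card T < Nat.card (normalizerIn S Y') := by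
      refine lt_of_lt_of_le hcard ?_
      rw [← hβ.card_img]
      exact card_le_card (img_le fun x hx =>
        ⟨hβ.mem hx, hβY ▸ hβ.mem_normalizer_img (le_normalizerIn hYS) hx hx.2⟩)
    have hk'Y : img (fun y => β (g (i y))) Y' = Y' := by
      have : Finite Y' := finite_of_le hY'n.1
      refine eq_of_le_card (img_le fun y hy => ?_) (hk'.restrict hY'D).card_img.ge
      rw [← hβY] at hy ⊢
      obtain ⟨x, hx, rfl⟩ := (hβ.restrict (le_normalizerIn hYS)).mem_img.1 hy
      rw [hiβ x (le_normalizerIn hYS hx)]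
      exact mem_img_self β (hgW.le (mem_img_self g hx))
    have hY'0 : Y' ≠ ⊥ := fun h0 => by
      have hc := isConj_card hconj
      rw [h0, Subgroup.card_bot] at hc
      exact hY0 (Subgroup.eq_bot_of_card_eq _ hc.symm)
    have hk'St : IsMap St D' (fun y => β (g (i y))) := by
      refine ihj _ ?_ Y' rfl hY'n hY'0 (Or.inl (hPT.trans hcardY')) D' _ hk' hY'D hD'T hk'Y
      have := card_le_card (normalizerIn_le : normalizerIn S Y' ≤ S)
      omega
    refine ((hiSt.comp (hk'St.comp (hβSt.restrict hDY) fun x hx => mem_img_self β hx)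
      fun x hx => ?_).restrict le_sup_left).congr fun x hx => ?_
    · show β (g (i (β x))) ∈ _
      rw [hiβ x (hDY hx)]
      exact mem_img_self β (hgT x hx)
    · show i (β (g (i (β x)))) = k x
      rw [hiβ x (hDY (Subgroup.mem_sup_left hx)), hiβ _ (hgT x (Subgroup.mem_sup_left hx)), hge x hx]
  have haut : ∀ R : Subgroup Ω, Nat.card R = Nat.card P → F.IsFullyNormalized R →
      ∀ α ∈ F.autGroup R, IsMap St R (autFun α) := by
    intro R hR hRn α hα
    have hRS := hRn.1
    have hm' := isMap_of_mem_autGroup hRS hα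
    have hfinR : Finite R := finite_of_le hRS
    by_cases hR0 : R = ⊥
    · refine hSt R _ id hm' (isMap_id (sup_le hRS hZwS)) (fun x hx => ?_) (img_id _)
      have hx1 : x = 1 := Subgroup.mem_bot.1 (hR0 ▸ hx)
      subst hx1
      exact hm'.map_one.symm
    refine claim _ R rfl hRn hR0 ?_ R _ hm' le_rfl (le_normalizerIn hRS) (autFun_img α)
    rcases eq_or_lt_of_le hRS with hReq | hlt
    · exact Or.inr (normalizerIn_eq_self fun s hs => hReq ▸ Subgroup.le_normalizer (hReq ▸ hs))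
    · have : Finite (normalizerIn S R) := finite_of_le normalizerIn_le
      exact Or.inl (hR ▸ card_lt_card (lt_normalizerIn hS hlt))
  rcases eq_or_lt_of_le hP with hPS | hlt
  · have himg : img f P = P := (eq_top_of_card hP hf.isConj hPS).trans hPS.symm
    obtain ⟨α, hα, he⟩ := hf.exists_aut himg
    have hn' : F.IsFullyNormalized P := by
      refine ⟨hP, fun R hR => ?_⟩
      rw [eq_top_of_card hP hR hPS, hPS]
    exact (haut P rfl hn' α hα).congr he
  obtain ⟨Q, hPQ, hQ⟩ := exists_fullyNormalized (F := F) hP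
  have hstep : ∀ R : Subgroup Ω, F.IsConj R P → ∃ g, IsMap F R g ∧ IsMap St R g ∧ img g R = Q := by
    intro R hR
    obtain ⟨g, hg, hgQ⟩ := exists_map_to_fullyNormalized hS hF hQ (isConj_trans hR hPQ)
    have hRS := (isConj_le hR).1
    have hRlt : R < S := by
      refine lt_of_le_of_ne hRS fun h => hlt.ne ?_
      exact eq_top_of_card hRS hR h
    have hfin : Finite (normalizerIn S R) := finite_of_le normalizerIn_le
    have hg' : IsMap St (normalizerIn S R) g :=
      hbig _ g hg (isConj_card hR ▸ card_lt_card (lt_normalizerIn hS hRlt))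
    exact ⟨g, hg.restrict (le_normalizerIn hRS), hg'.restrict (le_normalizerIn hRS), hgQ⟩
  obtain ⟨g₁, hg₁, hg₁E, hg₁Q⟩ := hstep P (isConj_refl hP)
  obtain ⟨g₂, hg₂, hg₂E, hg₂Q⟩ := hstep (img f P) (isConj_symm hf.isConj)
  subst hg₁Q
  obtain ⟨i₁, hi₁, hi₁img, hi₁g, -⟩ := hg₁.exists_inv
  obtain ⟨i₂, hi₂, hi₂img, hi₂g, -⟩ := hg₂E.exists_inv
  rw [hg₂Q] at hi₂
  have hmapsto : ∀ x ∈ img g₁ P, i₁ x ∈ P := fun x hx => le_of_eq hi₁img (mem_img_self i₁ hx)
  have hin : IsMap F (img g₁ P) (fun x => f (i₁ x)) := hf.comp hi₁ hmapsto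
  have hcomp : IsMap F (img g₁ P) (fun x => g₂ (f (i₁ x))) :=
    hg₂.comp hin fun x hx => mem_img_self f (hmapsto x hx)
  have himg : img (fun x => g₂ (f (i₁ x))) (img g₁ P) = img g₁ P := by
    rw [← hin.img_img g₂, ← hi₁.img_img f, hi₁img, hg₂Q]
  obtain ⟨α, hα, he⟩ := hcomp.exists_aut himg
  have hαE := haut _ (isConj_card hPQ) hQ α hα
  have h1 : IsMap St P (fun x => autFun α (g₁ x)) :=
    hαE.comp hg₁E fun x hx => mem_img_self g₁ hx
  refine (hi₂.comp h1 fun x hx => autFun_mem α (mem_img_self g₁ hx)).congr fun x hx => ?_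
  show i₂ (autFun α (g₁ x)) = f x
  rw [he _ (mem_img_self g₁ hx), hi₁g x hx, hi₂g _ (mem_img_self f hx)]

/-- The normalizer system of a normal subgroup is the whole system. -/
theorem normalizer_eq {F : FusionSystem S} {U : Subgroup Ω} (hU : F.IsNormal U)
    {N : FusionSystem (normalizerIn S U)} (hN : F.IsNormalizerSystem U N) :
    ∀ P : Subgroup Ω, N.Hom P = F.Hom P := by
  intro P
  refine Set.ext fun φ => ⟨fun hφ => ?_, fun hφ => ?_⟩
  · obtain ⟨-, g, hg, hge, -⟩ := (isMap_normalizer_iff hN).1 (IsMap.of_hom hφ)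
    exact ((hg.restrict le_sup_left).congr hge).hom_mem fun x => (ext_apply φ x).symm
  · obtain ⟨g, hg, hge, hgU⟩ := (isNormal_iff.1 hU).2 P _ (IsMap.of_hom hφ)
    refine IsMap.hom_mem ((isMap_normalizer_iff hN).2 ⟨fun x hx => ⟨(F.le_of_mem hφ).1 hx,
      le_normalizer_of_stronglyClosed (normal_stronglyClosed hU) ((F.le_of_mem hφ).1 hx)⟩,
      g, hg, hge, hgU⟩) fun x => (ext_apply φ x).symm

end Cfsg.Agent.CharP.NormalFunctor
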