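import Cfsg.Agent.Lib.CharP.Reduced

/-!
The relative trace `C_W(S) → C_W(K)` and `C_L(Ω₁Z(T)) = C_L(Ω₁Z(T ⊓ L))` for subnormal `L`.
-/

set_option autoImplicit false

namespace Cfsg.Agent.CharP

open Subgroup

variable {G : Type*} [Group G] [Finite G] {p : ℕ}

/-- The relative trace from `S` to `K` on an abelian subgroup `W` normalized by `K`. -/
theorem exists_average {K S W : Subgroup G} (hKW : K ≤ normalizer (W : Set G))
    [IsMulCommutative ↥W] :
    ∃ A : ↥(W ⊓ centralizer (S : Set G)) →* ↥W,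
      (∀ u, ∀ k ∈ K, k * (A u : G) = (A u : G) * k) ∧
      (∀ (u : ↥(W ⊓ centralizer (S : Set G))) (N : Subgroup G),
        (∀ k ∈ K, (u : G)⁻¹ * (k * u * k⁻¹) ∈ N) → ((u : G) ^ S.relIndex K)⁻¹ * (A u : G) ∈ N) ∧
      (∀ t : G, t ∈ normalizer (K : Set G) → t ∈ normalizer (S : Set G) →
        ∀ u u' : ↥(W ⊓ centralizer (S : Set G)), (u' : G) = t * u * t⁻¹ →
          (A u' : G) = t * (A u : G) * t⁻¹) := by
  classical
  letI : CommGroup ↥W := { (inferInstance : Group ↥W) with
    mul_comm := fun a b => Subtype.ext (mul_comm_of_mem inferInstance a.2 b.2) }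
  let Ω := ↥K ⧸ S.subgroupOf K
  letI : Fintype Ω := Fintype.ofFinite _
  have hwd : ∀ (u : ↥(W ⊓ centralizer (S : Set G))) (a b : ↥K), a⁻¹ * b ∈ S.subgroupOf K →
      (a : G) * (u : G) * (a : G)⁻¹ = (b : G) * (u : G) * (b : G)⁻¹ := by
    intro u a b h
    have h1 : ((a⁻¹ * b : ↥K) : G) * (u : G) = (u : G) * ((a⁻¹ * b : ↥K) : G) :=
      (mem_inf.1 u.2).2 _ (mem_subgroupOf.1 h)
    calc (a : G) * (u : G) * (a : G)⁻¹
        = (a : G) * ((u : G) * ((a⁻¹ * b : ↥K) : G)) * (b : G)⁻¹ := by simp [mul_assoc]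
      _ = (b : G) * (u : G) * (b : G)⁻¹ := by rw [← h1]; simp [mul_assoc]
  let F : ↥(W ⊓ centralizer (S : Set G)) → Ω → ↥W := fun u q =>
    Quotient.liftOn' q
      (fun a : ↥K => (⟨(a : G) * (u : G) * (a : G)⁻¹,
        (mem_normalizer_iff.1 (hKW a.2) _).1 (mem_inf.1 u.2).1⟩ : ↥W))
      (fun a b h => Subtype.ext (hwd u a b (QuotientGroup.leftRel_apply.1 h)))
  have hF : ∀ u (a : ↥K), ((F u (a : Ω) : ↥W) : G) = (a : G) * (u : G) * (a : G)⁻¹ :=
    fun u a => rfl
  let A : ↥(W ⊓ centralizer (S : Set G)) →* ↥W := MonoidHom.mk' (fun u => ∏ q, F u q) fun u v => by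
    rw [← Finset.prod_mul_distrib]
    refine Finset.prod_congr rfl fun q _ => ?_
    induction q using QuotientGroup.induction_on with
    | H a =>
      refine Subtype.ext ?_
      simp only [MulMemClass.coe_mul, hF]
      group
  refine ⟨A, ?_, ?_, ?_⟩
  · intro u k hk
    let e : ↥W →* ↥W := ((MulAut.conj k).toMonoidHom.comp W.subtype).codRestrict W fun x =>
      (mem_normalizer_iff.1 (hKW hk) _).1 x.2
    have he : e (∏ q, F u q) = ∏ q, F u q := by
      rw [map_prod]
      refine Fintype.prod_equiv (MulAction.toPerm (⟨k, hk⟩ : ↥K)) _ _ fun q => ?_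
      induction q using QuotientGroup.induction_on with
      | H a =>
        refine Subtype.ext ?_
        show k * ((a : G) * (u : G) * (a : G)⁻¹) * k⁻¹ = ((F u ((⟨k, hk⟩ * a : ↥K) : Ω) : ↥W) : G)
        rw [hF]
        simp [mul_assoc]
    have he' : k * (A u : G) * k⁻¹ = A u := congrArg Subtype.val he
    exact mul_inv_eq_iff_eq_mul.1 he'
  · intro u N hN
    let w : ↥W := ⟨u, (mem_inf.1 u.2).1⟩
    have h1 : (A u : ↥W) = w ^ S.relIndex K * ∏ q, w⁻¹ * F u q := by
      show (∏ q, F u q) = _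
      rw [Finset.prod_mul_distrib, Finset.prod_const, Finset.card_univ,
        ← Nat.card_eq_fintype_card]
      rw [show Nat.card Ω = S.relIndex K from rfl, inv_pow, mul_inv_cancel_left]
    have h2 : (((∏ q, w⁻¹ * F u q : ↥W)) : G) ∈ N := by
      refine Finset.prod_induction _ (fun x : ↥W => (x : G) ∈ N)
        (fun a b ha hb => mul_mem ha hb) (one_mem N) fun q _ => ?_
      induction q using QuotientGroup.induction_on with
      | H a =>
        show (u : G)⁻¹ * ((F u (a : Ω) : ↥W) : G) ∈ N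
        rw [hF]
        exact hN a a.2
    have h3 : (A u : G) = (u : G) ^ S.relIndex K * (((∏ q, w⁻¹ * F u q : ↥W)) : G) :=
      congrArg Subtype.val h1
    rw [h3, inv_mul_cancel_left]
    exact h2
  · intro t htK htS u u' hu
    let e : ↥K ≃* ↥K :=
      ((MulAut.conj t).subgroupMap K).trans
        (MulEquiv.subgroupCongr (mem_normalizer_iff_map_conj_eq.1 htK))
    have he : ∀ a : ↥K, ((e a : ↥K) : G) = t * (a : G) * t⁻¹ := fun a => rfl
    have hrel : ∀ a b : ↥K, a⁻¹ * b ∈ S.subgroupOf K ↔ (e a)⁻¹ * e b ∈ S.subgroupOf K := by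
      intro a b
      rw [← map_inv, ← map_mul, mem_subgroupOf, mem_subgroupOf, he]
      exact mem_normalizer_iff.1 htS _
    let σ : Ω ≃ Ω := Quotient.congr e.toEquiv fun a b => by
      show QuotientGroup.leftRel _ a b ↔ QuotientGroup.leftRel _ _ _
      rw [QuotientGroup.leftRel_apply, QuotientGroup.leftRel_apply]
      exact hrel a b
    have h4 : ∀ s : Finset Ω,
        (((∏ q ∈ s, F u' (σ q) : ↥W)) : G) = t * (((∏ q ∈ s, F u q : ↥W)) : G) * t⁻¹ := by
      intro s
      induction s using Finset.induction with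
      | empty => simp
      | insert q s hq ih =>
        rw [Finset.prod_insert hq, Finset.prod_insert hq, Subgroup.coe_mul, Subgroup.coe_mul, ih]
        have h5 : ((F u' (σ q) : ↥W) : G) = t * ((F u q : ↥W) : G) * t⁻¹ := by
          induction q using QuotientGroup.induction_on with
          | H a =>
            show ((F u' ((e a : ↥K) : Ω) : ↥W) : G) = _
            rw [hF, hF, he, hu]
            group
        rw [h5]
        group
    show ((∏ q, F u' q : ↥W) : G) = t * ((∏ q, F u q : ↥W) : G) * t⁻¹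
    rw [← Equiv.prod_comp σ (F u')]
    exact h4 Finset.univ

variable [Fact p.Prime]

theorem pow_mem_iff_of_coprime {N : Subgroup G} {x : G} {n : ℕ} (h : (orderOf x).Coprime n)
    (hx : x ^ n ∈ N) : x ∈ N := by
  obtain ⟨m, hm⟩ := exists_pow_eq_self_of_coprime h.symm
  rw [← hm]
  exact pow_mem hx m

theorem exponent_coprime_relIndex {S K : Subgroup G} (h : ¬ p ∣ S.relIndex K) {x : G}
    (hx : x ^ p = 1) : (orderOf x).Coprime (S.relIndex K) :=
  Nat.Coprime.coprime_dvd_left (orderOf_dvd_of_pow_eq_one hx)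
    ((Nat.Prime.coprime_iff_not_dvd Fact.out).2 h)

/-- One normal step of `C_L(Ω₁Z(T)) = C_L(Ω₁Z(T ⊓ L))`. -/
theorem inf_centralizer_omegaCentre_eq {L K T : Subgroup G} (hK : IsCharP p K) (hLK : L ≤ K)
    (hKL : K ≤ normalizer (L : Set G)) (hT : IsSylIn p T K) :
    L ⊓ centralizer (omegaCentre p T : Set G) =
      L ⊓ centralizer (omegaCentre p (T ⊓ L) : Set G) := by
  set S := T ⊓ L
  set Z := omegaCentre p T
  set ZL := omegaCentre p S
  have hS : IsSylIn p S L := hT.inf_normal hLK hKL
  have hL : IsCharP p L := isCharP_of_normal hK hLK hKL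
  have hTL : T ≤ normalizer (L : Set G) := hT.le.trans hKL
  have hTS : T ≤ normalizer (S : Set G) :=
    (le_inf le_normalizer hTL).trans inf_normalizer_le_normalizer_inf
  have hTZL : T ≤ normalizer (ZL : Set G) := fun t ht => mem_normalizer_of_conj_map (by
    show (omegaCentre p S).map (MulAut.conj t).toMonoidHom = omegaCentre p S
    rw [omegaCentre_map (f := (MulAut.conj t).toMonoidHom) (MulAut.conj t).injective,
      conj_map_of_mem (hTS ht)])
  have hZe : Cfsg.IsElementaryAbelian p Z := omegaCentre_exponent T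
  have hZLe : Cfsg.IsElementaryAbelian p ZL := omegaCentre_exponent S
  have hSZ : S ≤ centralizer (Z : Set G) :=
    inf_le_left.trans (le_centralizer_iff.1 (omegaCentre_le_centralizer p T))
  have hSZL : S ≤ centralizer (ZL : Set G) :=
    le_centralizer_iff.1 (omegaCentre_le_centralizer p S)
  have hnd : ∀ C : Subgroup G, S ≤ C → C ≤ L → ¬ p ∣ S.relIndex C :=
    fun C h1 h2 => (hS.mono h1 h2).not_dvd
  refine le_antisymm (le_inf inf_le_left ?_) (le_inf inf_le_left ?_)
  · -- `C_L(Z)` centralizes `Z_L`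
    set C := L ⊓ centralizer (Z : Set G)
    set W := Cfsg.largestPReducedOf p L
    have hWe := isElementaryAbelian_largestPReducedOf p L
    haveI : IsMulCommutative ↥W := hWe.1
    have hSC : S ≤ C := le_inf inf_le_right hSZ
    obtain ⟨A, hA1, hA2, hA3⟩ := exists_average (K := C) (S := S) (W := W)
      (inf_le_left.trans (le_normalizer_largestPReducedOf p L))
    have hZLW : ZL ≤ W ⊓ centralizer (S : Set G) :=
      le_inf (omegaCentre_le_largestPReducedOf ((isCharP_iff L).1 hL) hS)
        (omegaCentre_le_centralizer p S)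
    have hAZ : ∀ x : ↥ZL, (A (inclusion hZLW x) : G) ∈ ZL := by
      intro x
      have hy := (A (inclusion hZLW x)).2
      refine subset_closure ⟨mem_inf.2 ⟨?_, fun s hs => hA1 _ s (hSC hs)⟩, hWe.2 _ hy⟩
      exact pCoreOf_le_of_isSylIn hS (largestPReducedOf_le_pCoreOf p L hy)
    set A' : ↥ZL →* ↥ZL :=
      ((W.subtype.comp A).comp (inclusion hZLW)).codRestrict ZL hAZ
    have hker : A'.ker = ⊥ := by
      by_contra hne
      set D := A'.ker.map ZL.subtype
      have hD1 : D ≠ ⊥ := fun h => hne ((map_eq_bot_iff_of_injective _ ZL.subtype_injective).1 h)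
      have hTC : T ≤ normalizer (C : Set G) := by
        refine (le_inf hTL ?_).trans inf_normalizer_le_normalizer_inf
        exact (le_centralizer_iff.1 (omegaCentre_le_centralizer p T)).trans le_normalizer
      have hTD : T ≤ normalizer (D : Set G) := by
        have key : ∀ t ∈ T, ∀ d ∈ D, t * d * t⁻¹ ∈ D := by
          rintro t ht _ ⟨d, hd, rfl⟩
          have hd' : t * (d : G) * t⁻¹ ∈ ZL := (mem_normalizer_iff.1 (hTZL ht) _).1 d.2
          refine ⟨⟨_, hd'⟩, ?_, rfl⟩
          have h1 := hA3 t (hTC ht) (hTS ht) (inclusion hZLW d) (inclusion hZLW ⟨_, hd'⟩) rfl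
          have h2 : (A (inclusion hZLW d) : G) = 1 := congrArg Subtype.val hd
          rw [h2, mul_one, mul_inv_cancel] at h1
          exact Subtype.ext h1
        intro t ht
        rw [mem_normalizer_iff]
        refine fun d => ⟨key t ht d, fun hd => ?_⟩
        have := key t⁻¹ (inv_mem ht) _ hd
        simpa [mul_assoc] using this
      obtain ⟨z, hz, hzo, hzc⟩ := exists_order_prime_central hT.isPGroup
        (((map_subtype_le _).trans (omegaCentre_le p S)).trans inf_le_left) hTD hD1
      obtain ⟨d, hd, rfl⟩ := hz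
      have hdT : (d : G) ∈ T := (omegaCentre_le p S d.2).1
      have hdZ : (d : G) ∈ Z :=
        subset_closure ⟨mem_inf.2 ⟨hdT, hzc⟩, hZLe.2 _ d.2⟩
      have h2 : (A (inclusion hZLW d) : G) = 1 := congrArg Subtype.val hd
      have h3 := hA2 (inclusion hZLW d) ⊥ fun k hk => by
        rw [mem_bot]
        show (d : G)⁻¹ * (k * (d : G) * k⁻¹) = 1
        rw [← (mem_inf.1 hk).2 _ hdZ, mul_inv_cancel_right, inv_mul_cancel]
      rw [h2, mul_one, mem_bot, inv_eq_one] at h3
      have h4 : (d : G) ∈ (⊥ : Subgroup G) := pow_mem_iff_of_coprime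
        (exponent_coprime_relIndex (hnd C hSC inf_le_left) (hZLe.2 _ d.2)) (mem_bot.2 h3)
      rw [mem_bot] at h4
      rw [show (ZL.subtype d) = (d : G) from rfl, h4, orderOf_one] at hzo
      exact (Fact.out : p.Prime).ne_one hzo.symm
    have hsurj : Function.Surjective A' :=
      (Finite.injective_iff_surjective.1 ((MonoidHom.ker_eq_bot_iff A').1 hker))
    intro c hc u hu
    obtain ⟨v, hv⟩ := hsurj ⟨u, hu⟩
    have h1 := hA1 (inclusion hZLW v) c hc
    have h2 : (A (inclusion hZLW v) : G) = u := congrArg Subtype.val hv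
    rw [h2] at h1
    exact h1.symm
  · -- `C_L(Z_L)` centralizes `Z`
    set C := L ⊓ centralizer (ZL : Set G)
    set W := Cfsg.largestPReducedOf p K
    have hWe := isElementaryAbelian_largestPReducedOf p K
    haveI : IsMulCommutative ↥W := hWe.1
    have hSC : S ≤ C := le_inf inf_le_right hSZL
    have hKW : K ≤ normalizer (W : Set G) := le_normalizer_largestPReducedOf p K
    obtain ⟨A, hA1, hA2, -⟩ := exists_average (K := C) (S := S) (W := W)
      ((inf_le_left.trans hLK).trans hKW)
    intro c hc z hz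
    have hzW : z ∈ W := omegaCentre_le_largestPReducedOf ((isCharP_iff K).1 hK) hT hz
    have hzS : z ∈ centralizer (S : Set G) :=
      centralizer_le (SetLike.coe_subset_coe.2 inf_le_left) (omegaCentre_le_centralizer p T hz)
    set u : ↥(W ⊓ centralizer (S : Set G)) := ⟨z, mem_inf.2 ⟨hzW, hzS⟩⟩
    have h2 := hA2 u (W ⊓ L) fun k hk => by
      obtain ⟨hkL, -⟩ := mem_inf.1 hk
      refine mem_inf.2 ⟨mul_mem (inv_mem hzW)
        ((mem_normalizer_iff.1 (hKW (hLK hkL)) z).1 hzW), ?_⟩
      have h := mul_mem ((mem_normalizer_iff.1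
        (hKL (inv_mem (largestPReducedOf_le p K hzW))) k).1 hkL) (inv_mem hkL)
      simpa [mul_assoc] using h
    set n := S.relIndex C
    obtain ⟨hwW, hwL⟩ := mem_inf.1 h2
    have hwC : ∀ s ∈ S, s * ((z ^ n)⁻¹ * (A u : G)) = ((z ^ n)⁻¹ * (A u : G)) * s := fun s hs =>
      ((show Commute s z from hzS s hs).pow_right n).inv_right.mul_right (hA1 u s (hSC hs))
    have hwS : (z ^ n)⁻¹ * (A u : G) ∈ S := mem_inf.2
      ⟨pCoreOf_le_of_isSylIn hT (largestPReducedOf_le_pCoreOf p K hwW), hwL⟩
    have hwZ : (z ^ n)⁻¹ * (A u : G) ∈ ZL :=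
      subset_closure ⟨mem_inf.2 ⟨hwS, hwC⟩, hWe.2 _ hwW⟩
    have h4 : Commute c ((z ^ n)⁻¹ * (A u : G)) := ((mem_inf.1 hc).2 _ hwZ).symm
    have h5 : Commute c (z ^ n) := by
      have h6 : Commute c ((A u : G) * ((z ^ n)⁻¹ * (A u : G))⁻¹) :=
        (show Commute c (A u : G) from hA1 u c hc).mul_right h4.inv_right
      simpa using h6
    have h7 : z ∈ centralizer ({c} : Set G) := pow_mem_iff_of_coprime
      (exponent_coprime_relIndex (hnd C hSC inf_le_left) (hZe.2 z hz))
      (mem_centralizer_singleton_iff.2 h5.symm.eq)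
    exact mem_centralizer_singleton_iff.1 h7

/-- `C_L(Ω₁Z(T)) = C_L(Ω₁Z(T ⊓ L))` for subnormal `L` in a group of characteristic `p`. -/
theorem inf_centralizer_omegaCentre_eq_of_isSubnormal
    (hG : centralizer (Cfsg.pCore p G : Set G) ≤ Cfsg.pCore p G) (T : Sylow p G)
    {L : Subgroup G} (hL : L.IsSubnormal) :
    L ⊓ centralizer (omegaCentre p (T : Subgroup G) : Set G) =
      L ⊓ centralizer (omegaCentre p ((T : Subgroup G) ⊓ L) : Set G) := by
  induction hL with
  | top => rw [inf_top_eq]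
  | step L K hLK hK hn ih =>
    have hKc : IsCharP p K := isCharP_of_isSubnormal hG hK
    have hT : IsSylIn p ((T : Subgroup G) ⊓ K) K := by
      refine isSylIn_of_not_dvd (T.isPGroup'.to_le inf_le_left) inf_le_right ?_
      rw [inf_relIndex_right]
      exact Cores.sylow_subgroupOf_isSubnormal T hK
    have h := inf_centralizer_omegaCentre_eq hKc hLK
      ((normal_subgroupOf_iff_le_normalizer hLK).1 hn) hT
    rw [inf_assoc (T : Subgroup G) K L, inf_eq_right.2 hLK] at h
    rw [← h]
    calc L ⊓ centralizer (omegaCentre p (T : Subgroup G) : Set G)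
        = L ⊓ (K ⊓ centralizer (omegaCentre p (T : Subgroup G) : Set G)) := by
          rw [← inf_assoc, inf_eq_left.2 hLK]
      _ = L ⊓ (K ⊓ centralizer (omegaCentre p ((T : Subgroup G) ⊓ K) : Set G)) := by rw [ih]
      _ = _ := by rw [← inf_assoc, inf_eq_left.2 hLK]

end Cfsg.Agent.CharP
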