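import Cfsg.Agent.Lib.CharP.AutSplit
import Cfsg.Agent.Lib.AutPSL.Out
import Cfsg.Agent.Lib.Classical.Torus
import Cfsg.Agent.Lib.Classical.GL2

/-!
Elementary abelian 2-groups of automorphisms of `PSL₂(3 ^ (2 n + 1))` no member of which inverts an
element of order three: they consist of inner automorphisms, have order at most four, and the non-split
tori supply inverted elements.
-/

set_option autoImplicit false
set_option linter.unusedSectionVars false

namespace Cfsg.Agent.CharP.PSLThreeSplit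

open Matrix Cfsg.Agent.AutPSL.Basic Cfsg.Agent.AutPSL.Main Cfsg.Agent.AutPSL.Out
open scoped MatrixGroups

variable {F : Type} [Field F] [Fintype F] {n : ℕ}

local notation "M" => Matrix (Fin 2) (Fin 2) F
local notation "PSL" => Matrix.ProjectiveSpecialLinearGroup (Fin 2) F

/-- `α` is conjugation by a matrix of square `-1` and determinant one. -/
def IsRep (α : MulAut PSL) (G : M) : Prop :=
  G * G = -1 ∧ G.trace = 0 ∧ G.det = 1 ∧ ∃ g : GL (Fin 2) F, (g : M) = G ∧ α = gAut g

theorem gAut_mk (g : GL (Fin 2) F) (s : SL(2, F)) :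
    gAut g (QuotientGroup.mk s : PSL) = QuotientGroup.mk (conjSL g s) := rfl

theorem cayley (X : M) : X * X = X.trace • X - X.det • 1 := by
  ext i j
  fin_cases i <;> fin_cases j <;>
    simp [Matrix.mul_apply, Fin.sum_univ_two, Matrix.trace_fin_two, Matrix.det_fin_two] <;> ring

theorem smul_one_of_center {g : GL (Fin 2) F} (h : g ∈ Subgroup.center (GL (Fin 2) F)) :
    ∃ c : F, c ≠ 0 ∧ (g : M) = c • 1 := by
  rw [Matrix.GeneralLinearGroup.center_eq_range_scalar] at h
  obtain ⟨c, rfl⟩ := h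
  refine ⟨c, c.ne_zero, ?_⟩
  rw [Matrix.smul_one_eq_diagonal]
  rfl

theorem gAut_eq_one {g : GL (Fin 2) F} (h : (gAut g : MulAut PSL) = 1) :
    ∃ c : F, c ≠ 0 ∧ (g : M) = c • 1 :=
  smul_one_of_center (mul_field_eq_one le_rfl (g := g) (σ := 1) (by rw [map_one, mul_one, h])).2

theorem gAut_eq_of_smul {g h : GL (Fin 2) F} {c : F} (hc : (h : M) = c • (g : M)) :
    (gAut h : MulAut PSL) = gAut g := by
  refine MulEquiv.ext fun x => ?_
  induction x using QuotientGroup.induction_on with
  | H s =>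
    rw [gAut_mk, gAut_mk]
    congr 1
    refine Subtype.ext ?_
    show (h : M) * (s : M) * ((h⁻¹ : GL (Fin 2) F) : M) = (g : M) * (s : M) * ((g⁻¹ : GL (Fin 2) F) : M)
    have hc0 : c ≠ 0 := by
      rintro rfl
      rw [zero_smul] at hc
      exact not_isUnit_zero (hc ▸ h.isUnit)
    have hi : ((h⁻¹ : GL (Fin 2) F) : M) = c⁻¹ • ((g⁻¹ : GL (Fin 2) F) : M) := by
      refine left_inv_eq_right_inv (a := (h : M)) (Units.inv_mul h) ?_
      rw [hc, smul_mul_smul_comm, mul_inv_cancel₀ hc0, Units.mul_inv, one_smul]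
    rw [hc, hi, smul_mul_assoc, smul_mul_smul_comm, mul_inv_cancel₀ hc0, one_smul]

variable (hF : Fintype.card F = 3 ^ (2 * n + 1))
include hF

theorem two_ne_zero' : (2 : F) ≠ 0 := by
  have : Fact (Nat.Prime 3) := ⟨Nat.prime_three⟩
  have : CharP F 3 := charP_of_card_eq_prime_pow hF
  exact Ring.two_ne_zero (by rw [ringChar.eq F 3]; norm_num)

theorem three_eq_zero : (3 : F) = 0 := by
  have : Fact (Nat.Prime 3) := ⟨Nat.prime_three⟩
  have : CharP F 3 := charP_of_card_eq_prime_pow hF
  exact_mod_cast CharP.cast_eq_zero F 3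

theorem card_mod : Fintype.card F % 8 = 3 := by
  rw [hF, pow_succ, pow_mul, Nat.mul_mod, Nat.pow_mod]
  norm_num

theorem neg_one_not_square (r : F) : r * r ≠ -1 := fun h => by
  have h1 : IsSquare (-1 : F) := ⟨r, h.symm⟩
  rw [FiniteField.isSquare_neg_one_iff] at h1
  have := card_mod hF
  omega

theorem rep_ne_smul_one {G : M} (h : G * G = -1) (c : F) : G ≠ c • 1 := by
  rintro rfl
  have := congrFun (congrFun h 0) 0
  refine neg_one_not_square hF c ?_
  simpa [Matrix.mul_apply] using this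

theorem rep_of_invol {α : MulAut PSL} (h : α * α = 1) (h1 : α ≠ 1)
    (hno : ∀ u : PSL, orderOf u = 3 → α u ≠ u⁻¹) : ∃ G, IsRep α G := by
  classical
  have : Fact (Nat.Prime 3) := ⟨Nat.prime_three⟩
  obtain ⟨ψ, -, hker⟩ := exists_proj_two (F := F)
  obtain ⟨e⟩ := exists_ringAut_equiv (p := 3) hF
  have hψ : ψ α = 1 := by
    have h2 : orderOf (e (ψ α)) ∣ 2 := orderOf_dvd_of_pow_eq_one (by
      rw [pow_two, ← map_mul, ← map_mul, h, map_one, map_one])
    have h3 := orderOf_dvd_natCard (e (ψ α))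
    rw [Nat.card_congr Multiplicative.toAdd, Nat.card_zmod] at h3
    have h4 := Nat.dvd_gcd h2 h3
    rw [show Nat.gcd 2 (2 * n + 1) = 1 from Nat.coprime_two_left.2 (odd_two_mul_add_one n),
      Nat.dvd_one, orderOf_eq_one_iff] at h4
    exact e.injective (h4.trans (map_one e).symm)
  obtain ⟨g, rfl⟩ : α ∈ (gAut (n := 2) (F := F)).range := hker ▸ MonoidHom.mem_ker.2 hψ
  obtain ⟨c, hc0, hc⟩ := gAut_eq_one (g := g * g) (by rw [map_mul, h])
  rw [Units.val_mul] at hc
  have hns : ∀ b : F, (g : M) ≠ b • 1 := by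
    intro b hb
    refine h1 ?_
    have := gAut_eq_of_smul (g := (1 : GL (Fin 2) F)) (h := g) (c := b) (by rwa [Units.val_one])
    rwa [map_one] at this
  have htr : (g : M).trace = 0 := by
    by_contra ht
    refine hns ((g : M).trace⁻¹ * (c + (g : M).det)) ?_
    have h2 := cayley (g : M)
    rw [hc, eq_sub_iff_add_eq, ← add_smul] at h2
    rw [← smul_smul, h2, smul_smul, inv_mul_cancel₀ ht, one_smul]
  have hdet : (g : M).det = -c := by
    have h2 := congrFun (congrFun (cayley (g : M)) 0) 0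
    rw [hc, htr] at h2
    simp at h2
    linear_combination h2
  by_cases hsq : IsSquare c
  · exfalso
    obtain ⟨d, hd⟩ := hsq
    set P := (g : M) + d • 1 with hP
    set Q := (g : M) - d • 1 with hQ
    have hPne : P ≠ 0 := fun e => hns (-d) (by rw [neg_smul]; exact eq_neg_of_add_eq_zero_left e)
    have hQne : Q ≠ 0 := fun e => hns d (sub_eq_zero.1 e)
    obtain ⟨r, i, hri⟩ : ∃ r i, P r i ≠ 0 := by
      by_contra hh; push Not at hh; exact hPne (Matrix.ext hh)
    obtain ⟨j, s, hjs⟩ : ∃ j s, Q j s ≠ 0 := by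
      by_contra hh; push Not at hh; exact hQne (Matrix.ext hh)
    set N := P * Matrix.single i j 1 * Q with hN
    have hNne : N ≠ 0 := fun e => by
      have h2 := congrFun (congrFun e r) s
      rw [hN, Matrix.zero_apply, Matrix.mul_apply, Finset.sum_eq_single j] at h2
      · rw [Matrix.mul_apply, Finset.sum_eq_single i] at h2
        · simp [hri, hjs] at h2
        · intro b _ hb; simp [Matrix.single_apply, hb.symm]
        · simp
      · intro b _ hb
        rw [Matrix.mul_apply, Finset.sum_eq_zero, zero_mul]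
        intro t _
        simp [Matrix.single_apply, hb.symm]
      · simp
    have hQP : Q * P = 0 := by
      rw [hQ, hP, sub_mul, mul_add, mul_add, hc, hd]
      simp only [smul_mul_assoc, mul_smul_comm, one_mul, mul_one, smul_smul]
      abel
    have hgP : (g : M) * P = d • P := by
      rw [hP, mul_add, hc, hd, smul_add, mul_smul_comm, mul_one, smul_smul, add_comm]
    have hQg : Q * (g : M) = (-d) • Q := by
      rw [hQ, sub_mul, hc, hd, smul_sub, smul_mul_assoc, one_mul, smul_smul, neg_mul]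
      simp only [neg_smul]
      abel
    have hgN : (g : M) * N = d • N := by
      rw [hN, ← mul_assoc, ← mul_assoc, hgP, smul_mul_assoc, smul_mul_assoc]
    have hNg : N * (g : M) = (-d) • N := by
      rw [hN, mul_assoc, hQg, mul_smul_comm]
    have hNN : N * N = 0 := by
      rw [hN, mul_assoc (P * Matrix.single i j 1), ← mul_assoc Q, ← mul_assoc Q, hQP]
      simp
    have hdetN : N.det = 0 := by
      have := congrArg Matrix.det hNN
      rw [Matrix.det_mul, Matrix.det_zero, mul_self_eq_zero] at this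
      exact this
    have htrN : N.trace = 0 := by
      have h2 := cayley N
      rw [hNN, hdetN, zero_smul, sub_zero, eq_comm, smul_eq_zero] at h2
      exact h2.resolve_right hNne
    have hdu : ∀ a : F, (1 + a • N).det = 1 := fun a => by
      rw [Matrix.trace_fin_two] at htrN
      rw [Matrix.det_fin_two] at hdetN ⊢
      simp
      linear_combination a * htrN + a ^ 2 * hdetN
    let u : SL(2, F) := ⟨1 + (1 : F) • N, hdu 1⟩
    let u' : SL(2, F) := ⟨1 + (-1 : F) • N, hdu (-1)⟩
    have hu' : u' = u⁻¹ := by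
      refine eq_inv_of_mul_eq_one_left (Subtype.ext ?_)
      show (1 + (-1 : F) • N) * (1 + (1 : F) • N) = 1
      rw [one_smul, neg_smul, one_smul, add_mul, one_mul, mul_add, mul_one, neg_mul, hNN]
      abel
    have hu3 : u ^ 3 = 1 := by
      refine Subtype.ext ?_
      rw [Matrix.SpecialLinearGroup.coe_pow, Matrix.SpecialLinearGroup.coe_one]
      show (1 + (1 : F) • N) ^ 3 = 1
      have h3 : (3 : F) • N = 0 := by rw [three_eq_zero hF, zero_smul]
      rw [one_smul, pow_succ, pow_two]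
      simp only [add_mul, mul_add, one_mul, mul_one, hNN, add_zero, zero_mul]
      rw [show (3 : F) = 1 + 1 + 1 by norm_num, add_smul, add_smul, one_smul] at h3
      rw [add_assoc, add_assoc, ← add_assoc N N N, h3, add_zero]
    refine hno (QuotientGroup.mk u) (orderOf_eq_prime ?_ ?_) ?_
    · rw [← QuotientGroup.mk_pow, hu3]; rfl
    · intro h2
      have h3 : (QuotientGroup.mk u : PSL) = QuotientGroup.mk (1 : SL(2, F)) := h2
      obtain ⟨b, hb⟩ := (mk_eq_mk_iff _ _).1 h3.symm
      rw [Matrix.SpecialLinearGroup.coe_one] at hb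
      have hb2 : N = (b - 1) • 1 := by
        rw [sub_smul, one_smul, ← hb]
        show N = 1 + (1 : F) • N - 1
        rw [one_smul, add_sub_cancel_left]
      rw [hb2, smul_mul_smul_comm, one_mul, smul_eq_zero] at hNN
      rcases hNN with h4 | h4
      · exact hNne (by rw [hb2, mul_self_eq_zero.1 h4, zero_smul])
      · exact one_ne_zero h4
    · rw [gAut_mk, ← QuotientGroup.mk_inv]
      congr 1
      rw [← hu']
      refine Subtype.ext ?_
      show (g : M) * (1 + (1 : F) • N) * ((g⁻¹ : GL (Fin 2) F) : M) = 1 + (-1 : F) • N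
      refine (Units.mul_inv_eq_iff_eq_mul g).2 ?_
      rw [one_smul, neg_smul, one_smul, mul_add, add_mul, mul_one, one_mul, neg_mul, hgN, hNg,
        neg_smul, neg_neg]
  · have hnc : IsSquare (-c) := by
      have h1' : quadraticChar F c = -1 := (quadraticChar_neg_one_iff_not_isSquare).2 hsq
      have h2' : quadraticChar F (-1) = -1 := (quadraticChar_neg_one_iff_not_isSquare).2
        fun ⟨r, hr⟩ => neg_one_not_square hF r hr.symm
      rw [← quadraticChar_one_iff_isSquare (neg_ne_zero.2 hc0), ← neg_one_mul, map_mul, h1', h2']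
      norm_num
    obtain ⟨d, hd⟩ := hnc
    have hd0 : d ≠ 0 := fun e => hc0 (by rw [e, mul_zero, neg_eq_zero] at hd; exact hd)
    have hGG : (d⁻¹ • (g : M)) * (d⁻¹ • (g : M)) = -1 := by
      rw [smul_mul_smul_comm, hc, smul_smul, show c = -(d * d) by rw [← hd, neg_neg], mul_neg,
        ← mul_inv, inv_mul_cancel₀ (mul_ne_zero hd0 hd0), neg_smul, one_smul]
    refine ⟨d⁻¹ • (g : M), hGG, by rw [Matrix.trace_smul, htr, smul_zero], ?_,
      ⟨d⁻¹ • (g : M), -(d⁻¹ • (g : M)), by rw [mul_neg, hGG, neg_neg],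
        by rw [neg_mul, hGG, neg_neg]⟩, rfl, (gAut_eq_of_smul (c := d⁻¹) rfl).symm⟩
    rw [Matrix.det_smul, Fintype.card_fin, hdet, hd]
    field_simp

theorem anticomm_or_eq {α β : MulAut PSL} {G B : M} (hG : IsRep α G) (hB : IsRep β B)
    (hc : α * β = β * α) (hne : α ≠ β) : G * B = -(B * G) := by
  obtain ⟨hG2, hGt, hGd, g, rfl, rfl⟩ := hG
  obtain ⟨hB2, hBt, hBd, b, rfl, rfl⟩ := hB
  have h1 : (gAut ((b * g)⁻¹ * (g * b)) : MulAut PSL) = 1 := by
    rw [map_mul, map_inv, map_mul, map_mul, hc, inv_mul_cancel]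
  obtain ⟨c, -, hc'⟩ := gAut_eq_one h1
  have h2 : (g : M) * (b : M) = c • ((b : M) * (g : M)) := by
    have h3 := congrArg ((((b * g : GL (Fin 2) F)) : M) * ·) hc'
    rw [← Units.val_mul, mul_inv_cancel_left, mul_smul_comm, mul_one] at h3
    simpa using h3
  have hc2 : c * c = 1 := by
    have h3 := congrArg Matrix.det h2
    rw [Matrix.det_mul, Matrix.det_smul, Matrix.det_mul, hGd, hBd, Fintype.card_fin] at h3
    linear_combination -h3
  rcases mul_self_eq_one_iff.1 hc2 with rfl | rfl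
  · exfalso
    rw [one_smul] at h2
    -- the centraliser of a non-scalar matrix is the algebra it generates
    refine hne ?_
    obtain ⟨u, v, huv⟩ : ∃ u v : F, (g : M) = u • (b : M) + v • 1 := by
      have e00 := congrFun (congrFun h2 0) 0
      have e01 := congrFun (congrFun h2 0) 1
      have e10 := congrFun (congrFun h2 1) 0
      simp [Matrix.mul_apply, Fin.sum_univ_two] at e00 e01 e10
      rw [Matrix.trace_fin_two] at hBt hGt
      by_cases h01 : (b : M) 0 1 = 0
      · exfalso
        have h5 := congrFun (congrFun hB2 0) 0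
        simp [Matrix.mul_apply, Fin.sum_univ_two, h01] at h5
        exact neg_one_not_square hF _ h5
      refine ⟨(g : M) 0 1 / (b : M) 0 1, 0, ?_⟩
      rw [zero_smul, add_zero]
      have hb11 : (b : M) 1 1 = -(b : M) 0 0 := by linear_combination hBt
      have hg11 : (g : M) 1 1 = -(g : M) 0 0 := by linear_combination hGt
      rw [hb11, hg11] at e01
      have h2' := two_ne_zero' hF
      have k0 : (g : M) 0 0 * (b : M) 0 1 = (g : M) 0 1 * (b : M) 0 0 := by
        refine mul_left_cancel₀ h2' ?_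
        linear_combination e01
      have k1 : (g : M) 1 0 * (b : M) 0 1 = (g : M) 0 1 * (b : M) 1 0 := by
        linear_combination -e00
      ext i j
      fin_cases i <;> fin_cases j <;> simp <;> field_simp
      · linear_combination k0
      · linear_combination k1
      · rw [hb11, hg11]; linear_combination -k0
    have hv : v = 0 := by
      have h5 := congrArg Matrix.trace huv
      rw [Matrix.trace_add, Matrix.trace_smul, Matrix.trace_smul, hGt, hBt, Matrix.trace_one,
        Fintype.card_fin, smul_zero, zero_add, eq_comm, smul_eq_mul, mul_eq_zero] at h5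
      exact h5.resolve_right (by exact_mod_cast two_ne_zero' hF)
    rw [hv, zero_smul, add_zero] at huv
    exact gAut_eq_of_smul huv
  · rwa [neg_one_smul] at h2

theorem exists_anticomm {G : M} (hG : G * G = -1) (htr : G.trace = 0) :
    ∃ B : M, B * B = -1 ∧ B.trace = 0 ∧ B.det = 1 ∧ G * B = -(B * G) := by
  rw [Matrix.trace_fin_two] at htr
  have h00 := congrFun (congrFun hG 0) 0
  simp [Matrix.mul_apply, Fin.sum_univ_two] at h00
  have hb : G 0 1 ≠ 0 := fun e => neg_one_not_square hF (G 0 0) (by simpa [e] using h00)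
  have hc : G 1 0 ≠ 0 := fun e => neg_one_not_square hF (G 0 0) (by simpa [e] using h00)
  have h2 : Fintype.card F % 2 = 1 := by have := card_mod hF; omega
  set δ := G 0 1 * G 1 0 with hδ
  have hδ0 : δ ≠ 0 := mul_ne_zero hb hc
  obtain ⟨u, v, huv⟩ := FiniteField.exists_root_sum_quadratic (f := (Polynomial.X ^ 2 : Polynomial F))
    (g := Polynomial.X ^ 2 - Polynomial.C δ⁻¹) (Polynomial.degree_X_pow 2)
    (Polynomial.degree_X_pow_sub_C (by decide) _) h2
  simp at huv
  set B₀ : M := !![0, -G 0 1; G 1 0, 0] with hB₀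
  refine ⟨u • B₀ + v • (G * B₀), ?_, ?_, ?_, ?_⟩
  rotate_left
  · simp [Matrix.trace_fin_two, hB₀, Matrix.mul_apply, Fin.sum_univ_two]
    ring_nf
    simp
  · simp [Matrix.det_fin_two, hB₀, Matrix.mul_apply, Fin.sum_univ_two]
    have hid : G 1 1 = -G 0 0 := by linear_combination htr
    have hδi : δ * δ⁻¹ = 1 := mul_inv_cancel₀ hδ0
    rw [hid]
    linear_combination δ * huv + hδi - v ^ 2 * δ * h00
  · ext i j
    have hid : G 1 1 = -G 0 0 := by linear_combination htr
    fin_cases i <;> fin_cases j <;>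
      simp [hB₀, Matrix.mul_apply, Fin.sum_univ_two, hid] <;> ring
  · have htB : (u • B₀ + v • (G * B₀)).trace = 0 := by
      simp [Matrix.trace_fin_two, hB₀, Matrix.mul_apply, Fin.sum_univ_two]
      ring_nf
      simp
    have hdB : (u • B₀ + v • (G * B₀)).det = 1 := by
      simp [Matrix.det_fin_two, hB₀, Matrix.mul_apply, Fin.sum_univ_two]
      have hid : G 1 1 = -G 0 0 := by linear_combination htr
      have hδi : δ * δ⁻¹ = 1 := mul_inv_cancel₀ hδ0
      rw [hid]
      linear_combination δ * huv + hδi - v ^ 2 * δ * h00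
    rw [cayley, htB, hdB, zero_smul, one_smul, zero_sub]

theorem exists_torus (hn : 1 ≤ n) {G B : M} (hG : G * G = -1) (hB : B * B = -1)
    (hBt : B.trace = 0) (hBd : B.det = 1) (hanti : G * B = -(B * G)) :
    ∃ (x : PSL) (p : ℕ), p.Prime ∧ p ≠ 2 ∧ p ≠ 3 ∧ orderOf x = p ∧
      (∀ g : GL (Fin 2) F, (g : M) = G → gAut g x = x⁻¹) ∧
      (∀ b : GL (Fin 2) F, (b : M) = B → gAut b x = x) := by
  haveI hns : Fact (∀ r : F, r ^ 2 ≠ (-1 : F) + 0 * r) :=
    ⟨fun r hr => neg_one_not_square hF r (by rw [← pow_two, hr, zero_mul, add_zero])⟩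
  let ψ := QuadraticAlgebra.lift (a := (-1 : F)) (b := (0 : F))
    ⟨B, by rw [hB, neg_smul, one_smul, zero_smul, add_zero]⟩
  have hψ : ∀ z, ψ z = z.re • (1 : M) + z.im • B := fun z => rfl
  have hinj : Function.Injective ψ := (ψ.toRingHom).injective
  have hdet : ∀ z, (ψ z).det = QuadraticAlgebra.norm z := by
    intro z
    rw [hψ, QuadraticAlgebra.norm_def]
    rw [Matrix.trace_fin_two] at hBt
    rw [Matrix.det_fin_two] at hBd ⊢
    simp
    linear_combination z.re * z.im * hBt + z.im ^ 2 * hBd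
  let φ : Classical.Torus.normOne F (-1) 0 →* SL(2, F) :=
    { toFun := fun z => ⟨ψ z.1, by rw [hdet]; exact Classical.Torus.mem_normOne.1 z.2⟩
      map_one' := Subtype.ext (map_one ψ)
      map_mul' := fun a b => Subtype.ext (map_mul ψ _ _) }
  have hφinj : Function.Injective φ := fun a b h =>
    Subtype.ext (Units.ext (hinj (congrArg Subtype.val h)))
  obtain ⟨z, hz⟩ := IsCyclic.exists_generator (α := Classical.Torus.normOne F (-1) 0)
  have hord : orderOf z = Fintype.card F + 1 := by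
    rw [orderOf_eq_card_of_forall_mem_zpowers hz, Classical.Torus.natCard_normOne]
  obtain ⟨k, hk⟩ : ∃ k, Fintype.card F + 1 = 4 * (2 * k + 1) := by
    have := card_mod hF
    exact ⟨Fintype.card F / 8, by omega⟩
  have hk0 : 1 ≤ k := by
    have : 3 ^ 3 ≤ Fintype.card F := by
      rw [hF]; exact Nat.pow_le_pow_right (by norm_num) (by omega)
    omega
  have h3L : ¬ 3 ∣ 2 * k + 1 := by
    intro h
    have h1 : 3 ∣ Fintype.card F + 1 := hk ▸ h.mul_left 4
    have h2 : 3 ∣ Fintype.card F := hF ▸ dvd_pow_self 3 (by omega)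
    omega
  obtain ⟨p, hp, hpd⟩ := Nat.exists_prime_and_dvd (show 2 * k + 1 ≠ 1 by omega)
  have hp2 : p ≠ 2 := by rintro rfl; omega
  set w := z ^ ((Fintype.card F + 1) / p) with hw
  have hpd' : p ∣ Fintype.card F + 1 := hk ▸ hpd.mul_left 4
  have hwo : orderOf w = p := by
    rw [hw, ← hord]
    exact orderOf_pow_orderOf_div (orderOf_pos _).ne' (hord ▸ hpd')
  have : Fact p.Prime := ⟨hp⟩
  refine ⟨QuotientGroup.mk (φ w), p, hp, hp2, fun e => h3L (e ▸ hpd), orderOf_eq_prime ?_ ?_, ?_, ?_⟩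
  · rw [← QuotientGroup.mk_pow, ← map_pow, ← hwo, pow_orderOf_eq_one, map_one]
    rfl
  · intro h
    have h1 : (QuotientGroup.mk (φ w) : PSL) = QuotientGroup.mk (1 : SL(2, F)) := h
    obtain ⟨c, hc⟩ := (mk_eq_mk_iff _ _).1 h1.symm
    rw [Matrix.SpecialLinearGroup.coe_one] at hc
    have hc2 : c * c = 1 := by
      have h3 := (φ w).2
      rwa [hc, Matrix.det_smul, Matrix.det_one, mul_one, Fintype.card_fin, pow_two] at h3
    have h4 : φ (w ^ 2) = 1 := by
      refine Subtype.ext ?_
      rw [map_pow, Matrix.SpecialLinearGroup.coe_pow, hc, pow_two, smul_mul_smul_comm, hc2,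
        one_mul, one_smul, Matrix.SpecialLinearGroup.coe_one]
    have h5 : orderOf w ∣ 2 := orderOf_dvd_of_pow_eq_one (hφinj (h4.trans (map_one φ).symm))
    rw [hwo, Nat.prime_dvd_prime_iff_eq hp Nat.prime_two] at h5
    exact hp2 h5
  all_goals intro g hg
  · rw [gAut_mk, ← QuotientGroup.mk_inv]
    congr 1
    refine eq_inv_of_mul_eq_one_left (Subtype.ext ?_)
    show (g : M) * (ψ w.1) * ((g⁻¹ : GL (Fin 2) F) : M) * ψ w.1 = 1
    have hcj : (g : M) * ψ w.1 * ((g⁻¹ : GL (Fin 2) F) : M) = ψ (star (w.1 : QuadraticAlgebra F (-1) 0)) := by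
      refine (Units.mul_inv_eq_iff_eq_mul g).2 ?_
      rw [hψ, hψ, hg, mul_add, add_mul, mul_smul_comm, mul_smul_comm, smul_mul_assoc, smul_mul_assoc,
        mul_one, one_mul, hanti, QuadraticAlgebra.re_star, QuadraticAlgebra.im_star, zero_mul,
        add_zero, neg_smul, smul_neg]
    rw [hcj, ← map_mul, mul_comm, ← QuadraticAlgebra.algebraMap_norm_eq_mul_star,
      Classical.Torus.mem_normOne.1 w.2, map_one, map_one]
  · rw [gAut_mk]
    congr 1
    refine Subtype.ext ?_
    show (g : M) * ψ w.1 * ((g⁻¹ : GL (Fin 2) F) : M) = ψ w.1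
    refine (Units.mul_inv_eq_iff_eq_mul g).2 ?_
    rw [hψ, hg, mul_add, add_mul, mul_smul_comm, mul_smul_comm, smul_mul_assoc, smul_mul_assoc,
      mul_one, one_mul]

theorem autSplit (hn : 1 ≤ n) : AutSplit.AutSplit PSL := by
  intro A hA hexp hno
  classical
  obtain ⟨⟨α, hα⟩, hα1⟩ := Subgroup.ne_bot_iff_exists_ne_one.1 hA
  have hα1' : α ≠ 1 := fun e => hα1 (Subtype.ext e)
  have hcomm : ∀ a ∈ A, ∀ b ∈ A, a * b = b * a := by
    intro a ha b hb
    have h := hexp (a * b) (mul_mem ha hb)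
    rw [← inv_eq_of_mul_eq_one_right h, _root_.mul_inv_rev, inv_eq_of_mul_eq_one_right (hexp a ha),
      inv_eq_of_mul_eq_one_right (hexp b hb)]
  obtain ⟨G, hG⟩ := rep_of_invol hF (hexp α hα) hα1' (hno α hα)
  obtain ⟨g, hg, hαg⟩ := hG.2.2.2
  by_cases h2 : ∀ β ∈ A, β = 1 ∨ β = α
  · obtain ⟨B, hB2, hBt, hBd, hanti⟩ := exists_anticomm hF hG.1 hG.2.1
    obtain ⟨x, p, hp, hp2, hp3, hxo, hinv, -⟩ := exists_torus hF hn hG.1 hB2 hBt hBd hanti
    refine ⟨⊥, bot_le, α, hα, x, p, hp, hp2, hxo, hαg ▸ hinv g hg,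
      fun b hb => by rw [Subgroup.mem_bot.1 hb]; rfl, fun j hj hd => ?_⟩
    have hcard : Nat.card A ≤ 2 := by
      have hsub : (A : Set (MulAut PSL)) ⊆ {1, α} := fun β hβ => h2 β hβ
      exact (Set.ncard_le_ncard hsub (Set.toFinite _)).trans
        ((Set.ncard_insert_le _ _).trans (by rw [Set.ncard_singleton]))
    rw [Subgroup.card_bot, one_pow, mul_one]
    calc Nat.card A ^ 2 ≤ 2 ^ 2 := Nat.pow_le_pow_left hcard 2
      _ ≤ 2 ^ j := Nat.pow_le_pow_right (by norm_num) (AutSplit.two_le_of_dvd hp hp3 hj hd)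
  push Not at h2
  obtain ⟨β, hβ, hβ1, hβα⟩ := h2
  obtain ⟨B, hB⟩ := rep_of_invol hF (hexp β hβ) hβ1 (hno β hβ)
  obtain ⟨b, hb, hβb⟩ := hB.2.2.2
  have hanti := anticomm_or_eq hF hG hB (hcomm α hα β hβ) hβα.symm
  obtain ⟨x, p, hp, hp2, hp3, hxo, hinv, hfixed⟩ := exists_torus hF hn hG.1 hB.1 hB.2.1 hB.2.2.1 hanti
  refine ⟨Subgroup.zpowers β, Subgroup.zpowers_le.2 hβ, α, hα, x, p, hp, hp2, hxo,
    hαg ▸ hinv g hg, ?_, fun j hj hd => ?_⟩
  · intro c hc
    obtain ⟨i, rfl⟩ := Subgroup.mem_zpowers_iff.1 hc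
    suffices h : β ∈ MulAction.stabilizer (MulAut PSL) x from
      MulAction.mem_stabilizer_iff.1 (zpow_mem h i)
    show β x = x
    rw [hβb]
    exact hfixed b hb
  · have hall : ∀ γ ∈ A, γ = 1 ∨ γ = α ∨ γ = β ∨ γ = α * β := by
      intro γ hγ
      by_contra hcon
      push Not at hcon
      obtain ⟨hγ1, hγα, hγβ, hγαβ⟩ := hcon
      obtain ⟨C, hC⟩ := rep_of_invol hF (hexp γ hγ) hγ1 (hno γ hγ)
      have hab : α * β ∈ A := mul_mem hα hβ
      have hab1 : α * β ≠ 1 := fun e => hβα
        ((inv_eq_of_mul_eq_one_right e).symm.trans (inv_eq_of_mul_eq_one_right (hexp α hα)))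
      have hrep : IsRep (α * β) (G * B) := by
        refine ⟨?_, ?_, ?_, g * b, by rw [Units.val_mul, hg, hb], by rw [map_mul, ← hαg, ← hβb]⟩
        · rw [mul_assoc, ← mul_assoc B, show B * G = -(G * B) by rw [hanti, neg_neg], neg_mul,
            mul_assoc G B B, hB.1]
          simp [hG.1]
        · have h3 := congrArg Matrix.trace hanti
          rw [Matrix.trace_neg, Matrix.trace_mul_comm B G] at h3
          exact (mul_eq_zero.1 (show (2 : F) * (G * B).trace = 0 by linear_combination h3)).resolve_left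
            (two_ne_zero' hF)
        · rw [Matrix.det_mul, hG.2.2.1, hB.2.2.1, one_mul]
      have a1 := anticomm_or_eq hF hC hG (hcomm γ hγ α hα) hγα
      have a2 := anticomm_or_eq hF hC hB (hcomm γ hγ β hβ) hγβ
      have a3 := anticomm_or_eq hF hC hrep (hcomm γ hγ _ hab) hγαβ
      have a4 : C * (G * B) = G * B * C := by
        rw [← mul_assoc, a1, neg_mul, mul_assoc G C, a2, mul_neg, neg_neg, mul_assoc]
      rw [a4] at a3
      have h4 : (2 : F) • (G * B * C) = 0 := by
        rw [two_smul]; exact add_eq_zero_iff_eq_neg.2 a3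
      have h5 := (smul_eq_zero.1 h4).resolve_left (two_ne_zero' hF)
      have h6 := congrArg Matrix.det h5
      rw [Matrix.det_mul, Matrix.det_mul, hG.2.2.1, hB.2.2.1, hC.2.2.1, Matrix.det_zero] at h6
      simp at h6
    have hcard : Nat.card A ≤ 4 := by
      have hsub : (A : Set (MulAut PSL)) ⊆ {1, α, β, α * β} := fun γ hγ => hall γ hγ
      refine (Set.ncard_le_ncard hsub (Set.toFinite _)).trans ?_
      refine (Set.ncard_insert_le _ _).trans (Nat.succ_le_succ ?_)
      refine (Set.ncard_insert_le _ _).trans (Nat.succ_le_succ ?_)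
      exact (Set.ncard_insert_le _ _).trans (by rw [Set.ncard_singleton])
    have hβc : Nat.card (Subgroup.zpowers β) = 2 := by
      rw [Nat.card_zpowers]
      exact orderOf_eq_prime (by rw [pow_two, hexp β hβ]) hβ1
    rw [hβc]
    calc Nat.card A ^ 2 ≤ 2 ^ 2 * 2 ^ 2 := by nlinarith [Nat.pow_le_pow_left hcard 2]
      _ ≤ 2 ^ j * 2 ^ 2 := Nat.mul_le_mul_right _
          (Nat.pow_le_pow_right (by norm_num) (AutSplit.two_le_of_dvd hp hp3 hj hd))

end Cfsg.Agent.CharP.PSLThreeSplit
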