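import Cfsg.Agent.Techniques.KInf.Stability
import Cfsg.Agent.Lib.PLocal.Quadratic

/-!
# The K-sequence in groups of characteristic `p` with abelian Sylow 2-subgroups

For odd `p` every term of the K-sequence of a Sylow `p`-subgroup lies in the `p`-core, so any subgroup between the
core and the Sylow subgroup has the same K-infinity subgroup, and that subgroup is normal.
-/

set_option autoImplicit false

namespace Cfsg.Agent.CharP.PrimitivePairKInf

open Cfsg Subgroup Cfsg.Agent.Techniques.KInf
open scoped commutatorElement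

universe u

variable {G : Type u} [Group G] [Finite G] {p : ℕ} [Fact p.Prime]

/-- The terms of the K-sequence lie in the core unless some element is a witness. -/
theorem terms_or_witness {A : Subgroup G} (S : Sylow p G) (h : CriticalIn p A) :
    (∀ n, (kSeqEven ↥(S : Subgroup G) n).map (S : Subgroup G).subtype ≤ pCore p G ∧
      (kSeqOdd ↥(S : Subgroup G) (n + 1)).map (S : Subgroup G).subtype ≤ pCore p G) ∨
    ∃ g ∈ (S : Subgroup G), Witness p A g := by
  classical
  refine or_iff_not_imp_left.2 fun hnot => ?_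
  rw [not_forall] at hnot
  set T := pCore p G
  have hTS : T ≤ (S : Subgroup G) := Cfsg.Agent.PLocal.Cores.pCore_le_sylow S
  set f := (S : Subgroup G).subtype
  have hf : Function.Injective f := (S : Subgroup G).subtype_injective
  have hsub : ∀ X : Subgroup ↥(S : Subgroup G), X.map f ≤ (S : Subgroup G) := map_subtype_le
  have hAS : A ≤ (S : Subgroup G) := h.le.trans hTS
  set A' := A.subgroupOf (S : Subgroup G)
  have hA'f : A'.map f = A := map_subgroupOf_eq_of_le hAS
  set n := Nat.find hnot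
  have hn := Nat.find_spec hnot
  have hbelow : ∀ k < n, (kSeqEven ↥(S : Subgroup G) k).map f ≤ T ∧
      (kSeqOdd ↥(S : Subgroup G) (k + 1)).map f ≤ T := fun k hk => not_not.mp (Nat.find_min hnot hk)
  have hAodd : A ≤ (kSeqOdd ↥(S : Subgroup G) n).map f := by
    rcases Nat.eq_zero_or_eq_succ_pred n with hn0 | hn0
    · rw [hn0, show kSeqOdd ↥(S : Subgroup G) 0 = ⊤ from rfl, ← MonoidHom.range_eq_map,
        Subgroup.range_subtype]
      exact hAS
    · rw [hn0, Techniques.KSeq.odd_succ, ← hA'f]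
      refine map_mono (le_sSup ((Techniques.KSeq.upper_map_iff hf).mp ?_))
      rw [hA'f]
      refine ⟨h.classTwo, ?_⟩
      rw [commutator_comm]
      exact (commutator_mono (hbelow (n - 1) (by omega)).1 le_rfl).trans h.comm
  have hmap : ∀ 𝒦 : Set (Subgroup ↥(S : Subgroup G)), ¬ (sSup 𝒦).map f ≤ T → ∃ B ∈ 𝒦, ¬ B.map f ≤ T := by
    intro 𝒦 h𝒦
    by_contra hall
    push Not at hall
    exact h𝒦 (map_le_iff_le_comap.2 (sSup_le fun B hB => map_le_iff_le_comap.1 (hall B hB)))
  by_cases hev : (kSeqEven ↥(S : Subgroup G) n).map f ≤ T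
  swap
  · obtain ⟨B, hB, hBT⟩ := hmap (kLowerStarFamily (kSeqOdd ↥(S : Subgroup G) n)) hev
    obtain ⟨g, hg, hw⟩ := exists_witness_lower h ((Techniques.KSeq.lower_map_iff hf).mpr hB) hAodd hBT
    exact ⟨g, hsub B hg, hw⟩
  obtain ⟨B, hB, hBT⟩ := hmap (kUpperStarFamily (kSeqEven ↥(S : Subgroup G) n))
    (fun h' => hn ⟨hev, h'⟩)
  by_cases hAlow : A ∈ kLowerStarFamily ((kSeqOdd ↥(S : Subgroup G) n).map f)
  · obtain ⟨g, hg, hw⟩ := exists_witness_upper h ((Techniques.KSeq.upper_map_iff hf).mpr hB) (by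
      rw [← hA'f] at hAlow ⊢
      exact map_mono (le_sSup ((Techniques.KSeq.lower_map_iff hf).mp hAlow))) hBT
    exact ⟨g, hsub B hg, hw⟩
  have hAn := h.normal
  obtain ⟨B, hB2, hBR, hN, h1, h2, hne⟩ : ∃ B ∈ classTwoSubgroups G,
      B ≤ (kSeqOdd ↥(S : Subgroup G) n).map f ∧ A ≤ normalizer (B : Set G) ∧
      ⁅A, ⁅B, B⁆⁆ = ⊥ ∧ ⁅⁅zc A, B⁆, B⁆ = ⊥ ∧ ¬ ⁅A, B⁆ ≤ zc A := by
    by_contra hall
    simp only [not_exists, not_and, not_not] at hall
    exact hAlow ⟨h.classTwo, by rw [normalizer_eq_top]; exact le_top, fun B hB hBR hN h1 h2 =>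
      hall B hB hBR hN h1 h2⟩
  obtain ⟨g, hg, hw⟩ := exists_witness_first h hB2 hN h1 h2 hne
  exact ⟨g, hsub _ (hBR hg), hw⟩

/-- No quadratic nontrivial action on a chief factor below the core. -/
theorem no_quadratic_factor (hp2 : p ≠ 2) (hab : PLocal.Quadratic.AbelianTwo G) {U V : Subgroup G}
    (hch : IsChiefFactor U V) (hU : U ≤ pCore p G) {g : G}
    (h2 : ⁅⁅U, zpowers g⁆, zpowers g⁆ ≤ V) : ⁅U, zpowers g⁆ ≤ V := by
  have := hch.2.1
  haveI : V.Normal := hch.2.2.1
  set π := QuotientGroup.mk' V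
  have hsurj := QuotientGroup.mk'_surjective V
  have hker : π.ker = V := QuotientGroup.ker_mk' V
  set U' := U.map π
  haveI : U'.Normal := Normal.map inferInstance _ hsurj
  have hp : IsPGroup p U' := (Cfsg.Agent.PLocal.Cores.isPGroup_pCore.to_le hU).map π
  have hne : U' ≠ ⊥ := fun h => by
    rw [Subgroup.map_eq_bot_iff, hker] at h
    exact hch.1.not_ge h
  have hmin : ∀ N : Subgroup (G ⧸ V), N.Normal → N ≤ U' → N = ⊥ ∨ N = U' := fun N hN hle => by
    have hVN : V ≤ N.comap π := hker.ge.trans (ker_le_comap π N)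
    have hle' : N.comap π ≤ U := (comap_mono hle).trans_eq
      ((comap_map_eq _ _).trans (by rw [hker, sup_eq_left.mpr hch.1.le]))
    rcases hch.2.2.2 (N.comap π) (hN.comap π) hVN hle' with e | e
    · left; rw [← map_comap_eq_self_of_surjective hsurj N, e, QuotientGroup.map_mk'_self]
    · right; rw [← map_comap_eq_self_of_surjective hsurj N, e]
  -- the centre and then its elements of order dividing `p` exhaust the factor
  haveI : Nontrivial U' := (Subgroup.nontrivial_iff_ne_bot U').2 hne
  haveI : Nontrivial (center U') := hp.center_nontrivial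
  have hcomm : IsMulCommutative U' := by
    have hz := hmin ((center U').map U'.subtype) inferInstance (map_subtype_le _)
    rcases hz with e | e
    · rw [map_eq_bot_iff_of_injective _ U'.subtype_injective] at e
      exact absurd e ((Subgroup.nontrivial_iff_ne_bot _).1 inferInstance)
    · refine ⟨⟨fun x y => ?_⟩⟩
      have hy : (y : G ⧸ V) ∈ (center U').map U'.subtype := e.symm ▸ y.2
      obtain ⟨y', hy', hye⟩ := hy
      rw [show y = y' from Subtype.ext hye.symm]
      exact mem_center_iff.1 hy' x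
  have hexp : ∀ x ∈ U', x ^ p = 1 := by
    let O : Subgroup U' :=
      { carrier := {x | x ^ p = 1}
        one_mem' := one_pow p
        mul_mem' := fun {a b} ha hb => by
          show (a * b) ^ p = 1
          rw [(show Commute a b from hcomm.is_comm.comm a b).mul_pow, ha, hb, one_mul]
        inv_mem' := fun {a} ha => by show a⁻¹ ^ p = 1; rw [inv_pow, ha, inv_one] }
    haveI : O.Characteristic := characteristic_iff_comap_eq.2 fun φ => by
      ext x
      show φ x ^ p = 1 ↔ x ^ p = 1
      rw [← map_pow, map_eq_one_iff φ φ.injective]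
    rcases hmin (O.map U'.subtype) inferInstance (map_subtype_le _) with e | e
    · rw [map_eq_bot_iff_of_injective _ U'.subtype_injective] at e
      obtain ⟨n, hn⟩ := hp.exists_card_eq
      have hdvd : p ∣ Nat.card U' := by
        rw [hn]
        refine dvd_pow_self p fun h0 => ?_
        rw [h0, pow_zero] at hn
        exact hne (Subgroup.card_eq_one.1 hn)
      obtain ⟨x, hx⟩ := exists_prime_orderOf_dvd_card' p hdvd
      have hxO : x ∈ O := show x ^ p = 1 from hx ▸ pow_orderOf_eq_one x
      rw [e, mem_bot] at hxO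
      rw [hxO, orderOf_one] at hx
      exact absurd hx.symm (Fact.out : p.Prime).one_lt.ne'
    · intro x hx
      obtain ⟨y, hy, rfl⟩ : x ∈ O.map U'.subtype := e.symm ▸ hx
      exact congrArg Subtype.val hy
  have hst := PLocal.Quadratic.isPStableOn_of_abelianTwo hp2
    (PLocal.Quadratic.AbelianTwo.of_surjective hab hsurj) (V := U') ⟨hcomm, hexp⟩
  have hq : ⁅⁅U', zpowers (π g)⁆, zpowers (π g)⁆ = ⊥ := by
    rw [← MonoidHom.map_zpowers, ← map_commutator, ← map_commutator, Subgroup.map_eq_bot_iff, hker]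
    exact h2
  have hcore := hst (π g) hq
  -- an element of the core of the automizer fixes the factor pointwise
  let C := centralizer ((U' : Subgroup (G ⧸ V)) : Set (G ⧸ V))
  let K := (pCore p ((G ⧸ V) ⧸ C)).comap (QuotientGroup.mk' C)
  haveI : (pCore p ((G ⧸ V) ⧸ C)).Normal := Cfsg.Agent.PLocal.Cores.pCore_normal'
  haveI : K.Normal := inferInstance
  let ρ : (G ⧸ V) →* MulAut U' := MulAut.conjNormal
  have hKp : IsPGroup p (K.map ρ) := by
    rintro ⟨_, x, hx, rfl⟩
    obtain ⟨k, hk⟩ := (Cfsg.Agent.PLocal.Cores.isPGroup_pCore (p := p)) ⟨_, hx⟩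
    refine ⟨k, Subtype.ext ?_⟩
    have h2 := congrArg Subtype.val hk
    simp only [SubmonoidClass.coe_pow, OneMemClass.coe_one] at h2
    rw [← map_pow, QuotientGroup.mk'_apply, QuotientGroup.eq_one_iff] at h2
    rw [SubmonoidClass.coe_pow, OneMemClass.coe_one, ← map_pow]
    refine MulEquiv.ext fun u => Subtype.ext ?_
    rw [MulAut.conjNormal_apply, MulAut.one_apply, mul_inv_eq_iff_eq_mul]
    exact (mem_centralizer_iff.mp h2 u u.2).symm
  have hdvd : p ∣ Nat.card U' := by
    obtain ⟨n, hn⟩ := hp.exists_card_eq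
    rw [hn]
    refine dvd_pow_self p fun h0 => ?_
    rw [h0, pow_zero] at hn
    exact hne (Subgroup.card_eq_one.1 hn)
  obtain ⟨z, hz, hz1⟩ := hKp.exists_fixed_point_of_prime_dvd_card_of_fixed_point ↥U' hdvd
    (show (1 : U') ∈ MulAction.fixedPoints ↥(K.map ρ) ↥U' from fun k => map_one (k : MulAut U'))
  have hzK : (z : G ⧸ V) ∈ U' ⊓ centralizer (K : Set (G ⧸ V)) := by
    refine ⟨z.2, mem_centralizer_iff.mpr fun k hk => ?_⟩
    have h1 := congrArg Subtype.val (hz ⟨ρ k, mem_map_of_mem _ hk⟩)
    change (ρ k z : G ⧸ V) = z at h1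
    rw [MulAut.conjNormal_apply] at h1
    exact mul_inv_eq_iff_eq_mul.mp h1
  have hc : π g ∈ centralizer (U' : Set (G ⧸ V)) := by
    rcases hmin (U' ⊓ centralizer (K : Set (G ⧸ V))) inferInstance inf_le_left with e | e
    · rw [e, mem_bot] at hzK
      exact absurd (Subtype.ext hzK.symm) hz1
    · exact le_centralizer_iff.mp (e.ge.trans inf_le_right) (show π g ∈ K from hcore)
  rw [← hker, ← Subgroup.map_eq_bot_iff, map_commutator, MonoidHom.map_zpowers, commutator_comm,
    commutator_eq_bot_iff_le_centralizer]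
  exact zpowers_le.mpr hc

/-- All terms of the K-sequence lie in the core. -/
theorem terms_le_core (hp2 : p ≠ 2) (hab : PLocal.Quadratic.AbelianTwo G)
    (hC : centralizer (pCore p G : Set G) ≤ pCore p G) (S : Sylow p G) (n : ℕ) :
    (kSeqEven ↥(S : Subgroup G) n).map (S : Subgroup G).subtype ≤ pCore p G ∧
      (kSeqOdd ↥(S : Subgroup G) (n + 1)).map (S : Subgroup G).subtype ≤ pCore p G := by
  obtain ⟨A, hA, -⟩ := exists_criticalIn (G := G) p
  rcases terms_or_witness S hA with h | ⟨g, -, -, -, -, hfac⟩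
  · exact h n
  · obtain ⟨U, V, hch, hU, h2, h1⟩ := hfac hC
    exact absurd (no_quadratic_factor hp2 hab hch (hU.trans hA.le) h2) h1

/-- The K-infinity subgroup of any intermediate subgroup is that of the core, hence normal. -/
theorem kInf_intermediate (hp2 : p ≠ 2) (hab : PLocal.Quadratic.AbelianTwo G)
    (hC : centralizer (pCore p G : Set G) ≤ pCore p G) {T : Subgroup G} (hT : IsPGroup p T)
    (hTge : pCore p G ≤ T) :
    (inducedFunctor kInfLower T).Normal ∧ inducedFunctor kInfLower T ≤ pCore p G := by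
  obtain ⟨S, hS⟩ := hT.exists_le_sylow
  have key : ∀ X : Subgroup G, pCore p G ≤ X → ∀ hX : X ≤ (S : Subgroup G),
      (kInfLower ↥X).map (Subgroup.inclusion hX) = kInfLower ↥(S : Subgroup G) := fun X hX1 hX =>
    (Techniques.KSeq.kInf_map_eq (f := Subgroup.inclusion hX) (Subgroup.inclusion_injective hX) fun n => by
      obtain ⟨h1, h2⟩ := terms_le_core hp2 hab hC S n
      exact ⟨fun x hx => ⟨⟨x, hX1 (h1 (mem_map_of_mem _ hx))⟩, rfl⟩,
        fun x hx => ⟨⟨x, hX1 (h2 (mem_map_of_mem _ hx))⟩, rfl⟩⟩).1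
  have hval : ∀ (X : Subgroup G) (hX : X ≤ (S : Subgroup G)), pCore p G ≤ X →
      inducedFunctor kInfLower X = inducedFunctor kInfLower (S : Subgroup G) := fun X hX hX1 => by
    show (kInfLower ↥X).map X.subtype = (kInfLower ↥(S : Subgroup G)).map (S : Subgroup G).subtype
    rw [← key X hX1 hX, Subgroup.map_map]
    rfl
  have hcore := hval (pCore p G) (hTge.trans hS) le_rfl
  haveI : (pCore p G).Normal := Cfsg.Agent.PLocal.Cores.pCore_normal'
  haveI : (kInfLower ↥(pCore p G)).Characteristic :=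
    characteristic_iff_map_eq.mpr fun φ => (Techniques.KSeq.map_equiv φ).1
  rw [hval T hS hTge, ← hcore]
  exact ⟨(inferInstance : ((kInfLower ↥(pCore p G)).map (pCore p G).subtype).Normal), map_subtype_le _⟩

end Cfsg.Agent.CharP.PrimitivePairKInf
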