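import Cfsg.Agent.Lib.CharP.Zsigmondy
import Cfsg.Agent.Lib.Classical.Torus
import Cfsg.Prelude.Def_Transfer

/-!
In a linear group in characteristic `p` mapping onto `PSL(2, pⁿ)`, a `p`-element outside the kernel has
commutator of order at least `pⁿ`: it generates with a conjugate an element whose order has
multiplicative order `2n` for `p`.
-/

set_option autoImplicit false
set_option linter.unusedSectionVars false

namespace Cfsg.Agent.CharP.SL2IndexBound

open Subgroup
open scoped MatrixGroups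

section matrix

variable {F : Type*} [Field F]

theorem cayley (A : SL(2, F)) : (A : Matrix (Fin 2) (Fin 2) F) * A =
    (A : Matrix (Fin 2) (Fin 2) F).trace • (A : Matrix (Fin 2) (Fin 2) F) - 1 := by
  have hd : (A : Matrix (Fin 2) (Fin 2) F).det = 1 := A.2
  rw [Matrix.det_fin_two] at hd
  ext i j
  fin_cases i <;> fin_cases j <;> simp [Matrix.mul_apply, Fin.sum_univ_two, Matrix.trace_fin_two]
  · linear_combination -hd
  · ring
  · ring
  · linear_combination -hd

theorem pow_form (t : F) (k : ℕ) : ∃ f g : F, ∀ A : SL(2, F), (A : Matrix (Fin 2) (Fin 2) F).trace = t →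
    ((A ^ k : SL(2, F)) : Matrix (Fin 2) (Fin 2) F) = f • (A : Matrix (Fin 2) (Fin 2) F) + g • 1 := by
  induction k with
  | zero => exact ⟨0, 1, fun A _ => by simp⟩
  | succ k ih =>
    obtain ⟨f, g, h⟩ := ih
    refine ⟨f * t + g, -f, fun A hA => ?_⟩
    rw [pow_succ, Matrix.SpecialLinearGroup.coe_mul, h A hA, add_mul, smul_mul_assoc, cayley, hA,
      smul_mul_assoc, one_mul, smul_sub, smul_smul, add_smul, neg_smul]
    abel

/-- Two non-scalar elements of `SL₂` with the same trace satisfy the same equations `X ^ k = 1`. -/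
theorem pow_eq_one_iff_of_trace {A B : SL(2, F)}
    (htr : (A : Matrix (Fin 2) (Fin 2) F).trace = (B : Matrix (Fin 2) (Fin 2) F).trace)
    (hA : ∀ c : F, (A : Matrix (Fin 2) (Fin 2) F) ≠ c • 1) (hB : ∀ c : F, (B : Matrix (Fin 2) (Fin 2) F) ≠ c • 1)
    (k : ℕ) : A ^ k = 1 ↔ B ^ k = 1 := by
  obtain ⟨f, g, h⟩ := pow_form (A : Matrix (Fin 2) (Fin 2) F).trace k
  have key : ∀ C : SL(2, F), (C : Matrix (Fin 2) (Fin 2) F).trace = (A : Matrix (Fin 2) (Fin 2) F).trace →
      (∀ c : F, (C : Matrix (Fin 2) (Fin 2) F) ≠ c • 1) → (C ^ k = 1 ↔ f = 0 ∧ g = 1) := by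
    intro C hC hne
    constructor
    · intro h1
      have h2 := h C hC
      rw [h1, Matrix.SpecialLinearGroup.coe_one] at h2
      have hf : f = 0 := by
        by_contra hf
        refine hne (f⁻¹ * (1 - g)) ?_
        have h3 : f • (C : Matrix (Fin 2) (Fin 2) F) = (1 - g) • (1 : Matrix (Fin 2) (Fin 2) F) := by
          rw [sub_smul, one_smul]; exact eq_sub_of_add_eq h2.symm
        rw [← smul_smul, ← h3, smul_smul, inv_mul_cancel₀ hf, one_smul]
      refine ⟨hf, ?_⟩
      rw [hf, zero_smul, zero_add] at h2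
      have := congrFun (congrFun h2 0) 0
      simpa using this.symm
    · rintro ⟨hf, hg⟩
      refine Subtype.ext ((h C hC).trans ?_)
      rw [hf, hg, zero_smul, zero_add, one_smul]
      rfl
  rw [key A rfl hA, key B htr.symm hB]

/-- Upper unipotent matrices. -/
def up (x : F) : SL(2, F) := ⟨!![1, x; 0, 1], by simp [Matrix.det_fin_two_of]⟩

/-- The Weyl element. -/
def wel : SL(2, F) := ⟨!![0, 1; -1, 0], by simp [Matrix.det_fin_two_of]⟩

/-- Lower unipotent matrices. -/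
def low (x : F) : SL(2, F) := ⟨!![1, 0; x, 1], by simp [Matrix.det_fin_two_of]⟩

/-- Diagonal matrices. -/
def dia {x : F} (hx : x ≠ 0) : SL(2, F) :=
  ⟨!![x, 0; 0, x⁻¹], by simp [Matrix.det_fin_two_of, mul_inv_cancel₀ hx]⟩

@[simp] theorem coe_up (x : F) : ((up x : SL(2, F)) : Matrix (Fin 2) (Fin 2) F) = !![1, x; 0, 1] := rfl

@[simp] theorem coe_low (x : F) : ((low x : SL(2, F)) : Matrix (Fin 2) (Fin 2) F) = !![1, 0; x, 1] := rfl

@[simp] theorem coe_dia {x : F} (hx : x ≠ 0) :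
    ((dia hx : SL(2, F)) : Matrix (Fin 2) (Fin 2) F) = !![x, 0; 0, x⁻¹] := rfl

@[simp] theorem coe_wel : ((wel : SL(2, F)) : Matrix (Fin 2) (Fin 2) F) = !![0, 1; -1, 0] := rfl

theorem exists_conj_up {p : ℕ} [Fact p.Prime] [CharP F p] {u : SL(2, F)} {k : ℕ} (hu : u ^ p ^ k = 1)
    (hu1 : u ≠ 1) : ∃ (g : SL(2, F)) (x : F), x ≠ 0 ∧ g * u * g⁻¹ = up x := by
  set N := (u : Matrix (Fin 2) (Fin 2) F) - 1 with hN
  have hn : IsNilpotent N := ⟨p ^ k, by
    rw [hN, sub_pow_char_pow_of_commute _ _ (Commute.one_right _), one_pow,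
      ← Matrix.SpecialLinearGroup.coe_pow, hu, Matrix.SpecialLinearGroup.coe_one, sub_self]⟩
  have htr : N.trace = 0 := by
    have := Matrix.isNilpotent_trace_of_isNilpotent hn
    rwa [isNilpotent_iff_eq_zero] at this
  have hu' : (u : Matrix (Fin 2) (Fin 2) F) = N + 1 := by rw [hN, sub_add_cancel]
  rw [Matrix.trace_fin_two] at htr
  have hd : (u : Matrix (Fin 2) (Fin 2) F).det = 1 := u.2
  rw [hu', Matrix.det_fin_two] at hd
  simp at hd
  set a := N 0 0
  set b := N 0 1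
  set c := N 1 0
  have hd' : a * a + b * c = 0 := by linear_combination -hd + (a + 1) * htr
  have hu00 : (u : Matrix (Fin 2) (Fin 2) F) = !![1 + a, b; c, 1 - a] := by
    rw [hu']
    ext i j
    fin_cases i <;> fin_cases j <;> simp [a, b, c]
    · ring
    · linear_combination htr
  by_cases hc : c = 0
  · have ha : a = 0 := by
      rw [hc, mul_zero, add_zero] at hd'
      exact mul_self_eq_zero.mp hd'
    refine ⟨1, b, fun hb => hu1 (Subtype.ext ?_), ?_⟩
    · rw [hu00, hc, ha, hb, Matrix.SpecialLinearGroup.coe_one, Matrix.one_fin_two]; simp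
    · rw [one_mul, inv_one, mul_one]
      refine Subtype.ext (hu00.trans ?_)
      rw [hc, ha]; simp [up]
  · refine ⟨wel * up (-a / c), -c, neg_ne_zero.mpr hc,
      mul_inv_eq_iff_eq_mul.mpr ?_⟩
    ext i j
    rw [Matrix.SpecialLinearGroup.coe_mul, Matrix.SpecialLinearGroup.coe_mul, Matrix.SpecialLinearGroup.coe_mul, hu00]
    fin_cases i <;> fin_cases j <;>
      simp [Matrix.mul_apply, Fin.sum_univ_two] <;> field_simp <;>
      first | ring1 | linear_combination hd' | linear_combination -hd'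

variable [Fintype F]

/-- A unipotent element and a conjugate generate an element of order `L`, for odd `L > 1` dividing `q + 1`. -/
theorem exists_pair {x : F} (hx : x ≠ 0) {L : ℕ} (hL : L ∣ Fintype.card F + 1) (hodd : Odd L) (hL1 : 1 < L) :
    ∃ g m : SL(2, F), m ∈ closure ({up x, g * up x * g⁻¹} : Set SL(2, F)) ∧
      ∀ k : ℕ, m ^ (2 * k) = 1 ↔ L ∣ k := by
  classical
  obtain ⟨A, hA⟩ := Classical.Torus.exists_irreducible F
  haveI : Fact (∀ r : F, r ^ 2 ≠ A + 1 * r) := ⟨hA⟩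
  obtain ⟨z, hz⟩ := IsCyclic.exists_generator (α := Classical.Torus.normOne F A 1)
  have hord : orderOf z = Fintype.card F + 1 := by
    rw [orderOf_eq_card_of_forall_mem_zpowers hz, Classical.Torus.natCard_normOne]
  set Y := Classical.Torus.torusHom z ^ ((Fintype.card F + 1) / L) with hY
  have hYo : orderOf Y = L := by
    have hh : orderOf (Classical.Torus.torusHom z) = Fintype.card F + 1 := by
      rw [orderOf_injective _ Classical.Torus.torusHom_injective, hord]
    rw [hY, ← hh]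
    exact orderOf_pow_orderOf_div (orderOf_pos _).ne' (hh ▸ hL)
  set τ := (Y : Matrix (Fin 2) (Fin 2) F).trace with hτ
  obtain ⟨j, hj⟩ := hodd
  have h2co : Nat.Coprime L 2 := Nat.coprime_two_right.mpr ⟨j, hj⟩
  have hns : ∀ c : F, ((Y * Y : SL(2, F)) : Matrix (Fin 2) (Fin 2) F) ≠ c • 1 := by
    intro c hc
    have hdc : c * c = 1 := by
      have hd := (Y * Y).2
      rw [show ((Y * Y).1) = c • (1 : Matrix (Fin 2) (Fin 2) F) from hc] at hd
      rwa [Matrix.det_smul, Matrix.det_one, mul_one, Fintype.card_fin, pow_two] at hd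
    have h4 : Y ^ (2 * 2) = 1 := by
      rw [pow_mul, pow_two, pow_two]
      refine Subtype.ext ?_
      rw [Matrix.SpecialLinearGroup.coe_mul, hc, smul_mul_smul_comm, mul_one, hdc, one_smul]
      rfl
    have := Nat.dvd_gcd (hYo ▸ orderOf_dvd_of_pow_eq_one h4) dvd_rfl
    rw [Nat.Coprime.gcd_eq_one ((h2co.mul_right h2co).symm)] at this
    exact absurd (Nat.dvd_one.mp this) (by omega)
  have hτ0 : τ ≠ 0 := by
    intro h0
    refine hns (-1) ?_
    rw [Matrix.SpecialLinearGroup.coe_mul, cayley, ← hτ, h0, zero_smul, zero_sub, neg_one_smul]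
  set ld := τ / x with hld
  have hld0 : ld ≠ 0 := div_ne_zero hτ0 hx
  set g : SL(2, F) := wel * dia hld0 with hg
  set lo : SL(2, F) := low (-(x * ld * ld)) with hlo
  have hconj : g * up x * g⁻¹ = lo := by
    rw [mul_inv_eq_iff_eq_mul]
    ext i k
    rw [hg, hlo, Matrix.SpecialLinearGroup.coe_mul, Matrix.SpecialLinearGroup.coe_mul, Matrix.SpecialLinearGroup.coe_mul]
    fin_cases i <;> fin_cases k <;> simp [Matrix.mul_apply, Fin.sum_univ_two] <;> field_simp
  set M := up x * lo with hM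
  set N : SL(2, F) := -(Y * Y) with hN
  have hMtr : (M : Matrix (Fin 2) (Fin 2) F).trace = (N : Matrix (Fin 2) (Fin 2) F).trace := by
    rw [hN, hM, Matrix.SpecialLinearGroup.coe_neg, Matrix.SpecialLinearGroup.coe_mul,
      Matrix.SpecialLinearGroup.coe_mul, cayley Y, Matrix.trace_neg, Matrix.trace_sub, Matrix.trace_smul, ← hτ,
      Matrix.trace_one, Fintype.card_fin]
    simp only [hlo, coe_up, coe_low, Matrix.trace_fin_two]
    simp [Matrix.mul_apply, Fin.sum_univ_two, hld]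
    field_simp
    ring
  have hMns : ∀ c : F, (M : Matrix (Fin 2) (Fin 2) F) ≠ c • 1 := by
    intro c hc
    have := congrFun (congrFun hc 0) 1
    rw [hM, hlo, Matrix.SpecialLinearGroup.coe_mul] at this
    simp [Matrix.mul_apply, Fin.sum_univ_two, hx] at this
  have hNns : ∀ c : F, (N : Matrix (Fin 2) (Fin 2) F) ≠ c • 1 := by
    intro c hc
    refine hns (-c) ?_
    rw [neg_smul, ← hc, hN, Matrix.SpecialLinearGroup.coe_neg, neg_neg]
  refine ⟨g, M * M, ?_, fun k => ?_⟩
  · have : M ∈ closure ({up x, g * up x * g⁻¹} : Set SL(2, F)) :=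
      mul_mem (subset_closure (Or.inl rfl)) (subset_closure (Or.inr hconj.symm))
    exact mul_mem this this
  · rw [← pow_two, ← pow_mul, pow_eq_one_iff_of_trace hMtr hMns hNns, show 2 * (2 * k) = 2 * (2 * k) from rfl]
    have hNe : N ^ (2 * (2 * k)) = Y ^ (8 * k) := by
      rw [hN, pow_mul, neg_pow_two, ← pow_mul, ← pow_two, ← pow_mul]
      congr 1
      ring
    rw [hNe, ← orderOf_dvd_iff_pow_eq_one, hYo]
    refine ⟨fun h => ?_, fun h => h.mul_left 8⟩
    exact (Nat.Coprime.pow_right 3 h2co).dvd_of_dvd_mul_left (by simpa using h)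

end matrix

section bound

variable {G : Type*} [Group G] [Finite G] {p : ℕ} [hp : Fact p.Prime] {V : Subgroup G}

/-- An element of prime power order on `V` moves at least a subgroup of a corresponding order. -/
theorem index_centralizer_bound (hV : Cfsg.IsElementaryAbelian p V) {y : G} (hyN : y ∈ normalizer (V : Set G))
    {r f : ℕ} (hr : r.Prime) (hrp : r ≠ p) (hy : y ^ r ^ (f + 1) ∈ centralizer (V : Set G))
    (hy' : y ^ r ^ f ∉ centralizer (V : Set G)) :
    ∃ k, 0 < k ∧ r ^ (f + 1) ∣ p ^ k - 1 ∧ p ^ k ≤ (V ⊓ centralizer ({y} : Set G)).relIndex V := by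
  haveI : Fact r.Prime := ⟨hr⟩
  set N := normalizer (V : Set G)
  let ρ : N →* MulAut V := normalizerMonoidHom V
  have hker : ∀ z : N, ρ z = 1 ↔ (z : G) ∈ centralizer (V : Set G) := by
    intro z
    constructor
    · intro h v hv
      have := congrArg (fun φ : MulAut V => ((φ ⟨v, hv⟩ : V) : G)) h
      exact (mul_inv_eq_iff_eq_mul.mp (show (z : G) * v * (z : G)⁻¹ = v from this)).symm
    · intro h
      refine MulEquiv.ext fun v => Subtype.ext ?_
      show (z : G) * v * (z : G)⁻¹ = v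
      rw [← h v v.2, mul_inv_cancel_right]
  set φ := ρ ⟨y, hyN⟩ with hφ
  have hord : orderOf φ = r ^ (f + 1) := by
    refine orderOf_eq_prime_pow (fun h => hy' ?_) ?_
    · exact (hker (⟨y, hyN⟩ ^ r ^ f)).mp (by rw [map_pow, ← hφ]; exact h)
    · rw [hφ, ← map_pow]; exact (hker (⟨y, hyN⟩ ^ r ^ (f + 1))).mpr hy
  set U := V ⊓ centralizer ({y ^ r ^ f} : Set G) with hU
  set Γ := zpowers φ
  have hmove : ∀ (v : V) (i : ℤ), (φ ^ i) v = v → (v : G) ∉ U → φ ^ i = 1 := by
    intro v i hi hvU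
    by_contra hne
    refine hvU ⟨v.2, mem_centralizer_singleton_iff.mpr ?_⟩
    -- the fixer of `v` contains the subgroup of order `r`
    let St : Subgroup (MulAut V) := MulAction.stabilizer (MulAut V) v
    have hiS : φ ^ i ∈ St := hi
    have hle : zpowers (φ ^ i) ≤ St := zpowers_le.mpr hiS
    have hmem : φ ^ r ^ f ∈ zpowers (φ ^ i) := by
      obtain ⟨m, hm⟩ : ∃ m : ℕ, φ ^ i = φ ^ m := ((isOfFinOrder_of_finite φ).mem_powers_iff_mem_zpowers.mpr
        ⟨i, rfl⟩).imp fun m h => h.symm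
      rw [hm] at hne ⊢
      have hm' : ¬ r ^ (f + 1) ∣ m := fun h => hne (by rw [← orderOf_dvd_iff_pow_eq_one, hord]; exact h)
      obtain ⟨e, he, he'⟩ := (Nat.dvd_prime_pow hr).mp (Nat.gcd_dvd_right m (r ^ (f + 1)))
      have hef : e ≤ f := by
        by_contra h
        refine hm' ((dvd_of_eq ?_).trans (Nat.gcd_dvd_left m (r ^ (f + 1))))
        rw [he', show e = f + 1 by omega]
      rw [mem_zpowers_iff]
      refine ⟨Nat.gcdA m (r ^ (f + 1)) * (r ^ (f - e) : ℕ), ?_⟩
      have hb := Nat.gcd_eq_gcd_ab m (r ^ (f + 1))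
      rw [he'] at hb
      have : φ ^ ((r ^ e : ℕ) : ℤ) = (φ ^ m) ^ Nat.gcdA m (r ^ (f + 1)) := by
        rw [hb, zpow_add, zpow_mul, zpow_mul, zpow_natCast, zpow_natCast]
        rw [← hord, pow_orderOf_eq_one, one_zpow, mul_one]
      rw [zpow_mul, ← this, zpow_natCast, zpow_natCast, ← pow_mul, ← pow_add]
      congr 2
      omega
    have hfix : (φ ^ r ^ f) v = v := hle hmem
    rw [hφ, ← map_pow] at hfix
    have h1 := congrArg Subtype.val hfix
    exact (mul_inv_eq_iff_eq_mul.mp (show y ^ r ^ f * (v : G) * (y ^ r ^ f)⁻¹ = v from h1)).symm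
  let S : SubMulAction Γ V :=
    { carrier := {v | (v : G) ∉ U}
      smul_mem' := by
        rintro ⟨ψ, hψ⟩ v hv hmem
        obtain ⟨i, rfl⟩ := mem_zpowers_iff.mp hψ
        refine hv ⟨v.2, ?_⟩
        have hc : (φ ^ r ^ f) ((φ ^ i) v) = (φ ^ i) v := by
          refine Subtype.ext ?_
          rw [hφ, ← map_pow]
          show y ^ r ^ f * (((φ ^ i) v : V) : G) * (y ^ r ^ f)⁻¹ = (((φ ^ i) v : V) : G)
          exact mul_inv_eq_iff_eq_mul.mpr (mem_centralizer_singleton_iff.mp hmem.2).symm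
        have hc2 : (φ ^ r ^ f) v = v := by
          refine (φ ^ i).injective ?_
          rw [← MulAut.mul_apply, ← zpow_natCast, ← zpow_add, add_comm, zpow_add, zpow_natCast, MulAut.mul_apply]
          exact hc
        rw [hφ, ← map_pow] at hc2
        exact mem_centralizer_singleton_iff.mpr
          (mul_inv_eq_iff_eq_mul.mp (show y ^ r ^ f * (v : G) * (y ^ r ^ f)⁻¹ = v from congrArg Subtype.val hc2)).symm }
  have hdiv : r ^ (f + 1) ∣ Nat.card S := by
    classical
    haveI : Fintype (Quotient (MulAction.orbitRel Γ S)) := Fintype.ofFinite _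
    rw [Nat.card_congr (MulAction.selfEquivSigmaOrbitsQuotientStabilizer Γ S), Nat.card_sigma]
    refine Finset.dvd_sum fun ω _ => ?_
    have hbot : MulAction.stabilizer Γ ω.out = ⊥ := by
      rw [eq_bot_iff]
      rintro ⟨ψ, hψ⟩ hst
      obtain ⟨i, rfl⟩ := mem_zpowers_iff.mp hψ
      exact Subtype.ext (hmove (ω.out : V) i (congrArg Subtype.val (hst : (⟨φ ^ i, hψ⟩ : Γ) • ω.out = ω.out))
        ω.out.2)
    rw [← index_eq_card, hbot, index_bot, Nat.card_zpowers, hord]
  have hUV : U ≤ V := inf_le_left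
  have hcardS : Nat.card S + Nat.card U = Nat.card V := by
    classical
    haveI := Fintype.ofFinite V
    have e1 : Nat.card U = Nat.card {v : V // (v : G) ∈ U} :=
      Nat.card_congr { toFun := fun u => ⟨⟨u, hUV u.2⟩, u.2⟩, invFun := fun v => ⟨v.1, v.2⟩
                       left_inv := fun u => rfl, right_inv := fun v => rfl }
    have e2 : Nat.card S = Nat.card {v : V // ¬ (v : G) ∈ U} := rfl
    rw [e1, e2, add_comm, ← Nat.card_sum]
    exact Nat.card_congr (Equiv.sumCompl _)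
  have hVp : IsPGroup p V := fun v => ⟨1, Subtype.ext (by simpa using hV.2 v v.2)⟩
  obtain ⟨u, hu⟩ := IsPGroup.iff_card.mp (hVp.to_le hUV)
  obtain ⟨v, hv⟩ := IsPGroup.iff_card.mp hVp
  have huv : u < v := by
    by_contra hle
    apply hy'
    intro w hw
    have hUV' : U = V := eq_of_le_of_card_ge hUV (by rw [hu, hv]; exact Nat.pow_le_pow_right hp.out.pos (not_lt.mp hle))
    exact (mem_centralizer_singleton_iff.mp (show w ∈ U from hUV' ▸ hw).2)
  refine ⟨v - u, by omega, ?_, ?_⟩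
  · have h1 : r ^ (f + 1) ∣ p ^ u * (p ^ (v - u) - 1) := by
      rw [Nat.mul_sub, ← pow_add, Nat.add_sub_cancel' huv.le, mul_one, ← hu, ← hv]
      rwa [← hcardS, Nat.add_sub_cancel]
    exact (Nat.Coprime.pow _ _ ((Nat.coprime_primes hr hp.out).mpr hrp)).dvd_of_dvd_mul_left h1
  · have hle : V ⊓ centralizer ({y} : Set G) ≤ U := fun w hw => ⟨hw.1, by
      have hc : Commute y w := (mem_centralizer_singleton_iff.mp hw.2).symm
      exact mem_centralizer_singleton_iff.mpr (hc.pow_left _).symm.eq⟩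
    have h1 := relIndex_mul_relIndex ⊥ U V bot_le hUV
    rw [relIndex_bot_left, relIndex_bot_left, hu, hv] at h1
    have h2 : U.relIndex V = p ^ (v - u) := by
      refine Nat.eq_of_mul_eq_mul_left (pow_pos hp.out.pos u) ?_
      rw [h1, ← pow_add, Nat.add_sub_cancel' huv.le]
    rw [← h2]
    exact Nat.le_of_dvd (Nat.pos_of_ne_zero (by
      rw [Subgroup.relIndex, index_eq_card]; exact Nat.card_pos.ne')) (relIndex_dvd_of_le_left V hle)

theorem relIndex_centralizer_conj {a g : G} (hg : g ∈ normalizer (V : Set G)) :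
    (V ⊓ centralizer ({g * a * g⁻¹} : Set G)).relIndex V = (V ⊓ centralizer ({a} : Set G)).relIndex V := by
  set f := (MulAut.conj g).toMonoidHom with hf
  have hmap : (V ⊓ centralizer ({a} : Set G)).map f = V ⊓ centralizer ({g * a * g⁻¹} : Set G) := by
    ext w
    constructor
    · rintro ⟨v, ⟨hv, hvc⟩, rfl⟩
      refine ⟨(mem_normalizer_iff.mp hg v).mp hv, mem_centralizer_singleton_iff.mpr ?_⟩
      show g * v * g⁻¹ * (g * a * g⁻¹) = g * a * g⁻¹ * (g * v * g⁻¹)
      rw [conj_mul, conj_mul, mem_centralizer_singleton_iff.mp hvc]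
    · rintro ⟨hw, hwc⟩
      refine ⟨g⁻¹ * w * g, ⟨(mem_normalizer_iff.mp hg _).mpr (by simpa [mul_assoc] using hw),
        mem_centralizer_singleton_iff.mpr ?_⟩, by simp [hf, mul_assoc]⟩
      have := mem_centralizer_singleton_iff.mp hwc
      calc g⁻¹ * w * g * a = g⁻¹ * (w * (g * a * g⁻¹)) * g := by group
        _ = a * (g⁻¹ * w * g) := by rw [this]; group
  have hfV : V.map f = V := mem_normalizer_iff_map_conj_eq.mp hg
  conv_lhs => rw [← hmap]; arg 2; rw [← hfV]
  exact relIndex_map_map_of_injective _ _ (f := f) (MulAut.conj g).injective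

end bound

section main

variable {G : Type*} [Group G] [Finite G] {p : ℕ} [hp : Fact p.Prime]

theorem exists_modulus {n : ℕ} (hn : 2 ≤ n) :
    ∃ r e : ℕ, r.Prime ∧ Odd r ∧ r ≠ p ∧ r ^ (e + 1) ∣ p ^ n + 1 ∧ ∀ k, r ^ (e + 1) ∣ p ^ k - 1 → 2 * n ∣ k := by
  suffices h : ∃ r e : ℕ, r.Prime ∧ Odd r ∧ r ≠ p ∧ r ^ (e + 1) ∣ p ^ n + 1 ∧
      orderOf (p : ZMod (r ^ (e + 1))) = 2 * n by
    obtain ⟨r, e, h1, h2, h3, h4, h5⟩ := h
    refine ⟨r, e, h1, h2, h3, h4, fun k hk => ?_⟩
    rw [← h5, orderOf_dvd_iff_pow_eq_one]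
    have := (ZMod.natCast_eq_natCast_iff (p ^ k) 1 (r ^ (e + 1))).mpr
      ((Nat.modEq_iff_dvd' (Nat.one_le_pow _ _ hp.out.pos)).mpr hk).symm
    rwa [Nat.cast_pow, Nat.cast_one] at this
  by_cases hex : p = 2 ∧ n = 3
  · obtain ⟨rfl, rfl⟩ := hex
    refine ⟨3, 1, Nat.prime_three, by decide, by decide, by norm_num, ?_⟩
    rw [orderOf_eq_iff (by norm_num)]
    exact ⟨by decide, by intro m hm hm0; interval_cases m <;> decide⟩
  obtain ⟨r, hr, hd, hmin⟩ := Zsigmondy.zsigmondy (a := p) (n := 2 * n) hp.out.one_lt (by omega)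
    (fun h => hex ⟨h.1, by omega⟩) (fun h => by omega)
  haveI : Fact r.Prime := ⟨hr⟩
  have hpow : ∀ k, r ∣ p ^ k - 1 ↔ (p : ZMod r) ^ k = 1 := fun k => by
    have e : ((p : ZMod r) ^ k = 1) ↔ p ^ k ≡ 1 [MOD r] := by
      rw [← ZMod.natCast_eq_natCast_iff, Nat.cast_pow, Nat.cast_one]
    rw [e]
    exact ⟨fun h => ((Nat.modEq_iff_dvd' (Nat.one_le_pow _ _ hp.out.pos)).mpr h).symm,
      fun h => (Nat.modEq_iff_dvd' (Nat.one_le_pow _ _ hp.out.pos)).mp h.symm⟩
  have hord : orderOf (p : ZMod r) = 2 * n :=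
    (orderOf_eq_iff (by omega)).mpr ⟨(hpow _).mp hd, fun m hm hm0 h => hmin m hm0 hm ((hpow m).mpr h)⟩
  have hrp : r ≠ p := by
    rintro rfl
    rw [ZMod.natCast_self, orderOf_zero] at hord
    omega
  have hr2 : r ≠ 2 := by
    rintro rfl
    have h1 : ((p : ZMod 2)) = 1 := by
      rcases Nat.mod_two_eq_zero_or_one p with h | h
      · rw [← ZMod.natCast_mod p 2, h, Nat.cast_zero, orderOf_zero] at hord; omega
      · rw [← ZMod.natCast_mod p 2, h, Nat.cast_one]
    rw [h1, orderOf_one] at hord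
    omega
  refine ⟨r, 0, hr, hr.odd_of_ne_two hr2, hrp, ?_, ?_⟩
  · rw [pow_one]
    have h2 : p ^ (2 * n) - 1 = (p ^ n + 1) * (p ^ n - 1) := by
      rw [← Nat.sq_sub_sq, one_pow, ← pow_mul, mul_comm]
    exact (hr.dvd_mul.mp (h2 ▸ hd)).resolve_right (hmin n (by omega) (by omega))
  · rw [pow_one]; exact hord

/-- The bound. -/
theorem index_bound_of_ker {V H : Subgroup G} (hV : Cfsg.IsElementaryAbelian p V)
    (hHV : H ≤ normalizer (V : Set G)) {F : Type*} [Field F] [Fintype F] {n : ℕ}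
    (hn : 2 ≤ n) (hF : Fintype.card F = p ^ n)
    (φ : H →* Matrix.ProjectiveSpecialLinearGroup (Fin 2) F) (hφ : Function.Surjective φ)
    (hker : ∀ h : H, (h : G) ∈ centralizer (V : Set G) → φ h = 1) (a : H)
    {j : ℕ} (hap : a ^ p ^ j = 1) (ha : φ a ≠ 1) :
    p ^ n ≤ (V ⊓ centralizer ({(a : G)} : Set G)).relIndex V ∧ (p ^ n) ^ 2 ≤ Nat.card V ∧
      ∃ y : G, (p ^ n) ^ 2 ≤ (V ⊓ centralizer ({y} : Set G)).relIndex V := by
  haveI : CharP F p := by
    obtain ⟨r, hr⟩ := CharP.exists F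
    haveI := hr
    obtain ⟨k, hrp, hk⟩ := FiniteField.card F r
    rw [hF] at hk
    exact ((Nat.prime_dvd_prime_iff_eq hrp hp.out).mp (hrp.dvd_of_dvd_pow (hk ▸ dvd_pow_self r k.ne_zero))) ▸ hr
  have hcen : ∀ z ∈ center SL(2, F), z * z = 1 ∧ (p = 2 → z = 1) := by
    intro z hz
    obtain ⟨c, hc, hcz⟩ := Matrix.SpecialLinearGroup.mem_center_iff.mp hz
    rw [Fintype.card_fin] at hc
    refine ⟨Subtype.ext ?_, fun h2 => ?_⟩
    · rw [Matrix.SpecialLinearGroup.coe_mul, ← hcz, ← map_mul, ← pow_two, hc, map_one,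
        Matrix.SpecialLinearGroup.coe_one]
    · subst h2
      have : c = 1 := by
        have h := sq_eq_one_iff.mp hc
        rcases h with h | h
        · exact h
        · rw [h, CharTwo.neg_eq]
      subst this
      refine Subtype.ext ?_
      rw [← hcz, map_one]; rfl
  obtain ⟨a₀, ha₀⟩ := QuotientGroup.mk_surjective (φ a)
  have hap₀ : a₀ ^ p ^ j ∈ center SL(2, F) := by
    rw [← QuotientGroup.eq_one_iff, QuotientGroup.mk_pow, ha₀, ← map_pow, hap, map_one]
  set u := a₀ ^ (p ^ j + 1) with hu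
  have hup : u ^ p ^ j = 1 := by
    obtain ⟨hsq, h2⟩ := hcen _ hap₀
    rw [hu, ← pow_mul, mul_comm, pow_mul]
    rcases eq_or_ne p 2 with hp2 | hp2
    · rw [h2 hp2, one_pow]
    · obtain ⟨k, hk⟩ := ((hp.out.odd_of_ne_two hp2).pow (n := j))
      rw [show p ^ j + 1 = 2 * (k + 1) by omega, pow_mul, pow_two, hsq, one_pow]
  have huq : (QuotientGroup.mk u : Matrix.ProjectiveSpecialLinearGroup (Fin 2) F) = φ a := by
    rw [hu, QuotientGroup.mk_pow, pow_succ, ha₀, ← map_pow, hap, map_one, one_mul]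
  obtain ⟨g₁, x, hx, hgu⟩ := exists_conj_up (p := p) hup (fun h => ha (by rw [← huq, h]; rfl))
  obtain ⟨r, e, hr, hodd, hrp, hdvd, hord⟩ := exists_modulus (p := p) hn
  set L := r ^ (e + 1) with hL
  obtain ⟨g₂, m, hm, hmk⟩ := exists_pair hx (hF ▸ hdvd) hodd.pow
    (Nat.one_lt_pow (Nat.succ_ne_zero e) hr.one_lt)
  obtain ⟨g, hg⟩ := hφ (QuotientGroup.mk (g₁⁻¹ * g₂ * g₁))
  set b := g * a * g⁻¹ with hb
  have hmem : (QuotientGroup.mk (g₁⁻¹ * m * g₁) : Matrix.ProjectiveSpecialLinearGroup (Fin 2) F) ∈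
      (closure ({a, b} : Set H)).map φ := by
    rw [MonoidHom.map_closure, Set.image_pair]
    let c : SL(2, F) →* Matrix.ProjectiveSpecialLinearGroup (Fin 2) F :=
      (QuotientGroup.mk' (center SL(2, F))).comp (MulAut.conj g₁⁻¹).toMonoidHom
    have h1 := mem_map_of_mem c hm
    rw [MonoidHom.map_closure, Set.image_pair] at h1
    have e1 : c (up x) = φ a := by
      rw [← huq, ← hgu]
      show QuotientGroup.mk (g₁⁻¹ * (g₁ * u * g₁⁻¹) * g₁⁻¹⁻¹) = _
      congr 1
      group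
    have e2 : c (g₂ * up x * g₂⁻¹) = φ b := by
      rw [hb, map_mul φ, map_mul φ, map_inv φ, hg, ← huq, ← hgu]
      show QuotientGroup.mk (g₁⁻¹ * (g₂ * (g₁ * u * g₁⁻¹) * g₂⁻¹) * g₁⁻¹⁻¹) = _
      rw [← QuotientGroup.mk_inv, ← QuotientGroup.mk_mul, ← QuotientGroup.mk_mul]
      congr 1
      group
    rw [e1, e2] at h1
    simpa [c] using h1
  obtain ⟨w, hw, hwm⟩ := hmem
  have hwk : ∀ k, φ w ^ k = 1 → L ∣ k := by
    intro k hk
    rw [hwm, ← QuotientGroup.mk_pow, QuotientGroup.eq_one_iff] at hk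
    refine (hmk k).mp ?_
    have h1 := (hcen _ hk).1
    rw [← pow_two, ← pow_mul, mul_comm, show g₁⁻¹ * m * g₁ = g₁⁻¹ * m * g₁⁻¹⁻¹ by rw [inv_inv], conj_pow,
      conj_eq_one_iff] at h1
    exact h1
  obtain ⟨f, c, hcr, hwo⟩ := Nat.exists_eq_pow_mul_and_not_dvd (orderOf_pos w).ne' r hr.ne_one
  have hLw : L ∣ r ^ f * c := hwo ▸ hwk _ (by rw [← map_pow, pow_orderOf_eq_one, map_one])
  have hef : e + 1 ≤ f := (Nat.pow_dvd_pow_iff_le_right hr.one_lt).mp
    ((Nat.Coprime.pow_left _ (hr.coprime_iff_not_dvd.mpr hcr)).dvd_of_dvd_mul_right hLw)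
  obtain ⟨f, rfl⟩ : ∃ f', f = f' + 1 := ⟨f - 1, by omega⟩
  set y := w ^ c with hy
  have hc0 : c ≠ 0 := fun h => hcr (h ▸ dvd_zero r)
  have hyo : orderOf y = r ^ (f + 1) := by
    rw [hy, orderOf_pow' _ hc0, hwo, Nat.gcd_mul_left_left,
      Nat.mul_div_cancel _ (Nat.pos_of_ne_zero hc0)]
  have hyC : ∀ k, (y : G) ^ k ∈ centralizer (V : Set G) → L ∣ k := by
    intro k hk
    have h1 := hker (y ^ k) (by push_cast; exact hk)
    rw [hy, ← pow_mul, map_pow] at h1
    exact (Nat.Coprime.pow_left _ (hr.coprime_iff_not_dvd.mpr hcr)).dvd_of_dvd_mul_left (hwk _ h1)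
  classical
  have hex : ∃ i, (y : G) ^ r ^ i ∈ centralizer (V : Set G) :=
    ⟨f + 1, by rw [← Subgroup.coe_pow, ← hyo, pow_orderOf_eq_one]; exact one_mem _⟩
  have hfind := Nat.find_spec hex
  have hge : e + 1 ≤ Nat.find hex := (Nat.pow_dvd_pow_iff_le_right hr.one_lt).mp (hyC _ hfind)
  obtain ⟨f', hf'⟩ : ∃ f', Nat.find hex = f' + 1 := ⟨Nat.find hex - 1, by omega⟩
  rw [hf'] at hfind hge
  obtain ⟨k, hk0, hkd, hkle⟩ := index_centralizer_bound hV (hHV y.2) (f := f') hr hrp hfind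
    (Nat.find_min hex (by omega))
  have hk2 : 2 * n ≤ k := Nat.le_of_dvd hk0 (hord k ((pow_dvd_pow r hge).trans hkd))
  have hle : V ⊓ centralizer ({(a : G)} : Set G) ⊓ (V ⊓ centralizer ({(b : G)} : Set G)) ≤
      V ⊓ centralizer ({(y : G)} : Set G) := by
    rintro v ⟨⟨hv, hva⟩, -, hvb⟩
    refine ⟨hv, mem_centralizer_singleton_iff.mpr ?_⟩
    have hcl : closure ({a, b} : Set H) ≤ (centralizer ({v} : Set G)).comap H.subtype := (closure_le _).mpr (by
      rintro z (rfl | rfl)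
      exacts [mem_centralizer_singleton_iff.mpr (mem_centralizer_singleton_iff.mp hva).symm,
        mem_centralizer_singleton_iff.mpr (mem_centralizer_singleton_iff.mp hvb).symm])
    exact (mem_centralizer_singleton_iff.mp (mem_comap.mp (hcl (pow_mem hw c)))).symm
  have h1 : (V ⊓ centralizer ({(y : G)} : Set G)).relIndex V ≤
      (V ⊓ centralizer ({(a : G)} : Set G) ⊓ (V ⊓ centralizer ({(b : G)} : Set G))).relIndex V :=
    Nat.le_of_dvd (Nat.pos_of_ne_zero (by rw [Subgroup.relIndex, index_eq_card]; exact Nat.card_pos.ne'))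
      (relIndex_dvd_of_le_left V hle)
  have h2 := h1.trans relIndex_inf_le
  rw [show ((b : H) : G) = (g : G) * a * (g : G)⁻¹ from rfl, relIndex_centralizer_conj (hHV g.2)] at h2
  have h3 : p ^ (2 * n) ≤ p ^ k := Nat.pow_le_pow_right hp.out.pos hk2
  have h4 : (V ⊓ centralizer ({(y : G)} : Set G)).relIndex V ≤ Nat.card V := by
    refine Nat.le_of_dvd Nat.card_pos ?_
    rw [← relIndex_bot_left]
    exact relIndex_dvd_of_le_left V bot_le
  refine ⟨?_, ?_, (y : G), by rw [← pow_mul, mul_comm]; omega⟩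
  · by_contra hlt
    have := Nat.mul_lt_mul'' (not_le.mp hlt) (not_le.mp hlt)
    rw [← pow_add, ← two_mul] at this
    omega
  · rw [← pow_mul, mul_comm]
    omega

/-- The bound, for a faithful action. -/
theorem index_bound {V H : Subgroup G} (hV : Cfsg.IsElementaryAbelian p V) (hHV : H ≤ normalizer (V : Set G))
    (hf : H ⊓ centralizer (V : Set G) = ⊥) {F : Type*} [Field F] [Fintype F] {n : ℕ}
    (hn : 2 ≤ n) (hF : Fintype.card F = p ^ n)
    (φ : H →* Matrix.ProjectiveSpecialLinearGroup (Fin 2) F) (hφ : Function.Surjective φ) (a : H)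
    {j : ℕ} (hap : a ^ p ^ j = 1) (ha : φ a ≠ 1) :
    p ^ n ≤ (V ⊓ centralizer ({(a : G)} : Set G)).relIndex V ∧ (p ^ n) ^ 2 ≤ Nat.card V :=
  (index_bound_of_ker hV hHV hn hF φ hφ
    (fun h hh => by
      have h1 : h = 1 := Subtype.ext (mem_bot.mp (hf ▸ ⟨h.2, hh⟩))
      rw [h1, map_one]) a hap ha).imp_right And.left

/-- Versions for the quotient by a subgroup meeting a given `p`-subgroup trivially. -/
theorem index_bound_psl {V H : Subgroup G} (hV : Cfsg.IsElementaryAbelian p V) (hHV : H ≤ normalizer (V : Set G))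
    (hf : H ⊓ centralizer (V : Set G) = ⊥) {F : Type*} [Field F] [Fintype F] {n : ℕ}
    (hF : Fintype.card F = p ^ n) {K : Subgroup H} [K.Normal] (hK : (Nat.card K).Coprime p)
    (e : H ⧸ K ≃* Matrix.ProjectiveSpecialLinearGroup (Fin 2) F) {T : Subgroup G} (hTH : T ≤ H)
    (hT : IsPGroup p T) {s : G} (hs : s ∈ T) (hs1 : s ≠ 1) :
    p ^ n ≤ (V ⊓ centralizer ({s} : Set G)).relIndex V ∧ (2 ≤ n → (p ^ n) ^ 2 ≤ Nat.card V) := by
  obtain ⟨j, hj⟩ := hT ⟨s, hs⟩
  have hj' : s ^ p ^ j = 1 := congrArg Subtype.val hj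
  set a : H := ⟨s, hTH hs⟩
  have haC : s ∉ centralizer (V : Set G) := fun h => hs1 (mem_bot.mp (hf ▸ ⟨hTH hs, h⟩))
  by_cases hn : 2 ≤ n
  · set φ := e.toMonoidHom.comp (QuotientGroup.mk' K)
    have hφa : φ a ≠ 1 := by
      intro h
      have hK' : a ∈ K := (QuotientGroup.eq_one_iff a).mp (e.map_eq_one_iff.mp h)
      have h1 := Nat.dvd_gcd (Subgroup.orderOf_dvd_natCard K hK')
        (orderOf_dvd_of_pow_eq_one (show a ^ p ^ j = 1 from Subtype.ext hj'))
      rw [(hK.pow_right j).gcd_eq_one, Nat.dvd_one, orderOf_eq_one_iff] at h1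
      exact hs1 (congrArg Subtype.val h1)
    exact (index_bound hV hHV hf hn hF φ (e.surjective.comp (QuotientGroup.mk'_surjective K)) a
      (Subtype.ext hj') hφa).imp id fun h _ => h
  · refine ⟨?_, fun h => absurd h hn⟩
    have hVp : IsPGroup p V := fun v => ⟨1, Subtype.ext (by simpa using hV.2 v v.2)⟩
    obtain ⟨v, hv⟩ := IsPGroup.iff_card.mp hVp
    have hd : (V ⊓ centralizer ({s} : Set G)).relIndex V ∣ p ^ v := by
      rw [← hv, ← relIndex_bot_left]; exact relIndex_dvd_of_le_left V bot_le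
    obtain ⟨i, -, hi⟩ := (Nat.dvd_prime_pow hp.out).mp hd
    rw [hi]
    refine Nat.pow_le_pow_right hp.out.pos ?_
    by_contra hlt
    have hi0 : i = 0 := by omega
    rw [hi0, pow_zero, relIndex_eq_one] at hi
    exact haC fun w hw => (mem_centralizer_singleton_iff.mp (hi hw).2)

end main

end Cfsg.Agent.CharP.SL2IndexBound
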