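import Cfsg.Agent.Lib.CharP.ChermakDelgado
import Cfsg.Agent.Lib.CharP.SL2IndexBound
import Cfsg.Agent.Lib.Classical.Linear
import Cfsg.Agent.Lib.Classical.GL2
import Cfsg.Agent.Lib.Coprime.PGroup
import Cfsg.Agent.Lib.PLocal.Cores
import Cfsg.Prelude.Def_BaumannBlocks

/-!
Centrally large subgroups in the pushing-up situation: unless `Z(S)` is central, `O_p(G)` contains centrally
large subgroups of `S`, obtained from arbitrary ones by exchanging the part outside `O_p(G)` for `Ω₁Z(O_p(G))`.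
-/

set_option autoImplicit false
set_option linter.unusedSectionVars false

namespace Cfsg.Agent.CharP.PushingUpCL

open Subgroup
open scoped Pointwise commutatorElement

section general

variable {G : Type*} [Group G] [Finite G] {p : ℕ} [hp : Fact p.Prime]

theorem card_mul_relIndex {A B : Subgroup G} (h : A ≤ B) :
    Nat.card A * A.relIndex B = Nat.card B := by
  rw [← relIndex_bot_left, ← relIndex_bot_left, relIndex_mul_relIndex ⊥ A B bot_le h]

theorem relIndex_pos' (H K : Subgroup G) : 0 < H.relIndex K :=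
  Nat.pos_of_ne_zero index_ne_zero_of_finite

/-- An automorphism of `p'`-order fixing the elements of order `p` of an abelian `p`-subgroup fixes it. -/
theorem centralizes_of_omega {P : Subgroup G} (hP : IsPGroup p P) [P.Normal] {g : G}
    (hg : (orderOf g).Coprime p) {w : G} (hw : w ∈ P) (hwc : w ∈ centralizer (P : Set G))
    (hfix : ∀ e ∈ P, e ∈ centralizer (P : Set G) → e ^ p = 1 → g * e = e * g) : g * w = w * g := by
  obtain ⟨k, hk⟩ := hP ⟨w, hw⟩
  replace hk : w ^ p ^ k = 1 := congrArg Subtype.val hk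
  induction k generalizing w with
  | zero => rw [pow_zero, pow_one] at hk; rw [hk, mul_one, one_mul]
  | succ k ih =>
    have hwp : g * w ^ p = w ^ p * g := ih (pow_mem hw p) (pow_mem hwc p) (by
      rw [← pow_mul, ← pow_succ', hk])
    have hPn : (P ⊓ centralizer (P : Set G)).Normal := inferInstance
    obtain ⟨hgw, hgwc⟩ : g * w * g⁻¹ ∈ P ⊓ centralizer (P : Set G) := hPn.conj_mem w ⟨hw, hwc⟩ g
    set e := w⁻¹ * (g * w * g⁻¹) with he
    have heP : e ∈ P := mul_mem (inv_mem hw) hgw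
    have heC : e ∈ centralizer (P : Set G) := mul_mem (inv_mem hwc) hgwc
    have hcomm : Commute w⁻¹ (g * w * g⁻¹) := (Commute.inv_left (mem_centralizer_iff.mp hgwc w hw) :)
    have hep : e ^ p = 1 := by
      rw [he, hcomm.mul_pow, inv_pow, conj_pow, hwp, mul_inv_cancel_right, inv_mul_cancel]
    have hge : g * e = e * g := hfix e heP heC hep
    have hwe : g * w * g⁻¹ = w * e := by rw [he]; group
    have key : ∀ m : ℕ, g ^ m * w * (g ^ m)⁻¹ = w * e ^ m := by
      intro m
      induction m with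
      | zero => simp
      | succ m ihm =>
        have h1 : g * e ^ m * g⁻¹ = e ^ m := by
          rw [(Commute.pow_right (show Commute g e from hge) m).eq, mul_inv_cancel_right]
        calc g ^ (m + 1) * w * (g ^ (m + 1))⁻¹ = g * (g ^ m * w * (g ^ m)⁻¹) * g⁻¹ := by
              rw [pow_succ']; group
          _ = (g * w * g⁻¹) * (g * e ^ m * g⁻¹) := by rw [ihm]; group
          _ = _ := by rw [h1, hwe, mul_assoc, ← pow_succ']
    have h0 := key (orderOf g)
    rw [pow_orderOf_eq_one, one_mul, inv_one, mul_one, left_eq_mul] at h0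
    have he1 : e = 1 := by
      have h := pow_gcd_eq_one.mpr ⟨h0, hep⟩
      rwa [hg.gcd_eq_one, pow_one] at h
    rw [he1, mul_one] at hwe
    exact mul_inv_eq_iff_eq_mul.mp hwe

/-- The elements of order `p` of `Z(O_p(G))`. -/
def omegaCore (p : ℕ) (G : Type*) [Group G] : Subgroup G where
  carrier := {x | x ∈ Cfsg.pCore p G ∧ x ∈ centralizer (Cfsg.pCore p G : Set G) ∧ x ^ p = 1}
  one_mem' := ⟨one_mem _, one_mem _, one_pow p⟩
  mul_mem' := fun {a b} ha hb => ⟨mul_mem ha.1 hb.1, mul_mem ha.2.1 hb.2.1, by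
    rw [(show Commute a b from mem_centralizer_iff.mp hb.2.1 a ha.1).mul_pow, ha.2.2, hb.2.2, one_mul]⟩
  inv_mem' := fun {a} ha => ⟨inv_mem ha.1, inv_mem ha.2.1, by rw [inv_pow, ha.2.2, inv_one]⟩

theorem omegaCore_elementary : Cfsg.IsElementaryAbelian p (omegaCore p G) :=
  ⟨⟨⟨fun a b => Subtype.ext (mem_centralizer_iff.mp b.2.2.1 _ a.2.1)⟩⟩, fun _ ha => ha.2.2⟩

instance omegaCore_normal : (omegaCore p G).Normal := by
  refine ⟨fun x hx g => ⟨Subgroup.Normal.conj_mem inferInstance x hx.1 g,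
    Subgroup.Normal.conj_mem inferInstance x hx.2.1 g, ?_⟩⟩
  rw [conj_pow, hx.2.2, mul_one, mul_inv_cancel]

variable {S : Subgroup G}

/-- A normal subgroup not supplementing `S` meets it in `O_p(G)`. -/
theorem inf_le_pCore (hE : Cfsg.IsPushingUpSituation p S) (N : Subgroup G) [hN : N.Normal]
    (h : N ⊔ S ≠ ⊤) : N ⊓ S ≤ Cfsg.pCore p G := by
  obtain ⟨-, ⟨P, rfl⟩, -, ⟨M, ⟨hMc, hSM⟩, huniq⟩, -⟩ := hE
  have hle : ∀ X : Subgroup G, (P : Subgroup G) ≤ X → X ≠ ⊤ → X ≤ M := by
    intro X hPX hX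
    obtain ⟨M', hM', hXM⟩ := (eq_top_or_exists_le_coatom X).resolve_left hX
    exact hXM.trans (huniq M' ⟨hM', hPX.trans hXM⟩).le
  have hNM : N ≤ M := le_sup_left.trans (hle _ le_sup_right h)
  have hpg : IsPGroup p ((P : Subgroup G).subgroupOf N) :=
    P.isPGroup'.comap_of_injective N.subtype N.subtype_injective
  have hidx : ¬ p ∣ ((P : Subgroup G).subgroupOf N).index := fun hd => P.not_dvd_index (by
    have h1 : (P : Subgroup G).relIndex (N ⊔ (P : Subgroup G)) = (P : Subgroup G).relIndex N := by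
      have a1 := card_mul_relIndex (le_sup_right : (P : Subgroup G) ≤ N ⊔ P)
      have a2 := card_mul_relIndex (le_sup_left : N ≤ N ⊔ (P : Subgroup G))
      rw [relIndex_sup_left] at a2
      have a3 := card_mul_relIndex (inf_le_right : N ⊓ (P : Subgroup G) ≤ P)
      rw [inf_relIndex_right] at a3
      have a4 := card_mul_relIndex (inf_le_left : N ⊓ (P : Subgroup G) ≤ N)
      rw [inf_relIndex_left] at a4
      refine Nat.eq_of_mul_eq_mul_left (Nat.card_pos (α := (P : Subgroup G))) ?_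
      rw [a1, ← a2, ← a3, ← a4]
      ring
    refine (show p ∣ (P : Subgroup G).relIndex (N ⊔ (P : Subgroup G)) by rw [h1]; exact hd).trans ?_
    exact relIndex_dvd_index_of_le le_sup_right)
  have hfr := Sylow.normalizer_sup_eq_top (hpg.toSylow hidx)
  rw [IsPGroup.toSylow_coe, subgroupOf_map_subtype, inf_comm] at hfr
  have hR : IsPGroup p ↥(N ⊓ (P : Subgroup G)) := P.isPGroup'.to_le inf_le_right
  by_contra hnot
  refine hMc.1 (eq_top_iff.mpr (hfr ▸ sup_le (hle _ ?_ ?_) hNM))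
  · intro x hx
    refine mem_normalizer_fintype fun y hy => ⟨hN.conj_mem y hy.1 x,
      (P : Subgroup G).mul_mem ((P : Subgroup G).mul_mem hx hy.2) ((P : Subgroup G).inv_mem hx)⟩
  · intro htop
    haveI : (N ⊓ (P : Subgroup G)).Normal := normalizer_eq_top_iff.mp htop
    exact hnot (PLocal.Cores.le_pCore hR)

end general

section setting

variable {G : Type*} [Group G] [Finite G] {p : ℕ} [hp : Fact p.Prime] {S : Subgroup G}

/-- A normal subgroup supplementing `S` contains every element of order prime to `p`. -/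
theorem mem_of_sup_eq_top (hS : IsPGroup p S) {N : Subgroup G} [N.Normal] (h : N ⊔ S = ⊤) {g : G}
    (hg : (orderOf g).Coprime p) : g ∈ N := by
  have hq : IsPGroup p (G ⧸ N) := by
    refine hS.of_surjective ((QuotientGroup.mk' N).comp S.subtype) fun y => ?_
    obtain ⟨y, rfl⟩ := QuotientGroup.mk'_surjective N y
    obtain ⟨n, hn, s, hs, rfl⟩ : ∃ n ∈ N, ∃ s ∈ S, n * s = y := by
      have hy : y ∈ N ⊔ S := h.symm ▸ mem_top y
      rwa [mem_sup_of_normal_left] at hy
    refine ⟨⟨s, hs⟩, ?_⟩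
    show QuotientGroup.mk' N s = _
    rw [map_mul, show QuotientGroup.mk' _ n = 1 from (QuotientGroup.eq_one_iff n).mpr hn, one_mul]
  obtain ⟨k, hk⟩ := hq (g : G ⧸ N)
  refine (QuotientGroup.eq_one_iff g).mp (orderOf_eq_one_iff.mp ?_)
  have h1 := Nat.dvd_gcd (orderOf_map_dvd (QuotientGroup.mk' N) g) (orderOf_dvd_of_pow_eq_one hk)
  rw [(hg.pow_right k).gcd_eq_one, Nat.dvd_one] at h1
  exact h1

/-- A group is generated by a Sylow `p`-subgroup and the elements of order prime to `p`. -/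
theorem eq_top_of_forall (P : Sylow p G) {H : Subgroup G} (hPH : (P : Subgroup G) ≤ H)
    (h : ∀ g : G, (orderOf g).Coprime p → g ∈ H) : H = ⊤ := by
  refine index_eq_one.mp (Nat.eq_one_iff_not_exists_prime_dvd.mpr fun r hr hd => ?_)
  rcases eq_or_ne r p with rfl | hrp
  · exact P.not_dvd_index (hd.trans (index_dvd_of_le hPH))
  · haveI := Fact.mk hr
    obtain ⟨R⟩ := (inferInstance : Nonempty (Sylow r G))
    refine R.not_dvd_index (hd.trans (index_dvd_of_le fun x hx => h x ?_))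
    obtain ⟨k, hk⟩ := R.isPGroup' ⟨x, hx⟩
    exact Nat.Coprime.coprime_dvd_left (orderOf_dvd_of_pow_eq_one (congrArg Subtype.val hk))
      (Nat.Coprime.pow_left k ((Nat.coprime_primes hr hp.out).mpr hrp))

theorem center_le_pCore (hE : Cfsg.IsPushingUpSituation p S) :
    S ⊓ centralizer (S : Set G) ≤ Cfsg.pCore p G ∧ Cfsg.pCore p G ≤ S := by
  obtain ⟨-, ⟨P, rfl⟩, hC, -⟩ := hE
  have h := PLocal.Cores.pCore_le_sylow P
  exact ⟨le_trans (inf_le_right.trans (centralizer_le (SetLike.coe_subset_coe.2 h))) hC, h⟩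

/-- If `C(Ω₁Z(O_p(G)))` supplements `S` then `Z(S)` is central. -/
theorem central_of_sup (hE : Cfsg.IsPushingUpSituation p S)
    (hCS : centralizer (omegaCore p G : Set G) ⊔ S = ⊤) :
    ∀ z ∈ S ⊓ centralizer (S : Set G), ∀ g : G, g * z = z * g := by
  obtain ⟨hZP, hPS⟩ := center_le_pCore hE
  intro z hz
  obtain ⟨-, ⟨P, rfl⟩, -⟩ := id hE
  have hzc : z ∈ centralizer (Cfsg.pCore p G : Set G) :=
    centralizer_le (SetLike.coe_subset_coe.2 hPS) hz.2
  have htop : centralizer ({z} : Set G) = ⊤ := eq_top_of_forall P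
    (fun x hx => mem_centralizer_singleton_iff.mpr (mem_centralizer_iff.mp hz.2 x hx)) fun g hg => by
      refine mem_centralizer_singleton_iff.mpr (centralizes_of_omega PLocal.Cores.isPGroup_pCore hg (hZP hz) hzc ?_)
      intro e he hec hep
      exact (mem_centralizer_iff.mp (mem_of_sup_eq_top P.isPGroup' hCS hg) e ⟨he, hec, hep⟩).symm
  exact fun g => mem_centralizer_singleton_iff.mp (htop.symm ▸ mem_top g)

/-- Some `q` lies between `|S : O_p(G)|` and the indices of the fixed points on `Ω₁Z(O_p(G))`. -/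
theorem sharp (hE : Cfsg.IsPushingUpSituation p S)
    (hCS : centralizer (omegaCore p G : Set G) ⊔ S ≠ ⊤) :
    ∃ q, (Cfsg.pCore p G).relIndex S ≤ q ∧ ∀ b ∈ S, b ∉ Cfsg.pCore p G →
      q ≤ (omegaCore p G ⊓ centralizer ({b} : Set G)).relIndex (omegaCore p G) ∧
      q * q ≤ (omegaCore p G ⊓ centralizer ((⊤ : Subgroup G) : Set G)).relIndex (omegaCore p G) := by
  classical
  obtain ⟨hZP, hPS⟩ := center_le_pCore hE
  have hS : IsPGroup p S := by
    obtain ⟨-, ⟨P, rfl⟩, -⟩ := hE
    exact P.isPGroup'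
  set V := omegaCore p G with hV
  set C := centralizer (V : Set G) with hCdef
  have hCSP : C ⊓ S ≤ Cfsg.pCore p G := inf_le_pCore hE C hCS
  obtain ⟨-, ⟨P, rfl⟩, -, ⟨M, ⟨hMc, hSM⟩, huniq⟩, K, hKn, F, _, _, n, hF, ⟨e⟩⟩ := id hE
  have hn : n ≠ 0 := by
    rintro rfl
    exact absurd hF (by rw [pow_zero]; exact (Fintype.one_lt_card (α := F)).ne')
  have hsq : (p ^ n) ^ 2 - 1 = (p ^ n - 1) * (p ^ n + 1) := by
    have h := Nat.sq_sub_sq (p ^ n) 1
    rw [one_pow] at h
    rw [h, mul_comm]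
  have hKS : K ⊔ (P : Subgroup G) ≠ ⊤ := by
    intro htop
    have hq : IsPGroup p (G ⧸ K) := by
      refine P.isPGroup'.of_surjective ((QuotientGroup.mk' K).comp (P : Subgroup G).subtype) fun y => ?_
      obtain ⟨y, rfl⟩ := QuotientGroup.mk'_surjective K y
      obtain ⟨n, hn, s, hs, rfl⟩ : ∃ n ∈ K, ∃ s ∈ (P : Subgroup G), n * s = y := by
        have hy : y ∈ K ⊔ (P : Subgroup G) := htop.symm ▸ mem_top y
        rwa [mem_sup_of_normal_left] at hy
      refine ⟨⟨s, hs⟩, ?_⟩
      show QuotientGroup.mk' K s = _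
      rw [map_mul, show QuotientGroup.mk' _ n = 1 from (QuotientGroup.eq_one_iff n).mpr hn, one_mul]
    obtain ⟨j, hj⟩ := IsPGroup.iff_card.mp (hq.of_surjective e.toMonoidHom e.surjective)
    -- `q² - 1` is not a power of `p`
    have hmul := Classical.Linear.natCard_PSL_mul_center (n := Fin 2) (F := F)
    rw [hj, Classical.GL2.natCard_SL_two, hF] at hmul
    have hc : Nat.card (center (Matrix.SpecialLinearGroup (Fin 2) F)) ≤ 2 := by
      rw [Classical.Linear.natCard_center_SL, Fintype.card_fin]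
      exact Nat.le_of_dvd two_pos (Nat.gcd_dvd_left _ _)
    have hq2 : 2 ≤ p ^ n := by
      calc 2 ≤ p := hp.out.two_le
        _ = p ^ 1 := (pow_one p).symm
        _ ≤ p ^ n := Nat.pow_le_pow_right hp.out.pos (Nat.one_le_iff_ne_zero.mpr hn)
    have hd : (p ^ n) ^ 2 - 1 ∣ Nat.card (center (Matrix.SpecialLinearGroup (Fin 2) F)) := by
      refine Nat.Coprime.dvd_of_dvd_mul_right (n := (p ^ j)) ?_ ⟨p ^ n, by rw [hmul, hsq, mul_comm]⟩
      refine Nat.Coprime.pow_right _ (hp.out.coprime_iff_not_dvd.mpr fun h => ?_).symm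
      have h2 : p ∣ (p ^ n) ^ 2 := dvd_pow (dvd_pow_self p hn) two_ne_zero
      have h3 := Nat.dvd_sub h2 h
      rw [Nat.sub_sub_self (Nat.one_le_pow _ _ (by omega))] at h3
      exact hp.out.not_dvd_one h3
    have h4 := Nat.le_of_dvd Nat.card_pos hd
    have h5 : 4 ≤ (p ^ n) ^ 2 := by nlinarith
    omega
  have hKP : K ⊓ (P : Subgroup G) ≤ Cfsg.pCore p G := inf_le_pCore hE K hKS
  -- `|S : O_p(G)| ≤ q`
  have hidx : (Cfsg.pCore p G).relIndex (P : Subgroup G) ≤ p ^ n := by
    refine le_trans (Nat.le_of_dvd (relIndex_pos' _ _) (relIndex_dvd_of_le_left _ hKP)) ?_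
    rw [inf_relIndex_right]
    obtain ⟨i, -, hi⟩ := (Nat.dvd_prime_pow hp.out).mp
      (P.card_eq_multiplicity ▸ relIndex_dvd_card K (P : Subgroup G))
    have hdvd : K.relIndex (P : Subgroup G) ∣ K.index := relIndex_dvd_index_of_normal K _
    rw [index_eq_card, Nat.card_congr e.toEquiv, hi] at hdvd
    rw [hi]
    have h2 : p ^ i ∣ Nat.card (Matrix.SpecialLinearGroup (Fin 2) F) :=
      hdvd.trans (card_quotient_dvd_card _)
    rw [Classical.GL2.natCard_SL_two, hF, ← hsq] at h2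
    refine Nat.le_of_dvd (pow_pos hp.out.pos n) (Nat.Coprime.dvd_of_dvd_mul_right ?_ h2)
    refine Nat.Coprime.pow_left _ (hp.out.coprime_iff_not_dvd.mpr fun h => ?_)
    have h2 : p ∣ (p ^ n) ^ 2 := dvd_pow (dvd_pow_self p hn) two_ne_zero
    have h3 := Nat.dvd_sub h2 h
    rw [Nat.sub_sub_self (Nat.one_le_pow _ _ (pow_pos hp.out.pos n))] at h3
    exact hp.out.not_dvd_one h3
  refine ⟨p ^ n, hidx, fun b hb hbP => ?_⟩
  have hbC : b ∉ C := fun h => hbP (hCSP ⟨h, hb⟩)
  obtain ⟨i, hi⟩ : ∃ i, (V ⊓ centralizer ({b} : Set G)).relIndex V = p ^ i := by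
    obtain ⟨v, hv⟩ := IsPGroup.iff_card.mp
      (show IsPGroup p V from PLocal.Cores.isPGroup_pCore.to_le fun x hx => hx.1)
    obtain ⟨i, -, hi⟩ := (Nat.dvd_prime_pow hp.out).mp (hv ▸ relIndex_dvd_card _ _)
    exact ⟨i, hi⟩
  have hb1 : p ≤ (V ⊓ centralizer ({b} : Set G)).relIndex V := by
    rw [hi]
    refine Nat.le_self_pow (fun hi0 => ?_) p
    rw [hi0, pow_zero, relIndex_eq_one] at hi
    exact hbC fun x hx => mem_centralizer_singleton_iff.mp (hi hx).2
  by_cases hn2 : 2 ≤ n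
  · have hker : C ≤ K := by
      have hsimple : IsSimpleGroup (Matrix.ProjectiveSpecialLinearGroup (Fin 2) F) := by
        refine Classical.Linear.isSimpleGroup_PSL_fin le_rfl fun _ => ?_
        rw [hF]
        calc 4 = 2 ^ 2 := rfl
          _ ≤ p ^ 2 := Nat.pow_le_pow_left hp.out.two_le 2
          _ ≤ _ := Nat.pow_le_pow_right hp.out.pos hn2
      let φ := e.toMonoidHom.comp (QuotientGroup.mk' K)
      have hφ : Function.Surjective φ := e.surjective.comp (QuotientGroup.mk'_surjective K)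
      haveI : (C.map φ).Normal := Normal.map inferInstance φ hφ
      rcases hsimple.eq_bot_or_eq_top_of_normal _ this with h | h
      · intro x hx
        have h1 : φ x ∈ C.map φ := mem_map_of_mem φ hx
        rw [h, mem_bot] at h1
        exact (QuotientGroup.eq_one_iff x).mp (e.map_eq_one_iff.mp h1)
      · exfalso
        have hle : ∀ N : Subgroup G, N ⊔ (P : Subgroup G) ≠ ⊤ → N ≤ M := fun N hN => by
          obtain ⟨M', hM', hXM⟩ := (eq_top_or_exists_le_coatom _).resolve_left hN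
          exact le_sup_left.trans (hXM.trans (huniq M' ⟨hM', le_sup_right.trans hXM⟩).le)
        refine hMc.1 (eq_top_iff.mpr fun g _ => ?_)
        obtain ⟨c, hc, hcg⟩ : φ g ∈ C.map φ := h.symm ▸ mem_top _
        have hk : c⁻¹ * g ∈ K := (QuotientGroup.eq_one_iff _).mp (e.map_eq_one_iff.mp (by
          show φ (c⁻¹ * g) = 1
          rw [map_mul, map_inv, hcg, inv_mul_cancel]))
        rw [show g = c * (c⁻¹ * g) by group]
        exact mul_mem (hle C hCS hc) (hle K hKS hk)
    obtain ⟨j, hj⟩ := P.isPGroup' ⟨b, hb⟩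
    have hj' : b ^ p ^ j = 1 := congrArg Subtype.val hj
    obtain ⟨h1, -, y, hy⟩ := SL2IndexBound.index_bound_of_ker omegaCore_elementary
      (H := ⊤) (fun g _ => by rw [normalizer_eq_top]; trivial) hn2 hF
      (e.toMonoidHom.comp ((QuotientGroup.mk' K).comp (⊤ : Subgroup G).subtype))
      (fun y => by
        obtain ⟨g, hg⟩ := e.surjective.comp (QuotientGroup.mk'_surjective K) y
        exact ⟨⟨g, mem_top g⟩, hg⟩)
      (fun h hh => e.map_eq_one_iff.mpr ((QuotientGroup.eq_one_iff _).mpr (hker hh)))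
      ⟨b, mem_top b⟩ (j := j) (Subtype.ext hj') (fun h =>
        hbP (hKP ⟨(QuotientGroup.eq_one_iff b).mp (e.map_eq_one_iff.mp h), hb⟩))
    refine ⟨h1, ?_⟩
    rw [← pow_two]
    exact hy.trans (Nat.le_of_dvd (relIndex_pos' _ _) (relIndex_dvd_of_le_left _
      (inf_le_inf_left _ (centralizer_le (Set.singleton_subset_iff.mpr (mem_top y))))))
  · have hn1 : n = 1 := by omega
    subst hn1
    rw [pow_one]
    refine ⟨hb1, ?_⟩
    set C0 := V ⊓ centralizer ((⊤ : Subgroup G) : Set G) with hC0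
    obtain ⟨v, hv⟩ := IsPGroup.iff_card.mp
      (show IsPGroup p V from PLocal.Cores.isPGroup_pCore.to_le fun x hx => hx.1)
    obtain ⟨j, -, hj⟩ := (Nat.dvd_prime_pow hp.out).mp (hv ▸ relIndex_dvd_card C0 V)
    rw [hj, ← pow_two]
    refine Nat.pow_le_pow_right hp.out.pos ?_
    by_contra hlt
    haveI : C0.Normal := inferInstance
    -- otherwise every element of `G` centralises `V` modulo the central `C0`
    have hj1 : j = 1 := by
      have h2 : (V ⊓ centralizer ({b} : Set G)).relIndex V ∣ C0.relIndex V :=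
        relIndex_dvd_of_le_left V (inf_le_inf_left _
          (centralizer_le (Set.singleton_subset_iff.mpr (mem_top b))))
      have h3 := hb1.trans (Nat.le_of_dvd (relIndex_pos' _ _) h2)
      rw [hj] at h3
      by_contra hne
      have : j = 0 := by omega
      rw [this, pow_zero] at h3
      exact absurd h3 (by have := hp.out.two_le; omega)
    have hVS : V ≤ (P : Subgroup G) := fun x hx => hPS hx.1
    have hSC : ⁅V, (P : Subgroup G)⁆ ≤ C0 := by
      by_contra hnot
      have hD : ⁅V, (P : Subgroup G)⁆ ≤ V := commutator_le_left _ _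
      have hsup : C0 ⊔ ⁅V, (P : Subgroup G)⁆ = V := by
        have hd : (C0 ⊔ ⁅V, (P : Subgroup G)⁆).relIndex V ∣ p := by
          have := relIndex_dvd_of_le_left V (le_sup_left : C0 ≤ C0 ⊔ ⁅V, (P : Subgroup G)⁆)
          rwa [hj, hj1, pow_one] at this
        rcases (Nat.dvd_prime hp.out).mp hd with h | h
        · exact le_antisymm (sup_le inf_le_left hD) (relIndex_eq_one.mp h)
        · exfalso
          have e1 := card_mul_relIndex (inf_le_left : C0 ≤ V)
          have e2 := card_mul_relIndex (sup_le inf_le_left hD : C0 ⊔ ⁅V, (P : Subgroup G)⁆ ≤ V)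
          rw [hj, hj1, pow_one] at e1
          rw [h, ← e1] at e2
          exact hnot (le_sup_right.trans (eq_of_le_of_card_ge le_sup_left
            (Nat.eq_of_mul_eq_mul_right hp.out.pos e2).le).ge)
      haveI := P.isPGroup'.isNilpotent
      have hCP : ⁅C0, (P : Subgroup G)⁆ = ⊥ := commutator_eq_bot_iff_le_centralizer.mpr
        (inf_le_right.trans (centralizer_le (fun x _ => mem_top x)))
      have h1 : ⁅V, (P : Subgroup G)⁆ ≤ ⁅⁅V, (P : Subgroup G)⁆, (P : Subgroup G)⁆ := by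
        refine commutator_le.mpr fun x hx s hs => ?_
        rw [← hsup, mem_sup_of_normal_left] at hx
        obtain ⟨c, hc, d, hd, rfl⟩ := hx
        have hcs : Commute c s := (mem_centralizer_iff.mp hc.2 s (mem_top s)).symm
        rw [commutatorElement_mul_left_eq_conj_mul, commutatorElement_eq_one_iff_commute.mpr hcs, mul_one]
        have hh := commutator_mem_commutator hd hs
        rwa [(show Commute c ⁅d, s⁆ from (mem_centralizer_iff.mp hc.2 _ (mem_top _)).symm).eq,
          mul_inv_cancel_right]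
      by_cases hne : ⁅V, (P : Subgroup G)⁆ = ⊥
      · exact hnot (hne ▸ bot_le)
      · exact absurd h1 (Coprime.commutator_lt_of_isNilpotent (hD.trans hVS) hne
          (Subgroup.normalizer_commutator_ge_right _ _)).not_ge
    have hall : ∀ g : G, ∀ v ∈ V, ⁅g, v⁆ ∈ C0 := by
      let N : Subgroup G := (centralizer ((V.map (QuotientGroup.mk' C0) : Subgroup (G ⧸ C0)) : Set (G ⧸ C0))).comap
        (QuotientGroup.mk' C0)
      haveI : (V.map (QuotientGroup.mk' C0)).Normal :=
        Subgroup.Normal.map inferInstance _ (QuotientGroup.mk'_surjective C0)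
      haveI : N.Normal := inferInstance
      have hN : ∀ g : G, g ∈ N ↔ ∀ v ∈ V, ⁅g, v⁆ ∈ C0 := by
        intro g
        constructor
        · intro hg v hv
          rw [← QuotientGroup.eq_one_iff]
          show QuotientGroup.mk' C0 ⁅g, v⁆ = 1
          rw [map_commutatorElement, commutatorElement_eq_one_iff_mul_comm]
          exact (mem_centralizer_iff.mp hg _ (mem_map_of_mem _ hv)).symm
        · rintro hg _ ⟨v, hv, rfl⟩
          have := (QuotientGroup.eq_one_iff _).mpr (hg v hv)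
          change QuotientGroup.mk' C0 ⁅g, v⁆ = 1 at this
          rw [map_commutatorElement, commutatorElement_eq_one_iff_mul_comm] at this
          exact this.symm
      have hSN : (P : Subgroup G) ≤ N := fun s hs => (hN s).mpr fun v hv => by
        rw [← commutatorElement_inv]
        exact inv_mem (hSC (commutator_mem_commutator hv hs))
      have hbn := hbP
      have hNtop : N = ⊤ := by
        by_contra h
        refine hbn (inf_le_pCore hE N ?_ ⟨hSN hb, hb⟩)
        rwa [sup_eq_left.mpr hSN]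
      exact fun g => (hN g).mp (hNtop.symm ▸ mem_top g)
    refine hCS (eq_top_of_forall P le_sup_right fun g hg => mem_sup_left fun v hv => ?_)
    set c := ⁅g, v⁆ with hc
    have hcC : c ∈ C0 := hall g v hv
    have hgv : g * v * g⁻¹ = v * c := by
      rw [(mem_centralizer_iff.mp hcC.2 v (mem_top v)), hc, commutatorElement_def]
      group
    have key : ∀ m : ℕ, g ^ m * v * (g ^ m)⁻¹ = v * c ^ m := by
      intro m
      induction m with
      | zero => simp
      | succ m ihm =>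
        have h1 : g * c ^ m * g⁻¹ = c ^ m := by
          rw [(Commute.pow_right (show Commute g c from mem_centralizer_iff.mp hcC.2 g (mem_top g)) m).eq,
            mul_inv_cancel_right]
        calc g ^ (m + 1) * v * (g ^ (m + 1))⁻¹ = g * (g ^ m * v * (g ^ m)⁻¹) * g⁻¹ := by
              rw [pow_succ']; group
          _ = (g * v * g⁻¹) * (g * c ^ m * g⁻¹) := by rw [ihm]; group
          _ = _ := by rw [h1, hgv, mul_assoc, ← pow_succ']
    have h0 := key (orderOf g)
    rw [pow_orderOf_eq_one, one_mul, inv_one, mul_one, left_eq_mul] at h0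
    have hc1 : c = 1 := by
      have h := pow_gcd_eq_one.mpr ⟨h0, hcC.1.2.2⟩
      rwa [hg.gcd_eq_one, pow_one] at h
    exact (commutatorElement_eq_one_iff_mul_comm.mp hc1).symm

/-- Either `Z(S)` is central, or `Ω₁Z(O_p(G))` admits no over-offender in `S`. -/
theorem dichotomy (hE : Cfsg.IsPushingUpSituation p S) :
    (∀ z ∈ S ⊓ centralizer (S : Set G), ∀ g : G, g * z = z * g) ∨
      ((∀ N : Subgroup G, N.Normal → N ⊔ S ≠ ⊤ → N ⊓ S ≤ Cfsg.pCore p G) ∧
        ∀ B : Subgroup G, B ≤ S → Nat.card B * Nat.card ↥(omegaCore p G ⊓ centralizer (B : Set G)) ≤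
          Nat.card ↥(B ⊓ Cfsg.pCore p G) * Nat.card ↥(omegaCore p G)) := by
  by_cases hCS : centralizer (omegaCore p G : Set G) ⊔ S = ⊤
  · exact Or.inl (central_of_sup hE hCS)
  obtain ⟨q, hq, hb⟩ := sharp hE hCS
  refine Or.inr ⟨fun N hN h => inf_le_pCore hE N h, fun B hBS => ?_⟩
  have key : (Cfsg.pCore p G).relIndex B ≤
      (omegaCore p G ⊓ centralizer (B : Set G)).relIndex (omegaCore p G) := by
    by_cases hBP : B ≤ Cfsg.pCore p G
    · rw [relIndex_eq_one.mpr hBP]
      exact relIndex_pos' _ _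
    obtain ⟨b, hbB, hbP⟩ := Set.not_subset.mp hBP
    refine ((relIndex_le_of_le_right hBS (relIndex_pos' _ _).ne').trans hq).trans ?_
    refine (hb b (hBS hbB) hbP).1.trans (Nat.le_of_dvd (relIndex_pos' _ _)
      (relIndex_dvd_of_le_left _ (inf_le_inf_left _
        (centralizer_le (Set.singleton_subset_iff.mpr (show b ∈ (B : Set G) from hbB))))))
  have e1 := card_mul_relIndex (inf_le_left : B ⊓ Cfsg.pCore p G ≤ B)
  rw [inf_relIndex_left] at e1
  have e2 := card_mul_relIndex (inf_le_left : omegaCore p G ⊓ centralizer (B : Set G) ≤ omegaCore p G)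
  rw [← e1, ← e2, mul_assoc]
  refine Nat.mul_le_mul_left _ ?_
  rw [mul_comm]
  exact Nat.mul_le_mul_left _ key

end setting

section exchange

variable {S : Type*} [Group S] [Finite S]

/-- The exchange: a centrally large `Q` gives the centrally large `(Q ∩ P)V` with centraliser `(Z ∩ P)V`. -/
theorem exchange {P V : Subgroup S} (hVP : V ≤ P) (hPV : P ≤ centralizer (V : Set S))
    (hoff : ∀ B : Subgroup S, Nat.card B * Nat.card ↥(V ⊓ centralizer (B : Set S)) ≤
      Nat.card ↥(B ⊓ P) * Nat.card V)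
    {Q : Subgroup S} (hQ : Cfsg.IsCentrallyLarge Q) :
    Cfsg.IsCentrallyLarge ((Q ⊓ P) ⊔ V) ∧ (Q ⊓ P) ⊔ V ≤ P ∧
      centralizer (((Q ⊓ P) ⊔ V : Subgroup S) : Set S) = (centralizer (Q : Set S) ⊓ P) ⊔ V ∧
      Nat.card ↥(centralizer (Q : Set S)) * Nat.card ↥(V ⊓ Q) =
        Nat.card ↥(centralizer (Q : Set S) ⊓ P) * Nat.card V ∧
      Nat.card Q * Nat.card ↥(V ⊓ centralizer (Q : Set S)) = Nat.card ↥(Q ⊓ P) * Nat.card V ∧
      Nat.card ↥((Q ⊓ P) ⊔ V : Subgroup S) * Nat.card ↥(V ⊓ Q) = Nat.card ↥(Q ⊓ P) * Nat.card V := by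
  obtain ⟨hQl, hZQ⟩ := isCentrallyLarge_iff.1 hQ
  set Z := centralizer (Q : Set S) with hZdef
  have hQQ : centralizer (Z : Set S) = Q := IsCentralizerLarge.centralizer_centralizer hQl
  have hb : Nat.card Q * Nat.card ↥(V ⊓ Z) ≤ Nat.card ↥(Q ⊓ P) * Nat.card V := hoff Q
  have hc : Nat.card Z * Nat.card ↥(V ⊓ Q) ≤ Nat.card ↥(Z ⊓ P) * Nat.card V := by
    have h := hoff Z; rwa [hQQ] at h
  set X := (Q ⊓ P) ⊔ V
  set X' := (Z ⊓ P) ⊔ V
  have hXP : X ≤ P := sup_le inf_le_right hVP
  have hX' : X' ≤ centralizer (X : Set S) := by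
    rw [centralizer_sup_eq]
    refine sup_le (le_inf ?_ ?_) (le_inf ?_ ?_)
    · exact inf_le_left.trans (centralizer_le (SetLike.coe_subset_coe.2 inf_le_left))
    · exact inf_le_right.trans hPV
    · exact le_centralizer_iff.1 (inf_le_right.trans hPV)
    · exact hVP.trans hPV
  have iQ : Q ⊓ P ⊓ V = V ⊓ Q :=
    le_antisymm (fun x hx => ⟨hx.2, hx.1.1⟩) fun x hx => ⟨⟨hx.2, hVP hx.1⟩, hx.1⟩
  have iZ : Z ⊓ P ⊓ V = V ⊓ Z :=
    le_antisymm (fun x hx => ⟨hx.2, hx.1.1⟩) fun x hx => ⟨⟨hx.2, hVP hx.1⟩, hx.1⟩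
  have e1 := card_mul_le_card_sup_mul_card_inf (Q ⊓ P) V
  have e2 := card_mul_le_card_sup_mul_card_inf (Z ⊓ P) V
  rw [iQ] at e1
  rw [iZ] at e2
  have e3 : Nat.card ↥(centralizer (X : Set S)) ≥ Nat.card X' := card_le_of_le hX'
  have hle := card_mul_centralizer_le X
  have hM : Nat.card Q * Nat.card Z = Cfsg.maxCentralizerProduct S := hQl
  set M := Cfsg.maxCentralizerProduct S
  set x := Nat.card X
  set x' := Nat.card X'
  set cx := Nat.card ↥(centralizer (X : Set S))
  set i := Nat.card ↥(V ⊓ Q)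
  set j := Nat.card ↥(V ⊓ Z)
  set v := Nat.card V
  set qp := Nat.card ↥(Q ⊓ P)
  set zp := Nat.card ↥(Z ⊓ P)
  set q := Nat.card Q
  set z := Nat.card Z
  have hij : 0 < i * j := Nat.mul_pos Nat.card_pos Nat.card_pos
  have h1 : M * (i * j) ≤ (qp * v) * (zp * v) := by
    calc M * (i * j) = (q * j) * (z * i) := by rw [← hM]; ring
      _ ≤ (qp * v) * (zp * v) := Nat.mul_le_mul hb hc
  have h2 : (qp * v) * (zp * v) ≤ (x * i) * (x' * j) := Nat.mul_le_mul e1 e2
  have h3 : x * x' ≤ M := (Nat.mul_le_mul_left _ e3).trans hle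
  have h4 : (x * i) * (x' * j) ≤ M * (i * j) := by
    calc (x * i) * (x' * j) = (x * x') * (i * j) := by ring
      _ ≤ _ := Nat.mul_le_mul_right _ h3
  have hMx : M ≤ x * x' := Nat.le_of_mul_le_mul_right
    ((h1.trans h2).trans (le_of_eq (by ring : x * i * (x' * j) = x * x' * (i * j)))) hij
  have hXl : Cfsg.IsCentralizerLarge X := isCentralizerLarge_of_le (hMx.trans (Nat.mul_le_mul_left _ e3))
  have hCX : centralizer (X : Set S) = X' := by
    refine (eq_of_le_of_card_ge hX' ?_).symm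
    exact Nat.le_of_mul_le_mul_left (hle.trans hMx) Nat.card_pos
  have pos : ∀ H : Subgroup S, 0 < Nat.card H := fun H => Nat.card_pos
  have hbe : q * j = qp * v := by
    refine le_antisymm hb (Nat.le_of_mul_le_mul_right (c := z * i) ?_ (Nat.mul_pos (pos _) (pos _)))
    calc qp * v * (z * i) ≤ qp * v * (zp * v) := Nat.mul_le_mul_left _ hc
      _ ≤ M * (i * j) := h2.trans h4
      _ = q * j * (z * i) := by rw [← hM]; ring
  have hce : z * i = zp * v := by
    refine le_antisymm hc (Nat.le_of_mul_le_mul_left (?_ : q * j * (zp * v) ≤ q * j * (z * i))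
      (Nat.mul_pos (pos _) (pos _)))
    calc q * j * (zp * v) ≤ qp * v * (zp * v) := Nat.mul_le_mul_right _ hb
      _ ≤ M * (i * j) := h2.trans h4
      _ = q * j * (z * i) := by rw [← hM]; ring
  refine ⟨isCentrallyLarge_iff.2 ⟨hXl, ?_⟩, hXP, hCX, hce, hbe, ?_⟩
  · rw [hCX]; exact sup_le_sup_right (inf_le_inf_right _ hZQ) _
  · refine le_antisymm (Nat.le_of_mul_le_mul_right (c := x' * j) ?_ (Nat.mul_pos (pos _) (pos _))) e1
    calc x * i * (x' * j) ≤ M * (i * j) := h4
      _ ≤ qp * v * (zp * v) := h1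
      _ ≤ qp * v * (x' * j) := Nat.mul_le_mul_left _ e2

/-- For a minimal `Q` the result of the exchange is minimal. -/
theorem exchange_minimal {p : ℕ} [Fact p.Prime] (hS : IsPGroup p S) {P V : Subgroup S} (hVP : V ≤ P)
    (hPV : P ≤ centralizer (V : Set S))
    (hoff : ∀ B : Subgroup S, Nat.card B * Nat.card ↥(V ⊓ centralizer (B : Set S)) ≤
      Nat.card ↥(B ⊓ P) * Nat.card V)
    (hS3007 : ∀ Q R : Subgroup S, Cfsg.IsMinimalCentrallyLarge Q → Cfsg.IsMinimalCentrallyLarge R →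
      (Q ⊓ R) ⊔ (Q ⊓ centralizer (Q : Set S)) = Q ∧ Nat.card Q = Nat.card R)
    {Q : Subgroup S} (hQ : Cfsg.IsMinimalCentrallyLarge Q) :
    Cfsg.IsMinimalCentrallyLarge ((Q ⊓ P) ⊔ V) ∧ (Q ⊓ P) ⊔ centralizer (Q : Set S) = Q ∧
      Nat.card ↥(V ⊓ centralizer (Q : Set S)) = Nat.card ↥(V ⊓ Q) := by
  obtain ⟨hXl, hXP, -, hce, hbe, hxe⟩ := exchange hVP hPV hoff hQ.1
  obtain ⟨R, hRX, hR⟩ := exists_isMinimalCentrallyLarge hXl
  obtain ⟨hQl, hZQ⟩ := isCentrallyLarge_iff.1 hQ.1
  set Z := centralizer (Q : Set S)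
  obtain ⟨h1, hcard⟩ := hS3007 Q R hQ hR
  rw [inf_eq_right.2 hZQ] at h1
  have hQeq : (Q ⊓ P) ⊔ Z = Q := by
    refine le_antisymm (sup_le inf_le_left hZQ) ?_
    conv_lhs => rw [← h1]
    exact sup_le_sup_right (inf_le_inf_left _ (hRX.trans hXP)) _
  have hnorm : Q ⊓ P ≤ normalizer (Z : Set S) := by
    intro x hx
    exact centralizer_le_normalizer _ (le_centralizer_centralizer Q hx.1)
  have hset : ((Q : Subgroup S) : Set S) ⊆ ((Q ⊓ P : Subgroup S) : Set S) * (Z : Set S) := by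
    intro y hy
    rw [← hQeq] at hy
    rwa [SetLike.mem_coe, ← SetLike.mem_coe, coe_mul_of_left_le_normalizer_right _ _ hnorm] at hy
  have e1 : Nat.card Q * Nat.card ↥(Q ⊓ P ⊓ Z) = Nat.card ↥(Q ⊓ P) * Nat.card Z := by
    refine le_antisymm ?_ ?_
    · choose f hf hk hk' e using fun t : Q =>
        (Set.mem_mul.mp (hset t.2) : ∃ a ∈ ((Q ⊓ P : Subgroup S) : Set S), ∃ b ∈ (Z : Set S), a * b = (t : S))
      rw [← Nat.card_prod, ← Nat.card_prod]
      refine Nat.card_le_card_of_injective (fun x : Q × ↥(Q ⊓ P ⊓ Z) =>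
        ((⟨f x.1 * x.2, mul_mem (hf x.1) x.2.2.1⟩ : ↥(Q ⊓ P)),
          (⟨(x.2 : S)⁻¹ * hk x.1, mul_mem (inv_mem x.2.2.2) (hk' x.1)⟩ : ↥Z))) ?_
      rintro ⟨t, i⟩ ⟨t', i'⟩ he
      simp only [Prod.mk.injEq, Subtype.mk.injEq] at he
      have ht : t = t' := by
        refine Subtype.ext ?_
        rw [← e t, ← e t']
        calc f t * hk t = f t * i * ((i : S)⁻¹ * hk t) := by group
          _ = f t' * i' * ((i' : S)⁻¹ * hk t') := by rw [he.1, he.2]
          _ = f t' * hk t' := by group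
      subst ht
      exact Prod.ext rfl (Subtype.ext (mul_left_cancel he.1))
    · have h := card_mul_le_card_sup_mul_card_inf (Q ⊓ P) Z
      rwa [hQeq] at h
  rw [show Q ⊓ P ⊓ Z = Z ⊓ P from le_antisymm (fun x hx => ⟨hx.2, hx.1.2⟩)
    fun x hx => ⟨⟨hZQ hx.1, hx.2⟩, hx.1⟩] at e1
  have hVeq : Nat.card ↥(V ⊓ Z) = Nat.card ↥(V ⊓ Q) := by
    refine Nat.eq_of_mul_eq_mul_left (Nat.mul_pos (Nat.card_pos (α := Q)) (Nat.card_pos (α := ↥(Z ⊓ P)))) ?_
    calc Nat.card Q * Nat.card ↥(Z ⊓ P) * Nat.card ↥(V ⊓ Z)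
        = (Nat.card Q * Nat.card ↥(V ⊓ Z)) * Nat.card ↥(Z ⊓ P) := by ring
      _ = Nat.card ↥(Q ⊓ P) * (Nat.card ↥(Z ⊓ P) * Nat.card V) := by rw [hbe]; ring
      _ = Nat.card ↥(Q ⊓ P) * Nat.card Z * Nat.card ↥(V ⊓ Q) := by rw [← hce]; ring
      _ = _ := by rw [← e1]
  have hXQ : Nat.card ↥((Q ⊓ P) ⊔ V : Subgroup S) = Nat.card Q := by
    refine Nat.eq_of_mul_eq_mul_right (Nat.card_pos (α := ↥(V ⊓ Q))) ?_
    rw [hxe, ← hbe, hVeq]
  have hRXeq : R = (Q ⊓ P) ⊔ V := eq_of_le_of_card_ge hRX (by rw [hXQ, hcard])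
  exact ⟨hRXeq ▸ hR, hQeq, hVeq⟩

/-- Minimal central largeness depends only on order and order of the centre. -/
theorem minimal_of_equiv (hcard : ∀ Q R : Subgroup S, Cfsg.IsMinimalCentrallyLarge Q →
      Cfsg.IsMinimalCentrallyLarge R → Nat.card Q = Nat.card R)
    {R R' : Subgroup S} (hR : Cfsg.IsMinimalCentrallyLarge R) (e : R ≃* R') :
    Cfsg.IsMinimalCentrallyLarge R' := by
  have hl : Cfsg.IsCentrallyLarge R' := by
    have h := hR.1
    unfold Cfsg.IsCentrallyLarge at h ⊢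
    rw [← Nat.card_congr e.toEquiv, ← Nat.card_congr (Subgroup.centerCongr e).toEquiv]
    exact h
  obtain ⟨T, hT, hTm⟩ := exists_isMinimalCentrallyLarge hl
  have : T = R' := eq_of_le_of_card_ge hT (by rw [hcard T R hTm hR, Nat.card_congr e.toEquiv])
  exact this ▸ hTm

end exchange

end Cfsg.Agent.CharP.PushingUpCL
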