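import Cfsg.Agent.Lib.CharP.QuadraticInvolution
import Cfsg.Agent.Techniques.SL2.Pairs

/-!
A bad pair of quadratic elements generates a group containing an involution of the induced linear group which
commutes with both; irreducible groups have trivial `p`-core on the module.
-/

set_option autoImplicit false
set_option linter.unusedSectionVars false

namespace Cfsg.Agent.CharP.QuadraticCommute

open Subgroup Cfsg Cfsg.Agent.PLocal
open scoped MatrixGroups commutatorElement

variable {p : ℕ} [hp : Fact p.Prime] {G : Type*} [Group G] [Finite G] {V : Subgroup G}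

open Cfsg.Agent.CharP.QuadraticInvolution in
/-- The group generated by a bad quadratic pair has an involution modulo the kernel commuting with both. -/
theorem exists_commuting_involution (hp2 : p ≠ 2) (hV : IsElementaryAbelian p V) {a b : G}
    (haN : a ∈ normalizer (V : Set G)) (hbN : b ∈ normalizer (V : Set G)) (ha : Quadratic.Quad V a)
    (hb : Quadratic.Quad V b) (hbad : Quadratic.BadPair p V a b) :
    ∃ t ∈ closure ({a, b} : Set G), t ∉ centralizer (V : Set G) ∧ t * t ∈ centralizer (V : Set G) ∧
      ⁅t, a⁆ ∈ centralizer (V : Set G) ∧ ⁅t, b⁆ ∈ centralizer (V : Set G) := by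
  obtain ⟨K, L, hL, hKle, hCL, ⟨e⟩⟩ :=
    Cfsg.Agent.Techniques.SL2.Pairs.exists_section hp2 hV haN hbN ha hb hbad
  letI : CommGroup V := { (inferInstance : Group V) with mul_comm := fun x y => hV.1.is_comm.comm x y }
  set N := normalizer (V : Set G) with hN
  let cj : N →* MulAut V := normalizerMonoidHom V
  let L₀ : N →* AddMonoid.End (Additive V) :=
    { toFun := fun g => MonoidHom.toAdditive (cj g).toMonoidHom
      map_one' := AddMonoidHom.ext fun x => by
        show Additive.ofMul (cj 1 (Additive.toMul x)) = x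
        rw [map_one]; rfl
      map_mul' := fun s t => AddMonoidHom.ext fun x => by
        show Additive.ofMul (cj (s * t) (Additive.toMul x)) =
          Additive.ofMul (cj s (cj t (Additive.toMul x)))
        rw [map_mul]; rfl }
  let ρ : N →* (AddMonoid.End (Additive V))ˣ := L₀.toHomUnits
  have hρ : ∀ (g : N) (x : V), (((Additive.toMul ((ρ g : AddMonoid.End (Additive V)) (Additive.ofMul x))) : V) : G)
      = g * x * (g : G)⁻¹ := fun g x => rfl
  have hρker : ∀ g : N, ρ g = 1 ↔ (g : G) ∈ centralizer (V : Set G) := by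
    intro g
    constructor
    · intro hg x hx
      have h1 := hρ g ⟨x, hx⟩
      rw [hg] at h1
      exact (mul_inv_eq_iff_eq_mul.mp h1.symm).symm
    · intro hg
      refine Units.ext (AddMonoidHom.ext fun x => ?_)
      refine Additive.toMul.injective (Subtype.ext ?_)
      refine (hρ g (Additive.toMul x)).trans ?_
      rw [← hg _ (Additive.toMul x).2, mul_inv_cancel_right]
      rfl
  have hquad : ∀ z : N, Quadratic.Quad V (z : G) →
      ((ρ z : AddMonoid.End (Additive V)) - 1) * ((ρ z : AddMonoid.End (Additive V)) - 1) = 0 := by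
    intro z hz
    set T := (ρ z : AddMonoid.End (Additive V)) with hT
    refine AddMonoidHom.ext fun x => ?_
    have h3 : T (x - T x) = x - T x := by
      have e' : x - T x = Additive.ofMul (Additive.toMul x * (cj z (Additive.toMul x))⁻¹) := sub_eq_add_neg _ _
      refine Additive.toMul.injective (Subtype.ext ?_)
      rw [e', hT]
      refine (hρ z _).trans ?_
      exact Quadratic.fix_of_quad hz (Additive.toMul x).2
    rw [map_sub] at h3
    show T (T x - x) - (T x - x) = 0
    rw [map_sub]
    calc T (T x) - T x - (T x - x) = (x - T x) - (T x - T (T x)) := by abel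
      _ = 0 := by rw [h3, sub_self]
  have h2 : ∀ y : AddMonoid.End (Additive V), (2 : ℕ) • y = 0 → y = 0 := by
    intro y hy
    refine AddMonoidHom.ext fun x => ?_
    have h1 : (2 : ℕ) • y x = 0 := by
      have := congrArg (fun f : AddMonoid.End (Additive V) => f x) hy
      exact this
    have h5 : p • y x = 0 := by
      refine Additive.toMul.injective (Subtype.ext ?_)
      rw [toMul_nsmul, SubmonoidClass.coe_pow]
      exact hV.2 _ (Additive.toMul (y x)).2
    have h6 := Nat.dvd_gcd (addOrderOf_dvd_iff_nsmul_eq_zero.mpr h1) (addOrderOf_dvd_iff_nsmul_eq_zero.mpr h5)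
    rw [(Nat.coprime_primes Nat.prime_two hp.out).mpr (Ne.symm hp2)] at h6
    exact AddMonoid.addOrderOf_eq_one_iff.mp (Nat.dvd_one.mp h6)
  haveI : Finite (AddMonoid.End (Additive V)) := Finite.of_injective _ DFunLike.coe_injective
  have hclN : closure ({a, b} : Set G) ≤ N := (closure_le _).mpr (by rintro z (rfl | rfl); exacts [haN, hbN])
  let f : K →* (AddMonoid.End (Additive V))ˣ := ρ.comp (inclusion (hKle.trans hclN))
  have hev : 2 ∣ Nat.card f.range := by
    have hker : f.ker ≤ L.subgroupOf K := fun x hx => hCL (mem_subgroupOf.mpr ((hρker _).mp hx))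
    rw [← index_ker]
    refine dvd_trans ?_ (index_dvd_of_le hker)
    rw [index_eq_card, Nat.card_congr e.toEquiv]
    have h2o : (-1 : SL(2, ZMod p)) ^ 2 = 1 := by simp
    refine (orderOf_eq_prime h2o ?_).symm.dvd.trans (orderOf_dvd_natCard _)
    intro heq
    have h7 := congrArg (fun M : SL(2, ZMod p) => (M : Matrix (Fin 2) (Fin 2) (ZMod p)) 0 0) heq
    simp at h7
    haveI : Fact (2 < p) := ⟨lt_of_le_of_ne hp.out.two_le (Ne.symm hp2)⟩
    exact ZMod.neg_one_ne_one h7
  obtain ⟨w, hw⟩ := exists_prime_orderOf_dvd_card' 2 hev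
  obtain ⟨x, hx⟩ := w.2
  set t : N := inclusion (hKle.trans hclN) x with ht
  have hot : orderOf (ρ t) = 2 := by
    rw [show ρ t = f x from rfl, hx, ← Subgroup.orderOf_coe] at *
    exact hw
  set a' : N := ⟨a, haN⟩
  set b' : N := ⟨b, hbN⟩
  have hcl : (t : G) ∈ closure ({a, b} : Set G) := hKle x.2
  have htN : t ∈ closure ({a', b'} : Set N) := by
    have hm : (closure ({a', b'} : Set N)).map N.subtype = closure ({a, b} : Set G) := by
      rw [MonoidHom.map_closure, Set.image_pair]; rfl
    rw [← hm] at hcl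
    obtain ⟨t', ht', he⟩ := hcl
    rwa [← Subtype.ext (a1 := t') (a2 := t) he]
  have htmem : ρ t ∈ closure ({ρ a', ρ b'} : Set _) := by
    rw [← Set.image_pair, ← MonoidHom.map_closure]
    exact mem_map_of_mem ρ htN
  have hsq : ρ t * ρ t = 1 := by rw [← pow_two, ← hot, pow_orderOf_eq_one]
  obtain ⟨hta, htb⟩ := involution_central h2 (hquad a' ha) (hquad b' hb) htmem hsq
  refine ⟨t, hKle x.2, fun hc => ?_, ?_, ?_, ?_⟩
  · rw [(hρker t).mpr hc, orderOf_one] at hot
    omega
  · exact (hρker (t * t)).mp (by rw [map_mul, hsq])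
  · exact (hρker ⁅t, a'⁆).mp (by rw [map_commutatorElement, commutatorElement_eq_one_iff_mul_comm]; exact hta)
  · exact (hρker ⁅t, b'⁆).mp (by rw [map_commutatorElement, commutatorElement_eq_one_iff_mul_comm]; exact htb)

/-- An irreducible group has trivial `p`-core on the module. -/
theorem pCore_eq_bot_of_irreducible {H : Subgroup G} (hVp : IsPGroup p V) (hV1 : V ≠ ⊥)
    (hHV : H ≤ normalizer (V : Set G))
    (hirr : ∀ U : Subgroup G, U ≤ V → H ≤ normalizer (U : Set G) → U = ⊥ ∨ U = V)
    [hn : ((centralizer (V : Set G)).subgroupOf H).Normal] :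
    pCore p (H ⧸ (centralizer (V : Set G)).subgroupOf H) = ⊥ := by
  set C := (centralizer (V : Set G)).subgroupOf H with hC
  set q := QuotientGroup.mk' C
  set M := (pCore p (H ⧸ C)).comap q with hM
  haveI : M.Normal := Subgroup.Normal.comap inferInstance q
  obtain ⟨T⟩ := (inferInstance : Nonempty (Sylow p M))
  set T' := ((T : Subgroup M).map M.subtype).map H.subtype with hT'
  have hT'p : IsPGroup p T' := (T.isPGroup'.map _).map _
  have hT'H : T' ≤ H := map_subtype_le _
  -- the fixed points of `T'`
  set U := V ⊓ centralizer (T' : Set G) with hU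
  have hU1 : U ≠ ⊥ := by
    let ac : T' →* MulAut V := (normalizerMonoidHom V).comp (inclusion (hT'H.trans hHV))
    letI : MulAction T' V :=
      { smul := fun t v => ac t v
        one_smul := fun v => by show ac 1 v = v; rw [map_one]; rfl
        mul_smul := fun s t v => by show ac (s * t) v = ac s (ac t v); rw [map_mul]; rfl }
    haveI : Nontrivial V := (nontrivial_iff_ne_bot V).mpr hV1
    have hdvd : p ∣ Nat.card V := by
      obtain ⟨n, hn⟩ := IsPGroup.iff_card.mp hVp
      rcases n with _ | n
      · exfalso; have := Finite.one_lt_card (α := V); rw [hn, pow_zero] at this; omega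
      · rw [hn]; exact dvd_pow_self p n.succ_ne_zero
    obtain ⟨v, hv, hv1⟩ := hT'p.exists_fixed_point_of_prime_dvd_card_of_fixed_point V hdvd
      (show (1 : V) ∈ MulAction.fixedPoints T' V from fun t => map_one (ac t))
    intro hbot
    have hmem : (v : G) ∈ U := by
      refine ⟨v.2, mem_centralizer_iff.mpr fun t ht => ?_⟩
      have h1 : t * (v : G) * t⁻¹ = v := congrArg Subtype.val (hv ⟨t, ht⟩)
      exact mul_inv_eq_iff_eq_mul.mp h1
    rw [hbot, mem_bot] at hmem
    exact hv1 (Subtype.ext hmem).symm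
  -- `M = T C`
  have hMfix : ∀ m ∈ M, ∀ u ∈ U, (m : G) * u * (m : G)⁻¹ = u := by
    intro m hm u hu
    have hsub : M ≤ (T : Subgroup M).map M.subtype ⊔ C := by
      have hCM : C ≤ M := fun c hc => by
        rw [hM, mem_comap, QuotientGroup.mk'_apply, (QuotientGroup.eq_one_iff c).mpr hc]; exact one_mem _
      intro y hy
      have hsur : Function.Surjective (q.subgroupComap (pCore p (H ⧸ C))) :=
        MonoidHom.subgroupComap_surjective_of_surjective q _ (QuotientGroup.mk'_surjective C)
      have he : (T.mapSurjective hsur : Subgroup (pCore p (H ⧸ C))) = ⊤ :=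
        ((T.mapSurjective hsur).is_maximal' (Cores.isPGroup_pCore.to_subgroup ⊤) le_top).symm
      obtain ⟨z, hz, hze⟩ : (⟨q y, hy⟩ : pCore p (H ⧸ C)) ∈ (T.mapSurjective hsur : Subgroup _) := he ▸ mem_top _
      have hc : (z : H)⁻¹ * y ∈ C := by
        rw [← QuotientGroup.eq]; exact congrArg Subtype.val hze
      rw [show y = (z : H) * ((z : H)⁻¹ * y) by group]
      exact mul_mem (mem_sup_left ⟨z, hz, rfl⟩) (mem_sup_right hc)
    have hmm := mem_map_of_mem H.subtype (hsub hm)
    rw [Subgroup.map_sup] at hmm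
    have : (T' ⊔ C.map H.subtype) ≤ centralizer ({u} : Set G) := by
      refine sup_le (fun t ht => mem_centralizer_singleton_iff.mpr (mem_centralizer_iff.mp hu.2 t ht)) ?_
      rintro _ ⟨c, hc, rfl⟩
      exact mem_centralizer_singleton_iff.mpr (mem_centralizer_iff.mp (mem_subgroupOf.mp hc) u hu.1).symm
    exact mul_inv_eq_iff_eq_mul.mpr (mem_centralizer_singleton_iff.mp (this hmm))
  set U' := V ⊓ centralizer ((M.map H.subtype : Subgroup G) : Set G) with hU'
  have hUU' : U ≤ U' := fun u hu => ⟨hu.1, mem_centralizer_iff.mpr (by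
    rintro _ ⟨m, hm, rfl⟩
    exact mul_inv_eq_iff_eq_mul.mp (hMfix m hm u hu))⟩
  have hHU' : H ≤ normalizer (U' : Set G) := fun h hh => GlaubermanReplacement.mem_normalizer_of_conj_mem
    fun u hu => ⟨(mem_normalizer_iff.mp (hHV hh) u).mp hu.1, mem_centralizer_iff.mpr (by
      rintro _ ⟨m, hm, rfl⟩
      have h1 := ‹M.Normal›.conj_mem m hm (⟨h, hh⟩⁻¹ : H)
      have h2 := mem_centralizer_iff.mp hu.2 _ ⟨_, h1, rfl⟩
      simp only [Subgroup.coe_subtype, Subgroup.coe_mul, Subgroup.coe_inv, inv_inv] at h2 ⊢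
      calc (m : G) * (h * u * h⁻¹) = h * (h⁻¹ * m * h * u) * h⁻¹ := by group
        _ = h * (u * (h⁻¹ * m * h)) * h⁻¹ := by rw [h2]
        _ = h * u * h⁻¹ * m := by group)⟩
  have hU'V := (hirr U' inf_le_left hHU').resolve_left fun h => hU1 (le_bot_iff.mp (h ▸ hUU'))
  rw [eq_bot_iff, ← map_comap_eq_self_of_surjective (QuotientGroup.mk'_surjective C) (pCore p (H ⧸ C))]
  rintro _ ⟨m, hm, rfl⟩
  rw [mem_bot, QuotientGroup.mk'_apply, QuotientGroup.eq_one_iff, mem_subgroupOf]
  intro v hv
  have hvU : v ∈ U' := hU'V.symm ▸ hv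
  exact (mem_centralizer_iff.mp hvU.2 _ ⟨m, hm, rfl⟩).symm

end Cfsg.Agent.CharP.QuadraticCommute
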