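import Mathlib
import Cfsg.Agent.Lib.CharP.S3FreeOffender
import Cfsg.Agent.Lib.PLocal.Cores
import Cfsg.Agent.Lib.PLocal.Replacement
import Cfsg.Agent.Lib.Fusion.SylIn

/-!
Offenders in groups without a section isomorphic to the symmetric group of degree three.

If a finite group acts on an elementary abelian 2-group and no involution inverts an element of
order three, then the group is generated by the stabilizer of the fixed points of a Sylow
2-subgroup and the normalizer of the subgroup generated by its quadratic best offenders.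

A Sylow intersection argument produces an offender `A` and a minimal subgroup `L` over `A` with
`A O₂(L)` inside a Sylow 2-subgroup whose fixed points `L` does not centralize. On a chief factor of
`L` inside the fixed points of `O₂(L)` the image of `A` is again an offender, acts regularly, and
gives an involution inverting an element of order three.
-/

set_option autoImplicit false
set_option linter.unusedSectionVars false
set_option linter.style.haveILetI false

namespace Cfsg.Agent.CharP.S3FreeGeneration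

open Subgroup
open Cfsg.Agent.CharP.S3FreeOffender (fix IsBest IsElem)

universe u v

variable {G : Type u} [Group G] {V : Type v} [CommGroup V] [MulDistribMulAction G V]

local notation:max A " ^cj[" g "]" => Subgroup.map (MonoidHomClass.toMonoidHom (MulAut.conj g)) A

theorem card_sup_mul_inf {M : Type*} [Group M] (H K : Subgroup M) [K.Normal] :
    Nat.card ↥(H ⊔ K) * Nat.card ↥(H ⊓ K) = Nat.card H * Nat.card K := by
  have h1 : Nat.card K * K.relIndex (H ⊔ K) = Nat.card ↥(H ⊔ K) := by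
    rw [← relIndex_bot_left, ← relIndex_bot_left, relIndex_mul_relIndex _ _ _ bot_le le_sup_right]
  have h2 : Nat.card ↥(H ⊓ K) * (H ⊓ K).relIndex H = Nat.card H := by
    rw [← relIndex_bot_left, ← relIndex_bot_left, relIndex_mul_relIndex _ _ _ bot_le inf_le_left]
  rw [← h1, ← h2, relIndex_sup_right, inf_relIndex_left]
  ring

section Section

variable (hexp : ∀ v : V, v * v = 1)

/-- The points that `A` fixes modulo `U`. -/
def fixMod (U : Subgroup V) (A : Subgroup G) : Subgroup V where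
  carrier := {v | ∀ a ∈ A, a • v / v ∈ U}
  one_mem' := fun a _ => by simp
  mul_mem' := fun {v w} hv hw a ha => by
    rw [smul_mul', mul_div_mul_comm]
    exact mul_mem (hv a ha) (hw a ha)
  inv_mem' := fun {v} hv a ha => by
    rw [smul_inv', inv_div_inv, ← inv_div]
    exact inv_mem (hv a ha)

theorem le_fixMod {U : Subgroup V} {A : Subgroup G} (hU : ∀ a ∈ A, ∀ u ∈ U, a • u ∈ U) :
    U ≤ fixMod U A := fun u hu a ha => div_mem (hU a ha u hu) hu

theorem mem_fixMod_sup {U : Subgroup V} {A B : Subgroup G}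
    (hU : ∀ g ∈ A ⊔ B, ∀ u ∈ U, g • u ∈ U) {v : V} (hA : v ∈ fixMod U A) (hB : v ∈ fixMod U B) :
    v ∈ fixMod U (A ⊔ B) := by
  intro g hg
  let S : Subgroup G :=
    { carrier := {g | g ∈ A ⊔ B ∧ g • v / v ∈ U}
      one_mem' := ⟨one_mem _, by simp⟩
      mul_mem' := fun {g k} hg hk => ⟨mul_mem hg.1 hk.1, by
        have e : (g * k) • v / v = g • (k • v / v) * (g • v / v) := by
          rw [mul_smul, smul_div', div_mul_div_cancel]
        rw [e]
        exact mul_mem (hU g hg.1 _ hk.2) hg.2⟩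
      inv_mem' := fun {g} hg => ⟨inv_mem hg.1, by
        have e : g⁻¹ • v / v = (g⁻¹ • (g • v / v))⁻¹ := by
          rw [smul_div', inv_smul_smul, inv_div]
        rw [e]
        exact inv_mem (hU _ (inv_mem hg.1) _ hg.2)⟩ }
  exact ((sup_le (a := A) (b := B) (c := S) (fun a ha => ⟨mem_sup_left ha, hA a ha⟩)
    (fun b hb => ⟨mem_sup_right hb, hB b hb⟩)) hg).2

theorem fixMod_map {U : Subgroup V} {A : Subgroup G} {g : G}
    (hU : ∀ u : V, g • u ∈ U ↔ u ∈ U) {v : V} :
    g • v ∈ fixMod U (A ^cj[g]) ↔ v ∈ fixMod U A := by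
  constructor
  · intro h a ha
    have h' := h (g * a * g⁻¹) ⟨a, ha, rfl⟩
    rw [mul_smul, mul_smul, inv_smul_smul, ← smul_div', hU] at h'
    exact h'
  · rintro h _ ⟨a, ha, rfl⟩
    show (g * a * g⁻¹) • (g • v) / g • v ∈ U
    rw [mul_smul, mul_smul, inv_smul_smul, ← smul_div', hU]
    exact h a ha

variable [Finite G] [Finite V]

variable {L R A : Subgroup G} {U Y : Subgroup V}
  (hAL : A ≤ L) (hAR : A ≤ R) (hLR : ¬ L ≤ R)
  (hmin : ∀ X : Subgroup G, A ≤ X → X ≤ L → X ≠ L → X ≤ R)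
  (hUY : U ≤ Y) (hUi : ∀ l ∈ L, ∀ u ∈ U, l • u ∈ U) (hYi : ∀ l ∈ L, ∀ y ∈ Y, l • y ∈ Y)
  (hirr : ∀ S : Subgroup V, U ≤ S → S ≤ Y → (∀ l ∈ L, ∀ s ∈ S, l • s ∈ S) → S = U ∨ S = Y)
  (hnt : ∃ l ∈ L, ∃ y ∈ Y, l • y / y ∉ U)
  (hquad : ∀ a ∈ A, ∀ b ∈ A, ∀ y ∈ Y, a • (b • y / y) / (b • y / y) ∈ U)

include hAL hmin in
/-- Two conjugates of `A` generate. -/
theorem sup_conj_eq {y : G} (hy : y ∈ L) (hyR : ¬ A ^cj[y] ≤ R) : A ⊔ A ^cj[y] = L := by
  have hle : A ⊔ A ^cj[y] ≤ L := sup_le hAL (by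
    rintro _ ⟨a, ha, rfl⟩
    exact mul_mem (mul_mem hy (hAL ha)) (inv_mem hy))
  by_contra h
  exact hyR (le_sup_right.trans (hmin _ le_sup_left hle h))

include hUY hUi hYi hirr hnt in
theorem inf_fixMod_eq : Y ⊓ fixMod U L = U := by
  refine (hirr _ (le_inf hUY (le_fixMod hUi)) inf_le_left ?_).resolve_right ?_
  · intro l hl s hs
    have e : l • s = (l • s / s) * s := (div_mul_cancel _ _).symm
    rw [e]
    exact mul_mem ⟨hUY (hs.2 l hl), le_fixMod hUi (hs.2 l hl)⟩ hs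
  · intro h
    obtain ⟨l, hl, y, hy, hne⟩ := hnt
    exact hne ((h.ge hy).2 l hl)

include hAL hmin hUY hUi hYi hirr hnt in
theorem inf_conj_eq {y : G} (hy : y ∈ L) (hyR : ¬ A ^cj[y] ≤ R) :
    Y ⊓ fixMod U A ⊓ (Y ⊓ fixMod U (A ^cj[y])) = U := by
  have hg := sup_conj_eq hAL hmin hy hyR
  refine le_antisymm ?_ (le_inf (le_inf hUY (le_fixMod fun a ha => hUi a (hAL ha)))
    (le_inf hUY (le_fixMod fun a ha => hUi a (hg.le (mem_sup_right ha)))))
  intro v hv
  rw [← inf_fixMod_eq hUY hUi hYi hirr hnt]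
  refine ⟨hv.1.1, ?_⟩
  have h := mem_fixMod_sup (fun g hg' => hUi g (hg.le hg')) hv.1.2 hv.2.2
  rwa [hg] at h

include hAL hUY hUi hYi in
theorem smul_mem_conj {y : G} (hy : y ∈ L) {v : V} (hv : v ∈ Y ⊓ fixMod U A) :
    y • v ∈ Y ⊓ fixMod U (A ^cj[y]) := by
  refine ⟨hYi y hy v hv.1, (fixMod_map fun u => ⟨fun h => ?_, hUi y hy u⟩).2 hv.2⟩
  simpa using hUi y⁻¹ (inv_mem hy) _ h

include hAL hUY hUi hYi in
theorem conj_mem_exists {y : G} (hy : y ∈ L) {v : V} (hv : v ∈ Y ⊓ fixMod U (A ^cj[y])) :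
    y⁻¹ • v ∈ Y ⊓ fixMod U A := by
  refine ⟨hYi _ (inv_mem hy) v hv.1, ?_⟩
  refine (fixMod_map (g := y) fun u => ⟨fun h => ?_, hUi y hy u⟩).1 (by rw [smul_inv_smul]; exact hv.2)
  simpa using hUi y⁻¹ (inv_mem hy) _ h

include hAL hmin hUY hUi hYi hirr hnt hquad in
/-- The two fixed spaces are complementary. -/
theorem sup_fix_eq {y : G} (hy : y ∈ L) (hyR : ¬ A ^cj[y] ≤ R) :
    (Y ⊓ fixMod U A) ⊔ (Y ⊓ fixMod U (A ^cj[y])) = Y := by
  set P := Y ⊓ fixMod U A with hP
  set P' := Y ⊓ fixMod U (A ^cj[y]) with hP'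
  have hg := sup_conj_eq hAL hmin hy hyR
  have hUP : U ≤ P := le_inf hUY (le_fixMod fun a ha => hUi a (hAL ha))
  have hA : ∀ a ∈ A, ∀ v ∈ Y, a • v / v ∈ P := fun a ha v hv =>
    mem_inf.2 ⟨div_mem (hYi a (hAL ha) v hv) hv, fun b hb => hquad b hb a ha v hv⟩
  have hA' : ∀ b ∈ A ^cj[y], ∀ v ∈ Y, b • v / v ∈ P' := by
    rintro _ ⟨a, ha, rfl⟩ v hv
    have h := hA a ha (y⁻¹ • v) (hYi _ (inv_mem hy) v hv)
    have h' := smul_mem_conj hAL hUY hUi hYi hy h
    rw [smul_div', smul_inv_smul, smul_smul, smul_smul] at h'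
    exact h'
  let S : Subgroup G :=
    { carrier := {l | l ∈ L ∧ ∀ v ∈ P ⊔ P', l • v ∈ P ⊔ P'}
      one_mem' := ⟨one_mem _, fun v hv => by rwa [one_smul]⟩
      mul_mem' := fun {g k} hg hk => ⟨mul_mem hg.1 hk.1, fun v hv => by
        rw [mul_smul]; exact hg.2 _ (hk.2 v hv)⟩
      inv_mem' := fun {g} hg => ⟨inv_mem hg.1, by
        have hpow : ∀ n : ℕ, ∀ v ∈ P ⊔ P', g ^ n • v ∈ P ⊔ P' := by
          intro n
          induction n with
          | zero => intro v hv; simpa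
          | succ n ih => intro v hv; rw [pow_succ', mul_smul]; exact hg.2 _ (ih v hv)
        intro v hv
        have h := hpow (orderOf g - 1) v hv
        rwa [show g⁻¹ = g ^ (orderOf g - 1) from inv_eq_of_mul_eq_one_right (by
          rw [← pow_succ', Nat.sub_add_cancel (orderOf_pos g), pow_orderOf_eq_one])]⟩ }
  have hSY : ∀ v ∈ P ⊔ P', v ∈ Y := fun v hv => (sup_le inf_le_left inf_le_left : P ⊔ P' ≤ Y) hv
  have hLS : L ≤ S := by
    refine hg.ge.trans (sup_le (fun a ha => ⟨hAL ha, fun v hv => ?_⟩)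
      (fun b hb => ⟨hg.le (mem_sup_right hb), fun v hv => ?_⟩))
    · rw [← div_mul_cancel (a • v) v]
      exact mul_mem (mem_sup_left (hA a ha v (hSY v hv))) hv
    · rw [← div_mul_cancel (b • v) v]
      exact mul_mem (mem_sup_right (hA' b hb v (hSY v hv))) hv
  refine (hirr _ (hUP.trans le_sup_left) (fun v hv => hSY v hv)
    (fun l hl => (hLS hl).2)).resolve_left fun h => ?_
  obtain ⟨l, hl, v, hv, hne⟩ := hnt
  refine hne (((mem_fixMod_sup (A := A) (B := A ^cj[y]) (v := v)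
    (fun k hk => hUi k (hg.le hk)) (fun a ha => h.le (mem_sup_left (hA a ha v hv)))
    (fun b hb => h.le (mem_sup_right (hA' b hb v hv))))) l (hg.ge hl))

include hAL hUY hUi hYi in
theorem card_conj {y : G} (hy : y ∈ L) :
    Nat.card ↥(Y ⊓ fixMod U (A ^cj[y])) = Nat.card ↥(Y ⊓ fixMod U A) :=
  Nat.card_congr
    { toFun := fun v => ⟨y⁻¹ • (v : V), conj_mem_exists hAL hUY hUi hYi hy v.2⟩
      invFun := fun v => ⟨y • (v : V), smul_mem_conj hAL hUY hUi hYi hy v.2⟩
      left_inv := fun v => Subtype.ext (smul_inv_smul y (v : V))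
      right_inv := fun v => Subtype.ext (inv_smul_smul y (v : V)) }

include hAL hmin hUY hUi hYi hirr hnt hquad in
theorem card_fix_sq {y : G} (hy : y ∈ L) (hyR : ¬ A ^cj[y] ≤ R) :
    Nat.card ↥(Y ⊓ fixMod U A) * Nat.card ↥(Y ⊓ fixMod U A) = Nat.card Y * Nat.card U := by
  have h := card_sup_mul_inf (Y ⊓ fixMod U A) (Y ⊓ fixMod U (A ^cj[y]))
  rw [sup_fix_eq hAL hmin hUY hUi hYi hirr hnt hquad hy hyR,
    inf_conj_eq hAL hmin hUY hUi hYi hirr hnt hy hyR, card_conj hAL hUY hUi hYi hy] at h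
  exact h.symm

include hAL hAR hLR hmin in
/-- If a conjugate of `A` lies in `R`, conjugation preserves the unique maximal subgroup. -/
theorem conj_inf_eq {y : G} (hy : y ∈ L) (hyR : A ^cj[y] ≤ R) : (L ⊓ R) ^cj[y] = L ⊓ R := by
  have hinj : Function.Injective (MonoidHomClass.toMonoidHom (MulAut.conj y)) := (MulAut.conj y).injective
  have hXL : (L ⊓ R).comap (MonoidHomClass.toMonoidHom (MulAut.conj y)) ≤ L := by
    intro x hx
    have : y * x * y⁻¹ ∈ L := (mem_comap.1 hx).1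
    have h2 := mul_mem (mul_mem (inv_mem hy) this) hy
    rwa [show y⁻¹ * (y * x * y⁻¹) * y = x by group] at h2
  have hX : (L ⊓ R).comap (MonoidHomClass.toMonoidHom (MulAut.conj y)) ≤ L ⊓ R := by
    refine le_inf hXL (hmin _ ?_ hXL ?_)
    · intro a ha
      exact mem_comap.2 (mem_inf.2 ⟨mul_mem (mul_mem hy (hAL ha)) (inv_mem hy), hyR ⟨a, ha, rfl⟩⟩)
    · intro h
      refine hLR fun l hl => ?_
      have h1 : y⁻¹ * l * y ∈ L := mul_mem (mul_mem (inv_mem hy) hl) hy
      have h2 := (mem_comap.1 (h.ge h1)).2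
      change y * (y⁻¹ * l * y) * y⁻¹ ∈ R at h2
      rwa [show y * (y⁻¹ * l * y) * y⁻¹ = l by group] at h2
  refine (eq_of_le_of_card_ge ?_ (card_map_of_injective hinj).le).symm
  have := map_mono (f := MonoidHomClass.toMonoidHom (MulAut.conj y)) hX
  rwa [map_comap_eq_self_of_surjective (MulAut.conj y).surjective] at this

variable
  (hnorm : ∀ a ∈ A, (∀ y ∈ L, y * a * y⁻¹ ∈ R) → ∀ v ∈ Y, a • v / v ∈ U)
  (hcard : ∀ B : Subgroup G, (∀ a ∈ A, (∀ v ∈ Y, a • v / v ∈ U) → a ∈ B) → B ≤ A →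
    (∀ a ∈ B, ∀ v ∈ Y, a • v / v ∈ U) →
    Nat.card B * Nat.card Y ≤ Nat.card A * Nat.card ↥(Y ⊓ fixMod U A))
  {g : G} (hgL : g ∈ L) (hgR : ¬ A ^cj[g] ≤ R)

include hAL hAR hLR hmin hUY hUi hYi hnorm in
/-- An element of `A` fixing modulo `U` more than `A` does is trivial on the factor. -/
theorem regular_of (hUL : Y ⊓ fixMod U L ≤ U)
    (hsq : Nat.card ↥(Y ⊓ fixMod U A) * Nat.card ↥(Y ⊓ fixMod U A) = Nat.card Y * Nat.card U)
    {a : G} (ha : a ∈ A) {v : V} (hv : v ∈ Y) (hav : a • v / v ∈ U)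
    (hvP : v ∉ fixMod U A) : ∀ w ∈ Y, a • w / w ∈ U := by
  refine hnorm a ha fun y hy => ?_
  by_cases hyi : A ^cj[y⁻¹] ≤ R
  · have h := conj_inf_eq hAL hAR hLR hmin (inv_mem hy) hyi
    obtain ⟨x, hx, hxa⟩ := h.ge ⟨hAL ha, hAR ha⟩
    change y⁻¹ * x * y⁻¹⁻¹ = a at hxa
    rw [← hxa, show y * (y⁻¹ * x * y⁻¹⁻¹) * y⁻¹ = x by group]
    exact hx.2
  set P := Y ⊓ fixMod U A with hP
  set P' := Y ⊓ fixMod U (A ^cj[y⁻¹]) with hP'
  set F := Y ⊓ fixMod U (zpowers a) with hF
  have haU : ∀ b ∈ zpowers a, b ∈ A := fun b hb => zpowers_le.2 ha hb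
  have hPF : P ≤ F := inf_le_inf_left _ fun w hw b hb => hw b (haU b hb)
  have hvF : v ∈ F := by
    refine mem_inf.2 ⟨hv, fun b hb => ?_⟩
    have haL : ∀ k ∈ zpowers a, k ∈ L := fun k hk => hAL (haU k hk)
    let S : Subgroup G :=
      { carrier := {k | k ∈ L ∧ k • v / v ∈ U}
        one_mem' := ⟨one_mem _, by simp⟩
        mul_mem' := fun {k l} hk hl => ⟨mul_mem hk.1 hl.1, by
          have e : (k * l) • v / v = k • (l • v / v) * (k • v / v) := by
            rw [mul_smul, smul_div', div_mul_div_cancel]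
          rw [e]
          exact mul_mem (hUi k hk.1 _ hl.2) hk.2⟩
        inv_mem' := fun {k} hk => ⟨inv_mem hk.1, by
          have e : k⁻¹ • v / v = (k⁻¹ • (k • v / v))⁻¹ := by
            rw [smul_div', inv_smul_smul, inv_div]
          rw [e]
          exact inv_mem (hUi _ (inv_mem hk.1) _ hk.2)⟩ }
    exact (show zpowers a ≤ S from zpowers_le.2 ⟨hAL ha, hav⟩) hb |>.2
  have hlt : Nat.card P < Nat.card F := by
    by_contra hh
    exact hvP (eq_of_le_of_card_ge hPF (not_lt.1 hh) ▸ hvF).2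
  obtain ⟨u, huF, huP', huU⟩ : ∃ u, u ∈ F ∧ u ∈ P' ∧ u ∉ U := by
    by_contra hh
    push Not at hh
    have h1 : Nat.card F * Nat.card P ≤ Nat.card Y * Nat.card U := by
      rw [← card_conj hAL hUY hUi hYi (inv_mem hy), ← card_sup_mul_inf]
      exact Nat.mul_le_mul (card_le_of_le (sup_le inf_le_left inf_le_left))
        (card_le_of_le fun w hw => hh w hw.1 hw.2)
    rw [← hsq] at h1
    exact absurd (Nat.le_of_mul_le_mul_right h1 (Nat.card_pos (α := P))) (not_le.2 hlt)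
  let X : Subgroup G :=
    { carrier := {k | k ∈ L ∧ k • u / u ∈ U}
      one_mem' := ⟨one_mem _, by simp⟩
      mul_mem' := fun {k l} hk hl => ⟨mul_mem hk.1 hl.1, by
        have e : (k * l) • u / u = k • (l • u / u) * (k • u / u) := by
          rw [mul_smul, smul_div', div_mul_div_cancel]
        rw [e]
        exact mul_mem (hUi k hk.1 _ hl.2) hk.2⟩
      inv_mem' := fun {k} hk => ⟨inv_mem hk.1, by
        have e : k⁻¹ • u / u = (k⁻¹ • (k • u / u))⁻¹ := by
          rw [smul_div', inv_smul_smul, inv_div]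
        rw [e]
        exact inv_mem (hUi _ (inv_mem hk.1) _ hk.2)⟩ }
  set X' := X.comap (MonoidHomClass.toMonoidHom (MulAut.conj y⁻¹)) with hX'
  have hX'L : X' ≤ L := by
    intro k hk
    have h := mul_mem (mul_mem hy (mem_comap.1 hk).1) (inv_mem hy)
    change y * (y⁻¹ * k * y⁻¹⁻¹) * y⁻¹ ∈ L at h
    rwa [show y * (y⁻¹ * k * y⁻¹⁻¹) * y⁻¹ = k by group] at h
  have hAX' : A ≤ X' := fun b hb => mem_comap.2
    ⟨mul_mem (mul_mem (inv_mem hy) (hAL hb)) (inv_mem (inv_mem hy)), huP'.2 _ ⟨b, hb, rfl⟩⟩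
  have hX'R : X' ≤ R := by
    refine hmin _ hAX' hX'L fun h => huU (hUL ⟨huF.1, ?_⟩)
    intro l hl
    have h' := (mem_comap.1 (h.ge (mul_mem (mul_mem hy hl) (inv_mem hy)))).2
    change (y⁻¹ * (y * l * y⁻¹) * y⁻¹⁻¹) • u / u ∈ U at h'
    rwa [show y⁻¹ * (y * l * y⁻¹) * y⁻¹⁻¹ = l by group] at h'
  refine hX'R (mem_comap.2 ?_)
  show y⁻¹ * (y * a * y⁻¹) * y⁻¹⁻¹ ∈ X
  rw [show y⁻¹ * (y * a * y⁻¹) * y⁻¹⁻¹ = a by group]
  exact ⟨hAL ha, huF.2 a (mem_zpowers a)⟩

include hAL hAR hLR hmin hUY hUi hYi hirr hnt hquad hnorm hgL hgR in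
/-- The same on a chief factor. -/
theorem regular {a : G} (ha : a ∈ A) {v : V} (hv : v ∈ Y) (hav : a • v / v ∈ U)
    (hvP : v ∉ fixMod U A) : ∀ w ∈ Y, a • w / w ∈ U :=
  regular_of hAL hAR hLR hmin hUY hUi hYi hnorm (inf_fixMod_eq hUY hUi hYi hirr hnt).le
    (card_fix_sq hAL hmin hUY hUi hYi hirr hnt hquad hgL hgR) ha hv hav hvP

include hAL hAR hLR hmin hUY hUi hYi hirr hnt hquad hnorm hcard hgL hgR in
/-- The commutator map of a point of a conjugate fixed space is onto. -/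
theorem comm_surjective {y : G} (hy : y ∈ L) (hyR : ¬ A ^cj[y] ≤ R) {v : V}
    (hv : v ∈ Y ⊓ fixMod U (A ^cj[y])) (hvU : v ∉ U) {x : V} (hx : x ∈ Y ⊓ fixMod U A) :
    ∃ a ∈ A, a • v / v / x ∈ U := by
  set P := Y ⊓ fixMod U A with hP
  have hvP : v ∉ fixMod U A := fun h =>
    hvU ((inf_conj_eq hAL hmin hUY hUi hYi hirr hnt hy hyR).le ⟨⟨hv.1, h⟩, hv⟩)
  let φ : ↥A →* V ⧸ U := MonoidHom.mk' (fun a => QuotientGroup.mk' U ((a : G) • v / v))
    (fun a b => by
      rw [← map_mul, QuotientGroup.mk'_apply, QuotientGroup.mk'_apply, QuotientGroup.eq_iff_div_mem]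
      have e : ((a * b : A) : G) • v / v / ((a : G) • v / v * ((b : G) • v / v)) =
          (a : G) • ((b : G) • v / v) / ((b : G) • v / v) := by
        rw [Subgroup.coe_mul, mul_smul]
        rw [← div_div, div_div_div_cancel_right, smul_div']
      rw [e]
      exact hquad a a.2 b b.2 v hv.1)
  set B := φ.ker.map A.subtype with hB
  have hBA : B ≤ A := map_subtype_le _
  have hφ : ∀ a : A, a ∈ φ.ker ↔ (a : G) • v / v ∈ U := fun a =>
    MonoidHom.mem_ker.trans (QuotientGroup.eq_one_iff _)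
  have h1 := hcard B (fun a ha h => ⟨⟨a, ha⟩, (hφ _).2 (h v hv.1), rfl⟩) hBA (by
    rintro _ ⟨a, ha, rfl⟩ w hw
    exact regular hAL hAR hLR hmin hUY hUi hYi hirr hnt hquad hnorm hgL hgR a.2 hv.1
      ((hφ a).1 ha) hvP w hw)
  rw [card_map_of_injective (f := A.subtype) A.subtype_injective] at h1
  set π := QuotientGroup.mk' U with hπ
  have hle : φ.range ≤ P.map π := by
    rintro _ ⟨a, rfl⟩
    exact ⟨_, mem_inf.2 ⟨div_mem (hYi a (hAL a.2) v hv.1) hv.1,
      fun b hb => hquad b hb a a.2 v hv.1⟩, rfl⟩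
  have hUP : U ≤ P := le_inf hUY (le_fixMod fun a ha => hUi a (hAL ha))
  have h3 : Nat.card (P.map π) * Nat.card U = Nat.card P := by
    have e := Subgroup.relIndex_mul_relIndex ⊥ U P bot_le hUP
    rw [relIndex_bot_left, relIndex_bot_left] at e
    rw [← relIndex_ker, hπ, QuotientGroup.ker_mk', mul_comm, e]
  have h4 : Nat.card A = Nat.card φ.range * Nat.card φ.ker := by
    rw [card_eq_card_quotient_mul_card_subgroup φ.ker,
      ← Nat.card_congr (QuotientGroup.quotientKerEquivRange φ).symm.toEquiv]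
  have heq : φ.range = P.map π := by
    refine eq_of_le_of_card_ge hle ?_
    have h5 := Nat.mul_le_mul_right (Nat.card U) h1
    rw [mul_assoc, ← card_fix_sq hAL hmin hUY hUi hYi hirr hnt hquad hgL hgR, h4] at h5
    refine Nat.le_of_mul_le_mul_right ?_
      (Nat.mul_pos (Nat.mul_pos (Nat.card_pos (α := φ.ker)) (Nat.card_pos (α := P)))
        (Nat.card_pos (α := U)))
    calc Nat.card (P.map π) * (Nat.card φ.ker * Nat.card P * Nat.card U)
        = Nat.card φ.ker * (Nat.card P * Nat.card P) := by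
          conv_rhs => rw [← h3]
          ring_nf
          rw [← h3]; ring
      _ ≤ _ := h5
      _ = _ := by ring
  obtain ⟨a, ha⟩ := heq.ge ⟨x, hx, rfl⟩
  exact ⟨a, a.2, (QuotientGroup.eq_iff_div_mem).1 ha⟩

include hexp hUi in
/-- Two elements exchanging two points modulo `U` have a product of order divisible by three. -/
theorem three_dvd_of_swap {a b : G} (haL : a ∈ L) (hbL : b ∈ L) {v w : V} (haw₀ : a • w / w ∈ U)
    (hbv₀ : b • v / v ∈ U) (hav₀ : a • v / (v * w) ∈ U) (hbw₀ : b • w / (w * v) ∈ U)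
    (hvw : ¬ v / w ∈ U) : 3 ∣ orderOf (a * b) := by
  -- work modulo `U`
  set π := QuotientGroup.mk' U with hπ
  have hmod : ∀ l ∈ L, ∀ p q : V, π p = π q → π (l • p) = π (l • q) := fun l hl p q h => by
    rw [hπ, QuotientGroup.mk'_apply, QuotientGroup.mk'_apply, QuotientGroup.eq_iff_div_mem] at h ⊢
    rw [← smul_div']
    exact hUi l hl _ h
  have e1 : ∀ {p q : V}, p / q ∈ U → π p = π q := fun h =>
    (QuotientGroup.eq_iff_div_mem).2 h
  have haw : π (a • w) = π w := e1 haw₀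
  have hbv' : π (b • v) = π v := e1 hbv₀
  have hav' : π (a • v) = π (v * w) := e1 hav₀
  have hbw' : π (b • w) = π (w * v) := e1 hbw₀
  set t := a * b with ht
  have htw : π (t • w) = π v := by
    rw [ht, mul_smul, hmod a (haL) _ _ hbw', smul_mul', map_mul, haw, hav', ← map_mul,
      mul_comm v w, ← mul_assoc, hexp, one_mul]
  have htv : π (t • v) = π (v * w) := by rw [ht, mul_smul, hmod a (haL) _ _ hbv', hav']
  have htL : t ∈ L := mul_mem (haL) hbL
  have ht3 : π (t ^ 3 • w) = π w := by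
    rw [pow_succ', pow_two]
    clear_value t
    rw [mul_smul, mul_smul, hmod t htL _ _ (hmod t htL _ _ htw),
      hmod t htL _ _ htv, smul_mul', map_mul, htw, htv, ← map_mul, mul_right_comm, hexp, one_mul]
  by_contra h3
  have hco : Nat.Coprime 3 (orderOf t) := (Nat.prime_three.coprime_iff_not_dvd).2 h3
  obtain ⟨m, hm⟩ := exists_pow_eq_self_of_coprime hco
  have hiter : ∀ k : ℕ, π ((t ^ 3) ^ k • w) = π w := fun k => by
    induction k with
    | zero => rw [pow_zero, one_smul]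
    | succ k ih =>
      rw [pow_succ, mul_smul, hmod _ (pow_mem (pow_mem htL 3) k) _ _ ht3, ih]
  have h := hiter m
  rw [hm, htw] at h
  exact hvw ((QuotientGroup.eq_iff_div_mem).1 h)

include hexp hAL hAR hLR hmin hUY hUi hYi hirr hnt hquad hnorm hcard hgL hgR in
/-- Two involutions of `L` whose product has order divisible by three. -/
theorem exists_three_dvd : ∃ a ∈ A, ∃ b ∈ A ^cj[g], 3 ∣ orderOf (a * b) := by
  set P := Y ⊓ fixMod U A with hP
  set P' := Y ⊓ fixMod U (A ^cj[g]) with hP'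
  have hg' : ¬ A ^cj[g⁻¹] ≤ R := fun h => by
    have e := conj_inf_eq hAL hAR hLR hmin (inv_mem hgL) h
    refine hgR ?_
    rintro _ ⟨a, ha, rfl⟩
    obtain ⟨x, hx, hxa⟩ := e.ge ⟨hAL ha, hAR ha⟩
    change g⁻¹ * x * g⁻¹⁻¹ = a at hxa
    show g * a * g⁻¹ ∈ R
    rw [← hxa, show g * (g⁻¹ * x * g⁻¹⁻¹) * g⁻¹ = x by group]
    exact hx.2
  obtain ⟨w, hw, hwU⟩ : ∃ w ∈ P, w ∉ U := by
    by_contra hh
    push Not at hh
    have h := card_fix_sq hAL hmin hUY hUi hYi hirr hnt hquad hgL hgR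
    have hPU : P = U := le_antisymm hh (le_inf hUY (le_fixMod fun a ha => hUi a (hAL ha)))
    rw [← hP, hPU] at h
    obtain ⟨l, hl, y, hy, hne⟩ := hnt
    have hYU : Y = U := (eq_of_le_of_card_ge hUY
      (Nat.le_of_mul_le_mul_right h.ge (Nat.card_pos (α := U)))).symm
    subst hYU
    exact hne (div_mem (hUi l hl y hy) hy)
  set v := g • w with hv
  have hvP' : v ∈ P' := smul_mem_conj hAL hUY hUi hYi hgL hw
  have hvU : v ∉ U := fun h => hwU (by simpa [hv] using hUi g⁻¹ (inv_mem hgL) _ h)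
  obtain ⟨a, ha, hav⟩ := comm_surjective hAL hAR hLR hmin hUY hUi hYi hirr hnt hquad hnorm hcard
    hgL hgR hgL hgR hvP' hvU hw
  obtain ⟨b', hb', hbv⟩ := comm_surjective hAL hAR hLR hmin hUY hUi hYi hirr hnt hquad hnorm hcard
    hgL hgR (inv_mem hgL) hg' (smul_mem_conj hAL hUY hUi hYi (inv_mem hgL) hw)
    (fun h => hwU (by simpa using hUi g hgL _ h))
    (conj_mem_exists hAL hUY hUi hYi hgL hvP')
  set b := g * b' * g⁻¹ with hb
  have hbA : b ∈ A ^cj[g] := ⟨b', hb', rfl⟩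
  refine ⟨a, ha, b, hbA, ?_⟩
  have hbL : b ∈ L := mul_mem (mul_mem hgL (hAL hb')) (inv_mem hgL)
  have hbw : b • w / w / v ∈ U := by
    have h := hUi g hgL _ hbv
    simp only [smul_div', smul_inv_smul] at h
    rwa [show g • b' • g⁻¹ • w = b • w by rw [hb, mul_smul, mul_smul]] at h
  refine three_dvd_of_swap hexp hUi (hAL ha) hbL (hw.2 a ha) (hvP'.2 b hbA)
    (by rwa [← div_div]) (by rwa [← div_div]) fun hvw => hvU ?_
  have hvA : v ∈ fixMod U A := fun c hc => by
    have e : c • v / v = (c • (v / w) / (v / w)) * (c • w / w) := by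
      rw [smul_div', div_mul_div_comm, div_mul_cancel, div_mul_cancel]
    rw [e]
    exact mul_mem (div_mem (hUi c (hAL hc) _ hvw) hvw) (hw.2 c hc)
  exact (inf_conj_eq hAL hmin hUY hUi hYi hirr hnt hgL hgR).le ⟨⟨hvP'.1, hvA⟩, hvP'⟩

end Section

/-- Nontrivial elementary abelian, quadratic, and a best offender. -/
structure IsQuadOffender (V : Type v) [CommGroup V] [MulDistribMulAction G V] (A : Subgroup G) :
    Prop where
  ne_bot : A ≠ ⊥
  elem : IsElem A
  best : IsBest V A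
  quad : ∀ a ∈ A, ∀ b ∈ A, ∀ v : V, a • (b • v / v) = b • v / v

variable [Finite G]

/-- Inside `L`, a normal subgroup lying in the maximal subgroup meets `A` inside `O₂(L)`. -/
theorem mem_pCore_of_normal {L R A : Subgroup G} (hAL : A ≤ L) (hA2 : IsPGroup 2 A)
    (hLR : ¬ L ≤ R) (hmin : ∀ X : Subgroup G, A ≤ X → X ≤ L → X ≠ L → X ≤ R)
    {N : Subgroup L} [N.Normal] (hN : N ≤ R.subgroupOf L) {a : G} (ha : a ∈ A)
    (haN : (⟨a, hAL ha⟩ : L) ∈ N) : a ∈ (Cfsg.pCore 2 L).map L.subtype := by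
  haveI : Fact (Nat.Prime 2) := ⟨Nat.prime_two⟩
  obtain ⟨T, hT⟩ := (hA2.comap_of_injective L.subtype L.subtype_injective).exists_le_sylow
  set P := (T : Subgroup L) ⊓ N with hP
  have hsyl : Fusion.SylIn.SylIn 2 P N := (Fusion.SylIn.of_sylow T).inf_normal le_top
    (by rw [normalizer_eq_top])
  obtain ⟨P', hP'⟩ := (Fusion.SylIn.sylIn_iff_exists hsyl.1).1 hsyl
  have hF : normalizer (P : Set L) ⊔ N = ⊤ := by
    have h := Sylow.normalizer_sup_eq_top P'
    rwa [hP', map_subgroupOf_eq_of_le hsyl.1] at h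
  have hAP : A.subgroupOf L ≤ normalizer (P : Set L) := by
    intro x hx
    refine mem_normalizer_iff.2 fun y => ?_
    rw [hP, mem_inf, mem_inf]
    constructor
    · exact fun h => ⟨mul_mem (mul_mem (hT hx) h.1) (inv_mem (hT hx)),
        (inferInstance : N.Normal).conj_mem y h.2 x⟩
    · intro h
      have h1 := mul_mem (mul_mem (inv_mem (hT hx)) h.1) (hT hx)
      have h2 := (inferInstance : N.Normal).conj_mem' _ h.2 x
      have e : x⁻¹ * (x * y * x⁻¹) * x = y := by group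
      exact ⟨e ▸ h1, e ▸ h2⟩
  have hnor : normalizer (P : Set L) = ⊤ := by
    by_contra hne
    refine hLR ?_
    have h1 : (normalizer (P : Set L)).map L.subtype ≤ R := by
      refine hmin _ (fun x hx => ⟨⟨x, hAL hx⟩, hAP hx, rfl⟩) (map_subtype_le _) fun e => hne ?_
      exact map_injective L.subtype_injective (e.trans (by rw [← MonoidHom.range_eq_map, range_subtype]))
    intro l hl
    have h2 : normalizer (P : Set L) ⊔ N ≤ R.subgroupOf L :=
      sup_le (fun x hx => h1 ⟨x, hx, rfl⟩) hN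
    exact h2 (hF.ge (mem_top (⟨l, hl⟩ : L)))
  haveI : P.Normal := normalizer_eq_top_iff.1 hnor
  exact ⟨⟨a, hAL ha⟩, PLocal.Cores.le_pCore hsyl.2.1 ⟨hT ha, haN⟩, rfl⟩

theorem isPGroup_of_elem {A : Subgroup G} (h : IsElem A) : IsPGroup 2 A :=
  S3FreeOffender.IsElem.isPGroup h

variable [Finite V] (hexp : ∀ v : V, v * v = 1)
  (hno : ∀ a c : G, a * a = 1 → c ^ 3 = 1 → c ≠ 1 → a * c * a = c⁻¹ → False)

include hno in
/-- Two involutions with product of order divisible by three give a forbidden configuration. -/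
theorem false_of_three_dvd {a b : G} (haa : a * a = 1) (hbb : b * b = 1)
    (h3 : 3 ∣ orderOf (a * b)) : False := by
  set t := a * b with ht
  obtain ⟨m, hm⟩ := h3
  have hinv : a * t * a⁻¹ = t⁻¹ := by
    rw [ht, mul_inv_rev, inv_eq_of_mul_eq_one_right haa, inv_eq_of_mul_eq_one_right hbb,
      ← mul_assoc, haa, one_mul]
  refine hno a (t ^ m) haa ?_ ?_ ?_
  · rw [← pow_mul, mul_comm, ← hm, pow_orderOf_eq_one]
  · intro e
    have h1 := orderOf_dvd_of_pow_eq_one e
    have h2 : 0 < orderOf t := orderOf_pos t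
    have h3 := Nat.le_of_dvd (by omega) h1
    omega
  · rw [← inv_pow, ← hinv, conj_pow, inv_eq_of_mul_eq_one_right haa]

include hexp hno in
/-- A minimal subgroup over an offender centralizes the common fixed points of the offender and
`O₂`. -/
theorem false_of_local {A L R : Subgroup G} (hA : IsQuadOffender V A) (hAL : A ≤ L) (hAR : A ≤ R)
    (hLR : ¬ L ≤ R) (hmin : ∀ X : Subgroup G, A ≤ X → X ≤ L → X ≠ L → X ≤ R) {g : G} (hgL : g ∈ L)
    (hgR : ¬ A ^cj[g] ≤ R) {z : V} (hzA : z ∈ (fix A : Subgroup V))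
    (hzQ : z ∈ (fix ((Cfsg.pCore 2 L).map L.subtype) : Subgroup V))
    (hzL : z ∉ (fix L : Subgroup V)) : False := by
  classical
  set Q := (Cfsg.pCore 2 L).map L.subtype with hQ
  have hgen := sup_conj_eq hAL hmin hgL hgR
  let Inv : Subgroup V → Prop := fun S => ∀ l ∈ L, ∀ s ∈ S, l • s ∈ S
  have hQinv : Inv (fix Q) := by
    intro l hl s hs q hq
    have hn := (mem_normalizer_iff.1 (PLocal.Cores.le_normalizer_map_pCore (p := 2) L
      (inv_mem hl)) q).1 hq
    have h := hs _ hn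
    rw [inv_inv, mul_smul, mul_smul] at h
    exact (eq_inv_smul_iff.1 h.symm).symm
  let 𝒮 : Set (Subgroup V) := {S | S ≤ fix Q ∧ Inv S ∧ ¬ (S ⊓ fix A ≤ fix L)}
  obtain ⟨Y, hY, hYmin⟩ := Set.exists_min_image 𝒮 (fun S => Nat.card S) (Set.toFinite _)
    ⟨fix Q, le_rfl, hQinv, fun h => hzL (h ⟨hzQ, hzA⟩)⟩
  obtain ⟨hYQ, hYi, hYbad⟩ := hY
  let 𝒯 : Set (Subgroup V) := {S | S ≤ Y ∧ Inv S ∧ S ≠ Y}
  obtain ⟨U, hU, hUmax⟩ := Set.exists_max_image 𝒯 (fun S => Nat.card S) (Set.toFinite _)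
    ⟨⊥, bot_le, fun l _ s hs => by rw [mem_bot.1 hs, smul_one]; exact one_mem _,
      fun h => hYbad (by rw [← h]; exact inf_le_left.trans bot_le)⟩
  obtain ⟨hUY, hUi, hUne⟩ := hU
  have hirr : ∀ S : Subgroup V, U ≤ S → S ≤ Y → (∀ l ∈ L, ∀ s ∈ S, l • s ∈ S) → S = U ∨ S = Y := by
    intro S hUS hSY hS
    by_cases h : S = Y
    · exact Or.inr h
    · exact Or.inl (eq_of_le_of_card_ge hUS (hUmax S ⟨hSY, hS, h⟩)).symm
  have hUgood : U ⊓ fix A ≤ fix L := by
    by_contra h
    have := hYmin U ⟨hUY.trans hYQ, hUi, h⟩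
    exact hUne (eq_of_le_of_card_ge hUY this)
  have hnt : ∃ l ∈ L, ∃ y ∈ Y, l • y / y ∉ U := by
    by_contra htriv
    push Not at htriv
    refine hYbad fun y hy => ?_
    have hb : ∀ b ∈ A ^cj[g], b • y / y ∈ (fix L : Subgroup V) := by
      rintro _ ⟨a, ha, rfl⟩
      have hu : (g * a * g⁻¹) • y / y ∈ U := htriv _ (hgen.le (mem_sup_right ⟨a, ha, rfl⟩)) y hy.1
      have h1 : g⁻¹ • ((g * a * g⁻¹) • y / y) ∈ (fix L : Subgroup V) := by
        refine hUgood ⟨hUi _ (inv_mem hgL) _ hu, fun c hc => ?_⟩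
        rw [smul_div', mul_smul, mul_smul, inv_smul_smul, hA.quad c hc a ha]
      have h2 := h1 g hgL
      rw [smul_inv_smul] at h2
      show (g * a * g⁻¹) • y / y ∈ _
      rw [h2]
      exact h1
    let S : Subgroup G :=
      { carrier := {l | l ∈ L ∧ l • y / y ∈ (fix L : Subgroup V)}
        one_mem' := ⟨one_mem _, by simp⟩
        mul_mem' := fun {k l} hk hl => ⟨mul_mem hk.1 hl.1, by
          have e : (k * l) • y / y = k • (l • y / y) * (k • y / y) := by
            rw [mul_smul, smul_div', div_mul_div_cancel]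
          rw [e, hl.2 k hk.1]
          exact mul_mem hl.2 hk.2⟩
        inv_mem' := fun {k} hk => ⟨inv_mem hk.1, by
          have e : k⁻¹ • y / y = (k⁻¹ • (k • y / y))⁻¹ := by
            rw [smul_div', inv_smul_smul, inv_div]
          rw [e, hk.2 _ (inv_mem hk.1)]
          exact inv_mem hk.2⟩ }
    have hS : L ≤ S := hgen.ge.trans (sup_le
      (fun a ha => ⟨hAL ha, by rw [hy.2 a ha, div_self']; exact one_mem _⟩)
      (fun b hb' => ⟨hgen.le (mem_sup_right hb'), hb b hb'⟩))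
    have hu := (hS (inv_mem hgL)).2
    suffices L ≤ MulAction.stabilizer G y from fun l hl => this hl
    refine hgen.ge.trans (sup_le (fun a ha => hy.2 a ha) ?_)
    rintro _ ⟨a, ha, rfl⟩
    show (g * a * g⁻¹) • y = y
    have hgy : g⁻¹ • y = g⁻¹ • y / y * y := (div_mul_cancel _ _).symm
    rw [mul_smul, mul_smul]
    conv_lhs => rw [hgy, smul_mul', hu a (hAL ha), hy.2 a ha, ← hgy, smul_inv_smul]
  have hfixY : ∀ a ∈ A, a ∈ Q → ∀ v ∈ Y, a • v / v ∈ U := fun a _ haQ v hv => by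
    rw [hYQ hv a haQ, div_self']
    exact one_mem _
  have hquad : ∀ a ∈ A, ∀ b ∈ A, ∀ y ∈ Y, a • (b • y / y) / (b • y / y) ∈ U :=
    fun a ha b hb y _ => by rw [hA.quad a ha b hb, div_self']; exact one_mem _
  have hnorm : ∀ a ∈ A, (∀ y ∈ L, y * a * y⁻¹ ∈ R) → ∀ v ∈ Y, a • v / v ∈ U := by
    intro a ha hy
    refine hfixY a ha (mem_pCore_of_normal hAL (isPGroup_of_elem hA.elem) hLR hmin
      (N := (R.subgroupOf L).normalCore) (normalCore_le _) ha fun y => hy y y.2)
  let K : Subgroup L :=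
    { carrier := {l | ∀ v ∈ Y, (l : G) • v / v ∈ U}
      one_mem' := fun v _ => by simp
      mul_mem' := fun {k l} hk hl v hv => by
        have e : ((k * l : L) : G) • v / v = (k : G) • ((l : G) • v / v) * ((k : G) • v / v) := by
          rw [Subgroup.coe_mul, mul_smul, smul_div', div_mul_div_cancel]
        rw [e]
        exact mul_mem (hUi k k.2 _ (hl v hv)) (hk v hv)
      inv_mem' := fun {k} hk v hv => by
        have e : ((k⁻¹ : L) : G) • v / v = ((k : G)⁻¹ • ((k : G) • v / v))⁻¹ := by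
          rw [Subgroup.coe_inv, smul_div', inv_smul_smul, inv_div]
        rw [e]
        exact inv_mem (hUi _ (inv_mem k.2) _ (hk v hv)) }
  haveI hKn : K.Normal := ⟨fun k hk l v hv => by
    have e : ((l * k * l⁻¹ : L) : G) • v / v =
        (l : G) • ((k : G) • ((l : G)⁻¹ • v) / ((l : G)⁻¹ • v)) := by
      rw [Subgroup.coe_mul, Subgroup.coe_mul, Subgroup.coe_inv, mul_smul, mul_smul, smul_div',
        smul_inv_smul]
    rw [e]
    exact hUi l l.2 _ (hk _ (hYi _ (inv_mem l.2) v hv))⟩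
  have hKR : K ≤ R.subgroupOf L := by
    intro x hx
    refine hmin ((K ⊔ A.subgroupOf L).map L.subtype)
      (fun a ha => ⟨⟨a, hAL ha⟩, mem_sup_right ha, rfl⟩) (map_subtype_le _) ?_
      ⟨x, mem_sup_left hx, rfl⟩
    intro e
    have hP : Y ⊓ fixMod U A ≤ U := by
      intro v hv
      refine (inf_fixMod_eq hUY hUi hYi hirr hnt).le ⟨hv.1, ?_⟩
      have hle : (K ⊔ A.subgroupOf L).map L.subtype ≤ K.map L.subtype ⊔ A := by
        rw [Subgroup.map_sup]
        exact sup_le_sup_left (map_comap_le _ _) _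
      have hKA : K.map L.subtype ⊔ A = L :=
        le_antisymm (sup_le (map_subtype_le _) hAL) (e.ge.trans hle)
      have h := mem_fixMod_sup (U := U) (A := K.map L.subtype) (B := A) (v := v)
        (fun k hk => hUi k (hKA.le hk))
        (by rintro _ ⟨k, hk, rfl⟩; exact hk v hv.1) hv.2
      rwa [hKA] at h
    obtain ⟨l, hl, y, hy, hne⟩ := hnt
    have hKtop : K = ⊤ := by
      have h1 : A.subgroupOf L ≤ K := fun a ha v hv => hP (mem_inf.2
        ⟨div_mem (hYi a a.2 v hv) hv, fun b hb => hquad b hb a ha v hv⟩)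
      refine map_injective L.subtype_injective ?_
      rw [← MonoidHom.range_eq_map, range_subtype]
      conv_rhs => rw [← e, sup_eq_left.2 h1]
    exact hne ((hKtop.ge (mem_top (⟨l, hl⟩ : L))) y hy)
  have hcard : ∀ B : Subgroup G, (∀ a ∈ A, (∀ v ∈ Y, a • v / v ∈ U) → a ∈ B) → B ≤ A →
      (∀ a ∈ B, ∀ v ∈ Y, a • v / v ∈ U) →
      Nat.card B * Nat.card Y ≤ Nat.card A * Nat.card ↥(Y ⊓ fixMod U A) := by
    intro B _ hBA hB
    have hBY : Y ≤ fix B := fun v hv b hb => hYQ hv b (mem_pCore_of_normal hAL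
      (isPGroup_of_elem hA.elem) hLR hmin hKR (hBA hb) (hB b hb))
    have h1 : Nat.card Y * Nat.card (fix A : Subgroup V) ≤
        Nat.card (fix B : Subgroup V) * Nat.card ↥(Y ⊓ fixMod U A) :=
      (PLocal.Replacement.card_mul_card_le Y (fix A)).trans (Nat.mul_le_mul
        (card_le_of_le (sup_le hBY (S3FreeOffender.fix_anti hBA)))
        (card_le_of_le (inf_le_inf_left Y fun v hv a ha => by
          rw [hv a ha, div_self']; exact one_mem _)))
    refine Nat.le_of_mul_le_mul_right ?_ (Nat.card_pos (α := (fix A : Subgroup V)))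
    calc Nat.card B * Nat.card Y * Nat.card (fix A : Subgroup V)
        = Nat.card B * (Nat.card Y * Nat.card (fix A : Subgroup V)) := by ring
      _ ≤ Nat.card B * (Nat.card (fix B : Subgroup V) * Nat.card ↥(Y ⊓ fixMod U A)) :=
          Nat.mul_le_mul_left _ h1
      _ = Nat.card B * Nat.card (fix B : Subgroup V) * Nat.card ↥(Y ⊓ fixMod U A) := by ring
      _ ≤ Nat.card A * Nat.card (fix A : Subgroup V) * Nat.card ↥(Y ⊓ fixMod U A) :=
          Nat.mul_le_mul_right _ (hA.best B hBA)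
      _ = _ := by ring
  obtain ⟨a, ha, b, hb, h3⟩ := exists_three_dvd hexp hAL hAR hLR hmin hUY hUi hYi hirr hnt hquad
    hnorm hcard hgL hgR
  obtain ⟨a', ha', rfl⟩ := hb
  have haa : a * a = 1 := hA.elem.2 a ha
  set b := g * a' * g⁻¹ with hbdef
  have hbb : b * b = 1 := by
    rw [hbdef, show g * a' * g⁻¹ * (g * a' * g⁻¹) = g * (a' * a') * g⁻¹ by group,
      hA.elem.2 a' ha', mul_one, mul_inv_cancel]
  change 3 ∣ orderOf (a * b) at h3
  exact false_of_three_dvd hno haa hbb h3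

theorem IsQuadOffender.map {A : Subgroup G} (h : IsQuadOffender V A) (g : G) :
    IsQuadOffender V (A ^cj[g]) where
  ne_bot := fun e => h.ne_bot ((map_eq_bot_iff_of_injective A (MulAut.conj g).injective).1 e)
  elem := S3FreeOffender.IsElem.map h.elem g
  best := S3FreeOffender.IsBest.map h.best g
  quad := by
    rintro _ ⟨a, ha, rfl⟩ _ ⟨b, hb, rfl⟩ v
    show (g * a * g⁻¹) • ((g * b * g⁻¹) • v / v) = (g * b * g⁻¹) • v / v
    have e : (g * b * g⁻¹) • v / v = g • (b • (g⁻¹ • v) / (g⁻¹ • v)) := by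
      rw [mul_smul, mul_smul, smul_div', smul_inv_smul]
    rw [e, mul_smul, mul_smul, inv_smul_smul, h.quad a ha b hb]

/-- The subgroup generated by the members of a class inside `P`. -/
def classSup (C : Subgroup G → Prop) (P : Subgroup G) : Subgroup G :=
  sSup {A | C A ∧ A ≤ P}

/-- The subgroup generated by the quadratic best offenders inside `P`. -/
def offSup (V : Type v) [CommGroup V] [MulDistribMulAction G V] (P : Subgroup G) : Subgroup G :=
  classSup (IsQuadOffender V) P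

section Class

variable {C : Subgroup G → Prop}

theorem classSup_le (P : Subgroup G) : classSup C P ≤ P := sSup_le fun _ h => h.2

theorem le_classSup {A P : Subgroup G} (hA : C A) (h : A ≤ P) : A ≤ classSup C P :=
  le_sSup ⟨hA, h⟩

theorem classSup_mono {P Q : Subgroup G} (h : P ≤ Q) : classSup C P ≤ classSup C Q :=
  sSup_le_sSup fun _ hA => ⟨hA.1, hA.2.trans h⟩

theorem classSup_idem (P : Subgroup G) : classSup C (classSup C P) = classSup C P :=
  le_antisymm (classSup_le _) (sSup_le fun _ hA => le_classSup hA.1 (le_classSup hA.1 hA.2))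

end Class

theorem offSup_le (P : Subgroup G) : offSup V P ≤ P := classSup_le P

theorem le_offSup {A P : Subgroup G} (hA : IsQuadOffender V A) (h : A ≤ P) : A ≤ offSup V P :=
  le_classSup hA h

theorem offSup_mono {P Q : Subgroup G} (h : P ≤ Q) : offSup V P ≤ offSup V Q := classSup_mono h

theorem offSup_idem (P : Subgroup G) : offSup V (offSup V P) = offSup V P := classSup_idem P

theorem map_conj_map_conj (A : Subgroup G) (g h : G) :
    (A ^cj[h]) ^cj[g] = A ^cj[g * h] := Involutions.BaerSuzuki.map_conj_map_conj A h g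

theorem map_conj_one (A : Subgroup G) : A ^cj[(1 : G)] = A := by
  ext; simp

theorem classSup_map {C : Subgroup G → Prop} (hC : ∀ A (g : G), C A → C (A ^cj[g]))
    (P : Subgroup G) (g : G) : classSup C (P ^cj[g]) = (classSup C P) ^cj[g] := by
  have key : ∀ (P : Subgroup G) (g : G), (classSup C P) ^cj[g] ≤ classSup C (P ^cj[g]) := by
    intro P g
    rw [map_le_iff_le_comap]
    refine sSup_le fun A hA => ?_
    rw [← map_le_iff_le_comap]
    exact le_classSup (hC A g hA.1) (map_mono hA.2)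
  refine le_antisymm ?_ (key P g)
  have h := map_mono (f := MonoidHomClass.toMonoidHom (MulAut.conj g)) (key (P ^cj[g]) g⁻¹)
  rwa [map_conj_map_conj, map_conj_map_conj, mul_inv_cancel, map_conj_one, inv_mul_cancel,
    map_conj_one] at h

theorem offSup_map (P : Subgroup G) (g : G) : offSup V (P ^cj[g]) = (offSup V P) ^cj[g] :=
  classSup_map (fun _ g h => h.map g) P g

theorem mem_normalizer_of_conj {P : Subgroup G} {g : G} (h : P ^cj[g] = P) :
    g ∈ normalizer (P : Set G) :=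
  mem_normalizer_iff_map_conj_eq.2 h

theorem conj_eq_of_mem_normalizer {P : Subgroup G} {g : G} (h : g ∈ normalizer (P : Set G)) :
    P ^cj[g] = P :=
  mem_normalizer_iff_map_conj_eq.1 h

/-- A minimal subgroup over a member of a class, not in a given proper subgroup over the normalizer
of the subgroup generated by the class in a Sylow 2-subgroup. -/
theorem exists_local_class {C : Subgroup G → Prop} (hC : ∀ A (g : G), C A → C (A ^cj[g]))
    (hC2 : ∀ A, C A → IsPGroup 2 A) (T : Sylow 2 G) (R : Subgroup G)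
    (hN : normalizer (classSup C (T : Subgroup G) : Set G) ≤ R) (hR : R ≠ ⊤) :
    ∃ (A L : Subgroup G) (g : G) (T' : Sylow 2 G), C A ∧ A ≤ L ∧ A ≤ R ∧ ¬ L ≤ R ∧
      (∀ X : Subgroup G, A ≤ X → X ≤ L → X ≠ L → X ≤ R) ∧ g ∈ L ∧ ¬ A ^cj[g] ≤ R ∧
      A ⊔ (Cfsg.pCore 2 L).map L.subtype ≤ (T' : Subgroup G) ∧ (T' : Subgroup G) ≤ R ∧
      ∃ r ∈ R, (T' : Subgroup G) ^cj[r] = (T : Subgroup G) := by
  classical
  haveI : Fact (Nat.Prime 2) := ⟨Nat.prime_two⟩
  have hNT : normalizer ((T : Subgroup G) : Set G) ≤ R := fun g hg => hN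
    (mem_normalizer_of_conj (by rw [← classSup_map hC, conj_eq_of_mem_normalizer hg]))
  have hTR : (T : Subgroup G) ≤ R := le_normalizer.trans hNT
  have hsyl : Fusion.SylIn.SylIn 2 (T : Subgroup G) R :=
    (Fusion.SylIn.of_sylow T).mono hTR le_top
  have hconjR : ∀ P : Subgroup G, IsPGroup 2 P → P ≤ R → ∃ r ∈ R, P ^cj[r] ≤ (T : Subgroup G) := by
    intro P hP hPR
    obtain ⟨r, hr, h⟩ := hsyl.exists_conj hPR hP
    exact ⟨r, hr, by rwa [Fusion.Basic.img_cj] at h⟩
  have hcardSyl : ∀ T' : Sylow 2 G, ∀ r : G, (T' : Subgroup G) ^cj[r] ≤ (T : Subgroup G) →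
      (T' : Subgroup G) ^cj[r] = (T : Subgroup G) := fun T' r h => by
    refine eq_of_le_of_card_ge h ?_
    rw [card_map_of_injective (MulAut.conj r).injective,
      T'.card_eq_multiplicity, T.card_eq_multiplicity]
  have hgood : ∀ T' : Sylow 2 G, classSup C (T' : Subgroup G) ≤ R → (T' : Subgroup G) ≤ R := by
    intro T' hT'
    obtain ⟨r, hr, hle⟩ := hconjR _ (T'.2.to_le (classSup_le _)) hT'
    rw [← classSup_map hC] at hle
    have hle' : classSup C ((T' : Subgroup G) ^cj[r]) ≤ classSup C (T : Subgroup G) := by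
      rw [← classSup_idem]; exact classSup_mono hle
    obtain ⟨x, hx⟩ := MulAction.exists_smul_eq G T T'
    have hTx : (T' : Subgroup G) = (T : Subgroup G) ^cj[x] := by rw [← hx]; rfl
    have heq : classSup C ((T' : Subgroup G) ^cj[r]) = classSup C (T : Subgroup G) := by
      refine eq_of_le_of_card_ge hle' ?_
      rw [classSup_map hC, card_map_of_injective (MulAut.conj r).injective, hTx, classSup_map hC,
        card_map_of_injective (MulAut.conj x).injective]
    intro t ht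
    have h : r * t * r⁻¹ ∈ R := hN (by
      rw [← heq]
      refine mem_normalizer_of_conj ?_
      rw [← classSup_map hC, conj_eq_of_mem_normalizer (le_normalizer (show r * t * r⁻¹ ∈
        (T' : Subgroup G) ^cj[r] from ⟨t, ht, rfl⟩))])
    have := mul_mem (mul_mem (inv_mem hr) h) hr
    rwa [show r⁻¹ * (r * t * r⁻¹) * r = t by group] at this
  have hsylR : ∀ T' : Sylow 2 G, (T' : Subgroup G) ≤ R →
      ∃ r ∈ R, (T' : Subgroup G) ^cj[r] = (T : Subgroup G) := fun T' h => by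
    obtain ⟨r, hr, hle⟩ := hconjR _ T'.2 h
    exact ⟨r, hr, hcardSyl T' r hle⟩
  have hmove : ∀ (T' : Sylow 2 G) (y : G), (T' : Subgroup G) ≤ R →
      (T' : Subgroup G) ^cj[y] ≤ R → y ∈ R := by
    intro T' y h1 h2
    obtain ⟨r, hr, e1⟩ := hsylR T' h1
    obtain ⟨r', hr', hle⟩ := hconjR _ (T'.2.map _) h2
    rw [map_conj_map_conj] at hle
    have e2 := hcardSyl T' _ hle
    have h3 : r' * y * r⁻¹ ∈ R := hNT (mem_normalizer_of_conj (by
      conv_lhs => rw [← e1]
      rw [map_conj_map_conj, inv_mul_cancel_right, e2]))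
    have := mul_mem (mul_mem (inv_mem hr') h3) hr
    rwa [show r'⁻¹ * (r' * y * r⁻¹) * r = y by group] at this
  -- a maximal intersection
  obtain ⟨x, hx⟩ : ∃ x, x ∉ R := by
    by_contra h; push Not at h; exact hR (eq_top_iff.2 fun g _ => h g)
  let pairs : Set (Sylow 2 G × Sylow 2 G) :=
    {p | (p.1 : Subgroup G) ≤ R ∧ ¬ (p.2 : Subgroup G) ≤ R}
  obtain ⟨⟨T₀, T₁⟩, ⟨h₀, h₁⟩, hmax⟩ := Set.exists_max_image pairs
    (fun p => Nat.card (classSup C ((p.1 : Subgroup G) ⊓ (p.2 : Subgroup G)))) (Set.toFinite _)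
    ⟨(T, x • T), hTR, fun h => hx (hmove T x hTR h)⟩
  set D := classSup C ((T₀ : Subgroup G) ⊓ (T₁ : Subgroup G)) with hD
  have hDle := classSup_le (C := C) ((T₀ : Subgroup G) ⊓ (T₁ : Subgroup G))
  have hD₀ : D ≤ T₀ := hDle.trans inf_le_left
  have hD₁ : D ≤ T₁ := hDle.trans inf_le_right
  have hmax' : ∀ T' T'' : Sylow 2 G, ∀ A, C A → ¬ A ≤ D →
      (T' : Subgroup G) ≤ R → D ⊔ A ≤ (T' : Subgroup G) → D ⊔ A ≤ (T'' : Subgroup G) →
      (T'' : Subgroup G) ≤ R := by
    intro T' T'' A hA hAD h' hle' hle''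
    by_contra h''
    refine hAD ?_
    have hle : D ≤ classSup C ((T' : Subgroup G) ⊓ (T'' : Subgroup G)) := by
      rw [hD, ← classSup_idem]
      exact classSup_mono (le_sup_left.trans (le_inf hle' hle''))
    rw [eq_of_le_of_card_ge hle (hmax (T', T'') ⟨h', h''⟩)]
    exact le_classSup hA (le_sup_right.trans (le_inf hle' hle''))
  have hout : ∀ T' : Sylow 2 G, D ≤ (T' : Subgroup G) →
      (classSup C (T' : Subgroup G) = D → False) →
      ∃ A, C A ∧ A ≤ (T' : Subgroup G) ∧ A ≤ normalizer (D : Set G) ∧ ¬ A ≤ D := by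
    intro T' hDT hne
    by_contra hno'
    push Not at hno'
    set N₀ := (T' : Subgroup G) ⊓ normalizer (D : Set G) with hN₀
    have hJN : classSup C N₀ = D := le_antisymm
      (sSup_le fun A hA => hno' A hA.1 (hA.2.trans inf_le_left) (hA.2.trans inf_le_right))
      (by rw [hD, ← classSup_idem]; exact classSup_mono (le_inf hDT le_normalizer))
    refine hne ?_
    suffices h : (T' : Subgroup G) ≤ N₀ by
      rw [← hJN, le_antisymm h inf_le_left]
    haveI : Group.IsNilpotent ↥(T' : Subgroup G) := T'.2.isNilpotent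
    by_contra h
    have hlt : N₀.subgroupOf T' < ⊤ := lt_top_iff_ne_top.2 fun e => h (subgroupOf_eq_top.1 e)
    obtain ⟨y, hy, hyN⟩ := SetLike.exists_of_lt (Group.normalizerCondition_of_isNilpotent _ hlt)
    refine hyN (mem_subgroupOf.2 (mem_inf.2 ⟨y.2, mem_normalizer_of_conj ?_⟩))
    rw [← hJN, ← classSup_map hC]
    congr 1
    refine eq_of_le_of_card_ge ?_ (card_map_of_injective (MulAut.conj _).injective).ge
    rintro _ ⟨n, hn, rfl⟩
    exact mem_subgroupOf.1 ((mem_normalizer_iff.1 hy ⟨n, hn.1⟩).1 (mem_subgroupOf.2 hn))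
  have hT₁ : ∀ T' : Sylow 2 G, D ≤ (T' : Subgroup G) → classSup C (T' : Subgroup G) = D → False := by
    intro T' _ e
    refine h₁ (hgood T₁ ?_)
    have hDT₁ : D ≤ classSup C (T₁ : Subgroup G) := by
      rw [hD]; exact classSup_mono inf_le_right
    obtain ⟨y, hy⟩ := MulAction.exists_smul_eq G T' T₁
    have hc : Nat.card (classSup C (T₁ : Subgroup G)) = Nat.card D := by
      rw [← e, ← hy]
      show Nat.card (classSup C ((T' : Subgroup G) ^cj[y])) = _
      rw [classSup_map hC, card_map_of_injective (MulAut.conj y).injective]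
    rw [← eq_of_le_of_card_ge hDT₁ hc.le]
    exact hD₀.trans h₀
  obtain ⟨A, hA, hA₀, hAn, hAD⟩ := hout T₀ hD₀ (hT₁ T₀ hD₀)
  obtain ⟨A', hA', hA'₁, hA'n, hA'D⟩ := hout T₁ hD₁ (hT₁ T₁ hD₁)
  have hA'R : ¬ A' ≤ R := by
    intro h
    obtain ⟨r, hr, hle⟩ := hconjR (D ⊔ A') (T₁.2.to_le (sup_le hD₁ hA'₁))
      (sup_le (hD₀.trans h₀) h)
    refine h₁ (hmax' (r⁻¹ • T) T₁ A' hA' hA'D ?_ ?_ (sup_le hD₁ hA'₁))
    · rintro _ ⟨t, ht, rfl⟩
      exact mul_mem (mul_mem (inv_mem hr) (hTR ht)) (inv_mem (inv_mem hr))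
    · have := map_mono (f := MonoidHomClass.toMonoidHom (MulAut.conj r⁻¹)) hle
      rw [map_conj_map_conj, inv_mul_cancel, map_conj_one] at this
      exact this
  have hkey : ∀ P : Subgroup G, IsPGroup 2 P → D ≤ P → A ≤ P →
      ∃ T' : Sylow 2 G, P ≤ (T' : Subgroup G) ∧ (T' : Subgroup G) ≤ R := by
    intro P hP hDP hAP
    obtain ⟨T', hT'⟩ := hP.exists_le_sylow
    exact ⟨T', hT', hmax' T₀ T' A hA hAD h₀ (sup_le hD₀ hA₀) ((sup_le hDP hAP).trans hT')⟩
  -- a minimal subgroup over `A`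
  let 𝓛 : Set (Subgroup G) := {X | A ≤ X ∧ X ≤ normalizer (D : Set G) ∧ ¬ X ≤ R}
  obtain ⟨L, ⟨hAL, hLn, hLR⟩, hLmin⟩ := Set.exists_min_image 𝓛 (fun X => Nat.card X)
    (Set.toFinite _) ⟨normalizer (D : Set G), hAn, le_rfl, fun h => hA'R (hA'n.trans h)⟩
  have hAR : A ≤ R := hA₀.trans h₀
  have hmin : ∀ X : Subgroup G, A ≤ X → X ≤ L → X ≠ L → X ≤ R := by
    intro X hAX hXL hne
    by_contra h
    exact hne (eq_of_le_of_card_ge hXL (hLmin X ⟨hAX, hXL.trans hLn, h⟩))
  have hA2 := hC2 A hA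
  -- some conjugate of `A` leaves `R`
  obtain ⟨g, hgL, hgR⟩ : ∃ g ∈ L, ¬ A ^cj[g] ≤ R := by
    by_contra hcon
    push Not at hcon
    set AL := A.subgroupOf L with hAL'
    set N := normalClosure (AL : Set L) with hN'
    have hNR : N ≤ R.subgroupOf L := (closure_le _).2 fun n hn => by
      obtain ⟨a, ha, hc⟩ := Group.mem_conjugatesOfSet_iff.1 hn
      obtain ⟨c, rfl⟩ := isConj_iff.1 hc
      exact mem_subgroupOf.2 (hcon c c.2 ⟨a, ha, rfl⟩)
    obtain ⟨TL, hTL⟩ := (hA2.comap_of_injective L.subtype L.subtype_injective).exists_le_sylow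
    set P := (TL : Subgroup L) ⊓ N with hP
    have hPsyl : Fusion.SylIn.SylIn 2 P N := (Fusion.SylIn.of_sylow TL).inf_normal le_top
      (by rw [normalizer_eq_top])
    obtain ⟨P', hP'⟩ := (Fusion.SylIn.sylIn_iff_exists hPsyl.1).1 hPsyl
    have hF : normalizer (P : Set L) ⊔ N = ⊤ := by
      have h := Sylow.normalizer_sup_eq_top P'
      rwa [hP', map_subgroupOf_eq_of_le hPsyl.1] at h
    refine hLR fun l hl => ?_
    have hle : normalizer (P : Set L) ⊔ N ≤ R.subgroupOf L := by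
      refine sup_le (fun y hy => mem_subgroupOf.2 ?_) hNR
      set PG := P.map L.subtype with hPG
      have hPG2 : IsPGroup 2 ↥(D ⊔ PG) :=
        (T₀.2.to_le hD₀).to_sup_of_normal_left' (hPsyl.2.1.map _) ((map_subtype_le _).trans hLn)
      have hAPG : A ≤ PG := fun a ha =>
        ⟨⟨a, hAL ha⟩, ⟨hTL ha, subset_normalClosure (mem_subgroupOf.2 ha)⟩, rfl⟩
      obtain ⟨T', hT', hT'R⟩ := hkey _ hPG2 le_sup_left (hAPG.trans le_sup_right)
      refine hmove T' y hT'R ?_
      have hDy : D ^cj[(y : G)] = D := conj_eq_of_mem_normalizer (hLn y.2)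
      have hPy : PG ^cj[(y : G)] = PG := by
        refine eq_of_le_of_card_ge ?_ (card_map_of_injective (MulAut.conj _).injective).ge
        rintro _ ⟨_, ⟨n, hn, rfl⟩, rfl⟩
        exact ⟨y * n * y⁻¹, (mem_normalizer_iff.1 hy n).1 hn, rfl⟩
      have hle : D ⊔ PG ≤ (T' : Subgroup G) ^cj[(y : G)] := by
        conv_lhs => rw [← hDy, ← hPy]
        rw [← Subgroup.map_sup]
        exact map_mono hT'
      obtain ⟨T'', hT'', hT''R⟩ := hkey _ (T'.2.map _) (le_sup_left.trans hle)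
        ((hAPG.trans le_sup_right).trans hle)
      exact hT''.trans hT''R
    exact hle (hF.ge (mem_top (⟨l, hl⟩ : L)))
  -- fixed points of a Sylow 2-subgroup over `A O₂(L)`
  set Q := (Cfsg.pCore 2 L).map L.subtype with hQ
  have hQA : IsPGroup 2 ↥(A ⊔ Q) :=
    hA2.to_sup_of_normal_right' (PLocal.Cores.isPGroup_pCore.map _)
      (hAL.trans (PLocal.Cores.le_normalizer_map_pCore L))
  have hDQA : IsPGroup 2 ↥(D ⊔ (A ⊔ Q)) :=
    (T₀.2.to_le hD₀).to_sup_of_normal_left' hQA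
      (sup_le hAn ((map_subtype_le _).trans hLn))
  obtain ⟨T', hT', hT'R⟩ := hkey _ hDQA le_sup_left (le_sup_left.trans le_sup_right)
  exact ⟨A, L, g, T', hA, hAL, hAR, hLR, hmin, hgL, hgR, le_sup_right.trans hT', hT'R,
    hsylR T' hT'R⟩

/-- The same for quadratic best offenders. -/
theorem exists_local (T : Sylow 2 G) (R : Subgroup G)
    (hN : normalizer (offSup V (T : Subgroup G) : Set G) ≤ R) (hR : R ≠ ⊤) :
    ∃ (A L : Subgroup G) (g : G) (T' : Sylow 2 G), IsQuadOffender V A ∧ A ≤ L ∧ A ≤ R ∧ ¬ L ≤ R ∧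
      (∀ X : Subgroup G, A ≤ X → X ≤ L → X ≠ L → X ≤ R) ∧ g ∈ L ∧ ¬ A ^cj[g] ≤ R ∧
      A ⊔ (Cfsg.pCore 2 L).map L.subtype ≤ (T' : Subgroup G) ∧ (T' : Subgroup G) ≤ R ∧
      ∃ r ∈ R, (T' : Subgroup G) ^cj[r] = (T : Subgroup G) :=
  exists_local_class (fun _ g h => h.map g) (fun _ h => isPGroup_of_elem h.elem) T R hN hR

include hexp hno in
/-- The stabilizer of the fixed points of a Sylow 2-subgroup and the normalizer of its offender
subgroup generate. -/
theorem eq_top (T : Sylow 2 G) (R : Subgroup G)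
    (hN : normalizer (offSup V (T : Subgroup G) : Set G) ≤ R)
    (hC : ∀ g : G, (∀ z ∈ (fix (T : Subgroup G) : Subgroup V), g • z = z) → g ∈ R) : R = ⊤ := by
  by_contra hR
  obtain ⟨A, L, g, T', hA, hAL, hAR, hLR, hmin, hgL, hgR, hT', hT'R, r, hr, e⟩ :=
    exists_local (V := V) T R hN hR
  obtain ⟨z, hz, hzL⟩ : ∃ z ∈ (fix (T' : Subgroup G) : Subgroup V),
      z ∉ (fix L : Subgroup V) := by
    by_contra hcon
    push Not at hcon
    refine hLR fun l hl => ?_
    have h : r * l * r⁻¹ ∈ R := hC _ fun z hz => by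
      have hz' : r⁻¹ • z ∈ (fix (T' : Subgroup G) : Subgroup V) := fun t ht => by
        have h := hz _ (e.le ⟨t, ht, rfl⟩)
        change (r * t * r⁻¹) • z = z at h
        rw [mul_smul, mul_smul, smul_eq_iff_eq_inv_smul] at h
        exact h
      rw [mul_smul, mul_smul, hcon _ hz' l hl, smul_inv_smul]
    have := mul_mem (mul_mem (inv_mem hr) h) hr
    rwa [show r⁻¹ * (r * l * r⁻¹) * r = l by group] at this
  exact false_of_local hexp hno hA hAL hAR hLR hmin hgL hgR
    (fun a ha => hz a (hT' (mem_sup_left ha)))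
    (fun a ha => hz a (hT' (mem_sup_right ha))) hzL

end Cfsg.Agent.CharP.S3FreeGeneration
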