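import Mathlib
import Cfsg.Agent.Lib.CharP.S3FreeGeneration
import Cfsg.Agent.Lib.CharP.DeficitPolynomial
import Cfsg.Agent.Lib.PLocal.Cores
import Cfsg.Agent.Lib.Fusion.LocalModels
import Cfsg.Agent.S3755

/-!
Groups without a section isomorphic to the symmetric group of degree three have no offenders.

A finite group of this kind acting faithfully on an elementary abelian 2-group, without a
nontrivial normal 2-subgroup, has no nontrivial elementary abelian subgroup `A` with
`|V| ≤ |A| |C_V(A)|`. The module generated by the fixed points of a Sylow 2-subgroup under the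
normalizer of its offender subgroup has a proper stabilizer `R`; a minimal subgroup over an offender
outside `R` gives an elementary abelian subgroup of `R` on this module, which is an offender by the
deficit bound, against induction.
-/

set_option autoImplicit false
set_option linter.unusedSectionVars false
set_option linter.style.haveILetI false

namespace Cfsg.Agent.CharP.S3FreeNoOffender

open Subgroup
open Cfsg.Agent.CharP.S3FreeOffender (fix IsBest IsElem)
open Cfsg.Agent.CharP.S3FreeGeneration (IsQuadOffender offSup fixMod)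

universe u v

variable {G : Type u} [Group G] {V : Type v} [CommGroup V] [MulDistribMulAction G V]

local notation:max A " ^cj[" g "]" => Subgroup.map (MonoidHomClass.toMonoidHom (MulAut.conj g)) A

theorem fix_bot : (fix (⊥ : Subgroup G) : Subgroup V) = ⊤ :=
  eq_top_iff.2 fun v _ a ha => by rw [mem_bot.1 ha, one_smul]

theorem weight_bot :
    Nat.card (⊥ : Subgroup G) * Nat.card (fix (⊥ : Subgroup G) : Subgroup V) = Nat.card V := by
  rw [fix_bot, Subgroup.card_bot, Subgroup.card_top, one_mul]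

theorem smul_mem_fix_map {A : Subgroup G} {v : V} (hv : v ∈ (fix A : Subgroup V)) (g : G) :
    g • v ∈ (fix (A ^cj[g]) : Subgroup V) := by
  rintro _ ⟨a, ha, rfl⟩
  show (g * a * g⁻¹) • (g • v) = g • v
  rw [mul_smul, mul_smul, inv_smul_smul, hv a ha]

variable [Finite G] [Finite V]

/-- An offender of least order is a quadratic best offender. -/
theorem exists_quadOffender (hexp : ∀ v : V, v * v = 1) {A₀ : Subgroup G} (hA₀ : IsElem A₀) (hne₀ : A₀ ≠ ⊥)
    (hoff₀ : Nat.card V ≤ Nat.card A₀ * Nat.card (fix A₀ : Subgroup V)) :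
    ∃ A : Subgroup G, IsQuadOffender V A := by
  classical
  obtain ⟨A, ⟨hA, hne, hoff⟩, hmin⟩ := Set.exists_min_image
    {A : Subgroup G | IsElem A ∧ A ≠ ⊥ ∧ Nat.card V ≤ Nat.card A * Nat.card (fix A : Subgroup V)}
    (fun A => Nat.card A) (Set.toFinite _) ⟨A₀, hA₀, hne₀, hoff₀⟩
  have hsmall : ∀ B : Subgroup G, B ≤ A →
      Nat.card V ≤ Nat.card B * Nat.card (fix B : Subgroup V) → B = ⊥ ∨ B = A := by
    intro B hBA hB
    refine or_iff_not_imp_left.2 fun h => eq_of_le_of_card_ge hBA (hmin B ⟨⟨?_, ?_⟩, h, hB⟩)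
    · exact fun a ha b hb => hA.1 a (hBA ha) b (hBA hb)
    · exact fun a ha => hA.2 a (hBA ha)
  refine ⟨A, hne, hA, fun B hBA => ?_, ?_⟩
  · by_contra hlt
    push Not at hlt
    rcases hsmall B hBA (hoff.trans hlt.le) with rfl | rfl
    · rw [weight_bot] at hlt; omega
    · exact lt_irrefl _ hlt
  by_contra hquad
  push Not at hquad
  obtain ⟨a₁, ha₁, b₁, hb₁, v, hv⟩ := hquad
  let BA : Subgroup A :=
    { carrier := {a | ∀ c ∈ A, (a : G) • (c • v / v) = c • v / v}
      one_mem' := fun c _ => one_smul G _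
      mul_mem' := fun {a b} ha hb c hc => by rw [Subgroup.coe_mul, mul_smul, hb c hc, ha c hc]
      inv_mem' := fun {a} ha c hc => by
        rw [Subgroup.coe_inv, inv_smul_eq_iff]; exact (ha c hc).symm }
  set B := BA.map A.subtype with hB
  have hfixB : ∀ c ∈ A, c • v / v ∈ (fix B : Subgroup V) := by
    rintro c hc _ ⟨a, ha, rfl⟩
    exact ha c hc
  have hfixAB : (fix A : Subgroup V) ≤ fix B := S3FreeOffender.fix_anti (map_subtype_le _)
  set r : A → A := fun a => (QuotientGroup.mk a : A ⧸ BA).out with hr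
  have hrB : ∀ a, (r a)⁻¹ * a ∈ BA := fun a =>
    QuotientGroup.eq.1 (Quotient.out_eq (QuotientGroup.mk a : A ⧸ BA))
  let Φ : A × (fix A : Subgroup V) → BA × (fix B : Subgroup V) := fun x =>
    (⟨(r x.1)⁻¹ * x.1, hrB x.1⟩,
      ⟨((r x.1 : A) : G) • v / v * x.2, mul_mem (hfixB _ (r x.1).2) (hfixAB x.2.2)⟩)
  have hinj : Function.Injective Φ := by
    rintro ⟨a₁, f₁⟩ ⟨a₂, f₂⟩ h
    obtain ⟨h1, h2⟩ := Prod.mk.inj h
    have h1' : (r a₁)⁻¹ * a₁ = (r a₂)⁻¹ * a₂ := congrArg Subtype.val h1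
    have h2' : ((r a₁ : A) : G) • v / v * (f₁ : V) = ((r a₂ : A) : G) • v / v * (f₂ : V) :=
      congrArg Subtype.val h2
    have hd : (r a₁)⁻¹ * r a₂ ∈ BA := by
      intro c hc
      set d : G := (((r a₁)⁻¹ * r a₂ : A) : G) with hd
      have e : d • v = v * ((f₁ : V) / f₂) := by
        have e2 : ((r a₂ : A) : G) • v = ((r a₁ : A) : G) • (v * ((f₁ : V) / f₂)) := by
          rw [smul_mul', (div_mem f₁.2 f₂.2 : (f₁ : V) / f₂ ∈ fix A) _ (r a₁).2]
          rw [div_mul_eq_mul_div, div_mul_eq_mul_div, div_left_inj] at h2'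
          rw [← mul_div_assoc, h2', mul_div_assoc, div_self', mul_one]
        rw [hd, Subgroup.coe_mul, Subgroup.coe_inv, mul_smul, inv_smul_eq_iff]
        exact e2
      rw [smul_div', ← mul_smul, hA.1 d ((r a₁)⁻¹ * r a₂).2 c hc, mul_smul, e, smul_mul',
        (div_mem f₁.2 f₂.2 : (f₁ : V) / f₂ ∈ fix A) c hc, mul_div_mul_right_eq_div]
    have hq : r a₁ = r a₂ := by
      have e : (QuotientGroup.mk (r a₁) : A ⧸ BA) = QuotientGroup.mk (r a₂) := QuotientGroup.eq.2 hd
      rw [hr] at e ⊢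
      simp only [QuotientGroup.out_eq'] at e
      simp only [e]
    rw [hq, mul_right_inj] at h1'
    rw [hq, mul_right_inj] at h2'
    exact Prod.ext h1' (Subtype.ext h2')
  have hle : Nat.card A * Nat.card (fix A : Subgroup V) ≤
      Nat.card B * Nat.card (fix B : Subgroup V) := by
    rw [hB, card_map_of_injective (f := A.subtype) A.subtype_injective, ← Nat.card_prod,
      ← Nat.card_prod]
    exact Nat.card_le_card_of_injective Φ hinj
  rcases hsmall B (map_subtype_le _) (hoff.trans hle) with hbot | heq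
  · have hsurj : Function.Surjective Φ := by
      refine (hinj.bijective_of_nat_card_le ?_).2
      rw [Nat.card_prod, Nat.card_prod, ← card_map_of_injective (f := A.subtype) A.subtype_injective,
        ← hB, hbot, weight_bot]
      exact hoff
    obtain ⟨⟨a, f⟩, haf⟩ := hsurj (1, ⟨v, by rw [hbot, fix_bot]; exact mem_top v⟩)
    have e : ((r a : A) : G) • v / v * (f : V) = v := congrArg Subtype.val (Prod.mk.inj haf).2
    refine hv ?_
    set x := b₁ • v / v with hx
    have hx' : x = ((r a : A) : G) • x / x := by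
      conv_lhs => rw [hx, ← e]
      rw [smul_mul', f.2 b₁ hb₁, mul_div_mul_right_eq_div, hx, smul_div', ← mul_smul,
        hA.1 b₁ hb₁ _ (r a).2, mul_smul, smul_div', div_div_div_comm]
    have hx1 : x = 1 := by
      rw [eq_div_iff_mul_eq', hexp] at hx'
      exact smul_left_cancel ((r a : A) : G) (by rw [smul_one]; exact hx'.symm)
    rw [hx1, smul_one]
  · refine hv ?_
    obtain ⟨a, ha, rfl⟩ := heq.ge ha₁
    exact ha b₁ hb₁

theorem natCard_eq_two_pow (W : Type*) [AddCommGroup W] [Module (ZMod 2) W] [Finite W] :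
    Nat.card W = 2 ^ Module.finrank (ZMod 2) W := by
  haveI : Fact (Nat.Prime 2) := ⟨Nat.prime_two⟩
  rw [Module.natCard_eq_pow_finrank (K := ZMod 2), Nat.card_zmod]

section Local

variable (hexp : ∀ v : V, v * v = 1)
  (hno : ∀ a c : G, a * a = 1 → c ^ 3 = 1 → c ≠ 1 → a * c * a = c⁻¹ → False)

include hexp in
/-- A point fixed by `A` whose translates under `L` differ from it by fixed points of `L` is fixed
by `L`. -/
theorem mem_fix_of_div_mem {L A : Subgroup G} {y : G} (hy : y ∈ L) (hgen : A ⊔ A ^cj[y] = L)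
    {v : V} (hvA : v ∈ (fix A : Subgroup V))
    (hdiv : ∀ l ∈ L, l • v / v ∈ (fix L : Subgroup V)) : v ∈ (fix L : Subgroup V) := by
  have hu := hdiv _ (inv_mem hy)
  suffices L ≤ MulAction.stabilizer G v from fun l hl => this hl
  refine hgen.ge.trans (sup_le (fun a ha => hvA a ha) ?_)
  rintro _ ⟨a, ha, rfl⟩
  show (y * a * y⁻¹) • v = v
  have hyv : y⁻¹ • v = y⁻¹ • v / v * v := (div_mul_cancel _ _).symm
  rw [mul_smul, mul_smul]
  conv_lhs => rw [hyv, smul_mul', hu a (hgen.le (mem_sup_left ha)), hvA a ha, ← hyv, smul_inv_smul]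

set_option maxHeartbeats 2000000 in
include hexp hno in
/-- The subgroup of `R` that is trivial on the factors of the module generated by `Z` under `L`
acts on `Z` as an elementary abelian offender. -/
theorem exists_offending_range {A L R : Subgroup G} {g : G} (hA : IsQuadOffender V A)
    (hAL : A ≤ L) (hAR : A ≤ R) (hLR : ¬ L ≤ R)
    (hmin : ∀ X : Subgroup G, A ≤ X → X ≤ L → X ≠ L → X ≤ R) (hgL : g ∈ L)
    (hgR : ¬ A ^cj[g] ≤ R) (hQR : (Cfsg.pCore 2 L).map L.subtype ≤ R) {Z : Subgroup V}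
    (hZi : ∀ r ∈ R, ∀ z ∈ Z, r • z ∈ Z) (hZstab : ∀ x : G, (∀ z ∈ Z, x • z = z) → x ∈ R)
    (hZfix : ∀ x ∈ L, A ^cj[x] ≤ R → Z ≤ (fix (A ^cj[x]) : Subgroup V)) :
    ∃ E : Subgroup G, E ≤ R ∧ IsPGroup 2 E ∧ (∀ a ∈ E, ∀ b ∈ E, ∀ z ∈ Z, (a * b) • z = (b * a) • z) ∧
      (∀ a ∈ E, ∀ z ∈ Z, (a * a) • z = z) ∧ (∃ e ∈ E, ∃ z ∈ Z, e • z ≠ z) ∧
      Nat.card Z ≤ Nat.card (Set.range fun (e : E) (z : Z) => (e : G) • (z : V)) *
        Nat.card ↥(Z ⊓ fix E) := by
  classical
  have hgen : ∀ {y : G}, y ∈ L → ¬ A ^cj[y] ≤ R → A ⊔ A ^cj[y] = L := fun hy hyR =>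
    S3FreeGeneration.sup_conj_eq hAL hmin hy hyR
  set V₁ : Subgroup V := closure {v | ∃ l ∈ L, ∃ z ∈ Z, l • z = v} with hV₁
  have hV₁i : ∀ l ∈ L, ∀ v ∈ V₁, l • v ∈ V₁ := by
    intro l hl
    suffices h : V₁ ≤ V₁.comap (S3FreeOffender.act l) from fun v hv => h hv
    refine (closure_le _).2 ?_
    rintro _ ⟨k, hk, z, hz, rfl⟩
    exact subset_closure ⟨l * k, mul_mem hl hk, z, hz, mul_smul l k z⟩
  have hZV₁ : Z ≤ V₁ := fun z hz => subset_closure ⟨1, one_mem _, z, hz, one_smul G z⟩
  set P := V₁ ⊓ fix A with hP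
  set U := V₁ ⊓ fix L with hU
  have hUY : U ≤ V₁ := inf_le_left
  have hUfix : ∀ u ∈ U, ∀ l ∈ L, l • u = u := fun u hu l hl => hu.2 l hl
  have hUi : ∀ l ∈ L, ∀ u ∈ U, l • u ∈ U := fun l hl u hu => by rw [hUfix u hu l hl]; exact hu
  have hUP : U ≤ P := inf_le_inf_left _ (S3FreeOffender.fix_anti hAL)
  have hZA : Z ≤ (fix A : Subgroup V) := by
    have h := hZfix 1 (one_mem L)
    rw [S3FreeGeneration.map_conj_one] at h
    exact h hAR
  have hZP : Z ≤ P := le_inf hZV₁ hZA
  have hcomA : ∀ a ∈ A, ∀ v ∈ V₁, a • v / v ∈ P := fun a ha v hv =>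
    mem_inf.2 ⟨div_mem (hV₁i a (hAL ha) v hv) hv, fun b hb => hA.quad b hb a ha v⟩
  -- complementary fixed spaces
  have hinf : ∀ {y : G}, y ∈ L → ¬ A ^cj[y] ≤ R →
      P ⊓ (V₁ ⊓ fix (A ^cj[y])) = U := fun hy hyR => by
    rw [hP, ← inf_inf_distrib_left, ← S3FreeOffender.fix_sup, hgen hy hyR]
  have hsup : ∀ {y : G}, y ∈ L → ¬ A ^cj[y] ≤ R → P ⊔ (V₁ ⊓ fix (A ^cj[y])) = V₁ := by
    intro y hy hyR
    refine le_antisymm (sup_le inf_le_left inf_le_left) ((closure_le _).2 ?_)
    rintro _ ⟨l, hl, z, hz, rfl⟩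
    have hq' := (hA.map y).quad
    have hV : ∀ w ∈ P ⊔ (V₁ ⊓ fix (A ^cj[y])), w ∈ V₁ := fun w hw =>
      (sup_le inf_le_left inf_le_left : P ⊔ (V₁ ⊓ fix (A ^cj[y])) ≤ V₁) hw
    let S : Subgroup G :=
      { carrier := {x | ∀ w, w ∈ P ⊔ (V₁ ⊓ fix (A ^cj[y])) ↔ x • w ∈ P ⊔ (V₁ ⊓ fix (A ^cj[y]))}
        one_mem' := fun w => by rw [one_smul]
        mul_mem' := fun {g k} hg hk w => by rw [mul_smul, ← hg, ← hk]
        inv_mem' := fun {g} hg w => by rw [hg (g⁻¹ • w), smul_inv_smul] }
    have hS : ∀ C : Subgroup G, (∀ c ∈ C, ∀ w ∈ P ⊔ (V₁ ⊓ fix (A ^cj[y])),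
        c • w ∈ P ⊔ (V₁ ⊓ fix (A ^cj[y]))) → C ≤ S := fun C hC c hc w =>
      ⟨hC c hc w, fun h => by simpa using hC c⁻¹ (inv_mem hc) _ h⟩
    have hLS : L ≤ S := by
      refine (hgen hy hyR).ge.trans (sup_le (hS _ fun a ha w hw => ?_) (hS _ fun b hb w hw => ?_))
      · rw [← div_mul_cancel (a • w) w]
        exact mul_mem (mem_sup_left (hcomA a ha w (hV w hw))) hw
      · rw [← div_mul_cancel (b • w) w]
        exact mul_mem (mem_sup_right (mem_inf.2
          ⟨div_mem (hV₁i b ((hgen hy hyR).le (mem_sup_right hb)) w (hV w hw)) (hV w hw),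
            fun c hc => hq' c hc b hb w⟩)) hw
    exact ((hLS hl) z).1 (mem_sup_left (hZP hz))
  -- fixed points modulo `U`
  have hfixA : V₁ ⊓ fixMod U A = P := by
    refine le_antisymm ?_ (le_inf inf_le_left fun v hv a ha => ?_)
    · intro v hv
      obtain ⟨p, hp, p', hp', rfl⟩ := mem_sup.1 ((hsup hgL hgR).ge hv.1)
      have hpm : p' ∈ fixMod U A := fun a ha => by
        have h := hv.2 a ha
        rwa [smul_mul', hp.2 a ha, mul_div_mul_left_eq_div] at h
      have hmod : p' ∈ fixMod U L := by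
        rw [← hgen hgL hgR]
        refine S3FreeGeneration.mem_fixMod_sup
          (fun k hk => hUi k ((hgen hgL hgR).le hk)) hpm fun b hb => ?_
        rw [hp'.2 b hb, div_self']
        exact one_mem _
      refine mul_mem hp (hUP ⟨hp'.1, ?_⟩)
      refine mem_fix_of_div_mem hexp (y := g⁻¹) (inv_mem hgL) ?_ hp'.2
        fun l hl => (hmod l hl).2
      rw [S3FreeGeneration.map_conj_map_conj, inv_mul_cancel, S3FreeGeneration.map_conj_one,
        sup_comm]
      exact hgen hgL hgR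
    · rw [hv.2 a ha, div_self']
      exact one_mem _
  have hUL : V₁ ⊓ fixMod U L ≤ U := by
    intro v hv
    have hvP : v ∈ P := hfixA.le ⟨hv.1, fun a ha => hv.2 a (hAL ha)⟩
    exact ⟨hv.1, mem_fix_of_div_mem hexp hgL (hgen hgL hgR) hvP.2 fun l hl => (hv.2 l hl).2⟩
  have hP' : ∀ {v : V}, v ∈ V₁ ⊓ fix (A ^cj[g]) → g⁻¹ • v ∈ P := fun {v} hv =>
    ⟨hV₁i _ (inv_mem hgL) v hv.1, fun a ha => by
      have h := hv.2 _ ⟨a, ha, rfl⟩
      change (g * a * g⁻¹) • v = v at h
      rw [mul_smul, mul_smul, smul_eq_iff_eq_inv_smul] at h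
      exact h⟩
  have hsq : Nat.card ↥(V₁ ⊓ fixMod U A) * Nat.card ↥(V₁ ⊓ fixMod U A) =
      Nat.card V₁ * Nat.card U := by
    have h := S3FreeGeneration.card_sup_mul_inf P (V₁ ⊓ fix (A ^cj[g]))
    rw [hsup hgL hgR, hinf hgL hgR] at h
    rw [h, hfixA]
    congr 1
    refine (Nat.card_congr
      { toFun := fun v => ⟨g⁻¹ • (v : V), hP' v.2⟩
        invFun := fun v => ⟨g • (v : V), hV₁i g hgL _ v.2.1, smul_mem_fix_map v.2.2 g⟩
        left_inv := fun v => Subtype.ext (smul_inv_smul g (v : V))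
        right_inv := fun v => Subtype.ext (inv_smul_smul g (v : V)) }).symm
  have hnt : ¬ V₁ ≤ U := fun h => hLR fun l hl => hZstab l fun z hz => (h (hZV₁ hz)).2 l hl
  -- the kernel on the factor
  let K : Subgroup L :=
    { carrier := {l | ∀ v ∈ V₁, (l : G) • v / v ∈ U}
      one_mem' := fun v _ => by simp
      mul_mem' := fun {k l} hk hl v hv => by
        have e : ((k * l : L) : G) • v / v = (k : G) • ((l : G) • v / v) * ((k : G) • v / v) := by
          rw [Subgroup.coe_mul, mul_smul, smul_div', div_mul_div_cancel]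
        rw [e]
        exact mul_mem (hUi k k.2 _ (hl v hv)) (hk v hv)
      inv_mem' := fun {k} hk v hv => by
        have e : ((k⁻¹ : L) : G) • v / v = ((k : G)⁻¹ • ((k : G) • v / v))⁻¹ := by
          rw [Subgroup.coe_inv, smul_div', inv_smul_smul, inv_div]
        rw [e]
        exact inv_mem (hUi _ (inv_mem k.2) _ (hk v hv)) }
  haveI hKn : K.Normal := ⟨fun k hk l v hv => by
    have e : ((l * k * l⁻¹ : L) : G) • v / v =
        (l : G) • ((k : G) • ((l : G)⁻¹ • v) / ((l : G)⁻¹ • v)) := by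
      rw [Subgroup.coe_mul, Subgroup.coe_mul, Subgroup.coe_inv, mul_smul, mul_smul, smul_div',
        smul_inv_smul]
    rw [e]
    exact hUi l l.2 _ (hk _ (hV₁i _ (inv_mem l.2) v hv))⟩
  have hKR : K ≤ R.subgroupOf L := by
    intro x hx
    refine hmin ((K ⊔ A.subgroupOf L).map L.subtype)
      (fun a ha => ⟨⟨a, hAL ha⟩, mem_sup_right ha, rfl⟩) (map_subtype_le _) ?_
      ⟨x, mem_sup_left hx, rfl⟩
    intro e
    have hle : (K ⊔ A.subgroupOf L).map L.subtype ≤ K.map L.subtype ⊔ A := by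
      rw [Subgroup.map_sup]
      exact sup_le_sup_left (map_comap_le _ _) _
    have hKA : K.map L.subtype ⊔ A = L :=
      le_antisymm (sup_le (map_subtype_le _) hAL) (e.ge.trans hle)
    have hPU : P ≤ U := by
      intro v hv
      refine hUL ⟨hv.1, ?_⟩
      have h := S3FreeGeneration.mem_fixMod_sup (U := U) (A := K.map L.subtype) (B := A) (v := v)
        (fun k hk => hUi k (hKA.le hk))
        (by rintro _ ⟨k, hk, rfl⟩; exact hk v hv.1) (hfixA.ge hv).2
      rwa [hKA] at h
    refine hnt ((hsup hgL hgR).ge.trans (sup_le hPU fun v hv => ?_))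
    have h := hUi g hgL _ (hPU (hP' hv))
    rwa [smul_inv_smul] at h
  have hAQ : ∀ a (ha : a ∈ A), (⟨a, hAL ha⟩ : L) ∈ K → a ∈ (Cfsg.pCore 2 L).map L.subtype :=
    fun a ha h => S3FreeGeneration.mem_pCore_of_normal hAL
      (S3FreeGeneration.isPGroup_of_elem hA.elem) hLR hmin hKR ha h
  have hQA : ∀ a ∈ A, a ∈ (Cfsg.pCore 2 L).map L.subtype → ∀ v ∈ V₁, a • v / v ∈ U := by
    intro a ha haQ v hv
    suffices h : V₁ ≤ fixMod U (zpowers a) from h hv a (mem_zpowers a)
    refine (closure_le _).2 ?_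
    rintro _ ⟨l, hl, z, hz, rfl⟩
    have hgen1 : a • (l • z) / (l • z) ∈ U := by
      refine mem_inf.2 ⟨div_mem (hV₁i a (hAL ha) _ (subset_closure ⟨l, hl, z, hz, rfl⟩))
        (subset_closure ⟨l, hl, z, hz, rfl⟩), ?_⟩
      show a • (l • z) / (l • z) ∈ (fix L : Subgroup V)
      by_cases hlR : A ^cj[l⁻¹] ≤ R
      · have h := hZfix _ (inv_mem hl) hlR hz _ ⟨a, ha, rfl⟩
        change (l⁻¹ * a * l⁻¹⁻¹) • z = z at h
        rw [inv_inv, mul_smul, mul_smul, inv_smul_eq_iff] at h
        rw [h, div_self']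
        exact one_mem _
      · have hlR' : ¬ A ^cj[l] ≤ R := by
          intro h
          refine hlR ?_
          have e := S3FreeGeneration.conj_inf_eq hAL hAR hLR hmin hl h
          rintro _ ⟨b, hb, rfl⟩
          obtain ⟨x, hx, hxb⟩ := e.ge ⟨hAL hb, hAR hb⟩
          change l * x * l⁻¹ = b at hxb
          show l⁻¹ * b * l⁻¹⁻¹ ∈ R
          rw [← hxb, show l⁻¹ * (l * x * l⁻¹) * l⁻¹⁻¹ = x by group]
          exact hx.2
        rw [← hgen hl hlR', S3FreeOffender.fix_sup]
        refine ⟨fun b hb => hA.quad b hb a ha _, ?_⟩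
        show a • (l • z) / (l • z) ∈ (fix (A ^cj[l]) : Subgroup V)
        have hn := (mem_normalizer_iff.1 (PLocal.Cores.le_normalizer_map_pCore (p := 2) L
          (inv_mem hl)) a).1 haQ
        rw [inv_inv] at hn
        refine div_mem ?_ (smul_mem_fix_map (hZA hz) l)
        rw [show a • (l • z) = l • ((l⁻¹ * a * l) • z) by rw [mul_smul, mul_smul, smul_inv_smul]]
        exact smul_mem_fix_map (hZA (hZi _ (hQR hn) z hz)) l
    let S : Subgroup G :=
      { carrier := {k | k ∈ L ∧ k • (l • z) / (l • z) ∈ U}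
        one_mem' := ⟨one_mem _, by simp⟩
        mul_mem' := fun {k i} hk hi => ⟨mul_mem hk.1 hi.1, by
          have e : (k * i) • (l • z) / (l • z) =
              k • (i • (l • z) / (l • z)) * (k • (l • z) / (l • z)) := by
            rw [mul_smul, smul_div', div_mul_div_cancel]
          rw [e]
          exact mul_mem (hUi k hk.1 _ hi.2) hk.2⟩
        inv_mem' := fun {k} hk => ⟨inv_mem hk.1, by
          have e : k⁻¹ • (l • z) / (l • z) = (k⁻¹ • (k • (l • z) / (l • z)))⁻¹ := by
            rw [smul_div', inv_smul_smul, inv_div]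
          rw [e]
          exact inv_mem (hUi _ (inv_mem hk.1) _ hk.2)⟩ }
    intro b hb
    exact ((show zpowers a ≤ S from zpowers_le.2 ⟨hAL ha, hgen1⟩) hb).2
  have hnorm : ∀ a ∈ A, (∀ y ∈ L, y * a * y⁻¹ ∈ R) → ∀ v ∈ V₁, a • v / v ∈ U := fun a ha hy =>
    hQA a ha (S3FreeGeneration.mem_pCore_of_normal hAL (S3FreeGeneration.isPGroup_of_elem hA.elem)
      hLR hmin (N := (R.subgroupOf L).normalCore) (normalCore_le _) ha fun y => hy y y.2)
  have hreg : ∀ a ∈ A, ∀ v ∈ V₁, a • v / v ∈ U → v ∉ P → ∀ w ∈ V₁, a • w / w ∈ U :=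
    fun a ha v hv hav hvP => S3FreeGeneration.regular_of hAL hAR hLR hmin hUY hUi hV₁i hnorm hUL
      hsq ha hv hav fun h => hvP (hfixA.le ⟨hv, h⟩)
  obtain ⟨a₀, ha₀, ha₀K⟩ : ∃ a₀ ∈ A, ¬ ∀ v ∈ V₁, a₀ • v / v ∈ U := by
    by_contra hcon
    push Not at hcon
    have hle : V₁ ≤ P := fun v hv => hfixA.le ⟨hv, fun a ha => hcon a ha v hv⟩
    refine hnt fun v hv => (hinf hgL hgR).le ⟨hle hv, hv, ?_⟩
    have h := smul_mem_fix_map (hle (hV₁i _ (inv_mem hgL) v hv)).2 g
    rwa [smul_inv_smul] at h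
  set A' := A ^cj[g] with hA'
  have hA'q : IsQuadOffender V A' := hA.map g
  have hA'L : A' ≤ L := le_sup_right.trans (hgen hgL hgR).le
  set b₀ := g * a₀ * g⁻¹ with hb₀
  have hb₀A : b₀ ∈ A' := ⟨a₀, ha₀, rfl⟩
  have hb₀L : b₀ ∈ L := hA'L hb₀A
  have hb₀P : ∀ v ∈ V₁, b₀ • v / v ∈ V₁ ⊓ fix A' := fun v hv =>
    mem_inf.2 ⟨div_mem (hV₁i _ hb₀L v hv) hv, fun b hb => hA'q.quad b hb _ hb₀A v⟩
  have hb₀g : ∀ v : V, a₀ • (g⁻¹ • v) / (g⁻¹ • v) = g⁻¹ • (b₀ • v / v) := fun v => by
    rw [hb₀, smul_div', mul_smul, mul_smul, inv_smul_smul]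
  -- the part of `O₂(L)` trivial on the factor
  set Km := K.map L.subtype with hKm
  have hKmem : ∀ {n : G}, n ∈ Km → ∀ v ∈ V₁, n • v / v ∈ U := by
    rintro _ ⟨k, hk, rfl⟩ v hv
    exact hk v hv
  have hKconj : ∀ {l n : G}, l ∈ L → n ∈ Km → l * n * l⁻¹ ∈ Km := by
    rintro l _ hl ⟨k, hk, rfl⟩
    exact ⟨⟨l, hl⟩ * k * ⟨l, hl⟩⁻¹, hKn.conj_mem k hk _, rfl⟩
  set N₀ := (Cfsg.pCore 2 L).map L.subtype ⊓ Km with hN₀
  have hN₀L : N₀ ≤ L := inf_le_right.trans (map_subtype_le _)
  have hN₀conj : ∀ {l n : G}, l ∈ L → n ∈ N₀ → l * n * l⁻¹ ∈ N₀ := fun {l n} hl hn =>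
    ⟨(mem_normalizer_iff.1 (PLocal.Cores.le_normalizer_map_pCore (p := 2) L hl) n).1 hn.1,
      hKconj hl hn.2⟩
  have hψmul : ∀ n ∈ N₀, ∀ m ∈ N₀, ∀ v ∈ V₁, (n * m) • v / v = n • v / v * (m • v / v) := by
    intro n hn m hm v hv
    have e : (n * m) • v / v = n • (m • v / v) * (n • v / v) := by
      rw [mul_smul, smul_div', div_mul_div_cancel]
    rw [e, hUfix _ (hKmem hm.2 v hv) n (hN₀L hn), mul_comm]
  have hψL : ∀ l ∈ L, ∀ n ∈ N₀, ∃ n' ∈ N₀, ∀ v ∈ V₁, n • (l • v / v) / (l • v / v) = n' • v / v := by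
    intro l hl n hn
    have h1 : l⁻¹ * n * l ∈ N₀ := by simpa using hN₀conj (inv_mem hl) hn
    refine ⟨_, mul_mem h1 (inv_mem hn), fun v hv => ?_⟩
    have h2 : n • v / v * (n⁻¹ • v / v) = 1 := by
      rw [← hψmul n hn _ (inv_mem hn) v hv, mul_inv_cancel, one_smul, div_self']
    have h3 : (l⁻¹ * n * l) • v / v = n • (l • v) / (l • v) := by
      have h := hUfix _ (hKmem h1.2 v hv) l hl
      rw [← h, smul_div', mul_smul, mul_smul, smul_inv_smul]
    rw [hψmul _ h1 _ (inv_mem hn) v hv, h3, eq_inv_of_mul_eq_one_right h2, smul_div',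
      div_div_div_comm, div_eq_mul_inv (n • (l • v) / (l • v))]
  -- linear algebra
  haveI : Fact (Nat.Prime 2) := ⟨Nat.prime_two⟩
  set UP := U.subgroupOf P with hUP'
  letI : CommGroup A := { (inferInstance : Group A) with
    mul_comm := fun a b => Subtype.ext (hA.elem.1 a a.2 b b.2) }
  set BK := Km.subgroupOf A with hBK
  have hM2 : ∀ x : Additive (P ⧸ UP), (2 : ℕ) • x = 0 := by
    intro x
    obtain ⟨p, hp⟩ := QuotientGroup.mk'_surjective UP x.toMul
    rw [← ofMul_toMul x, ← hp, ← ofMul_pow, ← map_pow, pow_two,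
      show p * p = 1 from Subtype.ext (hexp (p : V)), map_one, ofMul_one]
  have hN2 : ∀ x : Additive V, (2 : ℕ) • x = 0 := fun x => by
    rw [← ofMul_toMul x, ← ofMul_pow, pow_two, hexp, ofMul_one]
  have hΛ2 : ∀ x : Additive (A ⧸ BK), (2 : ℕ) • x = 0 := by
    intro x
    obtain ⟨a, ha⟩ := QuotientGroup.mk'_surjective BK x.toMul
    rw [← ofMul_toMul x, ← ha, ← ofMul_pow, ← map_pow, pow_two,
      show a * a = 1 from Subtype.ext (hA.elem.2 a a.2), map_one, ofMul_one]
  letI : Module (ZMod 2) (Additive (P ⧸ UP)) := AddCommGroup.zmodModule hM2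
  letI : Module (ZMod 2) (Additive V) := AddCommGroup.zmodModule hN2
  letI : Module (ZMod 2) (Additive (A ⧸ BK)) := AddCommGroup.zmodModule hΛ2
  haveI : FiniteDimensional (ZMod 2) (Additive (P ⧸ UP)) := Module.Finite.of_finite
  haveI : FiniteDimensional (ZMod 2) (Additive V) := Module.Finite.of_finite
  haveI : FiniteDimensional (ZMod 2) (Additive (A ⧸ BK)) := Module.Finite.of_finite
  set π := QuotientGroup.mk' UP with hπ
  let ψ : N₀ → (P ⧸ UP →* V) := fun n => QuotientGroup.lift UP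
    (MonoidHom.mk' (fun p : P => (n : G) • (p : V) / p) fun p q => by
      rw [Subgroup.coe_mul, smul_mul', mul_div_mul_comm])
    fun u hu => MonoidHom.mem_ker.2 (by
      show (n : G) • (u : V) / u = 1
      rw [hUfix _ (mem_subgroupOf.1 hu) n (hN₀L n.2), div_self'])
  let eMap : N₀ →* Multiplicative (Additive (P ⧸ UP) →ₗ[ZMod 2] Additive V) := MonoidHom.mk'
    (fun n => Multiplicative.ofAdd ((MonoidHom.toAdditive (ψ n)).toZModLinearMap 2)) fun n m => by
      refine congrArg Multiplicative.ofAdd (LinearMap.ext fun x => ?_)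
      obtain ⟨p, hp⟩ := QuotientGroup.mk'_surjective UP x.toMul
      rw [← ofMul_toMul x, ← hp]
      exact congrArg Additive.ofMul (hψmul n n.2 m m.2 p (mem_inf.1 p.2).1)
  set E := AddSubgroup.toZModSubmodule 2 (MonoidHom.toAdditiveLeft eMap).range with hE
  have hmemE : ∀ {e}, e ∈ E ↔ ∃ n : N₀, ∀ p : P,
      e (Additive.ofMul (π p)) = Additive.ofMul ((n : G) • (p : V) / p) := by
    intro e
    constructor
    · rintro ⟨n, rfl⟩
      exact ⟨n.toMul, fun p => rfl⟩
    · rintro ⟨n, hn⟩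
      refine ⟨Additive.ofMul n, LinearMap.ext fun x => ?_⟩
      obtain ⟨p, hp⟩ := QuotientGroup.mk'_surjective UP x.toMul
      rw [← ofMul_toMul x, ← hp, hn p]
      rfl
  let yv : A → P → P := fun a p =>
    ⟨(a : G) • (b₀ • (p : V) / p) / (b₀ • (p : V) / p),
      hcomA a a.2 _ (mem_inf.1 (hb₀P p (mem_inf.1 p.2).1)).1⟩
  let y : A → (P ⧸ UP →* P ⧸ UP) := fun a => QuotientGroup.lift UP
    (MonoidHom.mk' (fun p : P => π (yv a p)) fun p q => by
      rw [← map_mul]
      refine congrArg π (Subtype.ext ?_)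
      simp only [yv, Subgroup.coe_mul, smul_mul', mul_div_mul_comm])
    fun u hu => MonoidHom.mem_ker.2 (by
      show π (yv a u) = 1
      rw [show yv a u = 1 from Subtype.ext (by
        simp only [yv, hUfix _ (mem_subgroupOf.1 hu) b₀ hb₀L, div_self', smul_one, Subgroup.coe_one]),
        map_one])
  let yMap : A →* Multiplicative (Module.End (ZMod 2) (Additive (P ⧸ UP))) := MonoidHom.mk'
    (fun a => Multiplicative.ofAdd ((MonoidHom.toAdditive (y a)).toZModLinearMap 2)) fun a a' => by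
      refine congrArg Multiplicative.ofAdd (LinearMap.ext fun x => ?_)
      obtain ⟨p, hp⟩ := QuotientGroup.mk'_surjective UP x.toMul
      rw [← ofMul_toMul x, ← hp]
      refine congrArg Additive.ofMul ((congrArg π (Subtype.ext ?_)).trans (map_mul π _ _))
      set w := b₀ • (p : V) / p
      show ((a : G) * (a' : G)) • w / w = (a : G) • w / w * ((a' : G) • w / w)
      rw [mul_smul, ← div_mul_div_cancel ((a : G) • ((a' : G) • w)) ((a : G) • w) w, ← smul_div',
        hA.quad a a.2 a' a'.2 w, mul_comm]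
  have hBKker : BK ≤ yMap.ker := by
    intro a ha
    refine MonoidHom.mem_ker.2 (congrArg Multiplicative.ofAdd (LinearMap.ext fun x => ?_))
    obtain ⟨p, hp⟩ := QuotientGroup.mk'_surjective UP x.toMul
    rw [← ofMul_toMul x, ← hp]
    refine congrArg Additive.ofMul ((QuotientGroup.eq_one_iff _).2 (mem_subgroupOf.2 ?_))
    exact hKmem (mem_subgroupOf.1 ha) _ (mem_inf.1 (hb₀P p (mem_inf.1 p.2).1)).1
  let Y : Additive (A ⧸ BK) →ₗ[ZMod 2] Module.End (ZMod 2) (Additive (P ⧸ UP)) :=
    (MonoidHom.toAdditiveLeft (QuotientGroup.lift BK yMap hBKker)).toZModLinearMap 2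
  have hcases : ∀ x : Additive (A ⧸ BK), x ≠ 0 → ∃ a : A,
      x = Additive.ofMul (QuotientGroup.mk' BK a) ∧ ¬ ∀ v ∈ V₁, (a : G) • v / v ∈ U := by
    intro x hx
    obtain ⟨a, ha⟩ := QuotientGroup.mk'_surjective BK x.toMul
    refine ⟨a, by rw [ha, ofMul_toMul], fun h => hx ?_⟩
    rw [← ofMul_toMul x, ← ha, QuotientGroup.mk'_apply,
      (QuotientGroup.eq_one_iff a).2 (mem_subgroupOf.2 (show (a : G) ∈ Km from mem_map.2 ⟨⟨a, hAL a.2⟩, h, rfl⟩)), ofMul_one]
  -- no kernel
  have hker : ∀ a : A, (¬ ∀ v ∈ V₁, (a : G) • v / v ∈ U) → ∀ p : P,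
      ((yv a p : P) : V) ∈ U → (p : V) ∈ U := by
    intro a ha p hp
    have hv₀ := hb₀P p (mem_inf.1 p.2).1
    set v₀ := b₀ • (p : V) / p with hv₀'
    have h1 : v₀ ∈ P := by
      by_contra h
      exact ha (hreg a a.2 v₀ (mem_inf.1 hv₀).1 hp h)
    have h2 : v₀ ∈ U := (hinf hgL hgR).le ⟨h1, hv₀⟩
    have h3 : g⁻¹ • (p : V) ∈ P := by
      by_contra h
      refine ha₀K (hreg a₀ ha₀ _ (hV₁i _ (inv_mem hgL) _ (mem_inf.1 p.2).1) ?_ h)
      rw [hb₀g]
      exact hUi _ (inv_mem hgL) _ h2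
    have h4 := smul_mem_fix_map h3.2 g
    rw [smul_inv_smul] at h4
    exact (hinf hgL hgR).le ⟨p.2, (mem_inf.1 p.2).1, h4⟩
  have hinj : ∀ x, x ≠ 0 → ∀ v, Y x v = 0 → v = 0 := by
    intro x hx v hv
    obtain ⟨a, rfl, ha⟩ := hcases x hx
    obtain ⟨p, hp⟩ := QuotientGroup.mk'_surjective UP v.toMul
    rw [← ofMul_toMul v, ← hp] at hv ⊢
    have h : π (yv a p) = 1 := congrArg Additive.toMul hv
    rw [QuotientGroup.mk'_apply, (QuotientGroup.eq_one_iff p).2 (mem_subgroupOf.2 (hker a ha p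
      (mem_subgroupOf.1 ((QuotientGroup.eq_one_iff _).1 h)))), ofMul_one]
  have hfix : ∀ x, x ≠ 0 → ∀ v, Y x v = v → v = 0 := by
    intro x hx v hv
    obtain ⟨a, rfl, ha⟩ := hcases x hx
    obtain ⟨p, hp⟩ := QuotientGroup.mk'_surjective UP v.toMul
    rw [← ofMul_toMul v, ← hp] at hv ⊢
    have h : π (yv a p) = π p := congrArg Additive.toMul hv
    have hm : ((yv a p : P) : V) / p ∈ U :=
      mem_subgroupOf.1 ((QuotientGroup.eq_iff_div_mem).1 h)
    by_contra hne
    have hpU : (p : V) ∉ U := fun hpU => hne (by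
      rw [QuotientGroup.mk'_apply, (QuotientGroup.eq_one_iff p).2 (mem_subgroupOf.2 hpU), ofMul_one])
    set v₀ := b₀ • (p : V) / p with hv₀'
    have hv₀ := hb₀P p (mem_inf.1 p.2).1
    have hv₀p : ¬ v₀ / (p : V) ∈ U := by
      intro hd
      have h1 : v₀ ∈ P := by
        have := mul_mem (hUP hd) p.2
        rwa [div_mul_cancel] at this
      have h2 : v₀ ∈ U := (hinf hgL hgR).le ⟨h1, hv₀⟩
      have := mul_mem (inv_mem hd) h2
      rw [inv_div, div_mul_cancel] at this
      exact hpU this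
    have h3 := S3FreeGeneration.three_dvd_of_swap (a := (a : G)) (b := b₀) (v := v₀) (w := (p : V))
      hexp hUi (hAL a.2) hb₀L
      (by rw [(mem_inf.1 p.2).2 a a.2, div_self']; exact one_mem _)
      (by rw [(mem_inf.1 hv₀).2 b₀ hb₀A, div_self']; exact one_mem _)
      (by rwa [← div_div])
      (by rw [← div_div, ← hv₀', div_self']; exact one_mem _) hv₀p
    exact S3FreeGeneration.false_of_three_dvd hno (hA.elem.2 a a.2) (hA'q.elem.2 b₀ hb₀A) h3
  have hEY : ∀ x, ∀ e ∈ E, e.comp (Y x) ∈ E := by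
    intro x e he
    obtain ⟨n, hn⟩ := hmemE.1 he
    obtain ⟨a, ha⟩ := QuotientGroup.mk'_surjective BK x.toMul
    obtain ⟨n₁, hn₁, h1⟩ := hψL _ (hAL a.2) n n.2
    obtain ⟨n₂, hn₂, h2⟩ := hψL _ hb₀L n₁ hn₁
    refine hmemE.2 ⟨⟨n₂, hn₂⟩, fun p => ?_⟩
    rw [← ofMul_toMul x, ← ha]
    refine (hn (yv a p)).trans (congrArg Additive.ofMul ?_)
    show (n : G) • ((yv a p : P) : V) / ((yv a p : P) : V) = n₂ • (p : V) / p
    rw [h1 _ (mem_inf.1 (hb₀P p (mem_inf.1 p.2).1)).1, h2 _ (mem_inf.1 p.2).1]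
  -- the bound
  have hbound : ∀ S : Submodule (ZMod 2) (Additive (P ⧸ UP)), Module.finrank (ZMod 2) S ≤
      Module.finrank (ZMod 2) (DeficitPolynomial.restr E S) +
        Module.finrank (ZMod 2) (Additive (A ⧸ BK)) := by
    intro S
    haveI : Finite (DeficitPolynomial.restr E S) := Module.finite_of_finite (ZMod 2)
    refine (Nat.pow_le_pow_iff_right (le_refl 2)).1 ?_
    rw [pow_add, ← natCard_eq_two_pow, ← natCard_eq_two_pow, ← natCard_eq_two_pow]
    set Ss := AddSubgroup.toSubgroup' S.toAddSubgroup with hSs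
    set S₀ := (Ss.comap π).map P.subtype with hS₀
    have hcS : Nat.card S₀ = Nat.card U * Nat.card S := by
      rw [hS₀, card_map_of_injective P.subtype_injective,
        PLocal.Cores.card_comap_eq Ss (QuotientGroup.mk'_surjective UP), QuotientGroup.ker_mk']
      congr 1
      exact Nat.card_congr (subgroupOfEquivOfLe hUP).toEquiv
    set B' := A' ⊓ Km with hB'
    have hB'N : B' ≤ N₀ := by
      refine le_inf (fun b hb => ?_) inf_le_right
      obtain ⟨⟨a, ha, rfl⟩, hbK⟩ := hb
      change g * a * g⁻¹ ∈ Km at hbK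
      have h := hKconj (inv_mem hgL) hbK
      rw [inv_inv, show g⁻¹ * (g * a * g⁻¹) * g = a by group] at h
      obtain ⟨k, hk, hka⟩ := h
      change (k : G) = a at hka
      subst hka
      exact (mem_normalizer_iff.1 (PLocal.Cores.le_normalizer_map_pCore (p := 2) L hgL) _).1
        (hAQ _ ha hk)
    have hcB : Nat.card B' = Nat.card BK := by
      have hKg : Km ^cj[g] = Km := by
        refine eq_of_le_of_card_ge ?_ (card_map_of_injective (MulAut.conj g).injective).ge
        rintro _ ⟨k, hk, rfl⟩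
        exact hKconj hgL hk
      conv_lhs => rw [hB', hA', ← hKg]
      rw [← map_inf _ _ _ (MulAut.conj g).injective,
        card_map_of_injective (MulAut.conj g).injective, hBK,
        ← card_map_of_injective (f := A.subtype) A.subtype_injective, subgroupOf_map_subtype,
        inf_comm]
    let f : B' →* Multiplicative (DeficitPolynomial.restr E S) := MonoidHom.mk'
      (fun b => Multiplicative.ofAdd ⟨LinearMap.lcomp (ZMod 2) (Additive V) S.subtype
        (eMap ⟨b, hB'N b.2⟩).toAdd, ⟨_, ⟨Additive.ofMul ⟨b, hB'N b.2⟩, rfl⟩, rfl⟩⟩) fun b c => by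
        refine congrArg Multiplicative.ofAdd (Subtype.ext ?_)
        change LinearMap.lcomp (ZMod 2) (Additive V) S.subtype
          (eMap (⟨b, hB'N b.2⟩ * ⟨c, hB'N c.2⟩)).toAdd = _
        rw [map_mul, toAdd_mul, map_add]
        rfl
    set D := f.ker.map B'.subtype with hD
    have hDA : D ≤ A' := (map_subtype_le _).trans inf_le_left
    have hDfix : S₀ ≤ fix D := by
      rintro _ ⟨p, hp, rfl⟩ _ ⟨b, hb, rfl⟩
      have h := congrArg Subtype.val (congrArg Multiplicative.toAdd (MonoidHom.mem_ker.1 hb))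
      have h' := LinearMap.congr_fun h (⟨Additive.ofMul (π p), hp⟩ : S)
      exact div_eq_one.1 (congrArg Additive.toMul h')
    have hinter : S₀ ⊓ fix A' ≤ U := fun v hv => (hinf hgL hgR).le
      ⟨(map_subtype_le _ : S₀ ≤ P) hv.1, (mem_inf.1 ((map_subtype_le _ : S₀ ≤ P) hv.1)).1, hv.2⟩
    have h1 : Nat.card S₀ * Nat.card (fix A' : Subgroup V) ≤
        Nat.card (fix D : Subgroup V) * Nat.card U :=
      (PLocal.Replacement.card_mul_card_le S₀ (fix A')).trans (Nat.mul_le_mul
        (card_le_of_le (sup_le hDfix (S3FreeOffender.fix_anti hDA))) (card_le_of_le hinter))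
    have h2 : Nat.card D * Nat.card S ≤ Nat.card A := by
      refine Nat.le_of_mul_le_mul_right ?_
        (Nat.mul_pos (Nat.card_pos (α := U)) (Nat.card_pos (α := (fix A' : Subgroup V))))
      calc Nat.card D * Nat.card S * (Nat.card U * Nat.card (fix A' : Subgroup V))
          = Nat.card D * (Nat.card S₀ * Nat.card (fix A' : Subgroup V)) := by rw [hcS]; ring
        _ ≤ Nat.card D * (Nat.card (fix D : Subgroup V) * Nat.card U) := Nat.mul_le_mul_left _ h1
        _ = Nat.card D * Nat.card (fix D : Subgroup V) * Nat.card U := by ring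
        _ ≤ Nat.card A' * Nat.card (fix A' : Subgroup V) * Nat.card U :=
          Nat.mul_le_mul_right _ (hA'q.best D hDA)
        _ = _ := by rw [hA', card_map_of_injective (MulAut.conj g).injective]; ring
    have h3 : Nat.card B' ≤ Nat.card D * Nat.card (DeficitPolynomial.restr E S) := by
      rw [hD, card_map_of_injective B'.subtype_injective, mul_comm,
        card_eq_card_quotient_mul_card_subgroup f.ker]
      refine Nat.mul_le_mul_right _ ?_
      exact (Nat.card_le_card_of_injective _ (QuotientGroup.kerLift_injective f)).trans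
        (Nat.card_congr Multiplicative.toAdd).le
    refine Nat.le_of_mul_le_mul_left ?_ (Nat.card_pos (α := D))
    calc Nat.card D * Nat.card S ≤ Nat.card A := h2
      _ = Nat.card (A ⧸ BK) * Nat.card BK := card_eq_card_quotient_mul_card_subgroup BK
      _ ≤ Nat.card (A ⧸ BK) * (Nat.card D * Nat.card (DeficitPolynomial.restr E S)) :=
        Nat.mul_le_mul_left _ (hcB.ge.trans h3)
      _ = Nat.card D * (Nat.card (DeficitPolynomial.restr E S) * Nat.card (A ⧸ BK)) := by ring
  -- the image of `Z`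
  set S := AddSubgroup.toZModSubmodule 2 (Subgroup.toAddSubgroup ((Z.subgroupOf P).map π)) with hS
  have hmain := DeficitPolynomial.finrank_le_restr (ZMod.card 2) E Y hinj hfix hEY hbound S
  haveI : Finite (DeficitPolynomial.restr E S) := Module.finite_of_finite (ZMod 2)
  replace hmain := Nat.pow_le_pow_right (show 0 < 2 by norm_num) hmain
  rw [← natCard_eq_two_pow, ← natCard_eq_two_pow] at hmain
  set F : N₀ → (Z → V) := fun n z => (n : G) • (z : V) with hF
  have hr : Nat.card (DeficitPolynomial.restr E S) ≤ Nat.card (Set.range F) := by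
    have hex : ∀ e : DeficitPolynomial.restr E S, ∃ n : N₀, ∀ (p : P) (hp : Additive.ofMul (π p) ∈ S),
        (e : S →ₗ[ZMod 2] Additive V) ⟨_, hp⟩ = Additive.ofMul ((n : G) • (p : V) / p) := by
      rintro ⟨_, e, he, rfl⟩
      obtain ⟨n, hn⟩ := hmemE.1 he
      exact ⟨n, fun p _ => hn p⟩
    choose n hn using hex
    refine Nat.card_le_card_of_injective (fun e => (⟨F (n e), n e, rfl⟩ : Set.range F)) ?_
    intro e e' h
    refine Subtype.ext (LinearMap.ext ?_)
    rintro ⟨x, hx⟩
    obtain ⟨q, hq, hqx⟩ : ∃ q : P, (q : V) ∈ Z ∧ Additive.ofMul (π q) = x := by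
      obtain ⟨q, hq, hqx⟩ := hx
      exact ⟨q, hq, congrArg Additive.ofMul hqx⟩
    subst hqx
    have h' : (n e : G) • (q : V) = (n e' : G) • (q : V) :=
      congrFun (congrArg Subtype.val h) ⟨q, hq⟩
    rw [hn e q hx, hn e' q hx, h']
  have hcZ : Nat.card Z = Nat.card ↥(Z ⊓ U) * Nat.card S := by
    rw [← Nat.card_congr (subgroupOfEquivOfLe hZP).toEquiv,
      PLocal.Cores.card_eq_card_inf_ker_mul_card_map (Z.subgroupOf P) π, QuotientGroup.ker_mk']
    congr 1
    rw [← card_map_of_injective (f := P.subtype) P.subtype_injective,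
      map_inf _ _ _ P.subtype_injective, subgroupOf_map_subtype, subgroupOf_map_subtype,
      inf_eq_left.2 hZP, inf_eq_left.2 hUP]
  have hZU : ¬ Z ≤ U := fun h => hLR fun l hl => hZstab l fun z hz => (h hz).2 l hl
  have hle : Nat.card Z ≤ Nat.card (Set.range F) * Nat.card ↥(Z ⊓ U) := by
    rw [hcZ, mul_comm]
    exact Nat.mul_le_mul_right _ (hmain.trans hr)
  refine ⟨N₀, inf_le_left.trans hQR, (PLocal.Cores.isPGroup_pCore.map _).to_le inf_le_left, fun a ha b hb z hz => ?_, fun a ha z hz => ?_, ?_, ?_⟩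
  · have h1 := hψmul a ha b hb z (hZV₁ hz)
    have h2 := hψmul b hb a ha z (hZV₁ hz)
    rw [mul_comm, ← h1] at h2
    exact div_left_inj.1 h2.symm
  · have h1 := hψmul a ha a ha z (hZV₁ hz)
    rw [hexp, div_eq_one] at h1
    exact h1
  · by_contra hcon
    push Not at hcon
    refine hZU (inf_eq_left.1 (eq_of_le_of_card_ge inf_le_left (hle.trans ?_)))
    have : Subsingleton (Set.range F) := ⟨by
      rintro ⟨_, n, rfl⟩ ⟨_, m, rfl⟩
      exact Subtype.ext (funext fun z => by simp only [hF, hcon n n.2 z z.2, hcon m m.2 z z.2])⟩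
    exact (Nat.mul_le_mul_right _ ((Finite.card_le_one_iff_subsingleton (α := Set.range F)).2 this)).trans
      (one_mul _).le
  · exact hle.trans (Nat.mul_le_mul_left _ (card_le_of_le (inf_le_inf_left Z fun v hv n hn =>
      hUfix v hv n (hN₀L hn))))

end Local

/-- No involution inverts an element of order three. -/
theorem false_of_inverts {H : Type u} [Group H] [Finite H]
    (hS3 : ¬ Cfsg.Involves (Equiv.Perm (Fin 3)) H) (a c : H) (ha : a * a = 1) (hc : c ^ 3 = 1)
    (hc1 : c ≠ 1) (hac : a * c * a = c⁻¹) : False := by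
  have ha1 : a ≠ 1 := by
    rintro rfl
    rw [one_mul, mul_one] at hac
    refine hc1 ?_
    rw [pow_succ, pow_two] at hc
    nth_rewrite 2 [hac] at hc
    rwa [mul_inv_cancel, one_mul] at hc
  exact hS3 (Fusion.LocalModels.involves_of_injective (⊤ : Subgroup H).subtype Subtype.val_injective
    (Cfsg.Agent.S3755.three_section (mem_top a) (mem_top c) ha ha1 hc hc1 hac))

theorem no_offender_aux : ∀ (n : ℕ) (G : Type u) [Group G] [Finite G] (V : Type v) [CommGroup V]
    [Finite V] [MulDistribMulAction G V], Nat.card G + Nat.card V = n →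
    (∀ v : V, v * v = 1) → (∀ g : G, (∀ v : V, g • v = v) → g = 1) → Cfsg.pCore 2 G = ⊥ →
    ¬ Cfsg.Involves (Equiv.Perm (Fin 3)) G → ∀ A : Subgroup G, IsElem A → A ≠ ⊥ →
    ¬ Nat.card V ≤ Nat.card A * Nat.card (fix A : Subgroup V) := by
  intro n
  induction n using Nat.strong_induction_on with
  | _ n ih =>
  intro G _ _ V _ _ _ hn hexp hfaith hO2 hS3 A₁ hA₁ hne₁ hoff₁
  subst hn
  classical
  haveI : Fact (Nat.Prime 2) := ⟨Nat.prime_two⟩
  obtain ⟨A₀, hA₀⟩ := exists_quadOffender hexp hA₁ hne₁ hoff₁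
  obtain ⟨T, hT⟩ := (S3FreeGeneration.isPGroup_of_elem hA₀.elem).exists_le_sylow
  set J := offSup V (T : Subgroup G) with hJ
  set N := normalizer (J : Set G) with hN
  have hJne : J ≠ ⊥ := fun e => hA₀.ne_bot
    (le_bot_iff.1 (e ▸ S3FreeGeneration.le_offSup hA₀ hT))
  have hTN : (T : Subgroup G) ≤ N := fun t ht => S3FreeGeneration.mem_normalizer_of_conj (by
    rw [hJ, ← S3FreeGeneration.offSup_map,
      S3FreeGeneration.conj_eq_of_mem_normalizer (le_normalizer ht)])
  set Z : Subgroup V := closure {v | ∃ n ∈ N, ∃ z ∈ (fix (T : Subgroup G) : Subgroup V), n • z = v}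
    with hZ
  have hTZ : (fix (T : Subgroup G) : Subgroup V) ≤ Z := fun z hz =>
    subset_closure ⟨1, one_mem _, z, hz, one_smul G z⟩
  have hZJ : Z ≤ fix J := (closure_le _).2 (by
    rintro _ ⟨n, hn, z, hz, rfl⟩ j hj
    have hj' := (mem_normalizer_iff''.1 hn j).1 hj
    rw [show j = n * (n⁻¹ * j * n) * n⁻¹ by group, mul_smul, mul_smul, inv_smul_smul,
      hz _ (S3FreeGeneration.offSup_le _ hj')])
  have hZne : Z ≠ ⊤ := by
    intro e
    exact hJne ((eq_bot_iff_forall _).2 fun j hj =>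
      hfaith j fun v => hZJ (e ▸ mem_top v) j hj)
  let R : Subgroup G :=
    { carrier := {g | ∀ z, z ∈ Z ↔ g • z ∈ Z}
      one_mem' := fun z => by rw [one_smul]
      mul_mem' := fun {g k} hg hk z => by rw [mul_smul, ← hg, ← hk]
      inv_mem' := fun {g} hg z => by rw [hg (g⁻¹ • z), smul_inv_smul] }
  have hgenZ : ∀ n ∈ N, Z ≤ Z.comap (S3FreeOffender.act n) := fun n hn => (closure_le _).2 (by
    rintro _ ⟨m, hm, z, hz, rfl⟩
    exact subset_closure ⟨n * m, mul_mem hn hm, z, hz, mul_smul n m z⟩)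
  have hNR : N ≤ R := fun n hn z =>
    ⟨fun h => hgenZ n hn h, fun h => by simpa using hgenZ n⁻¹ (inv_mem hn) h⟩
  have hTR : (T : Subgroup G) ≤ R := hTN.trans hNR
  have hoffJ : ∀ {A : Subgroup G}, IsQuadOffender V A → A ≤ (T : Subgroup G) →
      Z ≤ (fix A : Subgroup V) := fun hA hAT =>
    hZJ.trans (S3FreeOffender.fix_anti (S3FreeGeneration.le_offSup hA hAT))
  by_cases hR : R = ⊤
  · -- `Z` is invariant
    have hGi : ∀ (g : G) (z : V), z ∈ Z → g • z ∈ Z := fun g z hz =>
      ((show g ∈ R from hR ▸ mem_top g) z).1 hz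
    let C : Subgroup G :=
      { carrier := {g | ∀ z ∈ Z, g • z = z}
        one_mem' := fun z _ => one_smul G z
        mul_mem' := fun {g k} hg hk z hz => by rw [mul_smul, hk z hz, hg z hz]
        inv_mem' := fun {g} hg z hz => by rw [inv_smul_eq_iff, hg z hz] }
    haveI hCn : C.Normal := ⟨fun c hc g z hz => by
      rw [mul_smul, mul_smul, hc _ (hGi g⁻¹ z hz), smul_inv_smul]⟩
    have hA₀C : A₀ ≤ C := fun a ha z hz => hoffJ hA₀ hT hz a ha
    by_cases hC : C = ⊤
    · -- factor out the fixed points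
      set F : Subgroup V := fix (⊤ : Subgroup G) with hF
      have hZF : Z ≤ F := fun z hz g _ => (show g ∈ C from hC ▸ mem_top g) z hz
      letI : MulDistribMulAction G (V ⧸ F) :=
        { smul := fun g => QuotientGroup.map F F (S3FreeOffender.act g) fun u hu => by
            show g • u ∈ F
            rw [hu g (mem_top g)]
            exact hu
          one_smul := fun x => by
            induction x using QuotientGroup.induction_on with
            | _ v => exact congrArg _ (one_smul G v)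
          mul_smul := fun g k x => by
            induction x using QuotientGroup.induction_on with
            | _ v => exact congrArg _ (mul_smul g k v)
          smul_mul := fun g x y => map_mul _ x y
          smul_one := fun g => map_one _ }
      have hmk : ∀ (g : G) (v : V), g • (v : V ⧸ F) = ((g • v : V) : V ⧸ F) := fun g v => rfl
      have hcard : Nat.card (V ⧸ F) * Nat.card F = Nat.card V :=
        (card_eq_card_quotient_mul_card_subgroup F).symm
      have hF1 : 1 < Nat.card F := by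
        haveI : Nontrivial V := by
          by_contra h
          rw [not_nontrivial_iff_subsingleton] at h
          exact hne₁ ((eq_bot_iff_forall _).2 fun a _ => hfaith a fun v => Subsingleton.elim _ _)
        obtain ⟨v, hv⟩ := exists_ne (1 : V)
        have h2 : 2 ∣ Nat.card V := by
          rw [← orderOf_eq_prime (p := 2) (by rw [pow_two, hexp]) hv]
          exact orderOf_dvd_natCard v
        obtain ⟨w, hw, hw1⟩ := T.2.exists_fixed_point_of_prime_dvd_card_of_fixed_point V h2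
          (show (1 : V) ∈ MulAction.fixedPoints (T : Subgroup G) V from fun t => smul_one (t : G))
        have hwF : w ∈ F := hZF (hTZ fun t ht => hw ⟨t, ht⟩)
        exact Finite.one_lt_card_iff_nontrivial.2 ⟨⟨⟨w, hwF⟩, 1, fun e => hw1 (congrArg Subtype.val e).symm⟩⟩
      have hlt : Nat.card G + Nat.card (V ⧸ F) < Nat.card G + Nat.card V := by
        have : Nat.card (V ⧸ F) * 2 ≤ Nat.card V := hcard ▸ Nat.mul_le_mul_left _ hF1
        have := Nat.card_pos (α := V ⧸ F)
        omega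
      refine ih _ hlt G (V ⧸ F) rfl ?_ ?_ hO2 hS3 A₁ hA₁ hne₁ ?_
      · intro x
        induction x using QuotientGroup.induction_on with
        | _ v => rw [← QuotientGroup.mk_mul, hexp, QuotientGroup.mk_one]
      · intro g hg
        let C' : Subgroup G :=
          { carrier := {g | ∀ x : V ⧸ F, g • x = x}
            one_mem' := fun x => one_smul G x
            mul_mem' := fun {g k} hg hk x => by rw [mul_smul, hk, hg]
            inv_mem' := fun {g} hg x => by rw [inv_smul_eq_iff, hg] }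
        haveI : C'.Normal := ⟨fun c hc g x => by rw [mul_smul, mul_smul, hc, smul_inv_smul]⟩
        have hp : IsPGroup 2 C' := fun c => ⟨1, Subtype.ext (hfaith _ fun v => by
          have hm : (c : G) • v / v ∈ F :=
            (QuotientGroup.eq_iff_div_mem).1 (c.2 (v : V ⧸ F))
          have h2 : (c : G) • ((c : G) • v / v) = (c : G) • v / v := hm _ (mem_top _)
          rw [pow_one, pow_two, Subgroup.coe_mul, mul_smul]
          have e : (c : G) • v = v * ((c : G) • v / v) := by rw [mul_div_cancel]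
          rw [e, smul_mul', h2, e, mul_assoc, ← e, hexp, mul_one])⟩
        exact mem_bot.1 (hO2 ▸ PLocal.Cores.le_pCore hp (show g ∈ C' from hg))
      · set π := QuotientGroup.mk' F with hπ
        have hle : (fix A₁ : Subgroup V).map π ≤ fix A₁ := by
          rintro _ ⟨v, hv, rfl⟩ a ha
          exact (hmk a v).trans (congrArg _ (hv a ha))
        have h1 := PLocal.Cores.card_eq_card_inf_ker_mul_card_map (fix A₁ : Subgroup V) π
        rw [hπ, QuotientGroup.ker_mk', inf_eq_right.2 (S3FreeOffender.fix_anti le_top), ← hπ] at h1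
        refine Nat.le_of_mul_le_mul_right ?_ (Nat.card_pos (α := F))
        rw [hcard]
        refine hoff₁.trans ?_
        rw [h1, mul_assoc, mul_comm (Nat.card F)]
        exact Nat.mul_le_mul_left _ (Nat.mul_le_mul_right _ (card_le_of_le hle))
    · have hCfix : ∀ B : Subgroup C, (fix B : Subgroup V) = fix (B.map C.subtype) := fun B => by
        ext v
        exact ⟨fun hv => by rintro _ ⟨c, hc, rfl⟩; exact hv c hc, fun hv c hc => hv _ ⟨c, hc, rfl⟩⟩
      have hlt : Nat.card C + Nat.card V < Nat.card G + Nat.card V :=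
        Nat.add_lt_add_right (lt_of_le_of_ne (Subgroup.card_le_card_group C)
          fun e => hC (Subgroup.eq_top_of_card_eq C e)) _
      obtain ⟨A, hA⟩ : ∃ A : Subgroup G, IsQuadOffender V A ∧ A ≤ C ∧
          Nat.card V ≤ Nat.card A * Nat.card (fix A : Subgroup V) := by
        refine ⟨A₀, hA₀, hA₀C, ?_⟩
        have h := hA₀.best ⊥ bot_le
        rwa [weight_bot] at h
      refine ih _ hlt C V rfl hexp (fun g hg => Subtype.ext (hfaith g hg)) ?_
        (fun h => hS3 (Fusion.LocalModels.involves_of_injective C.subtype Subtype.val_injective h))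
        (A.subgroupOf C)
        ⟨fun a ha b hb => Subtype.ext (hA.1.elem.1 a ha b hb), fun a ha => Subtype.ext (hA.1.elem.2 a ha)⟩
        (fun e => hA.1.ne_bot (by rw [← map_subgroupOf_eq_of_le hA.2.1, e, Subgroup.map_bot])) ?_
      · refine (map_eq_bot_iff_of_injective _ C.subtype_injective).1 (le_bot_iff.1 ?_)
        rw [← hO2]
        exact PLocal.Cores.map_subtype_pCore_le C
      · rw [hCfix, map_subgroupOf_eq_of_le hA.2.1,
          Nat.card_congr (subgroupOfEquivOfLe hA.2.1).toEquiv]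
        exact hA.2.2
  · -- `R` is proper
    obtain ⟨A, L, g, T', hA, hAL, hAR, hLR, hmin, hgL, hgR, hT', hT'R, -⟩ :=
      S3FreeGeneration.exists_local (V := V) T R hNR hR
    have hsyl : Fusion.SylIn.SylIn 2 (T : Subgroup G) R :=
      (Fusion.SylIn.of_sylow T).mono hTR le_top
    have hZfix : ∀ A' : Subgroup G, IsQuadOffender V A' → A' ≤ R → Z ≤ (fix A' : Subgroup V) := by
      intro A' hA' hA'R z hz a ha
      obtain ⟨r, hr, h⟩ := hsyl.exists_conj hA'R (S3FreeGeneration.isPGroup_of_elem hA'.elem)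
      rw [Fusion.Basic.img_cj] at h
      have h2 := hoffJ (hA'.map r) h ((hr z).1 hz) _ ⟨a, ha, rfl⟩
      change (r * a * r⁻¹) • r • z = r • z at h2
      rwa [mul_smul, mul_smul, inv_smul_smul, smul_left_cancel_iff] at h2
    obtain ⟨E, hER, -, hEcomm, hEsq, ⟨e₀, he₀, z₀, hz₀, hez⟩, hle⟩ :=
      exists_offending_range hexp (false_of_inverts hS3) hA hAL hAR hLR hmin hgL hgR
        ((le_sup_right.trans hT').trans hT'R) (fun r hr z hz => (hr z).1 hz)
        (fun x hx z => ⟨fun h => by rw [hx z h]; exact h, fun h => by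
          have := hx _ h
          rwa [← smul_left_cancel x this]⟩) fun x _ h => hZfix _ (hA.map x) h
    let ρ : R →* MulAut Z := MonoidHom.mk'
      (fun r => MulEquiv.mk' ⟨fun z => ⟨(r : G) • (z : V), (r.2 z).1 z.2⟩,
          fun z => ⟨(r : G)⁻¹ • (z : V), ((inv_mem r.2 : (r : G)⁻¹ ∈ R) z).1 z.2⟩,
          fun z => Subtype.ext (inv_smul_smul (r : G) (z : V)),
          fun z => Subtype.ext (smul_inv_smul (r : G) (z : V))⟩
        fun z w => Subtype.ext (smul_mul' (r : G) (z : V) w))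
      fun r s => MulEquiv.ext fun z => Subtype.ext (mul_smul (r : G) s (z : V))
    letI : MulDistribMulAction (R ⧸ ρ.ker) Z :=
      MulDistribMulAction.compHom Z (QuotientGroup.kerLift ρ)
    set q := QuotientGroup.mk' ρ.ker with hq
    have hsmul : ∀ (r : R) (z : Z), ((q r • z : Z) : V) = (r : G) • (z : V) := fun r z => rfl
    have hfaith' : ∀ x : R ⧸ ρ.ker, (∀ z : Z, x • z = z) → x = 1 := fun x hx =>
      QuotientGroup.kerLift_injective ρ ((MulEquiv.ext fun z => hx z : _ = (1 : MulAut Z)).trans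
        (map_one _).symm)
    have hlt : Nat.card (R ⧸ ρ.ker) + Nat.card Z < Nat.card G + Nat.card V :=
      Nat.add_lt_add_of_le_of_lt ((Nat.card_le_card_of_surjective q
          (QuotientGroup.mk'_surjective _)).trans (Subgroup.card_le_card_group R))
        (lt_of_le_of_ne (Subgroup.card_le_card_group Z) fun e => hZne (Subgroup.eq_top_of_card_eq Z e))
    refine ih _ hlt (R ⧸ ρ.ker) Z rfl (fun z => Subtype.ext (hexp z)) hfaith' ?_ ?_
      ((E.subgroupOf R).map q) ⟨?_, ?_⟩ ?_ ?_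
    · -- reduced
      refine (eq_bot_iff_forall _).2 fun x hx => hfaith' x ?_
      have hfixT : ∀ y ∈ Cfsg.pCore 2 (R ⧸ ρ.ker), ∀ z : Z,
          (z : V) ∈ (fix (T : Subgroup G) : Subgroup V) → y • z = z := by
        intro y hy z hz
        have h := PLocal.Cores.pCore_le_sylow
          ((T.subtype hTR).mapSurjective (QuotientGroup.mk'_surjective ρ.ker)) hy
        rw [Sylow.coe_mapSurjective, Sylow.coe_subtype] at h
        obtain ⟨t, ht, rfl⟩ := h
        exact Subtype.ext (hz t ht)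
      have hle' : Z ≤ (fix (Cfsg.pCore 2 (R ⧸ ρ.ker)) : Subgroup Z).map Z.subtype := by
        refine (closure_le _).2 ?_
        rintro _ ⟨n, hn, z, hz, rfl⟩
        refine ⟨⟨n • z, (hNR hn z).1 (hTZ hz)⟩, fun y hy => ?_, rfl⟩
        set nb := q ⟨n, hNR hn⟩ with hnb
        have h := hfixT _ ((PLocal.Cores.pCore_normal').conj_mem y hy nb⁻¹) ⟨z, hTZ hz⟩ hz
        rw [inv_inv, mul_smul, mul_smul, inv_smul_eq_iff] at h
        exact h
      intro z
      obtain ⟨w, hw, hwz⟩ := hle' z.2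
      rw [← Subtype.ext hwz]
      exact hw x hx
    · exact fun h => hS3 (Fusion.LocalModels.involves_of_injective R.subtype Subtype.val_injective
        (Fusion.LocalModels.involves_of_surjective q (QuotientGroup.mk'_surjective _) h))
    · rintro _ ⟨a, ha, rfl⟩ _ ⟨b, hb, rfl⟩
      refine eq_of_div_eq_one (hfaith' _ fun z => ?_)
      rw [div_eq_mul_inv, mul_smul]
      set w := (q b * q a)⁻¹ • z with hw
      rw [show z = (q b * q a) • w by rw [hw, smul_inv_smul]]
      rw [← map_mul, ← map_mul]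
      exact Subtype.ext (hEcomm a (mem_subgroupOf.1 ha) b (mem_subgroupOf.1 hb) w w.2)
    · rintro _ ⟨a, ha, rfl⟩
      refine hfaith' _ fun z => ?_
      rw [← map_mul]
      exact Subtype.ext (hEsq a (mem_subgroupOf.1 ha) z z.2)
    · intro e
      have h1 : q ⟨e₀, hER he₀⟩ = 1 := (eq_bot_iff_forall _).1 e _ ⟨⟨e₀, hER he₀⟩, he₀, rfl⟩
      exact hez ((hsmul ⟨e₀, hER he₀⟩ ⟨z₀, hz₀⟩).symm.trans
        (congrArg Subtype.val ((congrArg (· • (⟨z₀, hz₀⟩ : Z)) h1).trans (one_smul _ _))))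
    · refine hle.trans (Nat.mul_le_mul ?_ ?_)
      · let φ : (E.subgroupOf R).map q → (Z → V) := fun x z => ((x : R ⧸ ρ.ker) • z : Z)
        refine le_trans (Nat.card_mono (Set.toFinite (Set.range φ)) ?_) (Finite.card_range_le φ)
        rintro _ ⟨e, rfl⟩
        exact ⟨⟨q ⟨e, hER e.2⟩, ⟨e, hER e.2⟩, e.2, rfl⟩, funext fun z => hsmul _ z⟩
      · refine Nat.card_le_card_of_injective
          (fun z => (⟨⟨(z : V), z.2.1⟩, ?_⟩ : (fix ((E.subgroupOf R).map q) : Subgroup Z)))
          fun z w h => Subtype.ext (congrArg (fun u : (fix ((E.subgroupOf R).map q) : Subgroup Z) => ((u : Z) : V)) h)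
        rintro _ ⟨e, he, rfl⟩
        exact Subtype.ext (z.2.2 _ (mem_subgroupOf.1 he))

/-- A group without a section isomorphic to the symmetric group of degree three and without a
nontrivial normal 2-subgroup has no offender on a faithful elementary abelian 2-module. -/
theorem no_offender {G : Type u} [Group G] [Finite G] {V : Type v} [CommGroup V] [Finite V]
    [MulDistribMulAction G V] (hexp : ∀ v : V, v * v = 1)
    (hfaith : ∀ g : G, (∀ v : V, g • v = v) → g = 1) (hO2 : Cfsg.pCore 2 G = ⊥)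
    (hS3 : ¬ Cfsg.Involves (Equiv.Perm (Fin 3)) G) {A : Subgroup G} (hA : IsElem A) (hne : A ≠ ⊥) :
    Nat.card A * Nat.card (fix A : Subgroup V) < Nat.card V :=
  not_le.1 (no_offender_aux _ G V rfl hexp hfaith hO2 hS3 A hA hne)

end Cfsg.Agent.CharP.S3FreeNoOffender
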