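import Cfsg.Agent.Lib.CharP.AutSplit
import Cfsg.Agent.Lib.Suzuki.ModuleBound
import Cfsg.Agent.Lib.Suzuki.Aut
import Cfsg.Agent.Lib.Suzuki.Local

/-!
Elementary abelian 2-groups of automorphisms of Suzuki groups.
-/

set_option autoImplicit false
set_option linter.unusedSectionVars false

namespace Cfsg.Agent.CharP.SuzukiSplit

open Subgroup Cfsg.Agent.Suzuki

variable {F : Type} [Field F] [Fintype F] [CharP F 2] {m : ℕ}
variable (hm : 1 ≤ m) (hF : Fintype.card F = 2 ^ (2 * m + 1))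
include hm hF

/-- An elementary abelian 2-subgroup of `Sz(q)` has order at most `q`. -/
theorem card_le {E : Subgroup (Cfsg.Sz F m)} (hexp : ∀ g ∈ E, g * g = 1) :
    Nat.card E ≤ Fintype.card F := by
  haveI : Fact (Nat.Prime 2) := ⟨Nat.prime_two⟩
  obtain ⟨P₀, hP₀⟩ := exists_sylow hm hF
  have hE2 : IsPGroup 2 E := fun g => ⟨1, Subtype.ext (by
    rw [pow_one, pow_two]; exact hexp g g.2)⟩
  obtain ⟨P, hP⟩ := hE2.exists_le_sylow
  obtain ⟨y, hy⟩ := MulAction.exists_smul_eq (Cfsg.Sz F m) P P₀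
  have h : ∀ g : E, ∃ b, y * (g : Cfsg.Sz F m) * y⁻¹ = tr hF 0 b := by
    intro g
    have hmem : y * (g : Cfsg.Sz F m) * y⁻¹ ∈ (U (m := m) hF : Subgroup (Cfsg.Sz F m)) := by
      rw [← hP₀, ← hy, Sylow.coe_subgroup_smul]
      exact Subgroup.smul_mem_pointwise_smul _ (MulAut.conj y) _ (hP g.2)
    obtain ⟨a, b, hab⟩ := hmem
    have h2 : (y * (g : Cfsg.Sz F m) * y⁻¹) * (y * g * y⁻¹) = 1 := by
      rw [show (y * (g : Cfsg.Sz F m) * y⁻¹) * (y * g * y⁻¹) = y * (g * g) * y⁻¹ by group,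
        hexp g g.2]
      group
    rw [hab, tr_mul, ← tr_zero hF] at h2
    have h3 := (tr_injective hF h2).2
    rw [CharTwo.add_self_eq_zero, zero_add, mul_eq_zero, pow_eq_zero_iff (by positivity), or_self] at h3
    exact ⟨b, by rw [hab, h3]⟩
  choose b hb using h
  rw [← Nat.card_eq_fintype_card]
  refine Nat.card_le_card_of_injective b fun g g' hg => Subtype.ext ?_
  have := (hb g).trans (hg ▸ (hb g').symm)
  simpa using this

/-- Every involutive automorphism of `Sz(q)` is inner. -/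
theorem inner_of_sq {α : MulAut (Cfsg.Sz F m)} (h : α * α = 1) :
    α ∈ Cfsg.Inn (Cfsg.Sz F m) := by
  rw [← QuotientGroup.eq_one_iff]
  have h1 : orderOf (α : MulAut (Cfsg.Sz F m) ⧸ Cfsg.Inn (Cfsg.Sz F m)) ∣ 2 :=
    orderOf_dvd_of_pow_eq_one (by rw [pow_two, ← QuotientGroup.mk_mul, h]; rfl)
  have h2 := orderOf_dvd_natCard (α : MulAut (Cfsg.Sz F m) ⧸ Cfsg.Inn (Cfsg.Sz F m))
  rw [show Nat.card (MulAut (Cfsg.Sz F m) ⧸ Cfsg.Inn (Cfsg.Sz F m)) = 2 * m + 1 from card_out hm hF] at h2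
  have h3 := Nat.dvd_gcd h1 h2
  rw [show Nat.gcd 2 (2 * m + 1) = 1 from Nat.coprime_two_left.2 (odd_two_mul_add_one m),
    Nat.dvd_one, orderOf_eq_one_iff] at h3
  exact h3

theorem conj_injective : Function.Injective (MulAut.conj : Cfsg.Sz F m →* MulAut (Cfsg.Sz F m)) := by
  haveI := isSimple hm hF
  rw [← MonoidHom.ker_eq_bot_iff]
  refine (Subgroup.Normal.eq_bot_or_eq_top inferInstance).resolve_right fun h => ?_
  have hc : ∀ g k : Cfsg.Sz F m, g * k = k * g := fun g k => by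
    have h2 := DFunLike.congr_fun (MonoidHom.mem_ker.1 (h ▸ mem_top g)) k
    rw [MulAut.conj_apply, MulAut.one_apply, mul_inv_eq_iff_eq_mul] at h2
    exact h2
  have h4 : commutator (Cfsg.Sz F m) = ⊥ := by
    rw [commutator_def, commutator_eq_bot_iff_le_centralizer]
    exact fun g _ => mem_centralizer_iff.2 fun k _ => hc k g
  rw [commutator_eq_top hm hF] at h4
  exact bot_ne_top h4.symm

theorem autSplit : AutSplit.AutSplit (Cfsg.Sz F m) := by
  intro A hA hexp _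
  obtain ⟨⟨a, ha⟩, ha1⟩ := (ne_bot_iff_exists_ne_one.1 hA)
  obtain ⟨i, hi⟩ := inner_of_sq hm hF (hexp a ha)
  have hi1 : i ≠ 1 := fun e => ha1 (Subtype.ext (show a = 1 by rw [← hi, e, map_one]))
  have hii : i * i = 1 := conj_injective hm hF (by rw [map_mul, hi, hexp a ha, map_one])
  have hio : orderOf i = 2 := orderOf_eq_prime (by rw [pow_two, hii]) hi1
  obtain ⟨r, g₀, g₁, hr, hr2, hord, hprod⟩ := Suzuki.ModuleBound.exists_ppd_product hm hF hio
  obtain ⟨h, hh⟩ : ∃ h, h = g₀⁻¹ * g₁ := ⟨_, rfl⟩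
  have hx : orderOf (i * (h * i * h⁻¹)) = r := by
    rw [← hprod, show g₀ * i * g₀⁻¹ * (g₁ * i * g₁⁻¹) = g₀ * (i * (h * i * h⁻¹)) * g₀⁻¹ by
      rw [hh]; group, Suzuki.orderOf_conj_eq]
  refine ⟨⊥, bot_le, a, ha, i * (h * i * h⁻¹), r, hr, hr2, hx, ?_, ?_, ?_⟩
  · have hinv : i⁻¹ = i := inv_eq_of_mul_eq_one_right hii
    have hk : (h * i * h⁻¹)⁻¹ = h * i * h⁻¹ := by
      rw [mul_inv_rev, mul_inv_rev, inv_inv, hinv, mul_assoc]
    rw [← hi, MulAut.conj_apply, mul_inv_rev, hk, hinv, ← mul_assoc i i, hii, one_mul]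
  · intro b hb
    rw [mem_bot.1 hb]
    rfl
  · intro j hj hd
    rw [card_bot, one_pow, mul_one]
    have h4 : r ∣ 2 ^ (2 * j) - 1 := by rwa [pow_mul]
    have h5 := hord (2 * j) (by omega) h4
    have hle : Nat.card A ≤ Fintype.card F := by
      have hAle : A ≤ (MulAut.conj : Cfsg.Sz F m →* MulAut (Cfsg.Sz F m)).range := fun b hb =>
        inner_of_sq hm hF (hexp b hb)
      rw [← Subgroup.map_comap_eq_self hAle, card_map_of_injective (conj_injective hm hF)]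
      refine card_le hm hF fun g hg => conj_injective hm hF ?_
      rw [map_mul, hexp _ (mem_comap.1 hg), map_one]
    calc Nat.card A ^ 2 ≤ Fintype.card F ^ 2 := Nat.pow_le_pow_left hle 2
      _ = 2 ^ (2 * (2 * m + 1)) := by rw [hF, ← pow_mul, mul_comm]
      _ ≤ 2 ^ j := Nat.pow_le_pow_right (by norm_num) (by omega)

end Cfsg.Agent.CharP.SuzukiSplit
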