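import Cfsg.Agent.Lib.CharP.InvertedBound
import Cfsg.Agent.Lib.CharP.InvertedElement
import Cfsg.Agent.Lib.CharP.SuzukiSplit
import Cfsg.Agent.Lib.CharP.PSLThreeSplit
import Cfsg.Agent.Lib.Components.Fitting
import Cfsg.Agent.Lib.Cores.Subnormal
import Cfsg.Agent.Lib.Components.Hyperplane
import Cfsg.Agent.Lib.Characters.Burnside
import Cfsg.Agent.S3755
import Cfsg.Prelude.Def_LocalEven

/-!
In an `S₃`-free group with trivial `O₂` and composition factors among the Suzuki groups and
`PSL₂(3 ^ (2 n + 1))`, every elementary abelian 2-subgroup has an inverted element of large order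
for `2`.
-/

set_option autoImplicit false
set_option linter.unusedSectionVars false

namespace Cfsg.Agent.CharP.S3FreeSplit

open Subgroup
open scoped commutatorElement

universe u

variable {G : Type u} [Group G] [Finite G]

theorem no_inverted_three (hS3 : ¬ Cfsg.Involves (Equiv.Perm (Fin 3)) G) {a x : G} (ha : a * a = 1)
    (hx : orderOf x = 3) : a * x * a⁻¹ ≠ x⁻¹ := by
  intro h
  rw [inv_eq_of_mul_eq_one_right ha] at h
  have hx1 : x ≠ 1 := fun e => by rw [e, orderOf_one] at hx; omega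
  have hx3 : x ^ 3 = 1 := hx ▸ pow_orderOf_eq_one x
  have ha1 : a ≠ 1 := by
    rintro rfl
    rw [one_mul, mul_one] at h
    refine hx1 ?_
    rw [pow_succ, pow_two] at hx3
    nth_rewrite 2 [h] at hx3
    rwa [mul_inv_cancel, one_mul] at hx3
  obtain ⟨K, f, hf⟩ := Fusion.LocalModels.exists_surj
    (Cfsg.Agent.S3755.three_section (M := (⊤ : Subgroup G)) (mem_top a) (mem_top x) ha ha1 hx3 hx1 h)
  exact hS3 (Fusion.LocalModels.involves_of_surj
    (f.comp (MonoidHom.ofInjective (f := (⊤ : Subgroup G).subtype.comp K.subtype)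
      (Subtype.val_injective.comp Subtype.val_injective)).symm.toMonoidHom)
    (hf.comp (MulEquiv.surjective _)))

/-- An inverted element and a subgroup of index at most two. -/
theorem split_of_index_two (hS3 : ¬ Cfsg.Involves (Equiv.Perm (Fin 3)) G) {A B : Subgroup G}
    (hexp : ∀ b ∈ A, b * b = 1) (hcard : Nat.card A ≤ 2 * Nat.card B) {a x : G} (ha : a ∈ A)
    (hx1 : x ≠ 1) (hodd : Odd (orderOf x)) (hinv : a * x * a⁻¹ = x⁻¹)
    (hxB : ∀ b ∈ B, x * b = b * x) :
    ∃ y : G, ∃ p : ℕ, p.Prime ∧ p ≠ 2 ∧ orderOf y = p ∧ a * y * a⁻¹ = y⁻¹ ∧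
      (∀ b ∈ B, y * b = b * y) ∧
      ∀ j : ℕ, 0 < j → p ∣ 4 ^ j - 1 → Nat.card A ^ 2 ≤ 2 ^ j * Nat.card B ^ 2 := by
  obtain ⟨p, hp, hpd⟩ := Nat.exists_prime_and_dvd (fun h => hx1 (orderOf_eq_one_iff.1 h))
  have hp2 : p ≠ 2 := by
    rintro rfl
    exact Nat.not_even_iff_odd.2 hodd (even_iff_two_dvd.2 hpd)
  obtain ⟨e, he, heinv⟩ := InvertedElement.exists_prime_power hpd hinv
  have hp3 : p ≠ 3 := fun h => no_inverted_three hS3 (hexp a ha) (he.trans h) heinv
  refine ⟨x ^ e, p, hp, hp2, he, heinv,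
    fun b hb => ((show Commute x b from hxB b hb).pow_left e).eq, fun j hj hd => ?_⟩
  calc Nat.card A ^ 2 ≤ (2 * Nat.card B) ^ 2 := Nat.pow_le_pow_left hcard 2
    _ = 2 ^ 2 * Nat.card B ^ 2 := by ring
    _ ≤ 2 ^ j * Nat.card B ^ 2 := Nat.mul_le_mul_right _
        (Nat.pow_le_pow_right (by norm_num) (AutSplit.two_le_of_dvd hp hp3 hj hd))

theorem odd_card_fitting (hO2 : Cfsg.pCore 2 G = ⊥) : Odd (Nat.card (Cfsg.fittingSubgroup G)) := by
  have : Fact (Nat.Prime 2) := ⟨Nat.prime_two⟩
  have hle : Cfsg.fittingSubgroup G ≤ Cfsg.pPrimeCore 2 G := by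
    rw [Components.Fitting.fitting_eq_coreJoin]
    refine (Components.Fitting.coreJoin_le_sup 2).trans ?_
    rw [hO2, bot_sup_eq]
  have h := Cores.pPrimeCore_card_coprime (G := G) 2
  rw [← Nat.not_even_iff_odd, even_iff_two_dvd]
  intro h2
  have := Nat.dvd_gcd (h2.trans (card_dvd_of_le hle)) (dvd_refl 2)
  rw [h.gcd_eq_one] at this
  norm_num at this

/-- The simple quotient of a component. -/
theorem autSplit_model {K : Type u} [Group K] [IsSimpleGroup K] [Finite K]
    (hna : ¬ IsMulCommutative K) (h : Cfsg.IsSuzukiOrPSL2OddPowerThree K) :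
    ∃ (K₀ : Type) (_ : Group K₀), Nonempty (K ≃* K₀) ∧ AutSplit.AutSplit K₀ := by
  rcases h with ⟨F, _, _, m, hm, hF, ⟨e⟩⟩ | ⟨F, _, _, n, hF, ⟨e⟩⟩
  · haveI := Cfsg.Agent.Suzuki.charTwo hF
    obtain ⟨e'⟩ := Cfsg.Agent.Suzuki.lieEquiv (m := m) hm hF
    exact ⟨Cfsg.Sz F m, inferInstance, ⟨e.trans e'.symm⟩, SuzukiSplit.autSplit hm hF⟩
  · refine ⟨_, inferInstance, ⟨e⟩, PSLThreeSplit.autSplit hF ?_⟩
    by_contra hn
    obtain rfl : n = 0 := by omega
    have hS : Group.IsSolvable (Matrix.SpecialLinearGroup (Fin 2) F) :=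
      Characters.burnside_pa_qb (p := 2) (q := 3) (a := 3) (b := 1) Nat.prime_two Nat.prime_three
        (by rw [Classical.GL2.natCard_SL_two, hF]; norm_num)
    haveI : Group.IsSolvable K := solvable_of_surjective (f := e.symm.toMonoidHom.comp
      (QuotientGroup.mk' (center (Matrix.SpecialLinearGroup (Fin 2) F))))
      (e.symm.surjective.comp (QuotientGroup.mk'_surjective _))
    exact hna ⟨⟨fun a b => IsSimpleGroup.comm_iff_isSolvable.2 inferInstance a b⟩⟩

/-- Automorphisms of `L` act on its central quotient. -/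
def centralQuot (L : Type u) [Group L] : MulAut L →* MulAut (L ⧸ center L) where
  toFun e := QuotientGroup.congr _ _ e (characteristic_iff_map_eq.1 inferInstance e)
  map_one' := MulEquiv.ext fun q => by
    induction q using QuotientGroup.induction_on with
    | H z => rfl
  map_mul' e f := MulEquiv.ext fun q => by
    induction q using QuotientGroup.induction_on with
    | H z => rfl

theorem exists_split_component (hS3 : ¬ Cfsg.Involves (Equiv.Perm (Fin 3)) G)
    (hO2 : Cfsg.pCore 2 G = ⊥) {A : Subgroup G} (hA : Cfsg.Agent.CharP.S3FreeOffender.IsElem A)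
    {L : Subgroup G} (hL : Cfsg.IsComponent L)
    (hK : Cfsg.IsSuzukiOrPSL2OddPowerThree (↥L ⧸ center ↥L))
    (hAL : ¬ A ≤ centralizer (L : Set G)) :
    ∃ B ≤ A, ∃ a ∈ A, ∃ x : G, ∃ p : ℕ, p.Prime ∧ p ≠ 2 ∧ orderOf x = p ∧ a * x * a⁻¹ = x⁻¹ ∧
      (∀ b ∈ B, x * b = b * x) ∧
      ∀ j : ℕ, 0 < j → p ∣ 4 ^ j - 1 → Nat.card A ^ 2 ≤ 2 ^ j * Nat.card B ^ 2 := by
  classical
  obtain ⟨hAc, hAexp⟩ := hA
  have hq : Cfsg.IsQuasisimple L := hL.2
  haveI hsimple : IsSimpleGroup (↥L ⧸ center ↥L) := hq.2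
  have hperf := Components.Basic.component_commutator_self hL
  have hna : ¬ IsMulCommutative (↥L ⧸ center ↥L) := fun hc =>
    Components.Basic.quasisimple_not_isSolvable hq (by
      haveI := hc
      haveI : Group.IsSolvable (↥L ⧸ center ↥L) := Group.isSolvable_of_comm fun a b => hc.is_comm.comm a b
      haveI : Group.IsSolvable ↥(center ↥L) := Group.isSolvable_of_comm fun a b => Subtype.ext (mem_center_iff.1 b.2 a.1)
      exact Group.isSolvable_of_ker_le_range (center ↥L).subtype (QuotientGroup.mk' (center ↥L))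
        (by rw [QuotientGroup.ker_mk', range_subtype]))
  obtain ⟨K₀, _, ⟨e⟩, hsplit⟩ := autSplit_model hna hK
  set ψ : ↥L →* K₀ := e.toMonoidHom.comp (QuotientGroup.mk' (center ↥L)) with hψ
  have hψker : ψ.ker = center ↥L := by
    rw [hψ]
    ext z
    rw [MonoidHom.mem_ker, MonoidHom.comp_apply]
    exact (map_eq_one_iff e e.injective).trans (QuotientGroup.eq_one_iff z)
  have hψs : Function.Surjective ψ := e.surjective.comp (QuotientGroup.mk'_surjective _)
  -- elements outside the centre act non-trivially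
  have hnc : ∀ z : ↥L, ψ z ≠ 1 → ∃ l ∈ L, (z : G) * l ≠ l * z := by
    intro z hz
    by_contra hcon
    push Not at hcon
    refine hz (MonoidHom.mem_ker.1 (hψker ▸ mem_center_iff.2 fun l => Subtype.ext ?_))
    exact (hcon l l.2).symm
  set AL := A ⊓ normalizer (L : Set G) with hAL'
  let ι : ↥AL →* ↥(normalizer (L : Set G)) := inclusion inf_le_right
  let ρ : ↥AL →* MulAut K₀ := ((MulAut.congr e).toMonoidHom.comp (centralQuot ↥L)).comp
    (L.normalizerMonoidHom.comp ι)
  have hρ : ∀ (g : ↥AL) (z w : ↥L), (w : G) = g * z * (g : G)⁻¹ → ρ g (ψ z) = ψ w := by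
    intro g z w hw
    show e ((centralQuot ↥L (L.normalizerMonoidHom (ι g))) (e.symm (e (QuotientGroup.mk z)))) = _
    rw [MulEquiv.symm_apply_apply]
    show e (QuotientGroup.mk (L.normalizerMonoidHom (ι g) z)) = e (QuotientGroup.mk w)
    congr 2
    exact Subtype.ext hw.symm
  -- the kernel centralises `L`
  have hρker : ∀ g : ↥AL, ρ g = 1 → ∀ l ∈ L, (g : G) * l = l * g := by
    intro g hg
    have hmem : ∀ z : ↥L, (g : G) * z * (g : G)⁻¹ ∈ L := fun z => (mem_normalizer_iff.1 g.2.2 z).1 z.2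
    have hz : ∀ z : ↥L, z⁻¹ * ⟨_, hmem z⟩ ∈ center ↥L := by
      intro z
      rw [← hψker, MonoidHom.mem_ker, map_mul, map_inv, ← hρ g z ⟨_, hmem z⟩ rfl, hg, MulAut.one_apply,
        inv_mul_cancel]
    have hcl : L ≤ centralizer ({(g : G)} : Set G) := by
      calc L = ⁅L, L⁆ := hperf.symm
        _ ≤ _ := commutator_le.2 fun k hk l hl => by
          rw [mem_centralizer_singleton_iff]
          have h1 := hz ⟨k, hk⟩
          have h2 := hz ⟨l, hl⟩
          set c := ((⟨k, hk⟩ : ↥L)⁻¹ * ⟨_, hmem ⟨k, hk⟩⟩ : ↥L)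
          set d := ((⟨l, hl⟩ : ↥L)⁻¹ * ⟨_, hmem ⟨l, hl⟩⟩ : ↥L)
          have e3 : ⁅(⟨k, hk⟩ : ↥L) * c, (⟨l, hl⟩ : ↥L) * d⁆ = ⁅(⟨k, hk⟩ : ↥L), (⟨l, hl⟩ : ↥L)⁆ := by
            rw [Components.Basic.commutatorElement_mul_center_left _ _ h1,
              Components.Basic.commutatorElement_mul_center_right _ _ h2]
          have e4 := congrArg Subtype.val e3
          simp only [commutatorElement_def, Subgroup.coe_mul, Subgroup.coe_inv, c, d] at e4 ⊢
          have e5 : (g : G) * (k * l * k⁻¹ * l⁻¹) * (g : G)⁻¹ = k * l * k⁻¹ * l⁻¹ := by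
            conv_rhs => rw [← e4]
            group
          exact (mul_inv_eq_iff_eq_mul.1 e5).symm
    exact fun l hl => (mem_centralizer_singleton_iff.1 (hcl hl)).symm
  -- a complement of `AL`
  obtain ⟨T, ⟨hTA, hTd⟩, hTmax⟩ := (Set.toFinite {T : Subgroup G | T ≤ A ∧ T ⊓ AL = ⊥}).exists_maximal
    ⟨⊥, bot_le, bot_inf_eq _⟩
  have hTT : ∀ t ∈ T, t ∈ normalizer (L : Set G) → t = 1 := fun t ht hn =>
    mem_bot.1 (hTd ▸ ⟨ht, hTA ht, hn⟩)
  have hsup : AL ⊔ T = A := by
    refine le_antisymm (sup_le inf_le_left hTA) fun a ha => ?_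
    by_contra hcon
    have hd : (T ⊔ zpowers a) ⊓ AL = ⊥ := by
      rw [eq_bot_iff]
      rintro z ⟨hz, hzAL⟩
      have hnorm : zpowers a ≤ normalizer (T : Set G) := zpowers_le.2 (mem_normalizer_iff.2 fun t =>
        ⟨fun ht => by rwa [hAc a ha t (hTA ht), mul_inv_cancel_right],
         fun ht => by
          have h1 := hAc a ha _ (hTA ht)
          have h2 : a * t * a⁻¹ = t := by
            calc a * t * a⁻¹ = a⁻¹ * (a * (a * t * a⁻¹)) := by group
              _ = a⁻¹ * ((a * t * a⁻¹) * a) := by rw [h1]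
              _ = t := by group
          rwa [h2] at ht⟩)
      have hz' : z ∈ ((T ⊔ zpowers a : Subgroup G) : Set G) := hz
      rw [coe_mul_of_right_le_normalizer_left T _ hnorm] at hz'
      obtain ⟨t, ht, c, hc, rfl⟩ := hz'
      have hc' : c = 1 ∨ c = a := by
        obtain ⟨i, rfl⟩ := mem_zpowers_iff.1 hc
        rcases Int.even_or_odd i with ⟨k, rfl⟩ | ⟨k, rfl⟩
        · left; rw [← two_mul, zpow_mul, zpow_two, hAexp a ha, one_zpow]
        · right; rw [zpow_add, zpow_mul, zpow_two, hAexp a ha, one_zpow, one_mul, zpow_one]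
      rcases hc' with rfl | rfl
      · simp only [mul_one] at hzAL ⊢
        exact hTd ▸ ⟨ht, hzAL⟩
      · exfalso
        refine hcon ?_
        have := mul_mem (inv_mem (mem_sup_right (S := AL) ht)) (mem_sup_left (T := T) hzAL)
        rwa [inv_mul_cancel_left] at this
    have h2 : T ⊔ zpowers a ≤ T := hTmax ⟨sup_le hTA (zpowers_le.2 ha), hd⟩ le_sup_left
    exact hcon (mem_sup_right (h2 (mem_sup_right (mem_zpowers a))))
  have hcardT : ∀ U : Subgroup G, U ≤ AL → ∀ W ≤ T, Nat.card ↥(U ⊔ W) = Nat.card U * Nat.card W := by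
    intro U hU W hW
    refine Coprime.card_sup_of_disjoint (fun w hw => mem_normalizer_iff.2 fun z => ?_) ?_
    · have hwA := hTA (hW hw)
      constructor <;> intro hz
      · have e1 := hAc w hwA z (hU hz).1
        rwa [e1, mul_inv_cancel_right]
      · have hzA : w * z * w⁻¹ ∈ A := (hU hz).1
        have e1 := hAc w hwA _ hzA
        have e2 : w * z * w⁻¹ = z := by
          calc w * z * w⁻¹ = w⁻¹ * (w * (w * z * w⁻¹)) := by group
            _ = w⁻¹ * ((w * z * w⁻¹) * w) := by rw [e1]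
            _ = z := by group
        rwa [e2] at hz
    · rw [disjoint_iff, eq_bot_iff]
      rintro z ⟨hzU, hzW⟩
      exact hTd ▸ ⟨hW hzW, hU hzU⟩
  have hTexp : ∀ t ∈ T, t * t = 1 := fun t ht => hAexp t (hTA ht)
  have hLc : ∀ D : Subgroup G, Cfsg.IsComponent D → ∀ g : G,
      Cfsg.IsComponent (D.map (MulAut.conj g).toMonoidHom) := fun D hD g =>
    Components.Basic.component_conj hD g
  have hcom : ∀ D E : Subgroup G, Cfsg.IsComponent D → Cfsg.IsComponent E → D ≠ E →
      ∀ d ∈ D, ∀ f ∈ E, d * f = f * d := by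
    intro D E hD hE hne d hd f hf
    have h := Components.Basic.component_commutator_eq_bot_of_ne hD hE hne
    exact ((mem_centralizer_iff.1 (commutator_eq_bot_iff_le_centralizer.1 h hd)) f hf).symm
  -- no automorphism from `A` inverts an element of order three
  have hno : ∀ g : ↥AL, ∀ u : K₀, orderOf u = 3 → ρ g u ≠ u⁻¹ := by
    intro g u hu hgu
    haveI : Fact (Nat.Prime 3) := ⟨Nat.prime_three⟩
    obtain ⟨y₀, rfl⟩ := hψs u
    obtain ⟨c, k, hyc, hyk⟩ := InvertedElement.exists_qElement ψ Nat.prime_three hu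
    obtain ⟨x, hx, hxk, hxinv, -⟩ := InvertedElement.exists_fixed (q := 3) (A := (⊥ : Subgroup G)) ψ hψker
      (by simp) bot_le (by norm_num) (hAexp g g.2.1) g.2.2 (by simp) hyc hyk
      (fun b hb z hz => by
        rw [mem_bot.1 hb, one_mul, inv_one, mul_one] at hz
        rw [Subtype.ext hz])
      (fun z hz => by rw [← hρ g _ z hz, map_pow, map_pow, hgu, inv_pow])
    obtain ⟨i, hi⟩ : 3 ∣ orderOf (x : G) := by
      rw [Subgroup.orderOf_coe]
      exact hx ▸ orderOf_map_dvd ψ x
    obtain ⟨e', he', heinv⟩ := InvertedElement.exists_prime_power (a := (g : G)) ⟨i, hi⟩ hxinv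
    exact no_inverted_three hS3 (hAexp g g.2.1) he' heinv
  by_cases hker : ∀ g : ↥AL, ρ g = 1
  · -- `AL` centralises `L`
    have hALA : ¬ A ≤ normalizer (L : Set G) := by
      intro h
      refine hAL fun a ha => mem_centralizer_iff.2 fun l hl => ?_
      exact (hρker ⟨a, ha, h ha⟩ (hker _) l hl).symm
    obtain ⟨a, ha, haL⟩ : ∃ a ∈ T, a ≠ 1 := by
      by_contra h
      push Not at h
      refine hALA (fun z hz => ?_)
      rw [← hsup] at hz
      exact (sup_le inf_le_right (fun t ht => by rw [h t ht]; exact one_mem _) : AL ⊔ T ≤ _) hz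
    obtain ⟨W, ⟨hWT, haW⟩, hWmax⟩ := (Set.toFinite {W : Subgroup G | W ≤ T ∧ a ∉ W}).exists_maximal
      ⟨⊥, bot_le, fun h => haL (mem_bot.1 h)⟩
    -- an element of odd prime order
    obtain ⟨q, hq', hqd, hq2⟩ : ∃ q : ℕ, q.Prime ∧ q ∣ Nat.card K₀ ∧ q ≠ 2 := by
      haveI : Finite K₀ := Finite.of_equiv _ e.toEquiv
      by_contra hcon
      push Not at hcon
      haveI : Fact (Nat.Prime 2) := ⟨Nat.prime_two⟩
      obtain ⟨k, hk⟩ : ∃ k, Nat.card K₀ = 2 ^ k :=
        ⟨_, Nat.eq_prime_pow_of_unique_prime_dvd Nat.card_pos.ne' (fun {d} hd hdd => hcon d hd hdd)⟩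
      haveI : Group.IsNilpotent (↥L ⧸ center ↥L) :=
        (IsPGroup.of_card (p := 2) (n := k) ((Nat.card_congr e.toEquiv).trans hk)).isNilpotent
      exact hna ⟨⟨fun s t => IsSimpleGroup.comm_iff_isSolvable.2 inferInstance s t⟩⟩
    haveI : Fact q.Prime := ⟨hq'⟩
    haveI : Finite K₀ := Finite.of_equiv _ e.toEquiv
    obtain ⟨u, hu⟩ := exists_prime_orderOf_dvd_card' (G := K₀) q hqd
    obtain ⟨y₀, rfl⟩ := hψs u
    obtain ⟨c, k, hyc, hyk⟩ := InvertedElement.exists_qElement ψ hq' hu
    set y := y₀ ^ c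
    obtain ⟨z, hzM, hzk, ⟨l, hl, hzl⟩, hzW, hzc, -⟩ := InvertedElement.exists_spread hcom hL hLc
      (T := W) (fun t ht => hTexp t (hWT ht)) (fun t ht => hTT t (hWT ht)) y.2
      (N := q ^ k) (by rw [← Subgroup.coe_pow, hyk]; rfl)
      (hnc y (fun h => by rw [h, orderOf_one] at hyc; exact hq'.ne_one hyc.symm))
    have haA := hTA ha
    have hai : a⁻¹ = a := inv_eq_of_mul_eq_one_right (hAexp a haA)
    set w := a * z * a⁻¹ with hw
    have hwc : ∀ u ∈ InvertedElement.orbitSup L W, w * u = u * w := fun u hu =>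
      InvertedElement.conj_commute hcom hL hLc hTT hWT ha haW hzM hu
    have hzw : Commute z w⁻¹ := (show Commute z w from (hwc z hzM).symm).inv_right
    have hbig : ∀ b ∈ AL ⊔ W, z * b = b * z := by
      intro b hb
      refine (mem_centralizer_singleton_iff.1 ((sup_le (fun c hc => ?_) (fun c hc => ?_) :
        AL ⊔ W ≤ centralizer ({z} : Set G)) hb)).symm
      · exact mem_centralizer_singleton_iff.2
          (hzc c (fun t ht => hAc c hc.1 t (hTA (hWT ht))) (hρker ⟨c, hc⟩ (hker _) _ y.2))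
      · exact mem_centralizer_singleton_iff.2 (hzW c hc).symm
    refine ⟨AL ⊔ W, sup_le inf_le_left (hWT.trans hTA), a, haA, ?_⟩
    refine split_of_index_two hS3 hAexp ?_ haA (x := z * w⁻¹) ?_ ?_ ?_ ?_
    · have hTW : Nat.card T ≤ 2 * Nat.card W := by
        -- every element of `T` lies in `W` or in `W a`
        have hsub : (T : Set G) ⊆ (W : Set G) ∪ (fun r => r * a) '' (W : Set G) := by
          intro r hr
          by_contra hcon
          simp only [Set.mem_union, Set.mem_image, SetLike.mem_coe, not_or, not_exists, not_and] at hcon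
          refine hcon.1 (hWmax ⟨sup_le hWT (zpowers_le.2 hr), ?_⟩ le_sup_left
            (mem_sup_right (mem_zpowers r)))
          intro haWr
          have hn : zpowers r ≤ normalizer (W : Set G) := zpowers_le.2 (mem_normalizer_iff.2 fun t => by
            have hrr := hTexp r hr
            have hri : r⁻¹ = r := inv_eq_of_mul_eq_one_right hrr
            constructor
            · intro ht
              rwa [hAc r (hTA hr) t (hTA (hWT ht)), mul_inv_cancel_right]
            · intro ht
              have h1 := hAc r (hTA hr) _ (hTA (hWT ht))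
              have h2 : r * t * r⁻¹ = t := by
                calc r * t * r⁻¹ = r⁻¹ * (r * (r * t * r⁻¹)) := by group
                  _ = r⁻¹ * ((r * t * r⁻¹) * r) := by rw [h1]
                  _ = t := by group
              rwa [h2] at ht)
          have h' : a ∈ ((W ⊔ zpowers r : Subgroup G) : Set G) := haWr
          rw [coe_mul_of_right_le_normalizer_left W _ hn] at h'
          obtain ⟨s, hs, c, hc, rfl⟩ := h'
          obtain ⟨i, rfl⟩ := mem_zpowers_iff.1 hc
          have hrr := hTexp r hr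
          rcases Int.even_or_odd i with ⟨j, rfl⟩ | ⟨j, rfl⟩
          · simp only [← two_mul, zpow_mul, zpow_two, hrr, one_zpow, mul_one] at haW
            exact haW hs
          · rw [zpow_add, zpow_mul, zpow_two, hrr, one_zpow, one_mul, zpow_one] at hcon
            refine hcon.2 s⁻¹ (inv_mem hs) ?_
            rw [inv_mul_cancel_left]
        calc Nat.card T ≤ ((W : Set G) ∪ (fun r => r * a) '' (W : Set G)).ncard :=
              Set.ncard_le_ncard hsub (Set.toFinite _)
          _ ≤ (W : Set G).ncard + ((fun r => r * a) '' (W : Set G)).ncard := Set.ncard_union_le _ _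
          _ ≤ Nat.card W + Nat.card W := Nat.add_le_add le_rfl (Set.ncard_image_le (Set.toFinite _))
          _ = 2 * Nat.card W := by ring
      calc Nat.card A = Nat.card AL * Nat.card T := by rw [← hcardT AL le_rfl T le_rfl, hsup]
        _ ≤ Nat.card AL * (2 * Nat.card W) := Nat.mul_le_mul_left _ hTW
        _ = 2 * Nat.card ↥(AL ⊔ W) := by rw [hcardT AL le_rfl W hWT]; ring
    · intro e1
      refine hzl ?_
      have hwl : w * l = l * w :=
        hwc l (mem_iSup_of_mem (⟨1, one_mem W⟩ : W) ⟨l, hl, by simp⟩)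
      rwa [mul_inv_eq_one.1 e1]
    · refine Odd.of_dvd_nat ((Nat.Prime.odd_of_ne_two hq' hq2).pow : Odd (q ^ k))
        (orderOf_dvd_of_pow_eq_one ?_)
      rw [hzw.mul_pow, hzk, inv_pow, hw, conj_pow, hzk, one_mul, mul_one, mul_inv_cancel, inv_one]
    · rw [hw]
      calc a * (z * (a * z * a⁻¹)⁻¹) * a⁻¹ = a * z * a * z⁻¹ * (a * a)⁻¹ := by group
        _ = a * z * a⁻¹ * z⁻¹ := by rw [hAexp a haA, inv_one, mul_one, hai]
        _ = _ := by group
    · intro b hb
      have h1 : Commute z b := hbig b hb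
      have h2 : Commute a b := hAc a haA b ((sup_le inf_le_left (hWT.trans hTA) : AL ⊔ W ≤ A) hb)
      exact (h1.mul_left ((h2.mul_left h1).mul_left h2.inv_left).inv_left).eq
  · -- some element of `AL` induces a non-trivial automorphism
    push Not at hker
    obtain ⟨g₀, hg₀⟩ := hker
    obtain ⟨Bb, hBb, α, hα, x₀, p, hp, hp2, hx₀, hαx, hBx, hsize⟩ := hsplit ρ.range
      (fun h => hg₀ (mem_bot.1 (h ▸ ⟨g₀, rfl⟩)))
      (by
        rintro _ ⟨g, rfl⟩
        rw [← map_mul, show g * g = 1 from Subtype.ext (hAexp g g.2.1), map_one])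
      (by rintro _ ⟨g, rfl⟩ u hu; exact hno g u hu)
    obtain ⟨a, rfl⟩ := hα
    haveI : Fact p.Prime := ⟨hp⟩
    set B₀ := (Bb.comap ρ).map AL.subtype with hB₀
    have hB₀A : B₀ ≤ AL := map_subtype_le _
    obtain ⟨y₀, hy₀⟩ := hψs x₀
    obtain ⟨c, k, hyc, hyk⟩ := InvertedElement.exists_qElement ψ hp (hy₀.symm ▸ hx₀ : orderOf (ψ y₀) = p)
    set y := y₀ ^ c
    have hψy : ψ y = x₀ ^ c := by rw [map_pow, hy₀]
    obtain ⟨x, hx, hxk, hxinv, hxB⟩ := InvertedElement.exists_fixed (A := B₀) ψ hψker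
      (fun b hb => hAexp b (hB₀A hb).1) (hB₀A.trans inf_le_right) hp2 (hAexp a a.2.1) a.2.2
      (fun b hb => hAc a a.2.1 b (hB₀A hb).1) hyc hyk
      (fun b hb z hz => by
        obtain ⟨b', hb', rfl⟩ := hb
        rw [← hρ b' y z hz, hψy, map_pow, hBx _ hb'])
      (fun z hz => by rw [← hρ a y z hz, hψy, map_pow, hαx, inv_pow])
    obtain ⟨z, -, hzk, hzl, hzT, hzc, hza⟩ := InvertedElement.exists_spread hcom hL hLc
      hTexp hTT x.2 hxk (hnc x (fun h => by rw [h, orderOf_one] at hx; exact hp.ne_one hx.symm))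
    have hzinv : (a : G) * z * (a : G)⁻¹ = z⁻¹ :=
      hza a (fun t ht => hAc a a.2.1 t (hTA ht)) hxinv
    have hz1 : z ≠ 1 := fun h => by
      obtain ⟨l, -, hl2⟩ := hzl
      rw [h, one_mul, mul_one] at hl2
      exact hl2 rfl
    have hpd : p ∣ orderOf z := by
      obtain ⟨i, -, hi⟩ := (Nat.dvd_prime_pow hp).1 (orderOf_dvd_of_pow_eq_one hzk)
      rw [hi]
      rcases i with _ | i
      · exact absurd (orderOf_eq_one_iff.1 (by simpa using hi)) hz1
      · exact dvd_pow_self p i.succ_ne_zero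
    obtain ⟨e', he', heinv⟩ := InvertedElement.exists_prime_power hpd hzinv
    refine ⟨B₀ ⊔ T, sup_le (hB₀A.trans inf_le_left) hTA, a, a.2.1, z ^ e', p, hp, hp2, he', heinv,
      fun b hb => ?_, fun j hj hd => ?_⟩
    · have hle : B₀ ⊔ T ≤ centralizer ({z} : Set G) := sup_le
        (fun c hc => mem_centralizer_singleton_iff.2
          (hzc c (fun t ht => hAc c (hB₀A hc).1 t (hTA ht)) (hxB c hc).symm))
        (fun c hc => mem_centralizer_singleton_iff.2 (hzT c hc).symm)
      exact ((show Commute z b from (mem_centralizer_singleton_iff.1 (hle hb)).symm).pow_left e').eq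
    · have hcB : Nat.card B₀ = Nat.card Bb * Nat.card ρ.ker := by
        rw [hB₀, card_map_of_injective AL.subtype_injective]
        have h1 := card_eq_card_quotient_mul_card_subgroup (ρ.ker.subgroupOf (Bb.comap ρ))
        rw [← index, Nat.card_congr (subgroupOfEquivOfLe (show ρ.ker ≤ Bb.comap ρ from comap_mono bot_le)).toEquiv,
          ← relIndex, relIndex_ker, map_comap_eq_self hBb] at h1
        exact h1
      have hcA : Nat.card AL = Nat.card ρ.range * Nat.card ρ.ker := by
        rw [← index_ker, mul_comm, card_mul_index]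
      have h := hsize j hj hd
      calc Nat.card A ^ 2 = (Nat.card ρ.range * Nat.card ρ.ker * Nat.card T) ^ 2 := by
            rw [← hcA, ← hcardT AL le_rfl T le_rfl, hsup]
        _ = Nat.card ρ.range ^ 2 * (Nat.card ρ.ker * Nat.card T) ^ 2 := by ring
        _ ≤ 2 ^ j * Nat.card Bb ^ 2 * (Nat.card ρ.ker * Nat.card T) ^ 2 := Nat.mul_le_mul_right _ h
        _ = 2 ^ j * (Nat.card Bb * Nat.card ρ.ker * Nat.card T) ^ 2 := by ring
        _ = 2 ^ j * Nat.card ↥(B₀ ⊔ T) ^ 2 := by rw [hcardT B₀ hB₀A T le_rfl, hcB]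

/-- The allowed composition factors. -/
def OddOr (X : Type u) [Group X] : Prop :=
  Cfsg.IsSuzukiOrPSL2OddPowerThree X ∨ Odd (Nat.card X)

theorem odd_component_le (hO2 : Cfsg.pCore 2 G = ⊥) {L : Subgroup G} (hL : Cfsg.IsComponent L)
    (hodd : Odd (Nat.card (↥L ⧸ center ↥L))) : L ≤ Cfsg.pPrimeCore 2 G := by
  have : Fact (Nat.Prime 2) := ⟨Nat.prime_two⟩
  refine Cores.le_pPrimeCore_of_isSubnormal hL.1 ?_
  rw [Nat.coprime_two_right, card_eq_card_quotient_mul_card_subgroup (center ↥L)]
  refine hodd.mul ?_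
  -- the centre of a component lies in the Fitting subgroup
  have hcz : Nat.card (center ↥L) = Nat.card ↥((center ↥L).map L.subtype) :=
    (card_map_of_injective L.subtype_injective).symm
  rw [hcz]
  refine (odd_card_fitting hO2).of_dvd_nat (card_dvd_of_le ?_)
  haveI : Group.IsNilpotent ↥((center ↥L).map L.subtype) := by
    haveI : IsMulCommutative ↥((center ↥L).map L.subtype) := inferInstance
    exact Components.Fitting.isNilpotent_of_isMulCommutative _
  exact Components.Fitting.le_fitting_of_isSubnormal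
    ((Components.Basic.isSubnormal_map_subtype_iff hL.1 _).2
      (Subgroup.Normal.isSubnormal inferInstance)) inferInstance

theorem hasSplit (hS3 : ¬ Cfsg.Involves (Equiv.Perm (Fin 3)) G) (hO2 : Cfsg.pCore 2 G = ⊥)
    (hK : Cfsg.IsCompositionKGroupWith OddOr G) :
    InvertedBound.HasSplit G := by
  classical
  intro A hA hA1
  obtain ⟨hAc, hAexp⟩ := hA
  set F := Cfsg.pPrimeCore 2 G with hFdef
  have : Fact (Nat.Prime 2) := ⟨Nat.prime_two⟩
  have hFodd : Odd (Nat.card F) := Nat.coprime_two_right.1 (Cores.pPrimeCore_card_coprime (G := G) 2)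
  have hFit : Cfsg.fittingSubgroup G ≤ F := by
    rw [Components.Fitting.fitting_eq_coreJoin]
    refine (Components.Fitting.coreJoin_le_sup 2).trans ?_
    rw [hO2, bot_sup_eq]
  by_cases hAF : A ≤ centralizer (F : Set G)
  · by_cases hAL : ∀ L : Subgroup G, Cfsg.IsComponent L → A ≤ centralizer (L : Set G)
    · exfalso
      apply hA1
      rw [eq_bot_iff]
      intro a ha
      have hc : a ∈ centralizer (Cfsg.generalizedFittingSubgroup G : Set G) := by
        have hle : Cfsg.generalizedFittingSubgroup G ≤ centralizer ({a} : Set G) := sup_le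
          (Components.Basic.layer_le fun L hL l hl => mem_centralizer_singleton_iff.2
            (mem_centralizer_iff.1 (hAL L hL ha) l hl))
          (fun f hf => mem_centralizer_singleton_iff.2 (mem_centralizer_iff.1 (hAF ha) f (hFit hf)))
        exact mem_centralizer_iff.2 fun g hg => mem_centralizer_singleton_iff.1 (hle hg)
      set Z := Cfsg.generalizedFittingSubgroup G ⊓
        centralizer (Cfsg.generalizedFittingSubgroup G : Set G) with hZ
      have hZn : Group.IsNilpotent Z := by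
        haveI : IsMulCommutative Z :=
          ⟨⟨fun s t => Subtype.ext (mem_centralizer_iff.1 t.2.2 s s.2.1)⟩⟩
        exact Components.Fitting.isNilpotent_of_isMulCommutative _
      have haZ : a ∈ Z := ⟨Components.Fitting.centralizer_genFitting_le hc, hc⟩
      haveI : (Cfsg.generalizedFittingSubgroup G).Normal := by
        unfold Cfsg.generalizedFittingSubgroup; infer_instance
      have haF : a ∈ F := hFit (Components.Fitting.le_fitting (N := Z) hZn haZ)
      refine mem_bot.2 ?_
      have h1 : orderOf a ∣ 2 := orderOf_dvd_of_pow_eq_one (by rw [pow_two, hAexp a ha])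
      have h2 := Subgroup.orderOf_dvd_natCard F haF
      exact orderOf_eq_one_iff.1 (Nat.eq_one_of_dvd_coprimes (Nat.coprime_two_right.2 hFodd) h2 h1)
    · push Not at hAL
      obtain ⟨L, hL, hL2⟩ := hAL
      refine exists_split_component hS3 hO2 ⟨hAc, hAexp⟩ hL ?_ hL2
      have hq : Cfsg.IsQuasisimple L := hL.2
      haveI : IsSimpleGroup (↥L ⧸ center ↥L) := hq.2
      by_cases hna : IsMulCommutative (↥L ⧸ center ↥L)
      · refine absurd ?_ (Components.Basic.quasisimple_not_isSolvable hq)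
        haveI : Group.IsSolvable (↥L ⧸ center ↥L) := Group.isSolvable_of_comm fun a b => hna.is_comm.comm a b
        haveI : Group.IsSolvable ↥(center ↥L) := Group.isSolvable_of_comm fun a b =>
          Subtype.ext (mem_center_iff.1 b.2 a.1)
        exact Group.isSolvable_of_ker_le_range (center ↥L).subtype (QuotientGroup.mk' (center ↥L))
          (by rw [QuotientGroup.ker_mk', range_subtype])
      · refine (hK L hL.1 (center ↥L) inferInstance hna).resolve_right fun hodd => hL2 ?_
        -- a component of odd order lies in the odd core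
        refine hAF.trans (centralizer_le ?_)
        exact odd_component_le hO2 hL hodd
  · haveI : Fact (Nat.Prime 2) := ⟨Nat.prime_two⟩
    obtain ⟨f, hf, a₀, ha₀, hfa⟩ : ∃ f ∈ F, ∃ a ∈ A, a * f ≠ f * a := by
      by_contra hcon
      push Not at hcon
      exact hAF fun a ha => mem_centralizer_iff.2 fun f hf => (hcon f hf a ha).symm
    obtain ⟨B, hBA, hcard, g, hg, hgB, a, ha, hga⟩ : ∃ B ≤ A, Nat.card A ≤ 2 * Nat.card B ∧
        ∃ g ∈ F, (∀ b ∈ B, g * b = b * g) ∧ ∃ a ∈ A, a * g ≠ g * a := by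
      by_cases h4 : 2 ^ 2 ≤ Nat.card A
      · have hAel : Cfsg.IsElementaryAbelian 2 A :=
          ⟨⟨⟨fun s t => Subtype.ext (hAc s s.2 t t.2)⟩⟩, fun s hs => by rw [pow_two]; exact hAexp s hs⟩
        have hAn : A ≤ normalizer (F : Set G) := by
          rw [normalizer_eq_top]; exact le_top
        have hgen := Components.Hyperplane.eq_iSup_hyperplane hAel h4
          (fun h => Nat.not_even_iff_odd.2 hFodd (even_iff_two_dvd.2 h)) hAn
        by_contra hcon
        push Not at hcon
        have hle : F ≤ centralizer ({a₀} : Set G) := by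
          refine hgen.le.trans (iSup_le fun D => ?_)
          rintro g ⟨hgF, hgD⟩
          refine mem_centralizer_singleton_iff.2 (hcon D D.2.1 ?_ g hgF
            (fun b hb => (mem_centralizer_iff.1 hgD b hb).symm) a₀ ha₀).symm
          have h1 := relIndex_mul_relIndex ⊥ (D : Subgroup G) A bot_le D.2.1
          rw [relIndex_bot_left, relIndex_bot_left, D.2.2] at h1
          omega
        exact hfa (mem_centralizer_singleton_iff.1 (hle hf)).symm
      · refine ⟨⊥, bot_le, ?_, f, hf, fun b hb => by rw [mem_bot.1 hb, one_mul, mul_one], a₀, ha₀, hfa⟩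
        rw [card_bot]
        obtain ⟨i, hi⟩ := IsPGroup.iff_card.1
          (fun s : A => ⟨1, Subtype.ext (by rw [pow_one, SubmonoidClass.coe_pow, pow_two]; exact hAexp s s.2)⟩ :
            IsPGroup 2 A)
        rw [hi] at h4 ⊢
        rcases i with _ | _ | i
        · norm_num
        · norm_num
        · exact absurd (Nat.pow_le_pow_right (by norm_num) (by omega)) h4
    have hai : a⁻¹ = a := inv_eq_of_mul_eq_one_right (hAexp a ha)
    have hxF : g⁻¹ * (a * g * a⁻¹) ∈ F :=
      mul_mem (inv_mem hg) ((Subgroup.Normal.conj_mem inferInstance) g hg a)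
    obtain ⟨y, p, h⟩ := split_of_index_two hS3 hAexp hcard ha (x := g⁻¹ * (a * g * a⁻¹))
      (fun e => hga (mul_inv_eq_iff_eq_mul.1 (inv_mul_eq_one.1 e).symm))
      (Odd.of_dvd_nat hFodd (Subgroup.orderOf_dvd_natCard F hxF))
      (by
        calc a * (g⁻¹ * (a * g * a⁻¹)) * a⁻¹ = a * g⁻¹ * a * g * (a * a)⁻¹ := by group
          _ = a * g⁻¹ * a⁻¹ * g := by rw [hAexp a ha, inv_one, mul_one, hai]
          _ = _ := by group)
      (fun b hb => by
        have h1 : Commute g b := hgB b hb
        have h2 : Commute a b := hAc a ha b (hBA hb)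
        exact (h1.inv_left.mul_left ((h2.mul_left h1).mul_left h2.inv_left)).eq)
    exact ⟨B, hBA, a, ha, y, p, h⟩

end Cfsg.Agent.CharP.S3FreeSplit
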