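import Cfsg.Agent.Lib.CharP.S3FreeNoOffender
import Cfsg.Agent.Lib.PLocal.InvolvesS4
import Cfsg.Agent.Lib.Components.Hyperplane
import Cfsg.Agent.Lib.PLocal.Replacement
import Cfsg.Agent.Lib.Coprime.OmegaDetect
import Cfsg.Agent.Techniques.Sylow
import Cfsg.Agent.Lib.Transfer.Fusion
import Cfsg.Agent.Lib.Fusion.SylIn
import Cfsg.Agent.Lib.PLocal.ThompsonSubgroup

/-!
2-constrained `S₄`-free groups: `G = C_G(Z(S)) N_G(J_e(S))`, with no restriction on the Sylow
2-subgroup `S`.
-/

set_option autoImplicit false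
set_option linter.style.haveILetI false

namespace Cfsg.Agent.CharP.S4FreeFactor

open Subgroup

variable {G : Type*} [Group G]

/-- The elementary abelian 2-subgroups of largest order of an `S₄`-free group centralise a reduced
normal module. -/
theorem le_centralizer_of_max [Finite G] (hS4 : ¬ Cfsg.Involves (Equiv.Perm (Fin 4)) G)
    {V : Subgroup G} [V.Normal] (hV : Cfsg.IsElementaryAbelian 2 V)
    (hO2 : Cfsg.pCore 2 (G ⧸ centralizer (V : Set G)) = ⊥) (S : Sylow 2 G)
    (hVS : V ≤ (S : Subgroup G))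
    {A : Subgroup G} (hAS : A ≤ (S : Subgroup G)) (hA : Cfsg.IsElementaryAbelian 2 A)
    (hAmax : ∀ B : Subgroup G, B ≤ (S : Subgroup G) → Cfsg.IsElementaryAbelian 2 B →
      Nat.card B ≤ Nat.card A) : A ≤ centralizer (V : Set G) := by
  classical
  have : Fact (Nat.Prime 2) := ⟨Nat.prime_two⟩
  set C := centralizer (V : Set G) with hC
  set q := QuotientGroup.mk' C with hq
  have hqs : Function.Surjective q := QuotientGroup.mk'_surjective C
  letI : CommGroup ↥V :=
    { (inferInstance : Group ↥V) with mul_comm := fun a b => hV.1.is_comm.comm a b }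
  have hker : C ≤ (MulAut.conjNormal : G →* MulAut ↥V).ker := by
    intro c hc
    refine MonoidHom.mem_ker.2 (MulEquiv.ext fun v => Subtype.ext ?_)
    show c * (v : G) * c⁻¹ = v
    rw [← hc v v.2, mul_inv_cancel_right]
  letI : MulDistribMulAction (MulAut ↥V) ↥V :=
    { smul := fun f v => f v
      one_smul := fun _ => rfl
      mul_smul := fun _ _ _ => rfl
      smul_mul := fun f => map_mul f
      smul_one := fun f => map_one f }
  letI : MulDistribMulAction (G ⧸ C) ↥V :=
    MulDistribMulAction.compHom ↥V (QuotientGroup.lift C MulAut.conjNormal hker)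
  have hsmul : ∀ (g : G) (v : ↥V), ((q g • v : ↥V) : G) = g * (v : G) * g⁻¹ := fun g v => rfl
  set Sb := S.mapSurjective hqs with hSb
  have hexp : ∀ v : ↥V, v * v = 1 := fun v => Subtype.ext (by
    rw [Subgroup.coe_mul, ← pow_two]; exact hV.2 v v.2)
  have hfaith : ∀ g : G ⧸ C, (∀ v : ↥V, g • v = v) → g = 1 := by
    intro x hx
    obtain ⟨g, rfl⟩ := hqs x
    refine (QuotientGroup.eq_one_iff g).2 (mem_centralizer_iff.2 fun v hv => ?_)
    have h := congrArg Subtype.val (hx ⟨v, hv⟩)
    rw [hsmul] at h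
    exact (mul_inv_eq_iff_eq_mul.1 h).symm
  have hS3 : ¬ Cfsg.Involves (Equiv.Perm (Fin 3)) (G ⧸ C) := by
    intro h3
    refine hS4 (PLocal.InvolvesS4.involves_of_automizer (T := V) (S.2.to_le hVS) ?_)
    obtain ⟨K, f, hf⟩ := Fusion.LocalModels.exists_surj h3
    set N := normalizer (V : Set G) with hN
    let Cn := C.subgroupOf N
    let e : (G ⧸ C) →* ↥N ⧸ Cn := QuotientGroup.map C Cn
      ((MonoidHom.id G).codRestrict N fun g => by rw [hN, normalizer_eq_top]; trivial)
      (fun g hg => hg)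
    have hei : Function.Injective e := by
      rw [injective_iff_map_eq_one]
      intro x hx
      obtain ⟨g, rfl⟩ := hqs x
      exact (QuotientGroup.eq_one_iff g).2
        (mem_subgroupOf.1 ((QuotientGroup.eq_one_iff _).1 hx) : _)
    let ι : ↥K →* ↥N ⧸ Cn := e.comp K.subtype
    have hι : Function.Injective ι := hei.comp Subtype.val_injective
    exact Fusion.LocalModels.involves_of_surj
      (f.comp (MonoidHom.ofInjective hι).symm.toMonoidHom) (hf.comp (MulEquiv.surjective _))
  have hAc : ∀ x ∈ A, ∀ y ∈ A, x * y = y * x := fun x hx y hy =>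
    Components.Hyperplane.mem_comm hA hx hy
  set Ab := A.map q with hAb
  have hcard : ∀ B : Subgroup G, B ≤ A → A ⊓ C ≤ B →
      Nat.card B = Nat.card (B.map q) * Nat.card ↥(A ⊓ C) := by
    intro B hB hCB
    have e : B ⊓ C = A ⊓ C := le_antisymm (inf_le_inf_right C hB) (le_inf hCB inf_le_right)
    have h1 : (B ⊓ C).relIndex B = Nat.card (B.map q) := by
      rw [inf_relIndex_left, ← relIndex_ker, hq, QuotientGroup.ker_mk']
    rw [← h1, mul_comm, e, ← relIndex_bot_left (A ⊓ C),
      relIndex_mul_relIndex _ _ _ bot_le hCB, relIndex_bot_left]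
  have hfix : ∀ B : Subgroup G, Nat.card (S3FreeOffender.fix (B.map q) : Subgroup ↥V) =
      Nat.card ↥(V ⊓ centralizer (B : Set G)) := by
    intro B
    rw [← card_map_of_injective (f := V.subtype) V.subtype_injective]
    congr 2
    ext x
    constructor
    · rintro ⟨v, hv, rfl⟩
      refine ⟨v.2, fun b hb => ?_⟩
      have h := congrArg Subtype.val (hv (q b) (mem_map_of_mem q hb))
      rw [hsmul] at h
      exact mul_inv_eq_iff_eq_mul.1 h
    · intro hx
      refine ⟨⟨x, hx.1⟩, ?_, rfl⟩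
      rintro _ ⟨b, hb, rfl⟩
      refine Subtype.ext ?_
      rw [hsmul]
      exact mul_inv_eq_iff_eq_mul.2 (hx.2 b hb)
  have hel : S3FreeOffender.IsElem Ab := by
    refine ⟨?_, ?_⟩
    · rintro _ ⟨a, ha, rfl⟩ _ ⟨b, hb, rfl⟩
      rw [← map_mul, ← map_mul, hAc a ha b hb]
    · rintro _ ⟨a, ha, rfl⟩
      rw [← map_mul, ← pow_two, hA.2 a ha, map_one]
  have hbest : S3FreeOffender.IsBest ↥V Ab := by
    intro Bb hBb
    set B := A ⊓ Bb.comap q with hB
    have hBmap : B.map q = Bb := by
      refine le_antisymm (map_le_iff_le_comap.2 inf_le_right) fun x hx => ?_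
      obtain ⟨a, ha, rfl⟩ := hBb hx
      exact ⟨a, ⟨ha, hx⟩, rfl⟩
    have hCB : A ⊓ C ≤ B := le_inf inf_le_left fun x hx => by
      show q x ∈ Bb
      rw [show q x = 1 from (QuotientGroup.eq_one_iff x).2 hx.2]
      exact one_mem _
    set D := V ⊓ centralizer (B : Set G) with hD
    have hBe := Components.Hyperplane.isElementaryAbelian_of_le hA (inf_le_left : B ≤ A)
    have hE : Cfsg.IsElementaryAbelian 2 (B ⊔ D : Subgroup G) :=
      PLocal.ThompsonSubgroup.IsElementaryAbelian.sup hBe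
        (Components.Hyperplane.isElementaryAbelian_of_le hV inf_le_left)
        (le_centralizer_iff.1 inf_le_right)
    have h1 := hAmax _ (sup_le (inf_le_left.trans hAS) (inf_le_left.trans hVS)) hE
    have h3 : Nat.card ↥(B ⊓ D) ≤ Nat.card ↥(V ⊓ centralizer (A : Set G)) :=
      card_le_of_le (le_inf (inf_le_right.trans inf_le_left) fun x hx =>
        mem_centralizer_iff.2 fun a ha => hAc a ha x hx.1.1)
    have h4 : Nat.card B * Nat.card D ≤ Nat.card A * Nat.card ↥(V ⊓ centralizer (A : Set G)) :=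
      (PLocal.Replacement.card_mul_card_le B D).trans (Nat.mul_le_mul h1 h3)
    have e : (S3FreeOffender.fix Bb : Subgroup ↥V) = S3FreeOffender.fix (B.map q) := by rw [hBmap]
    rw [hcard B inf_le_left hCB, hcard A le_rfl inf_le_left, hBmap] at h4
    rw [e, hfix, hAb, hfix]
    refine Nat.le_of_mul_le_mul_right ?_ (Nat.card_pos (α := ↥(A ⊓ C)))
    calc _ = Nat.card Bb * Nat.card ↥(A ⊓ C) * Nat.card D := by ring
      _ ≤ _ := h4
      _ = _ := by ring
  have hbot := hbest ⊥ bot_le
  rw [S3FreeNoOffender.weight_bot] at hbot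
  have hAb0 : Ab = ⊥ := by
    by_contra hne
    exact (S3FreeNoOffender.no_offender hexp hfaith hO2 hS3 hel hne).not_ge hbot
  rw [hAb, Subgroup.map_eq_bot_iff, hq, QuotientGroup.ker_mk'] at hAb0
  exact hAb0

/-- Odd elements fixing the involutions of a normal abelian 2-subgroup centralise it. -/
theorem commute_of_commute_involutions {W : Subgroup G} [W.Normal] (hW : IsPGroup 2 W)
    (hWc : ∀ x ∈ W, ∀ y ∈ W, x * y = y * x) {h : G} (ho : (orderOf h).Coprime 2)
    (hV : ∀ w ∈ W, w ^ 2 = 1 → h * w = w * h) : h ∈ centralizer (W : Set G) := by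
  haveI : Fact (Nat.Prime 2) := ⟨Nat.prime_two⟩
  suffices key : ∀ k, ∀ x ∈ W, x ^ 2 ^ k = 1 → h * x = x * h by
    refine mem_centralizer_iff.2 fun x hx => ?_
    obtain ⟨k, hk⟩ := hW ⟨x, hx⟩
    exact (key k x hx (congrArg Subtype.val hk)).symm
  intro k
  induction k with
  | zero =>
    intro x _ hx
    rw [pow_zero, pow_one] at hx
    rw [hx, mul_one, one_mul]
  | succ k ih =>
    intro x hx hxk
    have h1 := ih (x ^ 2) (W.pow_mem hx 2) (by rw [← pow_mul, ← pow_succ', hxk])
    set y := h * x * h⁻¹ with hy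
    have hyW : y ∈ W := Subgroup.Normal.conj_mem inferInstance x hx h
    have hd : (y * x⁻¹) ^ 2 = 1 := by
      rw [Commute.mul_pow (hWc y hyW x⁻¹ (inv_mem hx)), hy, conj_pow, h1, mul_inv_cancel_right,
        inv_pow, mul_inv_cancel]
    exact Coprime.OmegaDetect.eq_one_of_fix (hV _ (mul_mem hyW (inv_mem hx)) hd)
      (Coprime.OmegaDetect.coprime_of_mem hW ho (mul_mem hyW (inv_mem hx)))

/-- `G = C_G(Z(S)) N_G(J_e(S))`. -/
theorem exists_mul [Finite G] (hS4 : ¬ Cfsg.Involves (Equiv.Perm (Fin 4)) G)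
    (hchar : centralizer (Cfsg.pCore 2 G : Set G) ≤ Cfsg.pCore 2 G) (S : Sylow 2 G) (x : G) :
    ∃ a ∈ centralizer (((S : Subgroup G) ⊓ centralizer ((S : Subgroup G) : Set G) : Subgroup G) : Set G),
      ∃ b ∈ normalizer ((Cfsg.thompsonSubgroupOf 2 (S : Subgroup G)) : Set G), x = a * b := by
  classical
  haveI : Fact (Nat.Prime 2) := ⟨Nat.prime_two⟩
  set Q := Cfsg.pCore 2 G with hQdef
  have hQp : IsPGroup 2 Q := PLocal.Cores.isPGroup_pCore
  have hQS : Q ≤ (S : Subgroup G) := PLocal.Cores.pCore_le_sylow S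
  set ZS := (S : Subgroup G) ⊓ centralizer ((S : Subgroup G) : Set G) with hZS
  set ZQ := Q ⊓ centralizer (Q : Set G) with hZQ
  set W := normalClosure (ZS : Set G) with hWdef
  haveI hWn : W.Normal := normalClosure_normal
  have hWQ : W ≤ ZQ := normalClosure_le_normal fun z hz =>
    mem_inf.2 ⟨hchar (centralizer_le hQS (mem_inf.1 hz).2), centralizer_le hQS (mem_inf.1 hz).2⟩
  have hWc : ∀ a ∈ W, ∀ b ∈ W, a * b = b * a := fun a ha b hb =>
    mem_centralizer_iff.1 (mem_inf.1 (hWQ hb)).2 a (mem_inf.1 (hWQ ha)).1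
  have hW2 : IsPGroup 2 W := hQp.to_le (hWQ.trans inf_le_left)
  set CW := centralizer (W : Set G) with hCW
  haveI : CW.Normal := inferInstance
  set q := QuotientGroup.mk' CW with hq
  have hqs : Function.Surjective q := QuotientGroup.mk'_surjective CW
  have hO2 : Cfsg.pCore 2 (G ⧸ CW) = ⊥ := by
    set L := (Cfsg.pCore 2 (G ⧸ CW)).comap q with hL
    set T := (S : Subgroup G) ⊓ L with hT
    have h1 : (CW ⊔ T).relIndex L ∣ CW.relIndex L := relIndex_dvd_of_le_left L le_sup_left
    obtain ⟨k, hk⟩ := (PLocal.Cores.isPGroup_pCore (p := 2) (G := G ⧸ CW)).exists_card_eq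
    have hCk : CW.relIndex L = 2 ^ k := by
      rw [← hk, ← map_comap_eq_self_of_surjective hqs (Cfsg.pCore 2 (G ⧸ CW)), ← relIndex_ker, hq,
        QuotientGroup.ker_mk']
    rw [hCk] at h1
    obtain ⟨j, -, hj⟩ := (Nat.dvd_prime_pow Nat.prime_two).mp h1
    have hLeq : L ≤ CW ⊔ T := by
      cases j with
      | zero => exact relIndex_eq_one.mp (by rwa [pow_zero] at hj)
      | succ j => exact absurd (hj ▸ dvd_pow_self 2 j.succ_ne_zero) fun h =>
          Techniques.not_dvd_relIndex_of_normal S L (h.trans (relIndex_dvd_of_le_left L le_sup_right))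
    have hLn : L.Normal := inferInstance
    have key : L ≤ centralizer (ZS : Set G) := hLeq.trans (sup_le
      (centralizer_le subset_normalClosure)
      (fun t ht => mem_centralizer_iff.2 fun z hz =>
        (mem_centralizer_iff.1 (mem_inf.1 hz).2 t (mem_inf.1 ht).1).symm))
    have hLC : L ≤ CW := le_centralizer_iff.1 (normalClosure_le_normal (N := centralizer (L : Set G))
      fun z hz => le_centralizer_iff.1 key hz)
    rw [← map_comap_eq_self_of_surjective hqs (Cfsg.pCore 2 (G ⧸ CW)), ← hL,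
      Subgroup.map_eq_bot_iff, hq, QuotientGroup.ker_mk']
    exact hLC
  let V : Subgroup G :=
    { carrier := {w | w ∈ W ∧ w ^ 2 = 1}
      one_mem' := ⟨one_mem _, one_pow 2⟩
      mul_mem' := fun {a b} ha hb => ⟨mul_mem ha.1 hb.1, by
        rw [Commute.mul_pow (hWc a ha.1 b hb.1), ha.2, hb.2, one_mul]⟩
      inv_mem' := fun {a} ha => ⟨inv_mem ha.1, by rw [inv_pow, ha.2, inv_one]⟩ }
  haveI hVn : V.Normal := ⟨fun w hw g => ⟨hWn.conj_mem w hw.1 g, by
    rw [conj_pow, hw.2, mul_one, mul_inv_cancel]⟩⟩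
  have hV : Cfsg.IsElementaryAbelian 2 V :=
    ⟨⟨⟨fun a b => Subtype.ext (hWc a a.2.1 b b.2.1)⟩⟩, fun v hv => hv.2⟩
  have hVS : V ≤ (S : Subgroup G) := fun v hv => hQS (mem_inf.1 (hWQ hv.1)).1
  have hC : centralizer (V : Set G) = CW := by
    refine le_antisymm ?_ (centralizer_le fun v hv => hv.1)
    set CV := centralizer (V : Set G) with hCV
    haveI : CV.Normal := inferInstance
    have hp : IsPGroup 2 (CV.map q) := by
      rintro ⟨_, g, hg, rfl⟩
      obtain ⟨k, m, hm, hkm⟩ :=
        Nat.exists_eq_pow_mul_and_not_dvd (orderOf_pos g).ne' 2 (by norm_num)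
      refine ⟨k, Subtype.ext ?_⟩
      rw [SubmonoidClass.coe_pow, Subgroup.coe_one, ← map_pow]
      refine (QuotientGroup.eq_one_iff _).2 (commute_of_commute_involutions hW2 hWc ?_ fun w hw hw2 => ?_)
      · refine Nat.Coprime.coprime_dvd_left (orderOf_dvd_of_pow_eq_one ?_)
          ((Nat.Prime.coprime_iff_not_dvd Nat.prime_two).mpr hm).symm
        rw [← pow_mul, ← hkm, pow_orderOf_eq_one]
      · exact (mem_centralizer_iff.1 (CV.pow_mem hg _) w ⟨hw, hw2⟩).symm
    haveI : (CV.map q).Normal := Normal.map inferInstance q hqs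
    have h := PLocal.Cores.le_pCore hp
    rw [hO2, le_bot_iff, Subgroup.map_eq_bot_iff, hq, QuotientGroup.ker_mk'] at h
    exact h
  have hO2' : Cfsg.pCore 2 (G ⧸ centralizer (V : Set G)) = ⊥ := by
    rw [← PLocal.Cores.map_pCore_equiv (QuotientGroup.quotientMulEquivOfEq hC.symm), hO2,
      Subgroup.map_bot]
  set P := (S : Subgroup G) ⊓ CW with hP
  have hJC : Cfsg.thompsonSubgroupOf 2 (S : Subgroup G) ≤ P := by
    refine le_inf (PLocal.ThompsonSubgroup.thompsonSubgroupOf_le _) ?_
    rw [Cfsg.thompsonSubgroupOf, map_le_iff_le_comap]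
    refine sSup_le fun B hB => ?_
    rw [← map_le_iff_le_comap, ← hC]
    refine le_centralizer_of_max hS4 hV hO2' S hVS (map_subtype_le _)
      (PLocal.ThompsonSubgroup.IsElementaryAbelian.map hB.1 _) fun B' hB'S hB' => ?_
    rw [card_map_of_injective (S : Subgroup G).subtype_injective]
    refine le_trans ?_ (hB.2 (B'.subgroupOf S)
      (PLocal.ThompsonSubgroup.IsElementaryAbelian.comap hB' (S : Subgroup G).subtype_injective))
    rw [Nat.card_congr (subgroupOfEquivOfLe hB'S).toEquiv]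
  have hNP : normalizer (P : Set G) ≤
      normalizer ((Cfsg.thompsonSubgroupOf 2 (S : Subgroup G)) : Set G) := by
    rw [← PLocal.ThompsonSubgroup.thompsonSubgroupOf_eq_of_le_of_le hJC inf_le_left]
    exact PLocal.ThompsonSubgroup.normalizer_le_normalizer_thompsonSubgroupOf P
  have hsyl : Fusion.SylIn.SylIn 2 P CW := (Fusion.SylIn.of_sylow S).inf_normal le_top
    (by rw [normalizer_eq_top])
  obtain ⟨P', hP'⟩ := (Fusion.SylIn.sylIn_iff_exists hsyl.1).1 hsyl
  have hF : normalizer (P : Set G) ⊔ CW = ⊤ := by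
    have h := Sylow.normalizer_sup_eq_top P'
    rwa [hP', map_subgroupOf_eq_of_le hsyl.1] at h
  obtain ⟨n, hn, c, hc, rfl⟩ := mem_sup_of_normal_right.1 (hF.ge (mem_top x))
  exact ⟨n * c * n⁻¹, centralizer_le subset_normalClosure
    ((inferInstance : CW.Normal).conj_mem c hc n), n, hNP hn, by group⟩

end Cfsg.Agent.CharP.S4FreeFactor
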