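import Cfsg.Agent.Lib.CharP.SL2Natural

/-!
`SL(2, 2ⁿ)` acting on an abelian 2-group such that an element of order three has no fixed point
(that is, satisfies `g² + g + 1 = 0`): an elementary abelian such group is a sum of natural modules, there
is no nonzero invariant commutator pairing between two of them, and exponent four cannot occur.
-/

set_option autoImplicit false
set_option linter.unusedSectionVars false

namespace Cfsg.Agent.CharP.SL2FixedPointFree

open SL2Natural
open scoped MatrixGroups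

variable {F : Type*} [Field F] [Finite F] [CharP F 2]

theorem neg_one_unit : (-1 : Fˣ) = 1 := Units.ext (by simp [CharTwo.neg_eq])

theorem ww_mul_ww : ww * ww = (1 : SL(2, F)) := by rw [ww_sq, neg_one_unit, tt_one]

theorem ww_inv : (ww : SL(2, F))⁻¹ = ww := inv_eq_of_mul_eq_one_right ww_mul_ww

theorem uu_self (a : F) : uu a * uu a = 1 := by rw [uu_mul, CharTwo.add_self_eq_zero, uu_zero]

theorem conj_rel (s : Fˣ) : tt s * (ww * uu (1 : F)) * tt s⁻¹ =
    uu ((s * s : Fˣ) : F) * (ww * uu (((s * s)⁻¹ : Fˣ) : F) * ww) := by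
  refine sl_ext ?_
  have h : (s : F) ≠ 0 := s.ne_zero
  simp only [coe_mul']
  simp [uu, ww, tt, CharTwo.neg_eq, CharTwo.add_self_eq_zero, h, ← mul_assoc]

section

variable {M : Type*} [AddCommGroup M] [DistribMulAction SL(2, F) M]

/-- The defining condition on a module: exponent two, and `g² + g + 1 = 0` for an element of order three. -/
def Fpf (F M : Type*) [Field F] [AddCommGroup M] [DistribMulAction SL(2, F) M] : Prop :=
  (∀ m : M, m + m = 0) ∧
    ∀ m : M, ww (F := F) • uu (1 : F) • ww (F := F) • uu (1 : F) • m + ww (F := F) • uu (1 : F) • m + m = 0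

theorem ww_smul_ww (m : M) : ww (F := F) • ww (F := F) • m = m := by
  rw [smul_smul, ww_mul_ww, one_smul]

theorem uu_smul_self (a : F) (m : M) : uu a • uu a • m = m := by
  rw [smul_smul, uu_self, one_smul]

theorem uu_comm (a b : F) (m : M) : uu a • uu b • m = uu b • uu a • m := by
  rw [smul_smul, smul_smul, uu_mul, uu_mul, add_comm]

variable (hM : Fpf F M)

include hM

theorem neg_eq (m : M) : -m = m := neg_eq_of_add_eq_zero_left (hM.1 m)

theorem add_cancel' (m n : M) : m + (m + n) = n := by rw [← add_assoc, hM.1, zero_add]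

theorem eq_of_add (m n : M) (h : m + n = 0) : m = n := by
  rw [← neg_eq hM n]; exact eq_neg_of_add_eq_zero_left h

/-- the relation, transported by the torus -/
theorem rel (a : Fˣ) (m : M) :
    uu (a : F) • ww (F := F) • uu ((a⁻¹ : Fˣ) : F) • ww (F := F) • m +
      ww (F := F) • uu ((a⁻¹ : Fˣ) : F) • ww (F := F) • uu (a : F) • m + m = 0 := by
  cases nonempty_fintype F
  obtain ⟨s, hs⟩ := (Finite.injective_iff_surjective (f := fun x : F => x ^ 2)).mp
    (frobenius_inj F 2) (a : F)
  have hs0 : s ≠ 0 := by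
    rintro rfl
    exact a.ne_zero (by simpa using hs.symm)
  lift s to Fˣ using Ne.isUnit hs0
  obtain rfl : a = s * s := Units.ext (by rw [Units.val_mul, ← sq]; exact hs.symm)
  have hg : ∀ x : M, (tt s * (ww * uu (1 : F)) * tt s⁻¹) • x = tt s • ww (F := F) • uu (1 : F) • tt s⁻¹ • x :=
    fun x => by simp only [mul_smul]
  have hc : ∀ x : M, uu ((s * s : Fˣ) : F) • ww (F := F) • uu (((s * s)⁻¹ : Fˣ) : F) • ww (F := F) • x =
      tt s • ww (F := F) • uu (1 : F) • tt s⁻¹ • x := fun x => by
    rw [← hg, conj_rel]; simp only [mul_smul]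
  have h1 := congrArg (fun y => tt s • y) (hM.2 (tt s⁻¹ • m))
  simp only [smul_zero, smul_add] at h1
  have hcc : ∀ x : M, tt s⁻¹ • tt s • x = x := fun x => by
    rw [smul_smul, tt_mul, inv_mul_cancel, tt_one, one_smul]
  have hsq : ∀ x : M, tt s • ww (F := F) • uu (1 : F) • ww (F := F) • uu (1 : F) • tt s⁻¹ • x =
      ww (F := F) • uu (((s * s)⁻¹ : Fˣ) : F) • ww (F := F) • uu ((s * s : Fˣ) : F) • x := by
    intro x
    obtain ⟨y, rfl⟩ : ∃ y, x = uu ((s * s : Fˣ) : F) • ww (F := F) • uu (((s * s)⁻¹ : Fˣ) : F) • ww (F := F) • y :=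
      ⟨ww (F := F) • uu (((s * s)⁻¹ : Fˣ) : F) • ww (F := F) • uu ((s * s : Fˣ) : F) • x,
        by simp only [ww_smul_ww, uu_smul_self]⟩
    conv_rhs => simp only [ww_smul_ww, uu_smul_self]
    conv_lhs => rw [hc, hcc]
    have h3 : ((ww * uu (1 : F)) * (ww * uu (1 : F)) * (ww * uu (1 : F)) : SL(2, F)) = 1 := by
      refine sl_ext ?_
      simp only [coe_mul']
      simp only [Matrix.SpecialLinearGroup.coe_one]
      ext i j
      fin_cases i <;> fin_cases j <;> simp [uu, ww, CharTwo.neg_eq, CharTwo.add_self_eq_zero]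
    have h4 := congrArg (fun g : SL(2, F) => g • tt s⁻¹ • y) h3
    simp only [mul_smul, one_smul] at h4
    rw [h4, smul_smul, tt_mul, mul_inv_cancel, tt_one, one_smul]
  rw [hsq, ← hc, smul_smul (tt s), tt_mul, mul_inv_cancel, tt_one, one_smul] at h1
  rw [add_comm (uu _ • _)]
  exact h1

theorem rel_one (m : M) :
    uu (1 : F) • ww (F := F) • m + ww (F := F) • uu (1 : F) • m + m = 0 := by
  have h := rel hM (1 : Fˣ) m
  rw [inv_one, Units.val_one] at h
  -- the two products are the two elements of order three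
  have e : (uu (1 : F) * (ww * uu (1 : F) * ww) : SL(2, F)) = ww * uu (1 : F) := by
    refine sl_ext ?_
    simp only [coe_mul']
    ext i j
    fin_cases i <;> fin_cases j <;> simp [uu, ww, CharTwo.neg_eq, CharTwo.add_self_eq_zero]
  have e' : (ww * uu (1 : F) * ww * uu (1 : F) : SL(2, F)) = uu (1 : F) * ww := by
    refine sl_ext ?_
    simp only [coe_mul']
    ext i j
    fin_cases i <;> fin_cases j <;> simp [uu, ww, CharTwo.neg_eq, CharTwo.add_self_eq_zero]
  have h1 := congrArg (fun g : SL(2, F) => g • m) e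
  have h2 := congrArg (fun g : SL(2, F) => g • m) e'
  simp only [mul_smul] at h1 h2
  rw [h1, h2] at h
  rw [add_comm (uu _ • _)]
  exact h

/-- every element is `X (W m) + W (X m)` with `X = u - 1` -/
theorem decomp (m : M) : m = (uu (1 : F) • ww (F := F) • m + ww (F := F) • m) +
    ww (F := F) • (uu (1 : F) • m + m) := by
  rw [smul_add, add_add_add_comm, hM.1, add_zero]
  exact (eq_of_add hM _ _ (rel_one hM m)).symm

theorem eq_zero_of_fix {c : M} (h : uu (1 : F) • c = c) (h' : uu (1 : F) • ww (F := F) • c = ww (F := F) • c) :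
    c = 0 := by
  have := decomp hM c
  rwa [h, h', hM.1, hM.1, smul_zero, add_zero] at this

omit hM in
theorem fix_uu {c : M} (h : uu (1 : F) • c = c) (a : F) : uu (1 : F) • uu a • c = uu a • c := by
  rw [uu_comm, h]

theorem uu_one_ww {c : M} (h : uu (1 : F) • c = c) :
    uu (1 : F) • ww (F := F) • c = ww (F := F) • c + c := by
  have h1 := eq_of_add hM _ _ (rel_one hM c)
  rw [h] at h1
  calc uu (1 : F) • ww (F := F) • c
      = uu (1 : F) • ww (F := F) • c + ww (F := F) • c + ww (F := F) • c := by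
        rw [add_assoc, hM.1, add_zero]
    _ = ww (F := F) • c + c := by rw [h1, add_comm]

/-- the component map `Q_a` -/
theorem coord_fix {c : M} (h : uu (1 : F) • c = c) (a : F) :
    uu (1 : F) • (uu a • ww (F := F) • c + ww (F := F) • uu a • c) =
      uu a • ww (F := F) • c + ww (F := F) • uu a • c := by
  rw [smul_add, uu_comm 1 a, uu_one_ww hM h, uu_one_ww hM (fix_uu h a), smul_add, add_add_add_comm,
    hM.1, add_zero]

theorem uu_ww {c : M} (a : F) : uu a • ww (F := F) • c =
    (uu a • ww (F := F) • c + ww (F := F) • uu a • c) + ww (F := F) • uu a • c := by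
  rw [add_assoc, hM.1, add_zero]

theorem unique {x y x' y' : M} (hx : uu (1 : F) • x = x) (hy : uu (1 : F) • y = y)
    (hx' : uu (1 : F) • x' = x') (hy' : uu (1 : F) • y' = y')
    (h : x + ww (F := F) • y = x' + ww (F := F) • y') : x = x' ∧ y = y' := by
  have h1 := congrArg (fun m => uu (1 : F) • m) h
  simp only [smul_add, hx, hx', uu_one_ww hM hy, uu_one_ww hM hy'] at h1
  rw [← add_assoc, ← add_assoc, h] at h1
  have hyy : y = y' := add_left_cancel h1
  subst hyy
  exact ⟨add_right_cancel h, rfl⟩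

/-- the unitriangular group fixes the fixed points of `u = uu 1` -/
theorem fix_all {c : M} (hc : uu (1 : F) • c = c) (a : F) : uu a • c = c := by
  classical
  let q : F → M → M := fun a x => uu a • ww (F := F) • x + ww (F := F) • uu a • x
  let P : F → M → M := fun a x => uu a • x + x
  have hqd : ∀ (a : F) {x : M}, uu a • ww (F := F) • x = q a x + ww (F := F) • uu a • x :=
    fun a x => uu_ww hM a
  have hq : ∀ (a : F) {x : M}, uu (1 : F) • x = x → uu (1 : F) • q a x = q a x :=
    fun a x hx => coord_fix hM hx a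
  have hP : ∀ (a : F) {x : M}, uu (1 : F) • x = x → uu (1 : F) • P a x = P a x :=
    fun a x hx => by simp only [P, smul_add, fix_uu hx, hx]
  -- the action of `uu a * l` on a fixed vector
  have lc : ∀ (a : F) {x : M}, uu (1 : F) • x = x → ww (F := F) • uu a • ww (F := F) • x =
      uu a • x + ww (F := F) • q a x := fun a x _ => by
    simp only [q, smul_add, ww_smul_ww]
    rw [add_comm, add_assoc, hM.1, add_zero]
  -- the facts for a fixed unit
  have facts : ∀ (a : Fˣ) {x : M}, uu (1 : F) • x = x →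
      q (a : F) (q ((a⁻¹ : Fˣ) : F) x) = x ∧
      uu (a : F) • q ((a⁻¹ : Fˣ) : F) x = q ((a⁻¹ : Fˣ) : F) (uu (a : F) • x) ∧
      uu (a : F) • q (a : F) x = q (a : F) (uu (a : F) • x) := by
    intro a x hx
    set b : F := ((a⁻¹ : Fˣ) : F)
    have h := rel hM a x
    rw [lc b hx, lc b (fix_uu hx _), smul_add] at h
    rw [hqd (a : F) (x := q b x)] at h
    have hcomm : uu (a : F) • uu b • x = uu b • uu (a : F) • x := uu_comm _ _ _
    have h2 : (q (a : F) (q b x) + x) + ww (F := F) • (uu (a : F) • q b x + q b (uu (a : F) • x)) = 0 := by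
      rw [smul_add, ← h, hcomm]
      rw [show ∀ A B C D : M, A + (B + C) + (A + D) + x = (A + A) + ((B + x) + (C + D)) from
        fun A B C D => by abel, hM.1, zero_add]
    obtain ⟨e1, e2⟩ := unique hM (x := q (a : F) (q b x) + x) (y := uu (a : F) • q b x + q b (uu (a : F) • x))
      (x' := (0 : M)) (y' := 0)
      (by rw [smul_add, hq _ (hq _ hx), hx]) (by rw [smul_add, fix_uu (hq _ hx), hq _ (fix_uu hx _)])
      (smul_zero _) (smul_zero _) (by simpa using h2)
    refine ⟨eq_of_add hM _ _ e1, eq_of_add hM _ _ e2, ?_⟩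
    have h3 := uu_smul_self (a : F) (ww (F := F) • x)
    rw [hqd (a : F) (x := x), smul_add] at h3
    rw [hqd (a : F) (x := uu (a : F) • x), uu_smul_self] at h3
    change uu (a : F) • q (a : F) x + (q (a : F) (uu (a : F) • x) + ww (F := F) • x) = ww (F := F) • x at h3
    exact eq_of_add hM _ _ (by rw [← add_assoc] at h3; exact add_eq_right.mp h3)
  -- the value of `uu (a * a)`
  have sqval : ∀ (a : Fˣ) {x : M}, uu (1 : F) • x = x →
      P ((a * a : Fˣ) : F) x = uu (a : F) • q (a : F) x + uu ((a⁻¹ : Fˣ) : F) • q (a : F) x ∧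
      q ((a * a : Fˣ) : F) x = q (a : F) (q (a : F) x) := by
    intro a x hx
    set b : F := ((a⁻¹ : Fˣ) : F) with hb
    obtain ⟨B, hB⟩ : ∃ B : F, B = ((a * a : Fˣ) : F) := ⟨_, rfl⟩
    rw [← hB]
    have hw : ∀ {y : M}, uu (1 : F) • y = y → tt a • ww (F := F) • y =
        (uu (a : F) • y + uu b • y) + ww (F := F) • q b y := by
      intro y hy
      have e := congrArg (fun g : SL(2, F) => g • y) (braid a)
      simp only [mul_smul, ww_inv] at e
      rw [← e, lc b (fix_uu hy _), smul_add, hqd (a : F) (x := q b _)]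
      change uu (a : F) • uu b • uu (a : F) • y + (q (a : F) (q b (uu (a : F) • y)) +
        ww (F := F) • uu (a : F) • q b (uu (a : F) • y)) = _
      rw [(facts a (fix_uu hy _)).1, (facts a (fix_uu hy _)).2.1, uu_smul_self, uu_comm (a : F) b,
        uu_smul_self]
      abel
    have ht : ∀ {y : M}, uu (1 : F) • y = y → tt a • y =
        q (a : F) y + ww (F := F) • (uu (a : F) • y + uu b • y) := by
      intro y hy
      have e := congrArg (fun g : SL(2, F) => g • y) (braid a)
      have e2 : tt a • ww (F := F) • ww (F := F) • y = tt a • y := by rw [ww_smul_ww]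
      simp only [mul_smul, ww_inv] at e
      rw [← e2]
      have e3 := congrArg (fun g : SL(2, F) => g • ww (F := F) • y) (braid a)
      simp only [mul_smul, ww_inv] at e3
      rw [← e3, hqd (a : F) (x := y)]
      change uu (a : F) • ww (F := F) • uu b • ww (F := F) • (q (a : F) y + ww (F := F) • uu (a : F) • y) = _
      simp only [smul_add, ww_smul_ww]
      rw [lc b (hq _ hy), smul_add,
        hqd (a : F) (x := q b _), hqd (a : F) (x := uu b • uu (a : F) • y)]
      change uu (a : F) • uu b • q (a : F) y + (q (a : F) (q b (q (a : F) y)) +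
        ww (F := F) • uu (a : F) • q b (q (a : F) y)) + (q (a : F) (uu b • uu (a : F) • y) +
        ww (F := F) • uu (a : F) • uu b • uu (a : F) • y) = _
      have f1 := facts a⁻¹ hy
      rw [inv_inv] at f1
      change q b (q (a : F) y) = y ∧ uu b • q (a : F) y = q (a : F) (uu b • y) ∧ _ at f1
      rw [(facts a (hq _ hy)).1, f1.1]
      have f2 : uu (a : F) • uu b • q (a : F) y = q (a : F) (uu b • uu (a : F) • y) := by
        rw [f1.2.1, (facts a (fix_uu hy _)).2.2, uu_comm]
      rw [f2, uu_comm (a : F) b, uu_smul_self]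
      rw [show ∀ A B C D : M, A + (B + C) + (A + D) = (A + A) + (B + (C + D)) from fun A B C D => by abel,
        hM.1, zero_add]
    have hid : uu B * tt a = tt a * uu (1 : F) := by
      rw [uu_mul_tt, hB]
      simp [mul_assoc]
    have hid' : ∀ y : M, uu B • tt a • y = tt a • uu (1 : F) • y := fun y => by
      rw [smul_smul, smul_smul, hid]
    set S : M → M := fun y => uu (a : F) • y + uu b • y
    have hS : ∀ {y : M}, uu (1 : F) • y = y → uu (1 : F) • S y = S y :=
      fun {y} hy => by simp only [S, smul_add, fix_uu hy]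
    -- on a fixed vector
    have h0 : ∀ {y : M}, uu (1 : F) • y = y → uu B • S y = S y := by
      intro y hy
      have h := hid' y
      rw [hy, ht hy, smul_add, hqd B (x := S y), ← add_assoc] at h
      exact (unique hM (by rw [smul_add, fix_uu (hq _ hy), hq _ (hS hy)]) (fix_uu (hS hy) _) (hq _ hy)
        (hS hy) h).2
    -- on its image under the Weyl element
    have h1 : ∀ {y : M}, uu (1 : F) • y = y →
        q B (q b y) = q (a : F) y ∧ uu B • q b y = q b y + S y := by
      intro y hy
      have h := hid' (ww (F := F) • y)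
      rw [hw hy, uu_one_ww hM hy, smul_add (tt a), hw hy, ht hy, smul_add (uu B),
        hqd B (x := q b y), h0 hy] at h
      change S y + (q B (q b y) + ww (F := F) • uu B • q b y) =
        S y + ww (F := F) • q b y + (q (a : F) y + ww (F := F) • S y) at h
      rw [show S y + ww (F := F) • q b y + (q (a : F) y + ww (F := F) • S y) =
        S y + (q (a : F) y + (ww (F := F) • q b y + ww (F := F) • S y)) from by abel, ← smul_add] at h
      exact unique hM (hq _ (hq _ hy)) (fix_uu (hq _ hy) _) (hq _ hy)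
        (by rw [smul_add, hq _ hy, hS hy]) (add_left_cancel h)
    have f1 := facts a⁻¹ hx
    rw [inv_inv] at f1
    change q b (q (a : F) x) = x ∧ _ at f1
    obtain ⟨h2, h3⟩ := h1 (hq (a : F) hx)
    rw [f1.1] at h2 h3
    refine ⟨?_, h2⟩
    show uu B • x + x = _
    rw [h3, add_comm x, add_assoc, hM.1, add_zero]
  -- symmetry between `a` and its inverse
  have symm : ∀ (a : Fˣ) {x : M}, uu (1 : F) • x = x →
      P ((a⁻¹ : Fˣ) : F) x = P (a : F) (q ((a⁻¹ : Fˣ) : F) x) := by
    intro a x hx
    cases nonempty_fintype F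
    obtain ⟨s, hs⟩ := (Finite.injective_iff_surjective (f := fun x : F => x ^ 2)).mp
      (frobenius_inj F 2) (a : F)
    have hs0 : s ≠ 0 := by
      rintro rfl
      exact a.ne_zero (by simpa using hs.symm)
    lift s to Fˣ using Ne.isUnit hs0
    obtain rfl : a = s * s := Units.ext (by rw [Units.val_mul, ← sq]; exact hs.symm)
    rw [mul_inv, (sqval s⁻¹ hx).1, (sqval s⁻¹ hx).2, (sqval s (hq _ (hq _ hx))).1, inv_inv,
      (facts s (hq _ hx)).1, add_comm]
  rcases eq_or_ne a 0 with rfl | ha
  · rw [uu_zero, one_smul]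
  rcases eq_or_ne a 1 with rfl | ha1
  · exact hc
  have ha1' : a + 1 ≠ 0 := fun h => ha1 (CharTwo.add_eq_zero.mp h)
  -- the value at `a * a`, in terms of `a`
  have sqval' : ∀ (a : Fˣ) {x : M}, uu (1 : F) • x = x →
      P ((a * a : Fˣ) : F) x = P (a : F) (q (a : F) x) + P (a : F) x := by
    intro a x hx
    have hi := (facts a⁻¹ hx).1
    rw [inv_inv] at hi
    have := symm a (hq (a : F) hx)
    rw [hi] at this
    rw [(sqval a hx).1, ← this]
    show _ = uu (a : F) • q (a : F) x + q (a : F) x + (uu ((a⁻¹ : Fˣ) : F) • q (a : F) x + q (a : F) x)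
    rw [show ∀ A B C : M, A + C + (B + C) = A + B + (C + C) from fun A B C => by abel, hM.1, add_zero]
  have hPadd : ∀ (b : F) {x : M}, uu (1 : F) • x = x → uu (b + 1) • x = uu b • x := fun b x hx => by
    rw [← uu_mul, mul_smul, hx]
  have key : ∀ {x : M}, uu (1 : F) • x = x → P a (uu a • x) = 0 := by
    intro x hx
    have e1 := sqval' (Units.mk0 a ha) hx
    have e2 := sqval' (Units.mk0 (a + 1) ha1') hx
    rw [Units.val_mul, Units.val_mk0] at e1 e2
    have hbeta : P ((a + 1) * (a + 1)) x = P (a * a) x := by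
      show uu _ • x + x = uu _ • x + x
      rw [show (a + 1) * (a + 1) = a * a + 1 by
        rw [mul_add, add_mul, one_mul, mul_one, show a * a + a + (a + 1) = a * a + (a + a) + 1 by ring,
          CharTwo.add_self_eq_zero, add_zero], hPadd _ hx]
    have hq1 : q (a + 1) x = q a x + uu a • x := by
      show uu (a + 1) • ww (F := F) • x + ww (F := F) • uu (a + 1) • x = _
      rw [hPadd a hx, ← uu_mul, mul_smul, uu_one_ww hM hx, smul_add]
      simp only [q]
      abel
    have hP1 : ∀ {y : M}, uu (1 : F) • y = y → P (a + 1) y = P a y := fun {y} hy => by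
      simp only [P, hPadd a hy]
    rw [hbeta, e1, hq1, hP1 (by rw [smul_add, hq _ hx, fix_uu hx]), hP1 hx, add_left_inj] at e2
    have : P a (q a x + uu a • x) = P a (q a x) + P a (uu a • x) := by
      simp only [P, smul_add]; abel
    rw [this] at e2
    exact left_eq_add.mp e2
  have := key (fix_uu hc a)
  rw [uu_smul_self] at this
  exact eq_of_add hM _ _ this

theorem mem_fixedU_iff {c : M} : c ∈ fixedU F M ↔ uu (1 : F) • c = c :=
  ⟨fun h => h 1, fun h a => fix_all hM h a⟩

theorem sub_mem_fixedU (m : M) : uu (1 : F) • m + m ∈ fixedU F M := by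
  rw [mem_fixedU_iff hM, smul_add, uu_smul_self, add_comm]

theorem disj : ∀ c ∈ fixedU F M, ww (F := F) • c ∈ fixedU F M → c = 0 :=
  fun c hc hwc => eq_zero_of_fix hM (hc 1) (hwc 1)

theorem fixedU_le_core {c : M} (hc : c ∈ fixedU F M) : c ∈ core F M := by
  refine ⟨hc, fun a => ?_⟩
  rw [sub_eq_add_neg, neg_eq hM, mem_fixedU_iff hM]
  have h := coord_fix hM (hc 1) a
  rwa [hc a] at h

theorem span (m : M) : m ∈ coreSpan F M := by
  refine ⟨_, fixedU_le_core hM ?_, _, fixedU_le_core hM (sub_mem_fixedU hM m), decomp hM m⟩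
  exact sub_mem_fixedU hM _

theorem act_eq {c : M} (hc : c ∈ fixedU F M) (a : F) :
    act a c = uu a • ww (F := F) • c + ww (F := F) • c := by
  rw [act, ww_smul_ww, sub_eq_add_neg, neg_eq hM]

theorem act_mem_fixedU {c : M} (hc : c ∈ fixedU F M) (a : F) : act a c ∈ fixedU F M :=
  (act_mem (disj hM) (fixedU_le_core hM hc) a).1

theorem act_act {c : M} (hc : c ∈ fixedU F M) (a b : F) : act a (act b c) = act (a * b) c := by
  letI := coreModule (disj hM)
  exact congrArg Subtype.val (smul_smul a b (⟨c, fixedU_le_core hM hc⟩ : core F M))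

theorem act_add_left {c : M} (hc : c ∈ fixedU F M) (a b : F) : act (a + b) c = act a c + act b c := by
  letI := coreModule (disj hM)
  exact congrArg Subtype.val (add_smul a b (⟨c, fixedU_le_core hM hc⟩ : core F M))

theorem act_one {c : M} (hc : c ∈ fixedU F M) : act (1 : F) c = c := by
  rw [← Units.val_one, act_unit (disj hM) (fixedU_le_core hM hc), tt_one, one_smul]

theorem act_eq_zero {c : M} (hc : c ∈ fixedU F M) {a : F} (ha : a ≠ 0) (h : act a c = 0) : c = 0 := by
  rw [← Units.val_mk0 ha, act_unit (disj hM) (fixedU_le_core hM hc)] at h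
  exact (smul_eq_zero_iff_eq _).mp h

/-- the unitriangular group moves any element by a multiple of `uu 1 • m + m` -/
theorem uu_move (m : M) (a : F) : uu a • m + m = act a (uu (1 : F) • m + m) := by
  have hx := sub_mem_fixedU hM m
  have hy : uu (1 : F) • ww (F := F) • m + ww (F := F) • m ∈ fixedU F M := sub_mem_fixedU hM _
  conv_lhs => rw [decomp hM m]
  rw [act_eq hM hx, smul_add, hy a, add_add_add_comm, hM.1, zero_add]

end

/-- an invariant alternating pairing between two such modules vanishes -/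
theorem pairing_eq_zero {M Z : Type*} [AddCommGroup M] [DistribMulAction SL(2, F) M] [AddCommGroup Z]
    [DistribMulAction SL(2, F) Z] (hM : Fpf F M) (hZ : Fpf F Z) (hn : ∃ c : F, c ≠ 0 ∧ c ≠ 1)
    (β : M → M → Z) (hadd : ∀ x y z, β x (y + z) = β x y + β x z) (hsymm : ∀ x y, β x y = β y x)
    (heq : ∀ (g : SL(2, F)) (x y : M), β (g • x) (g • y) = g • β x y) (x y : M) : β x y = 0 := by
  obtain ⟨c, hc0, hc1⟩ := hn
  have hadd' : ∀ x y z, β (x + y) z = β x z + β y z := fun x y z => by
    rw [hsymm, hadd, hsymm z, hsymm z]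
  have hfix : ∀ {v w : M}, v ∈ fixedU F M → w ∈ fixedU F M → β v w ∈ fixedU F Z :=
    fun {v w} hv hw a => by rw [← heq, hv a, hw a]
  -- the part of `β v (W w)` moved by the unitriangular group
  have hmove : ∀ {v w : M}, v ∈ fixedU F M → w ∈ fixedU F M → ∀ a : F,
      uu a • β v (ww (F := F) • w) + β v (ww (F := F) • w) = β v (act a w) := by
    intro v w hv hw a
    rw [act_eq hM hw, hadd, ← heq, hv a]
  have hlin : ∀ {v w : M}, v ∈ fixedU F M → w ∈ fixedU F M → ∀ a : F,
      β v (act a w) = act a (β v w) := by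
    intro v w hv hw a
    rw [← hmove hv hw a, uu_move hZ, hmove hv hw 1, act_one hM hw]
  have hzero : ∀ {v w : M}, v ∈ fixedU F M → w ∈ fixedU F M → β v w = 0 := by
    intro v w hv hw
    have hb := hfix hv hw
    have h1 : act c (β v w) = act (c * c) (β v w) := by
      have hcv := act_mem_fixedU hM hv c
      calc act c (β v w) = β (act c v) (act c w) := by
            rw [← Units.val_mk0 hc0, act_unit (disj hM) (fixedU_le_core hM hv),
              act_unit (disj hM) (fixedU_le_core hM hw), act_unit (disj hZ) (fixedU_le_core hZ hb), heq]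
        _ = act c (β (act c v) w) := hlin hcv hw c
        _ = act c (act c (β v w)) := by rw [hsymm (act c v) w, hlin hw hv c, hsymm w v]
        _ = act (c * c) (β v w) := act_act hZ hb c c
    have h2 : act (c + c * c) (β v w) = 0 := by
      rw [act_add_left hZ hb, ← h1, hZ.1]
    refine act_eq_zero hZ hb ?_ h2
    rw [show c + c * c = c * (1 + c) by ring]
    exact mul_ne_zero hc0 fun h => hc1 (CharTwo.add_eq_zero.mp h).symm
  have hmix : ∀ {v w : M}, v ∈ fixedU F M → w ∈ fixedU F M → β v (ww (F := F) • w) ∈ fixedU F Z := by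
    intro v w hv hw
    refine (mem_fixedU_iff hZ).mpr (eq_of_add hZ _ _ ?_)
    rw [hmove hv hw 1]
    exact hzero hv (act_mem_fixedU hM hw 1)
  have hmix0 : ∀ {v w : M}, v ∈ fixedU F M → w ∈ fixedU F M → β v (ww (F := F) • w) = 0 := by
    intro v w hv hw
    refine disj hZ _ (hmix hv hw) ?_
    rw [← heq, ww_smul_ww, hsymm]
    exact hmix hw hv
  obtain ⟨x₀, hx₀, x₁, hx₁, rfl⟩ := span hM x
  obtain ⟨y₀, hy₀, y₁, hy₁, rfl⟩ := span hM y
  rw [hadd', hadd, hadd, hzero hx₀.1 hy₀.1, hmix0 hx₀.1 hy₁.1, hsymm (ww (F := F) • x₁),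
    hmix0 hy₀.1 hx₁.1, heq, hzero hx₁.1 hy₁.1, smul_zero, add_zero, add_zero]

/-- exponent four does not occur -/
theorem two_torsion {E : Type*} [AddCommGroup E] [DistribMulAction SL(2, F) E] (h4 : ∀ e : E, 4 • e = 0)
    (hrel : ∀ e : E,
      ww (F := F) • uu (1 : F) • ww (F := F) • uu (1 : F) • e + ww (F := F) • uu (1 : F) • e + e = 0)
    (hn : ∃ c : F, c ≠ 0 ∧ c ≠ 1) (e : E) : e + e = 0 := by
  obtain ⟨a, ha0, ha1⟩ := hn
  let Z : AddSubgroup E := (nsmulAddMonoidHom (α := E) 2).range
  have hZmem : ∀ e : E, e + e ∈ Z := fun e => ⟨e, by simp [two_nsmul]⟩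
  have hZ2 : ∀ z ∈ Z, z + z = 0 := by
    rintro _ ⟨y, rfl⟩
    show 2 • y + 2 • y = 0
    rw [← add_nsmul]; exact h4 y
  have hZinv : ∀ (g : SL(2, F)) (z : E), z ∈ Z → g • z ∈ Z := by
    rintro g _ ⟨y, rfl⟩
    exact ⟨g • y, by simp [two_nsmul]⟩
  letI : DistribMulAction SL(2, F) Z :=
    { smul := fun g z => ⟨g • z.1, hZinv g _ z.2⟩
      one_smul := fun z => Subtype.ext (one_smul _ z.1)
      mul_smul := fun g h z => Subtype.ext (mul_smul g h z.1)
      smul_zero := fun g => Subtype.ext (smul_zero g)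
      smul_add := fun g y z => Subtype.ext (smul_add g y.1 z.1) }
  have hcoe : ∀ (g : SL(2, F)) (z : Z), ((g • z : Z) : E) = g • (z : E) := fun _ _ => rfl
  have hZ : Fpf F Z := ⟨fun z => Subtype.ext (hZ2 _ z.2), fun z => Subtype.ext (hrel z.1)⟩
  letI : DistribMulAction SL(2, F) (E ⧸ Z) :=
    { smul := fun g x => QuotientAddGroup.map Z Z (DistribSMul.toAddMonoidHom E g)
        (fun z hz => hZinv g z hz) x
      one_smul := by rintro ⟨x⟩; exact congrArg QuotientAddGroup.mk (one_smul _ x)
      mul_smul := by rintro g h ⟨x⟩; exact congrArg QuotientAddGroup.mk (mul_smul g h x)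
      smul_zero := fun g => map_zero (QuotientAddGroup.map _ _ _ _)
      smul_add := fun g => map_add (QuotientAddGroup.map _ _ _ _) }
  let π : E →+ E ⧸ Z := QuotientAddGroup.mk' Z
  have hπs : ∀ (g : SL(2, F)) (x : E), g • π x = π (g • x) := fun _ _ => rfl
  have hM : Fpf F (E ⧸ Z) := by
    refine ⟨?_, ?_⟩
    · rintro ⟨x⟩; exact (QuotientAddGroup.eq_zero_iff _).mpr (hZmem x)
    · rintro ⟨x⟩
      show π _ + π _ + π x = 0
      rw [← map_add, ← map_add]
      exact (congrArg π (hrel x)).trans (map_zero π)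
  let D : E → Z := fun q => ⟨q + q, hZmem q⟩
  have hDs : ∀ (g : SL(2, F)) (q : E), D (g • q) = g • D q :=
    fun g q => Subtype.ext (smul_add g q q).symm
  have hD0 : ∀ z ∈ Z, D z = 0 := fun z hz => Subtype.ext (hZ2 z hz)
  have hDπ : ∀ q q' : E, π q = π q' → D q = D q' := fun q q' h => by
    have h' := (QuotientAddGroup.eq_iff_sub_mem).mp h
    refine Subtype.ext (sub_eq_zero.mp ?_)
    show q + q - (q' + q') = 0
    rw [show q + q - (q' + q') = (q - q') + (q - q') by abel]
    exact hZ2 _ h'
  let X : F → E → E := fun b q => uu b • q - q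
  have hXsq : ∀ b q, X b (X b q) = -((D (X b q) : E)) := fun b q => by
    show uu b • (uu b • q - q) - (uu b • q - q) = -((uu b • q - q) + (uu b • q - q))
    rw [smul_sub, uu_smul_self]
    abel
  have hXcomm : ∀ b b' q, X b (X b' q) = X b' (X b q) := fun b b' q => by
    simp only [X, smul_sub, uu_comm b b']
    abel
  -- the key map
  let T : E → E := fun q => X 1 (X a q)
  have hTmem : ∀ q, T q ∈ Z := fun q => by
    refine (QuotientAddGroup.eq_zero_iff _).mp ?_
    show π (uu (1 : F) • (uu a • q - q) - (uu a • q - q)) = 0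
    rw [map_sub, ← hπs, map_sub, ← hπs]
    simp only [sub_eq_add_neg, neg_eq hM]
    rw [uu_move hM (π q) a, act_mem_fixedU hM (sub_mem_fixedU hM (π q)) a 1, hM.1]
  have hTadd : ∀ q q', T (q + q') = T q + T q' := fun q q' => by
    simp only [T, X, smul_add, smul_sub]; abel
  have hTZ : ∀ z ∈ Z, T z = 0 := by
    intro z hz
    have h : uu (1 : F) • (uu a • (⟨z, hz⟩ : Z) + ⟨z, hz⟩) + (uu a • (⟨z, hz⟩ : Z) + ⟨z, hz⟩) = 0 := by
      rw [uu_move hZ (⟨z, hz⟩ : Z) a, act_mem_fixedU hZ (sub_mem_fixedU hZ (⟨z, hz⟩ : Z)) a 1, hZ.1]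
    have h' := congrArg Subtype.val h
    simp only [AddSubgroup.coe_add, hcoe, AddSubgroup.coe_zero] at h'
    refine Eq.trans ?_ h'
    have hn : ∀ y ∈ Z, -y = y := fun y hy => neg_eq_of_add_eq_zero_left (hZ2 y hy)
    show uu (1 : F) • (uu a • z - z) - (uu a • z - z) = _
    simp only [sub_eq_add_neg, hn z hz]
    rw [hn _ (add_mem (hZinv _ _ hz) hz)]
  have hTfix : ∀ q, (⟨T q, hTmem q⟩ : Z) ∈ fixedU F Z := fun q => by
    refine (mem_fixedU_iff hZ).mpr (Subtype.ext ?_)
    rw [hcoe]
    refine sub_eq_zero.mp ?_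
    show X 1 (X 1 (X a q)) = 0
    rw [hXsq]
    show -(T q + T q) = 0
    rw [hZ2 _ (hTmem q), neg_zero]
  have hTπ : ∀ q q' : E, π q = π q' → T q = T q' := fun q q' h => by
    have h' := (QuotientAddGroup.eq_iff_sub_mem).mp h
    have h2 := hTadd (q - q') q'
    rw [sub_add_cancel, hTZ _ h', zero_add] at h2
    exact h2
  -- `γ v` is `T` of a lift of `W v`
  let γ : E ⧸ Z → Z := fun v => ⟨T (Quotient.out (ww (F := F) • v)), hTmem _⟩
  have hout : ∀ m : E ⧸ Z, π (Quotient.out m) = m := fun m => QuotientAddGroup.out_eq' m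
  have hγ : ∀ (v : E ⧸ Z) (q : E), π q = ww (F := F) • v → (γ v : E) = T q :=
    fun v q h => hTπ _ _ ((hout _).trans h.symm)
  have hγfix : ∀ v, γ v ∈ fixedU F Z := fun v => hTfix _
  have main : ∀ (v : E ⧸ Z), v ∈ fixedU F (E ⧸ Z) → ∀ q₀ : E, π q₀ = v →
      act (a + a * a) (D q₀) = γ (act a v) + act a (γ v) := by
    intro v hv q₀ hq₀
    have hπX : ∀ {w : E ⧸ Z}, w ∈ fixedU F (E ⧸ Z) → ∀ (b : F) {q : E}, π q = ww (F := F) • w →
        π (X b q) = act b w := by
      intro w hw b q hq
      rw [map_sub, ← hπs, hq, act_eq hM hw, sub_eq_add_neg, neg_eq hM]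
    have hv' := act_mem_fixedU hM hv a
    set q := Quotient.out (ww (F := F) • v) with hqdef
    set q' := Quotient.out (ww (F := F) • act a v) with hq'def
    have hq : π q = ww (F := F) • v := hout _
    have hq' : π q' = ww (F := F) • act a v := hout _
    have hr : X a q - X 1 q' ∈ Z := (QuotientAddGroup.eq_zero_iff _).mp (by
      show π (X a q - X 1 q') = 0
      rw [map_sub, hπX hv a hq, hπX hv' 1 hq', act_one hM hv', sub_self])
    set r : Z := ⟨X a q - X 1 q', hr⟩ with hrdef
    have hDq₀ : D q₀ ∈ fixedU F Z := fun b => by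
      rw [← hDs]; exact hDπ _ _ (by rw [← hπs, hq₀, hv b])
    have hDact : ∀ (b : F) (p : E), π p = ww (F := F) • v → D (X b p) = act b (D q₀) := by
      intro b p hp
      have hw : D p = ww (F := F) • D q₀ := by
        rw [← hDs]; exact hDπ _ _ (by rw [hp, ← hπs, hq₀])
      have e : D (X b p) = uu b • D p - D p := Subtype.ext (by
        show (uu b • p - p) + (uu b • p - p) = uu b • (p + p) - (p + p)
        rw [smul_add]; abel)
      rw [e, hw, sub_eq_add_neg, neg_eq hZ, act_eq hZ hDq₀]
    have hDa : D (X a q) = act a (D q₀) := hDact a q hq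
    have hD1 : D (X 1 q') = act a (D q₀) := by
      rw [← hDa]
      exact hDπ _ _ (by rw [hπX hv' 1 hq', act_one hM hv', hπX hv a hq])
    have hγv : (γ v : E) = T q := hγ v q hq
    have hγv' : (γ (act a v) : E) = T q' := hγ _ q' hq'
    -- apply `X 1` to `r`
    have e1 : uu (1 : F) • r + r = γ v + act a (D q₀) := by
      refine Eq.trans (b := uu (1 : F) • r - r) (by rw [sub_eq_add_neg, neg_eq hZ]) (Subtype.ext ?_)
      rw [AddSubgroupClass.coe_sub, hcoe, AddSubgroup.coe_add, hγv, ← hD1]
      show uu (1 : F) • (X a q - X 1 q') - (X a q - X 1 q') = X 1 (X a q) + (D (X 1 q') : E)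
      rw [show (D (X 1 q') : E) = -(X 1 (X 1 q')) from (neg_neg _).symm.trans (by rw [hXsq])]
      simp only [X, smul_sub]
      abel
    -- apply `X a` to the equation defining `r`
    have e2 : act a (D q₀) = γ (act a v) + act a (uu (1 : F) • r + r) := by
      rw [← uu_move hZ r a]
      have e3 : X a (X a q) = T q' + (uu a • (r : E) - r) := by
        show _ = X 1 (X a q') + _
        rw [← hXcomm a 1]
        simp only [X, hrdef, smul_sub]
        abel
      rw [hXsq, hDa] at e3
      have hn := fun z : Z => congrArg Subtype.val (neg_eq hZ z)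
      refine Subtype.ext ?_
      rw [AddSubgroup.coe_add, hγv', AddSubgroup.coe_add, hcoe]
      have hn' := hn r
      rw [AddSubgroup.coe_neg] at hn'
      rw [sub_eq_add_neg, hn'] at e3
      rw [← e3, ← AddSubgroup.coe_neg]
      exact (hn _).symm
    rw [e1] at e2
    have hadd : act a (γ v + act a (D q₀)) = act a (γ v) + act a (act a (D q₀)) := by
      simp only [act, smul_add]; abel
    rw [hadd, act_act hZ hDq₀] at e2
    rw [act_add_left hZ hDq₀, e2, ← add_assoc, add_assoc (γ (act a v) + _), hZ.1, add_zero]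
  -- `γ` commutes with `a`
  have hD : ∀ v ∈ fixedU F (E ⧸ Z), ∀ q₀ : E, π q₀ = v → D q₀ = 0 := by
    have hDfix : ∀ v ∈ fixedU F (E ⧸ Z), ∀ q₀ : E, π q₀ = v → D q₀ ∈ fixedU F Z := fun v hv q₀ hq₀ b => by
      rw [← hDs]; exact hDπ _ _ (by rw [← hπs, hq₀, hv b])
    have lin2 : ∀ v ∈ fixedU F (E ⧸ Z), γ (act (a * a) v) = act (a * a) (γ v) := by
      intro v hv
      have hv' := act_mem_fixedU hM hv a
      obtain ⟨q₀, hq₀⟩ : ∃ q₀, π q₀ = v := QuotientAddGroup.mk'_surjective Z v
      obtain ⟨q₁, hq₁⟩ : ∃ q₁, π q₁ = act a v := QuotientAddGroup.mk'_surjective Z _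
      have m0 := main v hv q₀ hq₀
      have m1 := main _ hv' q₁ hq₁
      have hd := hDfix v hv q₀ hq₀
      -- `D` is linear
      have hDl : D q₁ = act a (D q₀) := by
        rw [← Units.val_mk0 ha0, act_unit (disj hZ) (fixedU_le_core hZ hd), ← hDs]
        refine hDπ _ _ ?_
        rw [hq₁, ← hπs, hq₀, ← act_unit (disj hM) (fixedU_le_core hM hv), Units.val_mk0]
      rw [hDl, act_act hZ hd, mul_comm, ← act_act hZ hd, m0, act_act hM hv] at m1
      have hadd : act a (γ (act a v) + act a (γ v)) = act a (γ (act a v)) + act a (act a (γ v)) := by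
        simp only [act, smul_add]; abel
      rw [hadd, act_act hZ (hγfix v), add_comm] at m1
      exact (add_right_cancel m1).symm
    have linpow : ∀ k : ℕ, ∀ v ∈ fixedU F (E ⧸ Z), γ (act ((a * a) ^ k) v) = act ((a * a) ^ k) (γ v) := by
      intro k
      induction k with
      | zero => intro v hv; rw [pow_zero, act_one hM hv, act_one hZ (hγfix v)]
      | succ k ih =>
        intro v hv
        rw [pow_succ, ← act_act hM hv, ih _ (act_mem_fixedU hM hv _), lin2 v hv, act_act hZ (hγfix v)]
    obtain ⟨k, hk⟩ : ∃ k : ℕ, (a * a) ^ k = a := by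
      cases nonempty_fintype F
      have hq : Even (Fintype.card F) := by
        rw [Nat.even_iff]; exact FiniteField.even_card_iff_char_two.1 (ringChar.eq F 2)
      obtain ⟨k, hk⟩ := hq
      exact ⟨k, by rw [← sq, ← pow_mul, two_mul, ← hk, FiniteField.pow_card]⟩
    intro v hv q₀ hq₀
    have m0 := main v hv q₀ hq₀
    have hl := linpow k v hv
    rw [hk] at hl
    rw [hl, hZ.1] at m0
    refine act_eq_zero hZ (hDfix v hv q₀ hq₀) ?_ m0
    rw [show a + a * a = a * (1 + a) by ring]
    exact mul_ne_zero ha0 fun h => ha1 (CharTwo.add_eq_zero.mp h).symm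
  -- conclude
  have hall : ∀ q : E, D q = 0 := by
    intro q
    have hx := sub_mem_fixedU hM (π q)
    have hy : uu (1 : F) • ww (F := F) • π q + ww (F := F) • π q ∈ fixedU F (E ⧸ Z) := sub_mem_fixedU hM _
    obtain ⟨qx, hqx⟩ := QuotientAddGroup.mk'_surjective Z (uu (1 : F) • π q + π q)
    obtain ⟨qy, hqy⟩ := QuotientAddGroup.mk'_surjective Z (uu (1 : F) • ww (F := F) • π q + ww (F := F) • π q)
    have h : π q = π (qy + ww (F := F) • qx) := by
      rw [map_add, ← hπs, hqy, hqx]; exact decomp hM _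
    rw [hDπ _ _ h]
    have e : D (qy + ww (F := F) • qx) = D qy + D (ww (F := F) • qx) := Subtype.ext (by
      show _ + _ = (qy + qy) + (_ + _)
      abel)
    rw [e, hDs, hD _ hy qy hqy, hD _ hx qx hqx, smul_zero, add_zero]
  exact congrArg Subtype.val (hall e)

end Cfsg.Agent.CharP.SL2FixedPointFree
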