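import Mathlib
import Cfsg.Agent.Lib.Classical.Linear

/-!
Recognition of sums of natural `SL(2, F)`-modules: let `C` be the fixed points of the upper unitriangular
group `U` and `W` the Weyl element. If `C ∩ W C = 0` and `K` is the set of `c ∈ C` such that `U` moves `W c`
only inside `C`, then `K` is an `F`-space and `K + W K` is a submodule which is a sum of natural modules.
-/

set_option autoImplicit false

namespace Cfsg.Agent.CharP.SL2Natural

open Matrix
open scoped MatrixGroups

variable {F : Type*} [Field F]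

/-- upper unitriangular element -/
def uu (a : F) : SL(2, F) := ⟨!![1, a; 0, 1], by simp [det_fin_two]⟩

/-- the Weyl element -/
def ww : SL(2, F) := ⟨!![0, 1; -1, 0], by simp [det_fin_two]⟩

/-- torus element -/
def tt (a : Fˣ) : SL(2, F) := ⟨!![(a : F), 0; 0, (a⁻¹ : Fˣ)], by simp [det_fin_two]⟩

theorem sl_ext {A B : SL(2, F)} (h : (A : Matrix (Fin 2) (Fin 2) F) = (B : Matrix (Fin 2) (Fin 2) F)) :
    A = B := Subtype.ext h

theorem coe_mul' (A B : SL(2, F)) :
    ((A * B : SL(2, F)) : Matrix (Fin 2) (Fin 2) F) = (A : Matrix (Fin 2) (Fin 2) F) * B := rfl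

theorem uu_mul (a b : F) : uu a * uu b = uu (a + b) := by
  refine sl_ext ?_; rw [coe_mul']; simp [uu, mul_fin_two, add_comm]

theorem uu_zero : uu (0 : F) = 1 := by
  refine sl_ext ?_; simp [uu, one_fin_two]

theorem uu_inv (a : F) : (uu a)⁻¹ = uu (-a) :=
  inv_eq_of_mul_eq_one_right (by rw [uu_mul, add_neg_cancel, uu_zero])

theorem tt_mul (a b : Fˣ) : tt a * tt b = tt (a * b) := by
  refine sl_ext ?_; rw [coe_mul']; simp [tt, mul_fin_two, mul_comm]

theorem tt_one : tt (1 : Fˣ) = 1 := by
  refine sl_ext ?_; simp [tt, one_fin_two]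

theorem uu_mul_tt (a : Fˣ) (b : F) : uu b * tt a = tt a * uu ((a⁻¹ : Fˣ) * (a⁻¹ : Fˣ) * b) := by
  refine sl_ext ?_
  have h : (a : F) ≠ 0 := a.ne_zero
  simp only [coe_mul']
  simp [uu, tt, mul_fin_two]
  field_simp

theorem ww_mul_tt (a : Fˣ) : ww * tt a = tt a⁻¹ * ww := by
  refine sl_ext ?_; simp only [coe_mul']; simp [ww, tt, mul_fin_two]

theorem ww_sq : ww * ww = tt (-1 : Fˣ) := by
  refine sl_ext ?_; simp only [coe_mul']; simp [ww, tt, mul_fin_two]

theorem braid (a : Fˣ) :
    uu (a : F) * (ww * uu ((a⁻¹ : Fˣ) : F) * ww⁻¹) * uu (a : F) = tt a * ww := by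
  refine sl_ext ?_
  have h : (a : F) ≠ 0 := a.ne_zero
  simp only [coe_mul', Matrix.SpecialLinearGroup.coe_inv]
  simp [uu, ww, tt, mul_fin_two, Matrix.SpecialLinearGroup.coe_inv, adjugate_fin_two]

theorem ww_inv_eq : (ww : SL(2, F))⁻¹ = ww * (ww * ww) := by
  refine inv_eq_of_mul_eq_one_right ?_
  rw [ww_sq, ← mul_assoc, ww_sq, tt_mul]
  simp [tt_one]

theorem transvection_upper (c : F) (h : (0 : Fin 2) ≠ 1) :
    SpecialLinearGroup.transvection h c = uu c := by
  refine sl_ext ?_
  ext i j
  fin_cases i <;> fin_cases j <;> simp [uu, SpecialLinearGroup.transvection_coe, Matrix.single]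

theorem transvection_lower (c : F) (h : (1 : Fin 2) ≠ 0) :
    SpecialLinearGroup.transvection h c = ww * uu (-c) * ww⁻¹ := by
  refine sl_ext ?_
  simp only [coe_mul', Matrix.SpecialLinearGroup.coe_inv, SpecialLinearGroup.transvection_coe]
  ext i j
  fin_cases i <;> fin_cases j <;> simp [uu, ww, Matrix.single, mul_fin_two, adjugate_fin_two]

/-- `SL(2, F)` is generated by the unitriangular elements and the Weyl element. -/
theorem induction_gen {p : SL(2, F) → Prop} (hu : ∀ a, p (uu a)) (hw : p ww) (h1 : p 1)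
    (hmul : ∀ g h, p g → p h → p (g * h)) (g : SL(2, F)) : p g := by
  have hwi : p (ww⁻¹) := ww_inv_eq (F := F) ▸ hmul _ _ hw (hmul _ _ hw hw)
  have key : ∀ x ∈ Classical.Linear.transvectionSet (Fin 2) F, p x ∧ p x⁻¹ := by
    rintro _ ⟨i, j, h, c, rfl⟩
    fin_cases i <;> fin_cases j
    · exact absurd rfl h
    · refine ⟨?_, ?_⟩
      · exact (transvection_upper c h) ▸ hu c
      · rw [transvection_upper c h, uu_inv]; exact hu _
    · refine ⟨?_, ?_⟩
      · exact (transvection_lower c h) ▸ hmul _ _ (hmul _ _ hw (hu _)) hwi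
      · rw [transvection_lower c h]
        simp only [_root_.mul_inv_rev, _root_.inv_inv, uu_inv]
        exact hmul _ _ hw (hmul _ _ (hu _) hwi)
    · exact absurd rfl h
  have hg : g ∈ Subgroup.closure (Classical.Linear.transvectionSet (Fin 2) F) := by
    rw [Classical.Linear.closure_transvectionSet]; trivial
  refine Subgroup.closure_induction'' (fun x hx => (key x hx).1) (fun x hx => (key x hx).2) h1
    (fun x y _ _ hx hy => hmul x y hx hy) hg

variable {M : Type*} [AddCommGroup M] [DistribMulAction SL(2, F) M]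

variable (F M) in
/-- the fixed points of the unitriangular group -/
def fixedU : AddSubgroup M where
  carrier := {m | ∀ a : F, uu a • m = m}
  zero_mem' := fun _ => smul_zero _
  add_mem' := fun h h' a => by rw [smul_add, h a, h' a]
  neg_mem' := fun h a => by rw [smul_neg, h a]

theorem mem_fixedU {m : M} : m ∈ fixedU F M ↔ ∀ a : F, uu a • m = m := Iff.rfl

theorem tt_smul_mem {m : M} (hm : m ∈ fixedU F M) (a : Fˣ) : tt a • m ∈ fixedU F M := fun b => by
  rw [smul_smul, uu_mul_tt, mul_smul, hm]

variable (F M) in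
/-- fixed points `c` such that `U` moves `W c` only by fixed points -/
def core : AddSubgroup M where
  carrier := {c | c ∈ fixedU F M ∧ ∀ a : F, uu a • (ww (F := F) • c) - ww (F := F) • c ∈ fixedU F M}
  zero_mem' := ⟨zero_mem _, fun a => by simp⟩
  add_mem' := fun {x y} h h' => ⟨add_mem h.1 h'.1, fun a => by
    rw [smul_add, smul_add, add_sub_add_comm]; exact add_mem (h.2 a) (h'.2 a)⟩
  neg_mem' := fun {x} h => ⟨neg_mem h.1, fun a => by
    rw [smul_neg, smul_neg, ← neg_sub', neg_mem_iff]
    exact h.2 a⟩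

theorem mem_core {c : M} : c ∈ core F M ↔ c ∈ fixedU F M ∧
    ∀ a : F, uu a • (ww (F := F) • c) - ww (F := F) • c ∈ fixedU F M := Iff.rfl

theorem tt_smul_core {c : M} (hc : c ∈ core F M) (a : Fˣ) : tt a • c ∈ core F M := by
  refine ⟨tt_smul_mem hc.1 a, fun b => ?_⟩
  rw [smul_smul ww, ww_mul_tt, mul_smul, smul_smul (uu b), uu_mul_tt, mul_smul, ← smul_sub]
  exact tt_smul_mem (hc.2 _) _

theorem ww_ww_core {c : M} (hc : c ∈ core F M) : ww (F := F) • ww (F := F) • c ∈ core F M := by
  rw [smul_smul, ww_sq]; exact tt_smul_core hc _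

variable (hdisj : ∀ c ∈ fixedU F M, ww (F := F) • c ∈ fixedU F M → c = 0)

include hdisj in
/-- the unitriangular elements act on `W K` by the torus -/
theorem uu_smul_ww {c : M} (hc : c ∈ core F M) (a : Fˣ) :
    uu (a : F) • ww (F := F) • c = ww (F := F) • c + tt a • ww (F := F) • ww (F := F) • c := by
  set c₁ := tt a • ww (F := F) • ww (F := F) • c with hc₁
  have h₁ : c₁ ∈ core F M := tt_smul_core (ww_ww_core hc) a
  have h₂ : ww (F := F) • ww (F := F) • c₁ ∈ core F M := ww_ww_core h₁
  obtain ⟨e, he, he'⟩ : ∃ e ∈ fixedU F M, uu (a : F) • ww (F := F) • c = ww (F := F) • c + e :=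
    ⟨_, hc.2 a, (add_sub_cancel _ _).symm⟩
  obtain ⟨d, hd, hd'⟩ : ∃ d ∈ fixedU F M, uu (-((a⁻¹ : Fˣ) : F)) • ww (F := F) • ww (F := F) •
      ww (F := F) • c₁ = ww (F := F) • ww (F := F) • ww (F := F) • c₁ + d :=
    ⟨_, h₂.2 _, (add_sub_cancel _ _).symm⟩
  have key : uu (a : F) • ww (F := F) • c = c₁ + ww (F := F) • d := by
    have hz : ww (F := F) • ww (F := F) • ww (F := F) • ww (F := F) • c₁ = c₁ := by
      rw [smul_smul, smul_smul, smul_smul, mul_assoc, ← mul_assoc, ww_sq, mul_assoc, ww_sq, tt_mul]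
      simp [tt_one]
    have h3 : (tt a * ww) • ww (F := F) • c = c₁ := mul_smul _ _ _
    rw [← braid, mul_smul, mul_smul, mul_smul, mul_smul] at h3
    have h4 := congrArg (fun m => uu (-(a : F)) • m) h3
    simp only [smul_smul (uu (-(a : F))) (uu (a : F)), uu_mul, neg_add_cancel, uu_zero, one_smul] at h4
    rw [h₁.1 (-(a : F))] at h4
    have h5 := congrArg (fun m => ww (F := F) • uu (-((a⁻¹ : Fˣ) : F)) • (ww (F := F))⁻¹ • m) h4
    simp only [inv_smul_smul] at h5
    rw [smul_smul (uu _) (uu _), uu_mul, neg_add_cancel, uu_zero, one_smul, smul_inv_smul] at h5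
    rw [h5, ww_inv_eq, mul_smul, mul_smul, hd', smul_add, hz]
  have h6 : ww (F := F) • (d - c) = e - c₁ := by
    rw [he'] at key
    rw [smul_sub]
    calc ww (F := F) • d - ww (F := F) • c = (c₁ + ww (F := F) • d) - ww (F := F) • c - c₁ := by abel
      _ = e - c₁ := by rw [← key]; abel
  have h7 := hdisj _ (sub_mem hd hc.1) (h6 ▸ sub_mem he h₁.1)
  rw [h7, smul_zero] at h6
  rw [he', sub_eq_zero.mp h6.symm]

/-- the scalar multiplication on `core F M` -/
def act (a : F) (c : M) : M :=
  uu a • (ww (F := F) • ww (F := F) • ww (F := F) • c) - ww (F := F) • ww (F := F) • ww (F := F) • c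

theorem act_zero (c : M) : act (0 : F) c = 0 := by
  rw [act, uu_zero, one_smul, sub_self]

include hdisj in
theorem act_unit {c : M} (hc : c ∈ core F M) (a : Fˣ) : act (a : F) c = tt a • c := by
  rw [act, uu_smul_ww hdisj (ww_ww_core hc) a, add_sub_cancel_left]
  simp only [smul_smul, mul_assoc]
  rw [ww_sq, ← mul_assoc ww ww, ww_sq, tt_mul, tt_mul]
  simp

include hdisj in
theorem act_mem {c : M} (hc : c ∈ core F M) (a : F) : act a c ∈ core F M := by
  rcases eq_or_ne a 0 with rfl | ha
  · rw [act_zero]; exact zero_mem _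
  · rw [← Units.val_mk0 ha, act_unit hdisj hc]; exact tt_smul_core hc _

/-- `core F M` as an `F`-space -/
@[reducible] def coreModule : Module F (core F M) where
  smul a c := ⟨act a c.1, act_mem hdisj c.2 a⟩
  one_smul c := Subtype.ext (by
    show act (1 : F) c.1 = _
    rw [← Units.val_one, act_unit hdisj c.2, tt_one, one_smul])
  mul_smul a b c := Subtype.ext (by
    show act (a * b) c.1 = act a (act b c.1)
    rcases eq_or_ne a 0 with rfl | ha
    · rw [zero_mul, act_zero, act_zero]
    rcases eq_or_ne b 0 with rfl | hb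
    · rw [mul_zero, act_zero, act, smul_zero, smul_zero, smul_zero, smul_zero, sub_self]
    lift a to Fˣ using Ne.isUnit ha
    lift b to Fˣ using Ne.isUnit hb
    rw [← Units.val_mul, act_unit hdisj c.2, act_unit hdisj c.2,
      act_unit hdisj (tt_smul_core c.2 b), smul_smul, tt_mul])
  smul_zero a := Subtype.ext (by
    show act a ((0 : core F M) : M) = 0
    simp [act])
  smul_add a x y := Subtype.ext (by
    show act a ((x : M) + y) = act a x.1 + act a y.1
    simp only [act, smul_add]; abel)
  add_smul a b c := Subtype.ext (by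
    show act (a + b) c.1 = act a c.1 + act b c.1
    have hb := ((ww_ww_core (F := F) c.2).2 b) a
    simp only [act]
    rw [← uu_mul, mul_smul]
    generalize ww (F := F) • ww (F := F) • ww (F := F) • c.1 = x at hb ⊢
    rw [smul_sub, sub_eq_iff_eq_add] at hb
    rw [hb]; abel)
  zero_smul c := Subtype.ext (act_zero c.1)

variable (F M) in
/-- the sum `K + W K` -/
def coreSpan : AddSubgroup M where
  carrier := {m | ∃ c ∈ core F M, ∃ c' ∈ core F M, m = c + ww (F := F) • c'}
  zero_mem' := ⟨0, zero_mem _, 0, zero_mem _, by simp⟩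
  add_mem' := by
    rintro _ _ ⟨c, hc, c', hc', rfl⟩ ⟨d, hd, d', hd', rfl⟩
    exact ⟨c + d, add_mem hc hd, c' + d', add_mem hc' hd', by rw [smul_add]; abel⟩
  neg_mem' := by
    rintro _ ⟨c, hc, c', hc', rfl⟩
    exact ⟨-c, neg_mem hc, -c', neg_mem hc', by rw [smul_neg]; abel⟩

include hdisj in
theorem smul_mem_coreSpan (g : SL(2, F)) : ∀ m ∈ coreSpan F M, g • m ∈ coreSpan F M := by
  induction g using induction_gen with
  | hu a =>
    rintro _ ⟨c, hc, c', hc', rfl⟩
    rcases eq_or_ne a 0 with rfl | ha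
    · rw [uu_zero, one_smul]; exact ⟨c, hc, c', hc', rfl⟩
    · refine ⟨c + tt (Units.mk0 a ha) • ww (F := F) • ww (F := F) • c',
        add_mem hc (tt_smul_core (ww_ww_core hc') _), c', hc', ?_⟩
      have := uu_smul_ww hdisj hc' (Units.mk0 a ha)
      rw [Units.val_mk0] at this
      rw [smul_add, hc.1 a, this]; abel
  | hw =>
    rintro _ ⟨c, hc, c', hc', rfl⟩
    exact ⟨_, ww_ww_core hc', c, hc, by rw [smul_add, add_comm]⟩
  | h1 => exact fun m hm => by rwa [one_smul]
  | hmul g h hg hh => exact fun m hm => by rw [mul_smul]; exact hg _ (hh m hm)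

include hdisj in
/-- If `K + W K` is everything, the module is a sum of natural modules. -/
theorem exists_natural [Finite M] (hspan : ∀ m : M, m ∈ coreSpan F M) :
    ∃ (k : ℕ) (ψ : M ≃+ (Fin k → Fin 2 → F)),
      ∀ (g : SL(2, F)) (m : M) (i : Fin k), ψ (g • m) i = (g : Matrix (Fin 2) (Fin 2) F) *ᵥ ψ m i := by
  letI := coreModule hdisj
  obtain ⟨k, ⟨b⟩⟩ : ∃ k, Nonempty (Module.Basis (Fin k) F (core F M)) :=
    ⟨_, ⟨Module.finBasis F (core F M)⟩⟩
  let φ : (Fin k → Fin 2 → F) →+ M :=
    { toFun := fun f => ((b.equivFun.symm fun i => f i 0 : core F M) : M) -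
        ww (F := F) • ((b.equivFun.symm fun i => f i 1 : core F M) : M)
      map_zero' := by
        simp only [Pi.zero_apply]
        rw [show (fun _ : Fin k => (0 : F)) = 0 from rfl, map_zero, AddSubgroup.coe_zero, smul_zero,
          sub_zero]
      map_add' := fun f g => by
        simp only [Pi.add_apply]
        rw [show (fun i => f i 0 + g i 0) = (fun i => f i 0) + fun i => g i 0 from rfl,
          show (fun i => f i 1 + g i 1) = (fun i => f i 1) + fun i => g i 1 from rfl, map_add, map_add,
          AddSubgroup.coe_add, AddSubgroup.coe_add, smul_add]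
        abel }
  have hbij : Function.Bijective φ := by
    refine ⟨(injective_iff_map_eq_zero φ).mpr fun f hf => ?_, fun m => ?_⟩
    · have hf' : ((b.equivFun.symm fun i => f i 0 : core F M) : M) =
          ww (F := F) • ((b.equivFun.symm fun i => f i 1 : core F M) : M) := sub_eq_zero.mp hf
      have h1 := hdisj _ (b.equivFun.symm fun i => f i 1).2.1
        (hf' ▸ (b.equivFun.symm fun i => f i 0).2.1)
      rw [h1, smul_zero] at hf'
      ext i j
      have e0 := congrFun ((LinearEquiv.map_eq_zero_iff _).mp (Subtype.ext hf' :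
        (b.equivFun.symm fun i => f i 0) = 0)) i
      have e1 := congrFun ((LinearEquiv.map_eq_zero_iff _).mp (Subtype.ext h1 :
        (b.equivFun.symm fun i => f i 1) = 0)) i
      fin_cases j
      · exact e0
      · exact e1
    · obtain ⟨c, hc, c', hc', rfl⟩ := hspan m
      refine ⟨fun i => ![b.equivFun ⟨c, hc⟩ i, b.equivFun (-⟨c', hc'⟩) i], ?_⟩
      show ((b.equivFun.symm fun i => b.equivFun ⟨c, hc⟩ i : core F M) : M) -
        ww (F := F) • ((b.equivFun.symm fun i => b.equivFun (-⟨c', hc'⟩) i : core F M) : M) = _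
      simp [sub_eq_add_neg]
  refine ⟨k, (AddEquiv.ofBijective φ hbij).symm, fun g => ?_⟩
  suffices h : ∀ f : Fin k → Fin 2 → F, g • φ f = φ fun i => (g : Matrix (Fin 2) (Fin 2) F) *ᵥ f i by
    intro m i
    obtain ⟨f, rfl⟩ := hbij.2 m
    rw [h f]
    have e : ∀ x, (AddEquiv.ofBijective φ hbij).symm (φ x) = x :=
      fun x => (AddEquiv.ofBijective φ hbij).symm_apply_apply x
    rw [e, e]
  induction g using induction_gen with
  | hu a =>
    intro f
    have e : (fun i => ((uu a : SL(2, F)) : Matrix (Fin 2) (Fin 2) F) *ᵥ f i) =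
        fun i => ![f i 0 + a * f i 1, f i 1] := funext fun i => by
      ext j; fin_cases j <;> simp [uu, mulVec, dotProduct, Fin.sum_univ_two]
    rw [e]
    show uu a • ((_ : M) - _) = _ - _
    simp only [Matrix.cons_val_zero, Matrix.cons_val_one]
    set x := b.equivFun.symm fun i => f i 0
    set y := b.equivFun.symm fun i => f i 1
    rw [show (fun i => f i 0 + a * f i 1) = (fun i => f i 0) + a • fun i => f i 1 from rfl, map_add,
      map_smul, smul_sub, x.2.1 a]
    show (x : M) - uu a • ww (F := F) • (y : M) = ((x : M) + act a (y : M)) - ww (F := F) • (y : M)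
    rcases eq_or_ne a 0 with rfl | ha
    · simp [act_zero, uu_zero]
    · lift a to Fˣ using Ne.isUnit ha
      rw [act_unit hdisj y.2, uu_smul_ww hdisj y.2]
      have hneg : ww (F := F) • ww (F := F) • (y : M) = -(y : M) := by
        rw [smul_smul, ww_sq, ← act_unit hdisj y.2]
        rw [Units.val_neg, Units.val_one]
        exact congrArg Subtype.val (neg_one_smul F y)
      rw [hneg, smul_neg]
      abel
  | hw =>
    intro f
    have e : (fun i => ((ww : SL(2, F)) : Matrix (Fin 2) (Fin 2) F) *ᵥ f i) =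
        fun i => ![f i 1, -f i 0] := funext fun i => by
      ext j; fin_cases j <;> simp [ww, mulVec, dotProduct, Fin.sum_univ_two]
    rw [e]
    show ww (F := F) • ((_ : M) - _) = _ - _
    simp only [Matrix.cons_val_zero, Matrix.cons_val_one]
    set x := b.equivFun.symm fun i => f i 0
    set y := b.equivFun.symm fun i => f i 1
    rw [show (fun i => -f i 0) = -fun i => f i 0 from rfl, map_neg, smul_sub, AddSubgroup.coe_neg,
      smul_neg, sub_neg_eq_add]
    have hneg : ww (F := F) • ww (F := F) • (y : M) = -(y : M) := by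
      rw [smul_smul, ww_sq, ← act_unit hdisj y.2]
      rw [Units.val_neg, Units.val_one]
      exact congrArg Subtype.val (neg_one_smul F y)
    rw [hneg]; abel
  | h1 => intro f; simp
  | hmul g h hg hh =>
    intro f
    rw [mul_smul, hh, hg]
    congr 1
    funext i
    rw [mulVec_mulVec]
    rfl

end Cfsg.Agent.CharP.SL2Natural
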