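import Mathlib
import Cfsg.Agent.Lib.Hall.Supersolvable

/-!
An irreducible action of a supersolvable group in which every element of prime power order
(prime to the characteristic) has at most two eigenvalues, one of them `1`, is scalar.
-/

set_option autoImplicit false
set_option linter.unusedSectionVars false

namespace Cfsg.Agent.CharP.ScalarAction

variable {G : Type*} [Group G] [Finite G] {q : ℕ} [Fact q.Prime]
variable {V : Type*} [AddCommGroup V] [Module (ZMod q) V] [Finite V]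
variable (ρ : G →* Module.End (ZMod q) V)

theorem apply_mul (g h : G) (v : V) : ρ (g * h) v = ρ g (ρ h v) := by
  rw [map_mul]; rfl

theorem apply_one' (v : V) : ρ 1 v = v := by
  rw [map_one]; rfl

theorem inv_apply_apply (g : G) (v : V) : ρ g⁻¹ (ρ g v) = v := by
  rw [← apply_mul, inv_mul_cancel, apply_one']

theorem apply_inv_apply (g : G) (v : V) : ρ g (ρ g⁻¹ v) = v := by
  rw [← apply_mul, mul_inv_cancel, apply_one']

theorem pow_apply_eq {g : G} {v : V} {c : ZMod q} (h : ρ g v = c • v) (n : ℕ) :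
    ρ (g ^ n) v = c ^ n • v := by
  induction n with
  | zero => rw [pow_zero, apply_one', pow_zero, one_smul]
  | succ n ih => rw [pow_succ, apply_mul, h, map_smul, ih, smul_smul, ← pow_succ']

/-- An element acting with `p`-power order agrees with some element of `p`-power order. -/
theorem exists_pElement {p : ℕ} (hp : p.Prime) (y : G) (e : ℕ) (h : ∀ v, ρ (y ^ p ^ e) v = v) :
    ∃ z : G, (∃ k : ℕ, orderOf z = p ^ k) ∧ ∀ v, ρ z v = ρ y v := by
  obtain ⟨f, m, hm, hym⟩ := Nat.exists_eq_pow_mul_and_not_dvd (orderOf_pos y).ne' p hp.ne_one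
  have hcop : (p ^ (e + f)).Coprime m :=
    Nat.Coprime.pow_left _ (hp.coprime_iff_not_dvd.2 hm)
  obtain ⟨n, hn1, hn0⟩ := Nat.chineseRemainder hcop 1 0
  refine ⟨y ^ n, ?_, fun v => ?_⟩
  · have h1 : (y ^ n) ^ p ^ f = 1 := by
      rw [← pow_mul]
      refine orderOf_dvd_iff_pow_eq_one.1 ?_
      rw [hym, mul_comm n]
      exact Nat.mul_dvd_mul_left _ (Nat.modEq_zero_iff_dvd.1 hn0)
    obtain ⟨k, -, hk⟩ := (Nat.dvd_prime_pow hp).1 (orderOf_dvd_of_pow_eq_one h1)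
    exact ⟨k, hk⟩
  · rcases Nat.eq_zero_or_pos n with rfl | hpos
    · have h2 : p ^ (e + f) ∣ 1 := (Nat.modEq_iff_dvd' (Nat.zero_le 1)).1 hn1
      have h3 : e = 0 := by
        by_contra h0
        exact hp.one_lt.ne' (Nat.dvd_one.1 ((dvd_pow_self p (by omega : e + f ≠ 0)).trans h2))
      subst h3
      rw [pow_zero, apply_one']
      have := h v
      rw [pow_zero, pow_one] at this
      exact this.symm
    · obtain ⟨j, hj⟩ := (Nat.modEq_iff_dvd' hpos).1 hn1.symm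
      have hn : n = p ^ e * (p ^ f * j) + 1 := by rw [← mul_assoc, ← pow_add, ← hj]; omega
      have h4 : ∀ i w, ρ ((y ^ p ^ e) ^ i) w = w := by
        intro i w
        induction i with
        | zero => rw [pow_zero, apply_one']
        | succ i ih => rw [pow_succ, apply_mul, h, ih]
      rw [hn, pow_succ, pow_mul, apply_mul, h4]

/-- A map with the quadratic property that interchanges two independent parts squares to one
on each of them. -/
theorem swap_sq {h : G} {U₁ U₂ : Submodule (ZMod q) V} [Fact q.Prime]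
    (hdisj : ∀ v ∈ U₁, v ∈ U₂ → v = 0) (h12 : ∀ v ∈ U₁, ρ h v ∈ U₂)
    (h21 : ∀ v ∈ U₂, ρ h v ∈ U₁) {c : ZMod q}
    (hquad : ∀ v, ρ h (ρ h v - v) = c • (ρ h v - v)) :
    ∀ v ∈ U₁, ρ h (ρ h v) = v := by
  intro v hv
  by_cases hv0 : v = 0
  · simp [hv0]
  have e := hquad v
  rw [map_sub, smul_sub] at e
  have e2 : ρ h (ρ h v) + c • v = (1 + c) • ρ h v := by
    rw [add_smul, one_smul]
    linear_combination (norm := abel) e
  have hzero : (1 + c) • ρ h v = 0 := by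
    refine hdisj _ ?_ (U₂.smul_mem _ (h12 v hv))
    rw [← e2]
    exact U₁.add_mem (h21 _ (h12 v hv)) (U₁.smul_mem c hv)
  have hhv : ρ h v ≠ 0 := fun h0 => hv0 (by rw [← inv_apply_apply ρ h v, h0, map_zero])
  have hc : c = -1 := by
    rcases smul_eq_zero.1 hzero with hc | hc
    · exact eq_neg_of_add_eq_zero_right hc
    · exact absurd hc hhv
  rw [hzero, hc, neg_one_smul, ← sub_eq_add_neg, sub_eq_zero] at e2
  exact e2

variable [Nontrivial V]

theorem scalar_ne_zero {g : G} {c : ZMod q} (h : ∀ v, ρ g v = c • v) : c ≠ 0 := by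
  rintro rfl
  obtain ⟨v, hv⟩ := exists_ne (0 : V)
  exact hv (by rw [← inv_apply_apply ρ g v, h v, zero_smul, map_zero])

/-- The elements acting as scalars. -/
def scalarSubgroup : Subgroup G where
  carrier := {g | ∃ c : ZMod q, ∀ v, ρ g v = c • v}
  one_mem' := ⟨1, fun v => by rw [apply_one', one_smul]⟩
  mul_mem' := by
    rintro g h ⟨c, hc⟩ ⟨d, hd⟩
    exact ⟨c * d, fun v => by rw [apply_mul, hd, hc, smul_smul]⟩
  inv_mem' := by
    rintro g ⟨c, hc⟩
    refine ⟨c⁻¹, fun v => ?_⟩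
    have h := apply_inv_apply ρ g v
    rw [hc] at h
    conv_rhs => rw [← h, smul_smul, inv_mul_cancel₀ (scalar_ne_zero ρ hc), one_smul]

theorem scalarSubgroup_normal : (scalarSubgroup ρ).Normal :=
  ⟨fun g ⟨c, hc⟩ x => ⟨c, fun v => by
    rw [apply_mul, apply_mul, hc, map_smul, apply_inv_apply]⟩⟩

theorem eigen_eq {g : G} {k d : ZMod q} (hq : ∀ v, ρ g (ρ g v - v) = k • (ρ g v - v)) {v : V}
    (hv : v ≠ 0) (h : ρ g v = d • v) : d = 1 ∨ d = k := by
  have e := hq v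
  rw [map_sub, h, map_smul, h, smul_smul] at e
  have e2 : ((d - 1) * (d - k)) • v = 0 := by
    have e3 : (d * d) • v - d • v - k • (d • v - v) = 0 := sub_eq_zero.2 e
    rw [← e3, smul_sub, smul_smul]
    module
  rcases mul_eq_zero.1 ((smul_eq_zero.1 e2).resolve_right hv) with h' | h'
  · exact Or.inl (sub_eq_zero.1 h')
  · exact Or.inr (sub_eq_zero.1 h')

/-- Main theorem. -/
theorem scalar (hirr : ∀ U : Submodule (ZMod q) V, (∀ g, ∀ v ∈ U, ρ g v ∈ U) → U = ⊥ ∨ U = ⊤)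
    (K : Subgroup G) [K.Normal] (hK : ∀ g ∈ K, ∀ v, ρ g v = v) (hss : Cfsg.IsSupersolvable (G ⧸ K))
    (hcard : q ∣ Nat.card V)
    (hquad : ∀ g : G, ∀ p : ℕ, p.Prime → p ≠ q → (∃ k, orderOf g = p ^ k) →
      ∃ c : ZMod q, ∀ v, ρ g (ρ g v - v) = c • (ρ g v - v)) (g : G) :
    ∃ c : ZMod q, ∀ v, ρ g v = c • v := by
  by_contra hg
  set S := scalarSubgroup ρ
  have hSn : S.Normal := scalarSubgroup_normal ρ
  have hKS : K ≤ S := fun x hx => ⟨1, fun v => by rw [hK x hx, one_smul]⟩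
  have hQ : Cfsg.IsSupersolvable (G ⧸ S) :=
    Hall.Supersolvable.of_surjective hss (f := QuotientGroup.map K S (MonoidHom.id G) hKS)
      (fun y => by
        induction y using QuotientGroup.induction_on with
        | H x => exact ⟨(x : G ⧸ K), rfl⟩)
  have : Nontrivial (G ⧸ S) := ⟨(g : G ⧸ S), 1, fun h => hg ((QuotientGroup.eq_one_iff g).1 h)⟩
  obtain ⟨A, hAn, -, hAp⟩ := Hall.Supersolvable.exists_normal_prime_le hQ
    (⊤ : Subgroup (G ⧸ S)) top_ne_bot
  set p := Nat.card A with hpdef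
  have hpf : Fact p.Prime := ⟨hAp⟩
  -- a generator of `p`-power order
  obtain ⟨a, haA, haS, ⟨e, hae⟩⟩ : ∃ a : G, (a : G ⧸ S) ∈ A ∧ a ∉ S ∧ ∃ e, orderOf a = p ^ e := by
    obtain ⟨⟨y, hyA⟩, hy1⟩ : ∃ y : A, y ≠ 1 := by
      have : Nontrivial A := Finite.one_lt_card_iff_nontrivial.1 hAp.one_lt
      exact exists_ne 1
    obtain ⟨a₀, rfl⟩ := QuotientGroup.mk_surjective y
    obtain ⟨e, m, hm, hem⟩ := Nat.exists_eq_pow_mul_and_not_dvd (orderOf_pos a₀).ne' p hAp.ne_one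
    refine ⟨a₀ ^ m, by rw [QuotientGroup.mk_pow]; exact pow_mem hyA m, fun hmem => hy1 ?_, e, ?_⟩
    · have h1 : (⟨(a₀ : G ⧸ S), hyA⟩ : A) ^ m = 1 := Subtype.ext (by
        rw [SubmonoidClass.coe_pow, OneMemClass.coe_one, ← QuotientGroup.mk_pow]
        exact (QuotientGroup.eq_one_iff _).2 hmem)
      have h2 := orderOf_dvd_of_pow_eq_one h1
      have h3 : orderOf (⟨(a₀ : G ⧸ S), hyA⟩ : A) ∣ p := hpdef ▸ orderOf_dvd_natCard _
      exact orderOf_eq_one_iff.1 (Nat.eq_one_of_dvd_coprimes (hAp.coprime_iff_not_dvd.2 hm) h3 h2)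
    · have hm0 : m ≠ 0 := by rintro rfl; simp at hm
      rw [orderOf_pow' a₀ hm0, hem, Nat.gcd_mul_left_left, Nat.mul_div_cancel _ (Nat.pos_of_ne_zero hm0)]
  have hgen : ∀ x : G, ∃ (i : ℕ) (c : ZMod q), c ≠ 0 ∧
      ∀ v, ρ (x * a * x⁻¹) v = c • ρ (a ^ i) v := by
    intro x
    have h1 : ((x * a * x⁻¹ : G) : G ⧸ S) ∈ A := by
      rw [QuotientGroup.mk_mul, QuotientGroup.mk_mul, QuotientGroup.mk_inv]
      exact hAn.conj_mem _ haA _
    have h2 : (⟨_, h1⟩ : A) ∈ Submonoid.powers (⟨_, haA⟩ : A) := by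
      refine mem_powers_of_prime_card (p := p) rfl ?_
      intro h
      exact haS ((QuotientGroup.eq_one_iff a).1 (congrArg Subtype.val h))
    obtain ⟨i, hi⟩ := Submonoid.mem_powers_iff _ _ |>.1 h2
    have hi' : ((a ^ i : G) : G ⧸ S) = ((x * a * x⁻¹ : G) : G ⧸ S) := by
      rw [QuotientGroup.mk_pow]; exact congrArg Subtype.val hi
    have hs : x * a * x⁻¹ * (a ^ i)⁻¹ ∈ S := by
      rw [← QuotientGroup.eq_one_iff, QuotientGroup.mk_mul, QuotientGroup.mk_inv, hi', mul_inv_cancel]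
    obtain ⟨c, hc⟩ := hs
    refine ⟨i, c, scalar_ne_zero ρ hc, fun v => ?_⟩
    rw [← hc, ← apply_mul, inv_mul_cancel_right]
  let U₁ : Submodule (ZMod q) V := LinearMap.ker (ρ a - 1)
  have hU₁ : ∀ v, v ∈ U₁ ↔ ρ a v = v := fun v => by
    rw [LinearMap.mem_ker, LinearMap.sub_apply, Module.End.one_apply, sub_eq_zero]
  have hU₁top : U₁ ≠ ⊤ := fun h => haS ⟨1, fun v => by
    rw [one_smul]; exact (hU₁ v).1 (h ▸ Submodule.mem_top)⟩
  have hape : ∀ v, ρ (a ^ p ^ e) v = v := fun v => by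
    rw [← hae, pow_orderOf_eq_one, apply_one']
  by_cases hpq : p = q
  · -- a fixed vector
    obtain ⟨v₀, hv₀, hv₀0⟩ : ∃ v, ρ a v = v ∧ v ≠ 0 := by
      let σ : Equiv.Perm V := ⟨ρ a, ρ a⁻¹, inv_apply_apply ρ a, apply_inv_apply ρ a⟩
      have hσp : ∀ (n : ℕ) (v : V), (σ ^ n) v = ρ (a ^ n) v := by
        intro n v
        induction n generalizing v with
        | zero => simp [apply_one']
        | succ n ih => rw [pow_succ, Equiv.Perm.mul_apply, ih, pow_succ, apply_mul]; rfl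
      have hσ : σ ^ p ^ e = 1 := Equiv.ext fun v => by rw [hσp, hape]; rfl
      haveI := Fintype.ofFinite V
      obtain ⟨b, hb, hb0⟩ := Equiv.Perm.exists_fixed_point_of_prime' (p := p) (n := e)
        (by rw [← Nat.card_eq_fintype_card, hpq]; exact hcard) hσ (a := (0 : V)) (map_zero (ρ a))
      exact ⟨b, hb, hb0⟩
    refine hU₁top ((hirr U₁ fun x v hv => ?_).resolve_left fun h => hv₀0 ?_)
    · rw [hU₁] at hv ⊢
      obtain ⟨i, c, -, hi⟩ := hgen x⁻¹
      rw [inv_inv] at hi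
      have hfix : ρ (x⁻¹ * a * x) v = c • v := by
        rw [hi, pow_apply_eq ρ (show ρ a v = (1 : ZMod q) • v by rw [one_smul]; exact hv), one_pow, one_smul]
      have hc1 : c = 1 := by
        by_cases hv0 : v = 0
        · by_contra hc
          have h2 := hi v₀
          have h2' : ρ (x⁻¹ * a * x) v₀ = c • v₀ := by
            rw [h2, pow_apply_eq ρ (show ρ a v₀ = (1 : ZMod q) • v₀ by rw [one_smul]; exact hv₀), one_pow, one_smul]
          have h3 := pow_apply_eq ρ h2' (p ^ e)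
          have h4 : (x⁻¹ * a * x) ^ p ^ e = 1 := by
            have := conj_pow (a := x⁻¹) (b := a) (i := p ^ e)
            rw [inv_inv] at this
            rw [this, ← hae, pow_orderOf_eq_one, mul_one, inv_mul_cancel]
          rw [h4, apply_one'] at h3
          have h5 : c ^ p ^ e = 1 := by
            by_contra h6
            have h7 : (c ^ p ^ e - 1) • v₀ = 0 := by rw [sub_smul, one_smul, ← h3, sub_self]
            exact h6 (sub_eq_zero.1 ((smul_eq_zero.1 h7).resolve_right hv₀0))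
          rw [hpq, ZMod.pow_card_pow] at h5
          exact hc h5
        · have h3 := pow_apply_eq ρ hfix (p ^ e)
          have h4 : (x⁻¹ * a * x) ^ p ^ e = 1 := by
            have := conj_pow (a := x⁻¹) (b := a) (i := p ^ e)
            rw [inv_inv] at this
            rw [this, ← hae, pow_orderOf_eq_one, mul_one, inv_mul_cancel]
          rw [h4, apply_one'] at h3
          have h7 : (c ^ p ^ e - 1) • v = 0 := by rw [sub_smul, one_smul, ← h3, sub_self]
          have h5 := sub_eq_zero.1 ((smul_eq_zero.1 h7).resolve_right hv0)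
          rwa [hpq, ZMod.pow_card_pow] at h5
      rw [hc1, one_smul] at hfix
      have h8 := congrArg (ρ x) hfix
      rwa [← apply_mul, ← mul_assoc, ← mul_assoc, mul_inv_cancel, one_mul, apply_mul] at h8
    · have : v₀ ∈ U₁ := (hU₁ v₀).2 hv₀
      rw [h] at this
      exact (Submodule.mem_bot _).1 this
  obtain ⟨k, hk⟩ := hquad a p hAp hpq ⟨e, hae⟩
  have hpne : ((p ^ e : ℕ) : ZMod q) ≠ 0 := fun h => hpq ((Nat.prime_dvd_prime_iff_eq Fact.out hAp).1
    ((Fact.out : q.Prime).dvd_of_dvd_pow ((CharP.cast_eq_zero_iff (ZMod q) q _).1 h))).symm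
  have hk1 : k ≠ 1 := by
    intro hk1
    refine hU₁top (eq_top_iff.2 fun v _ => (hU₁ v).2 ?_)
    have hlin : ∀ n : ℕ, ρ (a ^ n) v = v + (n : ZMod q) • (ρ a v - v) := by
      intro n
      induction n with
      | zero => simp [apply_one']
      | succ n ih =>
        rw [pow_succ', apply_mul, ih, map_add, map_smul, hk, hk1, one_smul, Nat.cast_succ,
          add_smul, one_smul]
        abel
    have h1 := hlin (p ^ e)
    rw [hape] at h1
    have h2 : ((p ^ e : ℕ) : ZMod q) • (ρ a v - v) = 0 := left_eq_add.1 h1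
    exact sub_eq_zero.1 ((smul_eq_zero.1 h2).resolve_left hpne)
  let U₂ : Submodule (ZMod q) V := LinearMap.ker (ρ a - k • (1 : Module.End (ZMod q) V))
  have hU₂ : ∀ v, v ∈ U₂ ↔ ρ a v = k • v := fun v => by
    rw [LinearMap.mem_ker, LinearMap.sub_apply, LinearMap.smul_apply, Module.End.one_apply,
      sub_eq_zero]
  have hdisj : ∀ v ∈ U₁, v ∈ U₂ → v = 0 := fun v h1 h2 => by
    rw [hU₁] at h1; rw [hU₂, h1] at h2
    have : (k - 1) • v = 0 := by rw [sub_smul, one_smul, ← h2, sub_self]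
    exact (smul_eq_zero.1 this).resolve_left (sub_ne_zero.2 hk1)
  have hdec : ∀ v, ∃ v₁ ∈ U₁, ∃ v₂ ∈ U₂, v = v₁ + v₂ := fun v => by
    refine ⟨v - (k - 1)⁻¹ • (ρ a v - v), ?_, (k - 1)⁻¹ • (ρ a v - v),
      U₂.smul_mem _ ((hU₂ _).2 (hk v)), by abel⟩
    rw [hU₁, map_sub, map_smul, hk]
    have h1 : ρ a v - v = (k - 1)⁻¹ • (k • (ρ a v - v)) - (k - 1)⁻¹ • (ρ a v - v) := by
      rw [← smul_sub]
      conv_rhs => rw [show k • (ρ a v - v) - (ρ a v - v) = (k - 1) • (ρ a v - v) by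
        rw [sub_smul, one_smul]]
      rw [smul_smul, inv_mul_cancel₀ (sub_ne_zero.2 hk1), one_smul]
    linear_combination (norm := abel) h1
  obtain ⟨w₁, hw₁, hw₁0⟩ : ∃ w ∈ U₁, w ≠ 0 := by
    by_contra h
    push Not at h
    refine haS ⟨k, fun v => ?_⟩
    obtain ⟨v₁, h1, v₂, h2, rfl⟩ := hdec v
    rw [h v₁ h1, zero_add]
    exact (hU₂ v₂).1 h2
  obtain ⟨w₂, hw₂, hw₂0⟩ : ∃ w ∈ U₂, w ≠ 0 := by
    by_contra h
    push Not at h
    refine hU₁top (eq_top_iff.2 fun v _ => ?_)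
    obtain ⟨v₁, h1, v₂, h2, rfl⟩ := hdec v
    rw [h v₂ h2, add_zero]
    exact h1
  have hk0 : k ≠ 0 := by
    rintro rfl
    have := (hU₂ w₂).1 hw₂
    rw [zero_smul] at this
    exact hw₂0 (by rw [← inv_apply_apply ρ a w₂, this, map_zero])
  -- how a conjugate of `a` acts
  have hconj : ∀ x : G, (∀ v ∈ U₁, ρ x v ∈ U₁) ∨ ((∀ v ∈ U₁, ρ (x * a * x⁻¹) v = k • v) ∧
      (∀ v ∈ U₂, ρ (x * a * x⁻¹) v = v) ∧ (∀ v ∈ U₁, ρ x v ∈ U₂) ∧ ∀ v ∈ U₂, ρ x v ∈ U₁) := by
    intro x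
    obtain ⟨i, c, hc0, hi⟩ := hgen x
    set b := x * a * x⁻¹
    have hb1 : ∀ v ∈ U₁, ρ b v = c • v := fun v hv => by
      rw [hi, pow_apply_eq ρ (show ρ a v = (1 : ZMod q) • v by rw [one_smul]; exact (hU₁ v).1 hv), one_pow, one_smul]
    have hb2 : ∀ v ∈ U₂, ρ b v = (c * k ^ i) • v := fun v hv => by
      rw [hi, pow_apply_eq ρ ((hU₂ v).1 hv), smul_smul]
    have hbx : ∀ v, ρ b (ρ x v) = ρ x (ρ a v) := fun v => by
      rw [← apply_mul, ← apply_mul, show b * x = x * a by simp [b]]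
    have hbq : ∀ v, ρ b (ρ b v - v) = k • (ρ b v - v) := fun v => by
      obtain ⟨u, rfl⟩ : ∃ u, ρ x u = v := ⟨ρ x⁻¹ v, apply_inv_apply ρ x v⟩
      rw [hbx, ← map_sub, hbx, hk, map_smul, map_sub]
    have hne : c ≠ c * k ^ i := by
      intro heq
      apply haS
      refine ⟨c, fun u => ?_⟩
      have hball : ρ b (ρ x u) = c • ρ x u := by
        obtain ⟨v₁, h1, v₂, h2, hv⟩ := hdec (ρ x u)
        rw [hv, map_add, hb1 v₁ h1, hb2 v₂ h2, ← heq, smul_add]
      rw [hbx, ← map_smul] at hball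
      have h9 := congrArg (ρ x⁻¹) hball
      rwa [inv_apply_apply, inv_apply_apply] at h9
    rcases eigen_eq ρ hbq hw₁0 (hb1 w₁ hw₁) with hc | hc <;>
      rcases eigen_eq ρ hbq hw₂0 (hb2 w₂ hw₂) with hd | hd
    · exact absurd (hc.trans hd.symm) hne
    · left
      intro v hv
      obtain ⟨v₁, h1, v₂, h2, he⟩ := hdec (ρ x v)
      have h3 : ρ b (ρ x v) = ρ x v := by rw [hbx, (hU₁ v).1 hv]
      rw [he, map_add, hb1 v₁ h1, hb2 v₂ h2, hd, hc, one_smul, add_right_inj] at h3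
      have : (k - 1) • v₂ = 0 := by rw [sub_smul, one_smul, h3, sub_self]
      rw [he, (smul_eq_zero.1 this).resolve_left (sub_ne_zero.2 hk1), add_zero]
      exact h1
    · right
      refine ⟨fun v hv => hc ▸ hb1 v hv, fun v hv => by rw [hb2 v hv, hd, one_smul],
        fun v hv => ?_, fun v hv => ?_⟩
      · obtain ⟨v₁, h1, v₂, h2, he⟩ := hdec (ρ x v)
        have h3 : ρ b (ρ x v) = ρ x v := by rw [hbx, (hU₁ v).1 hv]
        rw [he, map_add, hb1 v₁ h1, hb2 v₂ h2, hd, hc, one_smul, add_left_inj] at h3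
        have : (k - 1) • v₁ = 0 := by rw [sub_smul, one_smul, h3, sub_self]
        rw [he, (smul_eq_zero.1 this).resolve_left (sub_ne_zero.2 hk1), zero_add]
        exact h2
      · obtain ⟨v₁, h1, v₂, h2, he⟩ := hdec (ρ x v)
        have h3 : ρ b (ρ x v) = k • ρ x v := by rw [hbx, (hU₂ v).1 hv, map_smul]
        rw [he, map_add, hb1 v₁ h1, hb2 v₂ h2, hd, hc, one_smul, smul_add, add_right_inj] at h3
        have : (k - 1) • v₂ = 0 := by rw [sub_smul, one_smul, ← h3, sub_self]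
        rw [he, (smul_eq_zero.1 this).resolve_left (sub_ne_zero.2 hk1), add_zero]
        exact h1
    · exact absurd (hc.trans hd.symm) hne
  obtain ⟨x, hbU₁, hbU₂, hx12, hx21⟩ : ∃ x : G, (∀ v ∈ U₁, ρ (x * a * x⁻¹) v = k • v) ∧
      (∀ v ∈ U₂, ρ (x * a * x⁻¹) v = v) ∧ (∀ v ∈ U₁, ρ x v ∈ U₂) ∧ ∀ v ∈ U₂, ρ x v ∈ U₁ := by
    by_contra h
    refine hU₁top ((hirr U₁ fun y v hv => ?_).resolve_left fun hb => hw₁0 ?_)
    · rcases hconj y with h1 | h1
      · exact h1 v hv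
      · exact absurd ⟨y, h1⟩ h
    · exact (Submodule.mem_bot _).1 (hb ▸ hw₁)
  -- the eigenvalue is `-1`
  have hkm : k = -1 := by
    have hkpe : k ^ p ^ e = 1 := by
      have h1 := pow_apply_eq ρ ((hU₂ w₂).1 hw₂) (p ^ e)
      rw [hape] at h1
      have h7 : (k ^ p ^ e - 1) • w₂ = 0 := by rw [sub_smul, one_smul, ← h1, sub_self]
      exact sub_eq_zero.1 ((smul_eq_zero.1 h7).resolve_right hw₂0)
    set y := x * a * x⁻¹ * a * a
    have hy1 : ∀ v ∈ U₁, ρ y v = k • v := fun v hv => by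
      rw [apply_mul, apply_mul, (hU₁ v).1 hv, (hU₁ v).1 hv, hbU₁ v hv]
    have hy2 : ∀ v ∈ U₂, ρ y v = (k * k) • v := fun v hv => by
      rw [apply_mul, apply_mul, (hU₂ v).1 hv, map_smul, (hU₂ v).1 hv, smul_smul, map_smul,
        hbU₂ v hv]
    obtain ⟨z, hz, hzy⟩ := exists_pElement ρ hAp y e fun v => by
      obtain ⟨v₁, h1, v₂, h2, rfl⟩ := hdec v
      rw [map_add, pow_apply_eq ρ (hy1 v₁ h1), pow_apply_eq ρ (hy2 v₂ h2), mul_pow, hkpe, mul_one,
        one_smul, one_smul]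
    obtain ⟨k', hk'⟩ := hquad z p hAp hpq hz
    have hk'k : k = k' := (eigen_eq ρ hk' hw₁0 ((hzy w₁).trans (hy1 w₁ hw₁))).resolve_left hk1
    rcases eigen_eq ρ hk' hw₂0 ((hzy w₂).trans (hy2 w₂ hw₂)) with h1 | h1
    · exact (mul_self_eq_one_iff.1 h1).resolve_left hk1
    · exact absurd (mul_left_cancel₀ hk0 ((h1.trans hk'k.symm).trans (mul_one k).symm)) hk1
  have hp2 : p = 2 := by
    by_contra hp2
    have h1 := pow_apply_eq ρ ((hU₂ w₂).1 hw₂) (p ^ e)
    rw [hape, hkm, Odd.neg_one_pow ((hAp.odd_of_ne_two hp2).pow), ← hkm] at h1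
    exact hw₂0 (hdisj w₂ ((hU₁ w₂).2 (((hU₂ w₂).1 hw₂).trans h1.symm)) hw₂)
  -- a two-element interchanging the eigenspaces
  obtain ⟨h, ⟨eh, heh⟩, hh12, hh21⟩ : ∃ h : G, (∃ j, orderOf h = 2 ^ j) ∧
      (∀ v ∈ U₁, ρ h v ∈ U₂) ∧ ∀ v ∈ U₂, ρ h v ∈ U₁ := by
    obtain ⟨j, m, hm, hjm⟩ := Nat.exists_eq_pow_mul_and_not_dvd (orderOf_pos x).ne' 2 (by norm_num)
    have hm0 : m ≠ 0 := by rintro rfl; simp at hm
    obtain ⟨l, hl⟩ : Odd m := Nat.odd_iff.2 (by omega)
    refine ⟨x ^ m, ⟨j, ?_⟩, ?_⟩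
    · rw [orderOf_pow' x hm0, hjm, Nat.gcd_mul_left_left,
        Nat.mul_div_cancel _ (Nat.pos_of_ne_zero hm0)]
    · subst hl
      clear hjm hm hm0
      induction l with
      | zero => rw [mul_zero, zero_add, pow_one]; exact ⟨hx12, hx21⟩
      | succ l ih =>
        rw [show 2 * (l + 1) + 1 = (2 * l + 1) + 1 + 1 by ring, pow_succ, pow_succ]
        refine ⟨fun v hv => ?_, fun v hv => ?_⟩
        · rw [apply_mul, apply_mul]; exact ih.1 _ (hx21 _ (hx12 v hv))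
        · rw [apply_mul, apply_mul]; exact ih.2 _ (hx12 _ (hx21 v hv))
  have hq2 : (2 : ℕ) ≠ q := hp2 ▸ hpq
  obtain ⟨ch, hch⟩ := hquad h 2 Nat.prime_two hq2 ⟨eh, heh⟩
  have hhsq1 := swap_sq ρ hdisj hh12 hh21 hch
  have hhsq2 := swap_sq ρ (fun v h1 h2 => hdisj v h2 h1) hh21 hh12 hch
  have hu : ∀ v, ρ (a * h) (ρ (a * h) v) = -v := by
    intro v
    obtain ⟨v₁, h1, v₂, h2, rfl⟩ := hdec v
    rw [map_add, map_add, neg_add, apply_mul, apply_mul, apply_mul, apply_mul]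
    congr 1
    · rw [(hU₂ _).1 (hh12 v₁ h1), hkm, neg_one_smul, map_neg, hhsq1 v₁ h1, map_neg, (hU₁ v₁).1 h1]
    · rw [(hU₁ _).1 (hh21 v₂ h2), hhsq2 v₂ h2, (hU₂ v₂).1 h2, hkm, neg_one_smul]
  obtain ⟨z, hz, hzy⟩ := exists_pElement ρ Nat.prime_two (a * h) 2 fun v => by
    rw [show (2 : ℕ) ^ 2 = 1 + 1 + 1 + 1 by norm_num, pow_succ, pow_succ, pow_succ, pow_one,
      apply_mul, apply_mul, apply_mul, hu, hu, neg_neg]
  obtain ⟨cz, hcz⟩ := hquad z 2 Nat.prime_two hq2 hz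
  have hz12 : ∀ v ∈ U₁, ρ z v ∈ U₂ := fun v hv => by
    rw [hzy, apply_mul, (hU₂ _).1 (hh12 v hv)]
    exact U₂.smul_mem _ (hh12 v hv)
  have hz21 : ∀ v ∈ U₂, ρ z v ∈ U₁ := fun v hv => by
    rw [hzy, apply_mul, (hU₁ _).1 (hh21 v hv)]
    exact hh21 v hv
  have h1 := swap_sq ρ hdisj hz12 hz21 hcz w₁ hw₁
  rw [hzy, hzy, hu] at h1
  have h2 : ((2 : ℕ) : ZMod q) • w₁ = 0 := by
    rw [Nat.cast_two, two_smul]
    nth_rw 1 [← h1]
    exact neg_add_cancel w₁
  rcases smul_eq_zero.1 h2 with h3 | h3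
  · exact hq2 ((Nat.prime_dvd_prime_iff_eq Fact.out Nat.prime_two).1
      ((CharP.cast_eq_zero_iff (ZMod q) q _).1 h3)).symm
  · exact hw₁0 h3

end Cfsg.Agent.CharP.ScalarAction
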