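import Cfsg.Agent.Lib.CharP.SmallCentralizerPoly
import Cfsg.Agent.Lib.PGroups.MaximalClass
import Cfsg.Agent.Lib.PGroups.Basic
import Cfsg.Agent.Lib.Components.RegularPGroup

/-!
A `p`-group with an element `x` of order `p` whose centralizer has order at most `p²`: every subgroup
can be generated by at most `p` elements.  The point is that for `i ≥ 1` the `p`-th power maps the
`i`-th layer of the lower central series bijectively onto the layer `i + p - 1`.
-/

set_option autoImplicit false
set_option linter.unusedSectionVars false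

namespace Cfsg.Agent.CharP.SmallCentralizer

open Subgroup
open Cfsg.Agent.PGroups.MaximalClass
open Cfsg.Agent.CharP.SmallCentralizerPoly (it it_map)
open scoped commutatorElement

variable {G : Type*} [Group G] [Finite G] {p : ℕ} [hp : Fact p.Prime] {x : G}

/-- An element of order `p` with centralizer of order at most `p²`. -/
structure Small (p : ℕ) (x : G) : Prop where
  pgrp : IsPGroup p G
  pow_eq : x ^ p = 1
  card_le : Nat.card (centralizer ({x} : Set G)) ≤ p ^ 2
  not_mem : x ∉ commutator G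

theorem card_classes (g : G → G) (K : Set G) (hK : ∀ a, g a ∈ K) {C : Subgroup G}
    (hg : ∀ a b, g a = g b → b⁻¹ * a ∈ C) : Nat.card G ≤ Nat.card K * Nat.card C := by
  rw [C.card_eq_card_quotient_mul_card_subgroup]
  refine Nat.mul_le_mul_right _ (Nat.card_le_card_of_injective (fun q => (⟨g q.out, hK _⟩ : K)) fun a b h => ?_)
  rw [← QuotientGroup.out_eq' a, ← QuotientGroup.out_eq' b, QuotientGroup.eq]
  exact hg _ _ (congrArg Subtype.val h).symm

theorem conj_move {a b : G} (h : ⁅a, x⁆ = ⁅b, x⁆) : b⁻¹ * a ∈ centralizer ({x} : Set G) := by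
  rw [mem_centralizer_singleton_iff]
  rw [commutatorElement_def, commutatorElement_def, mul_left_inj] at h
  calc b⁻¹ * a * x = b⁻¹ * (a * x * a⁻¹) * a := by group
    _ = b⁻¹ * (b * x * b⁻¹) * a := by rw [h]
    _ = x * (b⁻¹ * a) := by group

theorem Small.index_le (h : Small p x) : (commutator G).index ≤ p ^ 2 := by
  refine Nat.le_of_mul_le_mul_left ?_ (Nat.card_pos (α := commutator G))
  rw [card_mul_index]
  exact (card_classes (fun a => ⁅a, x⁆) (commutator G : Set G)
    (fun a => commutator_mem_commutator (mem_top a) (mem_top x)) fun _ _ => conj_move).trans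
      (Nat.mul_le_mul_left _ h.card_le)

/-- The class of `x` is the whole coset of the derived subgroup. -/
theorem Small.mul_pow (h : Small p x) {c : G} (hc : c ∈ commutator G) : (x * c) ^ p = 1 := by
  by_cases hb : commutator G = ⊥
  · rw [hb, mem_bot] at hc
    rw [hc, mul_one, h.pow_eq]
  have hidx : p ^ 2 ∣ (commutator G).index := by
    have := (pow_dvd_index h.pgrp hb 1 le_rfl).resolve_left (by rwa [lcs_one])
    rwa [lcs_one] at this
  set R := Set.range fun a : G => ⁅a, x⁆
  have hR : R ⊆ (commutator G : Set G) := by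
    rintro _ ⟨a, rfl⟩; exact commutator_mem_commutator (mem_top a) (mem_top x)
  have h1 : Nat.card G ≤ R.ncard * p ^ 2 := by
    rw [← Nat.card_coe_set_eq]
    exact (card_classes (fun a => ⁅a, x⁆) R (fun a => ⟨a, rfl⟩) fun _ _ => conj_move).trans
      (Nat.mul_le_mul_left _ h.card_le)
  have h2 : Nat.card (commutator G) * p ^ 2 ≤ Nat.card G := by
    rw [← card_mul_index (commutator G)]
    exact Nat.mul_le_mul_left _ (Nat.le_of_dvd (Nat.pos_of_ne_zero index_ne_zero_of_finite) hidx)
  have hEq : R = (commutator G : Set G) := by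
    refine Set.eq_of_subset_of_ncard_le hR ?_ (Set.toFinite _)
    rw [← Nat.card_coe_set_eq]
    exact Nat.le_of_mul_le_mul_right (h2.trans h1) (pow_pos hp.out.pos 2)
  have hmem : x * c * x⁻¹ ∈ R := by
    rw [hEq]; exact (inferInstance : (commutator G).Normal).conj_mem c hc x
  obtain ⟨a, ha⟩ := hmem
  have hac : x * c = a * x * a⁻¹ := by
    calc x * c = x * c * x⁻¹ * x := by group
      _ = ⁅a, x⁆ * x := by rw [← show ⁅a, x⁆ = x * c * x⁻¹ from ha]
      _ = a * x * a⁻¹ := by rw [commutatorElement_def]; group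
  rw [hac, conj_pow, h.pow_eq, mul_one, mul_inv_cancel]

/-- In a quotient the fixed points of `x` in the derived subgroup have order at most `p`. -/
theorem Small.card_fixed (h : Small p x) (N : Subgroup G) [N.Normal] (hN : N ≤ commutator G) :
    Nat.card ((commutator G).map (QuotientGroup.mk' N) ⊓
      centralizer ({QuotientGroup.mk' N x} : Set (G ⧸ N)) : Subgroup (G ⧸ N)) ≤ p := by
  set f := QuotientGroup.mk' N with hf
  set W := (commutator G).map f ⊓ centralizer ({f x} : Set (G ⧸ N))
  set C := centralizer ({f x} : Set (G ⧸ N))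
  have hxW : f x ∉ W := by
    intro hW
    obtain ⟨c, hc, hcx⟩ := hW.1
    have h1 : c⁻¹ * x ∈ N := QuotientGroup.eq.mp hcx
    exact h.not_mem (by simpa using mul_mem hc (hN h1))
  -- the centralizer in the quotient is not larger
  have hC : Nat.card C ≤ p ^ 2 := by
    set T := C.comap f
    have hTc : Nat.card T = Nat.card C * Nat.card N := by
      have h1 := card_mul_index T
      rw [index_comap_of_surjective C (QuotientGroup.mk'_surjective N), ← card_mul_index N, index_eq_card N,
        ← card_mul_index C] at h1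
      exact Nat.eq_of_mul_eq_mul_right (Nat.pos_of_ne_zero index_ne_zero_of_finite)
        (h1.trans (by ring))
    have h1 : Nat.card T ≤ Nat.card N * Nat.card ((centralizer ({x} : Set G)).subgroupOf T) := by
      rw [((centralizer ({x} : Set G)).subgroupOf T).card_eq_card_quotient_mul_card_subgroup]
      refine Nat.mul_le_mul_right _ (Nat.card_le_card_of_injective (fun q => (⟨⁅(q.out : G), x⁆, ?_⟩ : N))
        fun a b e => ?_)
      · have hm := q.out.2
        rw [mem_comap, mem_centralizer_singleton_iff] at hm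
        rw [← QuotientGroup.eq_one_iff]
        show f ⁅(q.out : G), x⁆ = 1
        rw [map_commutatorElement, commutatorElement_eq_one_iff_mul_comm]
        exact hm
      · rw [← QuotientGroup.out_eq' a, ← QuotientGroup.out_eq' b, QuotientGroup.eq, mem_subgroupOf]
        exact conj_move (congrArg Subtype.val e).symm
    rw [hTc] at h1
    refine le_trans (Nat.le_of_mul_le_mul_right (h1.trans_eq (mul_comm _ _)) Nat.card_pos) (le_trans ?_ h.card_le)
    exact Nat.card_le_card_of_injective (fun t => (⟨t.1.1, t.2⟩ : centralizer ({x} : Set G)))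
      fun a b e => Subtype.ext (Subtype.ext (congrArg Subtype.val e :))
  have hlt : W < W ⊔ zpowers (f x) := lt_of_le_of_ne le_sup_left fun e => hxW (e ▸ mem_sup_right (mem_zpowers _))
  have hle : W ⊔ zpowers (f x) ≤ C := sup_le inf_le_right (zpowers_le.mpr (mem_centralizer_singleton_iff.mpr rfl))
  obtain ⟨a, ha⟩ := IsPGroup.iff_card.mp ((h.pgrp.to_quotient N).to_subgroup W)
  obtain ⟨b, hb⟩ := IsPGroup.iff_card.mp ((h.pgrp.to_quotient N).to_subgroup (W ⊔ zpowers (f x) : Subgroup (G ⧸ N)))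
  have h1 : Nat.card W < Nat.card (W ⊔ zpowers (f x) : Subgroup (G ⧸ N)) :=
    lt_of_not_ge fun hge => hlt.ne (eq_of_le_of_card_ge le_sup_left hge)
  have h2 := (card_le_of_le hle).trans hC
  rw [ha, hb, Nat.pow_lt_pow_iff_right hp.out.one_lt] at h1
  rw [hb, Nat.pow_le_pow_iff_right hp.out.one_lt] at h2
  rw [ha]
  calc p ^ a ≤ p ^ 1 := Nat.pow_le_pow_right hp.out.pos (by omega)
    _ = p := pow_one p

theorem exists_lcs_bot (hG : IsPGroup p G) : ∃ N, lcs G N = ⊥ := by
  haveI := hG.isNilpotent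
  exact Subgroup.nilpotent_iff_lowerCentralSeries.mp hG.isNilpotent

theorem lcs_le_commutator {j : ℕ} (hj : 1 ≤ j) : lcs G j ≤ commutator G :=
  lcs_one (G := G) ▸ lcs_antitone hj

theorem central_mod {j : ℕ} {c : G} (hc : c ∈ lcs G j) (g : G) :
    QuotientGroup.mk' (lcs G (j + 1)) c * QuotientGroup.mk' (lcs G (j + 1)) g =
      QuotientGroup.mk' (lcs G (j + 1)) g * QuotientGroup.mk' (lcs G (j + 1)) c := by
  rw [← commutatorElement_eq_one_iff_mul_comm, ← map_commutatorElement]
  refine (QuotientGroup.eq_one_iff _).mpr ?_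
  rw [lcs_succ]
  exact commutator_mem_commutator hc (mem_top g)

theorem image_le_fixed {j m : ℕ} (hj : 1 ≤ j) (hm : j + 1 = m) :
    (lcs G j).map (QuotientGroup.mk' (lcs G m)) ≤ (commutator G).map (QuotientGroup.mk' (lcs G m)) ⊓
      centralizer ({QuotientGroup.mk' (lcs G m) x} : Set (G ⧸ lcs G m)) := by
  subst hm
  refine le_inf (map_mono (lcs_le_commutator hj)) ?_
  rintro _ ⟨c, hc, rfl⟩
  rw [mem_centralizer_singleton_iff]
  exact central_mod hc x

/-- Commutation with `x` moves each layer to the next. -/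
theorem Small.layer (h : Small p x) {j : ℕ} (hj : 1 ≤ j) (hne : lcs G (j + 1) ≠ ⊥) {c : G}
    (hc : c ∈ lcs G j) (hcx : ⁅c, x⁻¹⁆ ∈ lcs G (j + 2)) : c ∈ lcs G (j + 1) := by
  haveI := h.pgrp.isNilpotent
  set f := QuotientGroup.mk' (lcs G (j + 2)) with hf
  set W := (commutator G).map f ⊓ centralizer ({f x} : Set (G ⧸ lcs G (j + 2)))
  have hWc : Nat.card W ≤ p := h.card_fixed _ (lcs_le_commutator (by omega))
  set A := (lcs G (j + 1)).map f
  have hAW : A ≤ W := image_le_fixed (by omega) rfl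
  have hA : A ≠ ⊥ := by
    intro e
    rw [Subgroup.map_eq_bot_iff, QuotientGroup.ker_mk'] at e
    exact hne (eq_bot_of_stable e)
  have hAW' : A = W := by
    refine eq_of_le_of_card_ge hAW (hWc.trans ?_)
    obtain ⟨a, ha⟩ := IsPGroup.iff_card.mp ((h.pgrp.to_quotient (lcs G (j + 2))).to_subgroup A)
    rw [ha]
    refine Nat.le_self_pow (fun ha0 => hA ?_) p
    rw [ha0, pow_zero] at ha
    exact card_eq_one.mp ha
  have hcW : f c ∈ W := by
    refine ⟨mem_map_of_mem f (lcs_le_commutator hj hc), mem_centralizer_singleton_iff.mpr ?_⟩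
    have h1 : Commute (f c) (f x⁻¹) := by
      rw [← commutatorElement_eq_one_iff_commute, ← map_commutatorElement]
      exact (QuotientGroup.eq_one_iff _).mpr hcx
    rw [map_inv] at h1
    exact (Commute.inv_right_iff.mp h1).eq
  rw [← hAW'] at hcW
  obtain ⟨d, hd, hdc⟩ := hcW
  have h2 : d⁻¹ * c ∈ lcs G (j + 1) := lcs_le (j + 1) (QuotientGroup.eq.mp hdc)
  simpa using mul_mem hd h2

/-- A layer is generated by any of its elements. -/
theorem Small.generate (h : Small p x) {j : ℕ} (hj : 1 ≤ j) {c : G} (hc : c ∈ lcs G j) (hc' : c ∉ lcs G (j + 1)) :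
    lcs G j = lcs G (j + 1) ⊔ zpowers c := by
  set f := QuotientGroup.mk' (lcs G (j + 1))
  have hA : Nat.card ((lcs G j).map f) ≤ p :=
    (card_le_of_le (image_le_fixed hj rfl)).trans (h.card_fixed _ (lcs_le_commutator (by omega)))
  have hle : zpowers (f c) ≤ (lcs G j).map f := zpowers_le.mpr (mem_map_of_mem f hc)
  have hne : f c ≠ 1 := fun e => hc' ((QuotientGroup.eq_one_iff c).mp e)
  have hge : p ≤ Nat.card (zpowers (f c)) := by
    rw [Nat.card_zpowers]
    obtain ⟨a, ha⟩ := IsPGroup.iff_orderOf.mp (h.pgrp.to_quotient (lcs G (j + 1))) (f c)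
    rw [ha]
    refine Nat.le_self_pow (fun ha0 => hne ?_) p
    rw [ha0, pow_zero] at ha
    exact orderOf_eq_one_iff.mp ha
  have heq : zpowers (f c) = (lcs G j).map f := eq_of_le_of_card_ge hle (hA.trans hge)
  refine le_antisymm (fun g hg => ?_) (sup_le (lcs_le j) (zpowers_le.mpr hc))
  obtain ⟨k, hk⟩ := mem_zpowers_iff.mp (heq ▸ mem_map_of_mem f hg)
  rw [← map_zpow] at hk
  have h2 : (c ^ k)⁻¹ * g ∈ lcs G (j + 1) := QuotientGroup.eq.mp hk
  simpa using mul_mem (mem_sup_right (zpow_mem_zpowers c k)) (mem_sup_left (T := zpowers c) h2)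

theorem Small.it_spec (h : Small p x) {i : ℕ} (hi : 1 ≤ i) {c : G} (hc : c ∈ lcs G i) (hc' : c ∉ lcs G (i + 1)) :
    ∀ k, it x c k ∈ lcs G (i + k) ∧ (lcs G (i + k) ≠ ⊥ → it x c k ∉ lcs G (i + k + 1))
  | 0 => ⟨hc, fun _ => hc'⟩
  | k + 1 => by
    obtain ⟨h1, h2⟩ := h.it_spec hi hc hc' k
    refine ⟨?_, fun hne hmem => h2 (fun e => hne (le_bot_iff.mp (e ▸ lcs_le (i + k)))) ?_⟩
    · show ⁅(it x c k)⁻¹, x⁻¹⁆ ∈ lcs G (i + k + 1)
      rw [lcs_succ]
      exact commutator_mem_commutator (inv_mem h1) (mem_top _)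
    · exact inv_mem_iff.mp (h.layer (j := i + k) (by omega) hne (inv_mem h1) hmem)

theorem lcs_commutator_le (a b : ℕ) : ⁅lcs G a, lcs G b⁆ ≤ lcs G (a + b + 1) := by
  exact Cfsg.Agent.GenA.Lazard.lcs_commutator a b

theorem comap_lcs {H : Type*} [Group H] (φ : H →* G) (k : ℕ) :
    ((⊤ : Subgroup H).lowerCentralSeries k).map φ = φ.range.lowerCentralSeries k := by
  rw [Subgroup.map_lowerCentralSeries, MonoidHom.range_eq_map]

/-- The `p`-th power of a layer element, one layer deeper being understood. -/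
theorem Small.pow_it (h : Small p x) {i : ℕ} (hi : 1 ≤ i)
    (hA : ∀ c ∈ lcs G (i + 1), c ^ p ∈ lcs G (i + p)) {c : G} (hc : c ∈ lcs G i) (hc' : c ∉ lcs G (i + 1)) :
    c ^ p * it x c (p - 1) ∈ lcs G (i + p) := by
  haveI := h.pgrp.isNilpotent
  have hp2 := hp.out.two_le
  set M : Subgroup G := zpowers x ⊔ lcs G i with hMdef
  have hxM : x ∈ M := mem_sup_left (mem_zpowers x)
  have hiM : lcs G i ≤ M := le_sup_right
  -- upper bound for the series of `M`
  have hMM : ⁅M, M⁆ ≤ lcs G (i + 1) := by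
    set f := QuotientGroup.mk' (lcs G (i + 1)) with hf
    have key : ∀ a ∈ M, ∀ b ∈ M, f a * f b = f b * f a := by
      have h0 : ∀ a ∈ M, f a * f x = f x * f a := by
        intro a ha
        have : M ≤ (centralizer ({f x} : Set _)).comap f := by
          refine sup_le (zpowers_le.mpr (mem_centralizer_singleton_iff.mpr rfl)) fun b hb => ?_
          exact mem_centralizer_singleton_iff.mpr (central_mod hb x)
        exact mem_centralizer_singleton_iff.mp (this ha)
      intro a ha b hb
      have : M ≤ (centralizer ({f a} : Set _)).comap f := by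
        refine sup_le (zpowers_le.mpr (mem_centralizer_singleton_iff.mpr (h0 a ha).symm)) fun b hb => ?_
        exact mem_centralizer_singleton_iff.mpr (central_mod hb a)
      exact (mem_centralizer_singleton_iff.mp (this hb)).symm
    rw [commutator_le]
    intro a ha b hb
    rw [← QuotientGroup.eq_one_iff]
    show f ⁅a, b⁆ = 1
    rw [map_commutatorElement, commutatorElement_eq_one_iff_mul_comm]
    exact key a ha b hb
  have hup : ∀ k, M.lowerCentralSeries (k + 1) ≤ lcs G (i + k + 1) := by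
    intro k
    induction k with
    | zero => rw [Subgroup.lowerCentralSeries_succ, Subgroup.lowerCentralSeries_zero]; exact hMM
    | succ k ih =>
      rw [Subgroup.lowerCentralSeries_succ, show i + (k + 1) + 1 = (i + k + 1) + 1 by omega, lcs_succ]
      exact commutator_mono ih le_top
  -- lower bound
  have hlow0 : ∀ k, it x c k ∈ M.lowerCentralSeries k := by
    intro k
    induction k with
    | zero => rw [Subgroup.lowerCentralSeries_zero]; exact hiM hc
    | succ k ih =>
      rw [Subgroup.lowerCentralSeries_succ]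
      exact commutator_mem_commutator (inv_mem ih) (inv_mem hxM)
  obtain ⟨N, hN⟩ : ∃ N, lcs G N = ⊥ := exists_lcs_bot h.pgrp
  have hlow : ∀ k, lcs G (i + k) ≤ M.lowerCentralSeries k := by
    suffices ∀ r k, N ≤ i + k + r → lcs G (i + k) ≤ M.lowerCentralSeries k from
      fun k => this N k (by omega)
    intro r
    induction r with
    | zero => intro k hk; exact ((lcs_antitone (by omega)).trans hN.le).trans bot_le
    | succ r ih =>
      intro k hk
      by_cases hb : lcs G (i + k) = ⊥
      · exact hb.le.trans bot_le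
      rw [h.generate (by omega) (h.it_spec hi hc hc' k).1 ((h.it_spec hi hc hc' k).2 hb)]
      refine sup_le ?_ (zpowers_le.mpr (hlow0 k))
      exact (ih (k + 1) (by omega)).trans (Subgroup.lowerCentralSeries_antitone _ (Nat.le_succ k))
  -- the quotient
  set N₀ : Subgroup M := (lcs G (i + p)).subgroupOf M
  set f := QuotientGroup.mk' N₀ with hf
  have hT : ∀ k (q : M ⧸ N₀), q ∈ (⊤ : Subgroup (M ⧸ N₀)).lowerCentralSeries k →
      ∃ m : M, f m = q ∧ (m : G) ∈ M.lowerCentralSeries k := by
    intro k q hq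
    rw [← map_top_of_surjective f (QuotientGroup.mk'_surjective N₀), ← Subgroup.map_lowerCentralSeries] at hq
    obtain ⟨m, hm, rfl⟩ := hq
    refine ⟨m, rfl, ?_⟩
    rw [← Subgroup.top_subtype_lowerCentralSeries M k]
    exact ⟨m, hm, rfl⟩
  have hT' : ∀ k (m : M), (m : G) ∈ M.lowerCentralSeries k → f m ∈ (⊤ : Subgroup (M ⧸ N₀)).lowerCentralSeries k := by
    intro k m hm
    rw [← Subgroup.top_subtype_lowerCentralSeries M k] at hm
    obtain ⟨m', hm', e⟩ := hm
    rw [← map_top_of_surjective f (QuotientGroup.mk'_surjective N₀), ← Subgroup.map_lowerCentralSeries]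
    exact ⟨m', hm', congrArg f (Subtype.ext e)⟩
  have hcl : (⊤ : Subgroup (M ⧸ N₀)).lowerCentralSeries p = ⊥ := by
    rw [eq_bot_iff]
    intro q hq
    obtain ⟨m, rfl, hm⟩ := hT p q hq
    refine (QuotientGroup.eq_one_iff _).mpr (mem_subgroupOf.mpr ?_)
    have := hup (p - 1)
    rw [Nat.sub_add_cancel (by omega : 1 ≤ p), show i + (p - 1) + 1 = i + p by omega] at this
    exact this hm
  set K : Subgroup (M ⧸ N₀) := ((lcs G i).subgroupOf M).map f
  haveI : K.Normal := Subgroup.Normal.map inferInstance f (QuotientGroup.mk'_surjective N₀)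
  have hK : ∀ a b, ⁅GenA.Lazard.F (M ⧸ N₀) a ⊓ K, GenA.Lazard.F (M ⧸ N₀) b ⊓ K⁆ ≤
      GenA.Lazard.F (M ⧸ N₀) (a + b + 1) := by
    have hval : ∀ a (q : M ⧸ N₀), q ∈ GenA.Lazard.F (M ⧸ N₀) a ⊓ K →
        ∃ m : M, f m = q ∧ (m : G) ∈ lcs G (i + (a - 1)) := by
      rintro a q ⟨hqa, hqK⟩
      obtain ⟨m', hm', e⟩ := hqK
      rcases Nat.lt_or_ge a 2 with h2 | h2
      · exact ⟨m', e, lcs_antitone (by omega) (mem_subgroupOf.mp hm')⟩
      · obtain ⟨m, hm, hm'⟩ := hT (a - 1) q hqa
        have := hup (a - 2)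
        rw [show a - 2 + 1 = a - 1 by omega, show i + (a - 2) + 1 = i + (a - 1) by omega] at this
        exact ⟨m, hm, this hm'⟩
    intro a b
    rw [commutator_le]
    intro q hq q' hq'
    obtain ⟨m, rfl, hm⟩ := hval a q hq
    obtain ⟨m', rfl, hm'⟩ := hval b q' hq'
    rw [← map_commutatorElement]
    refine hT' (a + b + 1 - 1) _ ?_
    refine hlow _ ?_
    exact lcs_antitone (by omega) (lcs_commutator_le _ _ (commutator_mem_commutator hm hm'))
  have hexp : ∀ z ∈ GenA.Lazard.F (M ⧸ N₀) 2, z ^ p = 1 := by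
    intro z hz
    obtain ⟨m, rfl, hm⟩ := hT 1 z hz
    rw [← map_pow]
    exact (QuotientGroup.eq_one_iff _).mpr (mem_subgroupOf.mpr (hA _ (hup 0 hm)))
  set X : M := ⟨x, hxM⟩
  set C : M := ⟨c, hiM hc⟩
  have key := SmallCentralizerPoly.pow_eq_it hcl hK hp.out le_rfl hexp (x := f X) (h := f C)
    (mem_map_of_mem f (mem_subgroupOf.mpr hc))
    (by rw [← map_pow, show X ^ p = 1 from Subtype.ext h.pow_eq, map_one])
    (by rw [← map_mul, ← map_pow, show (X * C) ^ p = 1 from
      Subtype.ext (h.mul_pow (lcs_le_commutator hi hc)), map_one])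
  rw [← it_map, ← map_pow, ← map_mul] at key
  have h1 := mem_subgroupOf.mp ((QuotientGroup.eq_one_iff _).mp key)
  rw [Subgroup.coe_mul, Subgroup.coe_pow] at h1
  have h2 : ((it X C (p - 1) : M) : G) = it x c (p - 1) := it_map M.subtype X C (p - 1)
  rwa [h2] at h1

/-- `p`-th powers go `p - 1` layers deeper. -/
theorem Small.pow_mem (h : Small p x) : ∀ i, 1 ≤ i → ∀ c ∈ lcs G i, c ^ p ∈ lcs G (i + p - 1) := by
  obtain ⟨N, hN⟩ : ∃ N, lcs G N = ⊥ := exists_lcs_bot h.pgrp
  have hp2 := hp.out.two_le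
  suffices ∀ r i, 1 ≤ i → N ≤ i + r → ∀ c ∈ lcs G i, c ^ p ∈ lcs G (i + p - 1) from
    fun i hi => this N i hi (by omega)
  intro r
  induction r with
  | zero =>
    intro i _ hN' c hc
    have : c = 1 := mem_bot.mp (hN ▸ lcs_antitone (G := G) (by omega : N ≤ i) hc)
    rw [this, one_pow]; exact one_mem _
  | succ r ih =>
    intro i hi hN' c hc
    have hA : ∀ d ∈ lcs G (i + 1), d ^ p ∈ lcs G (i + p) := fun d hd => by
      have := ih (i + 1) (by omega) (by omega) d hd
      rwa [show i + 1 + p - 1 = i + p by omega] at this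
    by_cases hc' : c ∈ lcs G (i + 1)
    · exact lcs_antitone (by omega) (hA c hc')
    have h1 := lcs_antitone (G := G) (by omega : i + p - 1 ≤ i + p) (h.pow_it hi hA hc hc')
    have h2 : it x c (p - 1) ∈ lcs G (i + p - 1) := by
      rw [show i + p - 1 = i + (p - 1) by omega]; exact (h.it_spec hi hc hc' _).1
    simpa using mul_mem h1 (inv_mem h2)

theorem Small.pow_not_mem (h : Small p x) {i : ℕ} (hi : 1 ≤ i) {c : G} (hc : c ∈ lcs G i)
    (hc' : c ∉ lcs G (i + 1)) (hne : lcs G (i + p - 1) ≠ ⊥) : c ^ p ∉ lcs G (i + p) := by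
  have hp2 := hp.out.two_le
  intro hmem
  have hA : ∀ d ∈ lcs G (i + 1), d ^ p ∈ lcs G (i + p) := fun d hd => by
    have := h.pow_mem (i + 1) (by omega) d hd
    rwa [show i + 1 + p - 1 = i + p by omega] at this
  have h1 := h.pow_it hi hA hc hc'
  rw [show i + p - 1 = i + (p - 1) by omega] at hne
  refine (h.it_spec hi hc hc' (p - 1)).2 hne ?_
  rw [show i + (p - 1) + 1 = i + p by omega]
  simpa using mul_mem (inv_mem hmem) h1

/-- Subgroups of the derived subgroup need at most `p - 1` generators. -/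
theorem Small.rank_derived (h : Small p x) (H : Subgroup G) (hH : H ≤ commutator G) :
    ∃ T : Finset G, T.card ≤ p - 1 ∧ closure (T : Set G) = H := by
  classical
  have hp2 := hp.out.two_le
  obtain ⟨N, hN⟩ : ∃ N, lcs G N = ⊥ := exists_lcs_bot h.pgrp
  let P : ℕ → ℕ → Prop := fun r i => 1 ≤ i ∧ i % (p - 1) = r ∧ ∃ c ∈ H, c ∈ lcs G i ∧ c ∉ lcs G (i + 1)
  let pick : ℕ → G := fun r => if hr : ∃ i, P r i then (Nat.find_spec hr).2.2.choose else 1
  refine ⟨(Finset.range (p - 1)).image pick, Finset.card_image_le.trans (Finset.card_range _).le, ?_⟩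
  set U := closure (((Finset.range (p - 1)).image pick : Finset G) : Set G)
  have hUH : U ≤ H := by
    rw [closure_le]
    intro t ht
    obtain ⟨r, -, rfl⟩ := Finset.mem_image.mp ht
    by_cases hr : ∃ i, P r i
    · simp only [pick, dif_pos hr]; exact (Nat.find_spec hr).2.2.choose_spec.1
    · simp only [pick, dif_neg hr]; exact one_mem H
  refine le_antisymm hUH ?_
  -- every layer met by `H` is met by `U`
  have hlay : ∀ i, 1 ≤ i → (∃ c ∈ H, c ∈ lcs G i ∧ c ∉ lcs G (i + 1)) →
      ∃ t ∈ U, t ∈ lcs G i ∧ t ∉ lcs G (i + 1) := by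
    intro i hi hex
    have hr : ∃ j, P (i % (p - 1)) j := ⟨i, hi, rfl, hex⟩
    obtain ⟨hj1, hj2, hj3⟩ := Nat.find_spec hr
    have hle : Nat.find hr ≤ i := Nat.find_min' hr ⟨hi, rfl, hex⟩
    obtain ⟨k, hk⟩ : ∃ k, i = Nat.find hr + k * (p - 1) := by
      refine ⟨(i - Nat.find hr) / (p - 1), ?_⟩
      rw [Nat.div_mul_cancel ((Nat.modEq_iff_dvd' hle).mp hj2)]; omega
    set j := Nat.find hr with hj
    have hne : lcs G i ≠ ⊥ := fun e => by
      obtain ⟨c, -, hc, hc'⟩ := hex
      exact hc' (by rw [e, mem_bot] at hc; rw [hc]; exact one_mem _)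
    rw [hk] at hne ⊢
    clear hk
    induction k with
    | zero =>
      refine ⟨pick (i % (p - 1)), subset_closure (Finset.mem_coe.mpr (Finset.mem_image.mpr
        ⟨_, Finset.mem_range.mpr (Nat.mod_lt _ (by omega)), rfl⟩)), ?_⟩
      simp only [pick, dif_pos hr, Nat.zero_mul, Nat.add_zero]
      exact (Nat.find_spec hr).2.2.choose_spec.2
    | succ k ih =>
      obtain ⟨t, htU, ht, ht'⟩ := ih fun e => hne (le_bot_iff.mp (e ▸ lcs_antitone (G := G) (by
        rw [Nat.succ_mul]; omega)))
      have e1 : j + (k + 1) * (p - 1) = j + k * (p - 1) + p - 1 := by rw [Nat.succ_mul]; omega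
      refine ⟨t ^ p, U.pow_mem htU p, ?_, ?_⟩
      · rw [e1]; exact h.pow_mem _ (by omega) t ht
      · have := h.pow_not_mem (i := j + k * (p - 1)) (by omega) ht ht' (e1 ▸ hne)
        rwa [show j + (k + 1) * (p - 1) + 1 = j + k * (p - 1) + p by omega]
  suffices ∀ r i, 1 ≤ i → N ≤ i + r → H ⊓ lcs G i ≤ U by
    intro c hc
    exact this N 1 le_rfl (by omega) ⟨hc, by rw [lcs_one]; exact hH hc⟩
  intro r
  induction r with
  | zero => intro i _ hN'; exact (inf_le_right.trans ((lcs_antitone (by omega)).trans hN.le)).trans bot_le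
  | succ r ih =>
    intro i hi hN' c hc
    by_cases hc' : c ∈ lcs G (i + 1)
    · exact ih (i + 1) (by omega) (by omega) ⟨hc.1, hc'⟩
    obtain ⟨t, htU, ht, ht'⟩ := hlay i hi ⟨c, hc.1, hc.2, hc'⟩
    obtain ⟨g, hg, _, ⟨k, rfl⟩, e⟩ := mem_sup_of_normal_left.mp ((h.generate hi ht ht') ▸ hc.2)
    have hgH : g ∈ H := by
      have : g = c * (t ^ k)⁻¹ := eq_mul_inv_of_mul_eq e
      rw [this]; exact mul_mem hc.1 (inv_mem (zpow_mem (hUH htU) k))
    rw [← e]
    exact mul_mem (ih (i + 1) (by omega) (by omega) ⟨hgH, hg⟩) (zpow_mem htU k)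

theorem exists_two {Q : Type*} [Group Q] [Finite Q] (hQ : IsPGroup p Q) (h : Nat.card Q ≤ p ^ 2) :
    ∃ a b : Q, closure ({a, b} : Set Q) = ⊤ := by
  rcases subsingleton_or_nontrivial Q with hs | hn
  · exact ⟨1, 1, Subsingleton.elim _ _⟩
  obtain ⟨a, ha⟩ := exists_ne (1 : Q)
  by_cases htop : zpowers a = ⊤
  · exact ⟨a, a, top_unique (htop.ge.trans (zpowers_le.mpr (subset_closure (Set.mem_insert a _))))⟩
  obtain ⟨b, hb⟩ : ∃ b, b ∉ zpowers a := by
    by_contra hall
    push Not at hall
    exact htop (top_unique fun b _ => hall b)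
  refine ⟨a, b, eq_top_of_card_eq _ ?_⟩
  obtain ⟨e, he⟩ := IsPGroup.iff_card.mp (hQ.to_subgroup (closure ({a, b} : Set Q)))
  obtain ⟨f, hf⟩ := IsPGroup.iff_card.mp (hQ.to_subgroup (zpowers a))
  obtain ⟨n, hn⟩ := IsPGroup.iff_card.mp hQ
  have h1 : zpowers a ≤ closure ({a, b} : Set Q) := zpowers_le.mpr (subset_closure (Set.mem_insert a _))
  have h2 : Nat.card (zpowers a) < Nat.card (closure ({a, b} : Set Q)) := lt_of_not_ge fun hge =>
    hb ((eq_of_le_of_card_ge h1 hge).symm ▸ subset_closure (Set.mem_insert_of_mem a rfl))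
  have h3 : 1 < Nat.card (zpowers a) := by
    rw [Nat.card_zpowers]
    exact lt_of_le_of_ne (orderOf_pos a) fun e => ha (orderOf_eq_one_iff.mp e.symm)
  have h4 : Nat.card (closure ({a, b} : Set Q)) ≤ Nat.card Q := card_le_card_group _
  rw [hn] at h h4 ⊢
  rw [he] at h2 h4 ⊢
  rw [hf] at h2 h3
  rw [Nat.pow_lt_pow_iff_right hp.out.one_lt] at h2
  rw [Nat.pow_le_pow_iff_right hp.out.one_lt] at h h4
  rcases Nat.eq_zero_or_pos f with rfl | hfp
  · simp at h3
  · rw [show e = n by omega]

/-- Every subgroup is generated by at most `p` elements. -/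
theorem Small.rank_le (h : Small p x) (H : Subgroup G) :
    ∃ T : Finset G, T.card ≤ p ∧ closure (T : Set G) = H := by
  classical
  haveI := h.pgrp.isNilpotent
  have hp2 := hp.out.two_le
  set f := QuotientGroup.mk' (commutator G)
  have hfc : Nat.card (G ⧸ commutator G) ≤ p ^ 2 := by rw [← index_eq_card]; exact h.index_le
  by_cases htop : H.map f = ⊤
  · -- `H` is the whole group
    obtain ⟨a, b, hab⟩ := exists_two (p := p) (h.pgrp.to_quotient (commutator G)) hfc
    have hgen : ∀ U : Subgroup G, U.map f = ⊤ → U = ⊤ := by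
      intro U hU
      by_contra hne
      obtain ⟨M, hM, hUM⟩ := (eq_top_or_exists_le_coatom U).resolve_left hne
      have h1 : commutator G ≤ M := Components.RegularPGroup.commutator_le_coatom h.pgrp hM
      refine hM.1 (top_unique fun g _ => ?_)
      obtain ⟨u, hu, e⟩ := (hU ▸ mem_top (f g) : f g ∈ U.map f)
      simpa using mul_mem (hUM hu) (h1 (QuotientGroup.eq.mp e))
    obtain ⟨a, rfl⟩ := QuotientGroup.mk'_surjective (commutator G) a
    obtain ⟨b, rfl⟩ := QuotientGroup.mk'_surjective (commutator G) b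
    refine ⟨{a, b}, Finset.card_le_two.trans hp2, ?_⟩
    rw [hgen H htop, Finset.coe_pair]
    exact hgen _ (by rw [MonoidHom.map_closure, Set.image_pair]; exact hab)
  -- one element on top of the derived part
  have hlt : Nat.card (H.map f) < Nat.card (G ⧸ commutator G) :=
    lt_of_not_ge fun hge => htop (eq_top_of_card_eq _ (le_antisymm (card_le_card_group _) hge))
  haveI : IsCyclic (H.map f) := by
    obtain ⟨a, ha⟩ := IsPGroup.iff_card.mp ((h.pgrp.to_quotient (commutator G)).to_subgroup (H.map f))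
    have hlt' := hlt.trans_le hfc
    rw [ha, Nat.pow_lt_pow_iff_right hp.out.one_lt] at hlt'
    refine isCyclic_of_card_dvd_prime (p := p) ?_
    rw [ha]
    exact (pow_dvd_pow p (by omega : a ≤ 1)).trans (pow_one p).dvd
  obtain ⟨q, hq⟩ := IsCyclic.exists_generator (α := H.map f)
  obtain ⟨y, hy, hyq⟩ := q.2
  obtain ⟨T, hT, hTH⟩ := h.rank_derived (H ⊓ commutator G) inf_le_right
  refine ⟨insert y T, (Finset.card_insert_le _ _).trans (by omega), le_antisymm ?_ ?_⟩
  · rw [closure_le, Finset.coe_insert]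
    refine Set.insert_subset hy fun t ht => ?_
    exact ((hTH ▸ subset_closure ht : t ∈ H ⊓ commutator G)).1
  · intro c hc
    obtain ⟨k, hk⟩ := mem_zpowers_iff.mp (hq ⟨f c, mem_map_of_mem f hc⟩)
    have hk' : f (y ^ k) = f c := by
      rw [map_zpow, hyq, ← SubgroupClass.coe_zpow, hk]
    have h1 : (y ^ k)⁻¹ * c ∈ H ⊓ commutator G :=
      ⟨H.mul_mem (H.inv_mem (H.zpow_mem hy k)) hc, QuotientGroup.eq.mp hk'⟩
    have hsub : closure (T : Set G) ≤ closure ((insert y T : Finset G) : Set G) :=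
      closure_mono (by rw [Finset.coe_insert]; exact Set.subset_insert _ _)
    have hyU : y ∈ closure ((insert y T : Finset G) : Set G) :=
      subset_closure (Finset.mem_insert_self y T)
    have h2 := mul_mem (zpow_mem hyU k) (hsub (hTH.symm ▸ h1))
    rwa [mul_inv_cancel_left] at h2

end Cfsg.Agent.CharP.SmallCentralizer
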