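import Cfsg.Agent.GenA.Lazard

/-!
The `p`-th power of an element on which an element of order `p` acts as a splitting automorphism,
in class at most `p`: `h ^ p = [h, x, ..., x]⁻¹` (with `p - 1` copies of `x`).
-/

set_option autoImplicit false

namespace Cfsg.Agent.CharP.SmallCentralizerPoly

open Cfsg.Agent.GenA.Lazard
open scoped commutatorElement

variable {G : Type*} [Group G] {c : ℕ}

/-- Polynomial at level `d` with values in `K`. -/
def Q (c : ℕ) (K : Subgroup G) (d : ℕ) (f : ℕ → G) : Prop := P c d f ∧ ∀ n, f n ∈ K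

variable {K : Subgroup G} [K.Normal]

section

variable (hc : (⊤ : Subgroup G).lowerCentralSeries c = ⊥)
  (hK : ∀ a b, ⁅F G a ⊓ K, F G b ⊓ K⁆ ≤ F G (a + b + 1))
include hc

omit [K.Normal] in
theorem Q_mul {d : ℕ} {f g : ℕ → G} (hf : Q c K d f) (hg : Q c K d g) :
    Q c K d (fun n => f n * g n) :=
  ⟨P_mul hc hf.1 hg.1, fun n => K.mul_mem (hf.2 n) (hg.2 n)⟩

omit [K.Normal] in
theorem Q_inv {d : ℕ} {f : ℕ → G} (hf : Q c K d f) : Q c K d (fun n => (f n)⁻¹) :=
  ⟨P_inv hc d f hf.1, fun n => K.inv_mem (hf.2 n)⟩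

omit [K.Normal] in
theorem Q_D {d : ℕ} {f : ℕ → G} (hf : Q c K d f) : Q c K (d + 1) (D f) :=
  ⟨((P_iff hc d f).mp hf.1).2.1, fun n => K.mul_mem (K.inv_mem (hf.2 n)) (hf.2 (n + 1))⟩

omit [K.Normal] in
theorem Q_le {d e : ℕ} (h : d ≤ e) {f : ℕ → G} (hf : Q c K e f) : Q c K d f := ⟨P_le hc h hf.1, hf.2⟩

include hK

omit [K.Normal] in
/-- Commutators of polynomial maps with values in `K` gain one level. -/
theorem P_comm : ∀ e, ∀ a b (f g : ℕ → G), a + b + 1 = e → Q c K a f → Q c K b g →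
    P c e (fun n => ⁅f n, g n⁆) := by
  refine down c (fun e he a b f g hab hf hg => ?_) fun e he ih a b f g hab hf hg => ?_
  · rw [P_top hc he]; intro n
    have hv := hK a b (Subgroup.commutator_mem_commutator
      ⟨((P_iff hc a f).mp hf.1).1 n, hf.2 n⟩ ⟨((P_iff hc b g).mp hg.1).1 n, hg.2 n⟩)
    rwa [hab, F_bot hc (by omega), Subgroup.mem_bot] at hv
  obtain ⟨ihA, ihC, -⟩ := P_group hc (e + 1)
  have hconj' : ∀ f u : ℕ → G, P c 0 f → P c (e + 1) u → P c (e + 1) (fun n => (f n)⁻¹ * u n * f n) := by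
    intro f u hf hu
    have := ihC _ _ (P_inv hc 0 f hf) hu
    simpa using this
  obtain ⟨f1, -, -⟩ := (P_iff hc a f).mp hf.1
  obtain ⟨g1, -, -⟩ := (P_iff hc b g).mp hg.1
  have hf0 := P_le hc (Nat.zero_le a) hf.1
  have hg0 := P_le hc (Nat.zero_le b) hg.1
  have hu : P c (e + 1) (fun n => f n * ⁅D f n, g (n + 1)⁆ * (f n)⁻¹) :=
    ihC _ _ hf0 (ih (e + 1) (by omega) (a + 1) b _ _ (by omega) (Q_D hc hf)
      ⟨P_shift hc b g hg.1, fun n => hg.2 (n + 1)⟩)
  have hv : P c (e + 1) (fun n => g n * ⁅f n, D g n⁆ * (g n)⁻¹) :=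
    ihC _ _ hg0 (ih (e + 1) (by omega) a (b + 1) _ _ (by omega) hf (Q_D hc hg))
  refine (P_iff hc e _).mpr ⟨fun n => hab ▸ hK a b (Subgroup.commutator_mem_commutator
    ⟨f1 n, hf.2 n⟩ ⟨g1 n, hg.2 n⟩), ?_, ?_⟩
  · have : D (fun n => ⁅f n, g n⁆) = fun n =>
        (g n * (f n * ((g n)⁻¹ * ((f n)⁻¹ * (f n * ⁅D f n, g (n + 1)⁆ * (f n)⁻¹) * f n) * g n) * (f n)⁻¹) * (g n)⁻¹) *
          (g n * ⁅f n, D g n⁆ * (g n)⁻¹) := funext fun n => by
      simp only [D, commutatorElement_def]; group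
    rw [this]
    exact ihA _ _ (ihC _ _ hg0 (ihC _ _ hf0 (hconj' _ _ hg0 (hconj' _ _ hf0 hu)))) hv
  · have : L (fun n => ⁅f n, g n⁆) = fun n => (f n * ⁅D f n, g (n + 1)⁆ * (f n)⁻¹) *
        (f n * (g n * ((f n)⁻¹ * ((g n)⁻¹ * (g n * ⁅f n, D g n⁆ * (g n)⁻¹) * g n) * f n) * (g n)⁻¹) * (f n)⁻¹) := funext fun n => by
      simp only [D, L, commutatorElement_def]; group
    rw [this]
    exact ihA _ _ hu (ihC _ _ hf0 (ihC _ _ hg0 (hconj' _ _ hf0 (hconj' _ _ hg0 hv))))

omit [K.Normal] in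
theorem Q_comm {a b : ℕ} {f g : ℕ → G} (hf : Q c K a f) (hg : Q c K b g) :
    Q c K (a + b + 1) (fun n => ⁅f n, g n⁆) :=
  ⟨P_comm hc hK _ a b f g rfl hf hg, fun n => by
    show f n * g n * (f n)⁻¹ * (g n)⁻¹ ∈ K
    exact K.mul_mem (K.mul_mem (K.mul_mem (hf.2 n) (hg.2 n)) (K.inv_mem (hf.2 n))) (K.inv_mem (hg.2 n))⟩

omit hK [K.Normal] in
theorem Q_iter {d : ℕ} {f : ℕ → G} (hf : Q c K d f) : ∀ k, Q c K (d + k) (D^[k] f)
  | 0 => hf
  | k + 1 => by
    rw [Function.iterate_succ_apply', ← add_assoc]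
    exact Q_D hc (Q_iter hf k)

omit hK [K.Normal] in
theorem iter_eq_one {d m : ℕ} (h : c < d + m) {w : ℕ → G} (hw : Q c K d w) (n : ℕ) : D^[m] w n = 1 :=
  (P_top hc h _).mp (Q_iter hc hw m).1 n

/-- Enough iterated differences are multiplicative. -/
theorem iter_mul : ∀ m d (u v : ℕ → G), c ≤ d + m → Q c K d u → Q c K d v →
    D^[m] (fun n => u n * v n) = fun n => D^[m] u n * D^[m] v n := by
  intro m
  induction m with
  | zero => intros; rfl
  | succ m ih =>
    intro d u v hm hu hv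
    have e : D (fun n => u n * v n) = fun n => D u n * ((fun n => ⁅(D u n)⁻¹, (v n)⁻¹⁆ * D v n) n) :=
      funext fun n => by simp only [D, commutatorElement_def]; group
    have hw : Q c K (d + 2) (fun n => ⁅(D u n)⁻¹, (v n)⁻¹⁆) :=
      Q_le hc (by omega) (Q_comm hc hK (Q_inv hc (Q_D hc hu)) (Q_inv hc hv))
    simp only [Function.iterate_succ_apply]
    rw [e, ih (d + 1) _ _ (by omega) (Q_D hc hu) (Q_mul hc (Q_le hc (by omega) hw) (Q_D hc hv)),
      ih (d + 1) _ _ (by omega) (Q_le hc (by omega) hw) (Q_D hc hv)]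
    funext n
    simp only [iter_eq_one hc (show c < d + 2 + m by omega) hw n, one_mul]

end

theorem iter_const {z : G} : ∀ {m : ℕ}, 1 ≤ m → D^[m] (fun _ => z) = fun _ => 1
  | 1, _ => funext fun n => by simp [D]
  | m + 2, _ => by
    rw [Function.iterate_succ_apply', iter_const (m := m + 1) (by omega)]
    exact funext fun n => by simp [D]

theorem iter_choose (z : G) : ∀ i, D^[i] (fun n => z ^ n.choose i) = fun _ => z
  | 0 => funext fun n => by simp
  | i + 1 => by
    rw [Function.iterate_succ_apply]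
    have : D (fun n => z ^ n.choose (i + 1)) = fun n => z ^ n.choose i := funext fun n => by
      simp only [D, Nat.choose_succ_succ, pow_add]
      rw [((Commute.refl z).pow_pow _ _).eq, inv_mul_cancel_left]
    rw [this, iter_choose z i]

theorem iter_first {f : ℕ → G} {i : ℕ} (h : ∀ n < i, f n = 1) :
    ∀ k, k ≤ i → (∀ n, n + k < i → D^[k] f n = 1) ∧ D^[k] f (i - k) = f i := by
  intro k
  induction k with
  | zero => exact fun _ => ⟨fun n hn => h n (by omega), rfl⟩
  | succ k ih =>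
    intro hk
    obtain ⟨h1, h2⟩ := ih (by omega)
    rw [Function.iterate_succ_apply']
    refine ⟨fun n hn => ?_, ?_⟩
    · show (D^[k] f n)⁻¹ * D^[k] f (n + 1) = 1
      rw [h1 n (by omega), h1 (n + 1) (by omega), inv_one, one_mul]
    · show (D^[k] f (i - (k + 1)))⁻¹ * D^[k] f (i - (k + 1) + 1) = f i
      rw [h1 _ (by omega), show i - (k + 1) + 1 = i - k by omega, h2, inv_one, one_mul]

/-- The `k`-fold commutator with `x`. -/
def it (x h : G) : ℕ → G
  | 0 => h
  | k + 1 => ⁅(it x h k)⁻¹, x⁻¹⁆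

theorem it_map {H : Type*} [Group H] (φ : G →* H) (x h : G) : ∀ k, φ (it x h k) = it (φ x) (φ h) k
  | 0 => rfl
  | k + 1 => by simp only [it, map_commutatorElement, map_inv, it_map φ x h k]

theorem iter_conj (x h : G) : ∀ k, D^[k] (fun n => (x ^ n)⁻¹ * h * x ^ n) = fun n => (x ^ n)⁻¹ * it x h k * x ^ n
  | 0 => rfl
  | k + 1 => by
    rw [Function.iterate_succ_apply', iter_conj x h k]
    funext n
    simp only [D, it, commutatorElement_def, pow_succ']
    group

theorem pow_eq_it (hc : (⊤ : Subgroup G).lowerCentralSeries c = ⊥)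
    (hK : ∀ a b, ⁅F G a ⊓ K, F G b ⊓ K⁆ ≤ F G (a + b + 1)) {p : ℕ} (hp : p.Prime) (hcp : c ≤ p)
    (hexp : ∀ z ∈ F G 2, z ^ p = 1) {x h : G} (hh : h ∈ K) (hx : x ^ p = 1) (hxh : (x * h) ^ p = 1) :
    h ^ p * it x h (p - 1) = 1 := by
  have hp2 := hp.two_le
  have hP : ∀ z : G, P c 0 (fun n => z ^ n) := fun z => by
    have := P_choose hc (z := z) 1 0 (by rw [zero_add]; exact Subgroup.mem_top z)
    simpa using this
  -- the orbit of `h`
  set e : ℕ → G := fun n => (x ^ n)⁻¹ * h * x ^ n with he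
  have hQe : Q c K 1 e := by
    refine ⟨?_, fun n => ?_⟩
    · have := (P_group hc 1).2.1 _ _ (P_inv hc 0 _ (hP x)) (P_const hc (d := 1) (z := h) (Subgroup.mem_top h))
      simpa [he] using this
    · simpa [he] using (inferInstance : K.Normal).conj_mem h hh ((x ^ n)⁻¹)
  -- its partial products
  set g : ℕ → G := fun n => (x ^ n)⁻¹ * (x * h) ^ n with hg
  have hgs : ∀ n, g (n + 1) = e n * g n := fun n => by
    simp only [hg, he, pow_succ']
    generalize (x * h) ^ n = a
    generalize x ^ n = b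
    group
  have hQg : Q c K 0 g := by
    refine ⟨P_mul hc (P_inv hc 0 _ (hP x)) (hP (x * h)), fun n => ?_⟩
    induction n with
    | zero => simp [hg, K.one_mem]
    | succ n ih => rw [hgs]; exact K.mul_mem (hQe.2 n) ih
  have hQh : Q c K 0 (fun n => h ^ n) := ⟨hP h, fun n => K.pow_mem hh n⟩
  have hDg : D g = fun n => e n * ⁅(e n)⁻¹, (g n)⁻¹⁆ := funext fun n => by
    simp only [D, hgs, commutatorElement_def]; group
  set f : ℕ → G := fun n => g n * (h ^ n)⁻¹ with hf
  have hQf : Q c K 0 f := Q_mul hc hQg (Q_inv hc hQh)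
  have hinvD : D^[p] (fun n => (h ^ n)⁻¹) = fun _ => 1 := by
    have h1 : (fun n => (h ^ n)⁻¹) = fun n : ℕ => h⁻¹ ^ n.choose 1 := funext fun n => by simp
    rw [h1, show p = (p - 1) + 1 by omega, Function.iterate_add_apply, iter_choose, iter_const (by omega)]
  have hDf : ∀ n, D^[p] f n = (x ^ n)⁻¹ * it x h (p - 1) * x ^ n := fun n => by
    rw [hf, iter_mul hc hK p 0 _ _ (by omega) hQg (Q_inv hc hQh), hinvD]
    show D^[p] g n * 1 = _
    obtain ⟨q, rfl⟩ : ∃ q, p = q + 1 := ⟨p - 1, by omega⟩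
    have hw := Q_comm hc hK (Q_inv hc hQe) (Q_inv hc hQg)
    rw [mul_one, Function.iterate_succ_apply, hDg,
      iter_mul hc hK q 1 _ _ (by omega) hQe (Q_le hc (by omega) hw), he, iter_conj]
    show _ * D^[q] (fun n => ⁅(e n)⁻¹, (g n)⁻¹⁆) n = _
    rw [iter_eq_one hc (by omega) hw, mul_one, Nat.add_sub_cancel]
  -- kill the values below `p`
  have step : ∀ i, i ≤ p → ∃ u : ℕ → G, Q c K 0 u ∧ u 0 = 1 ∧ u 1 = 1 ∧ u p = f p ∧ D^[p] u = D^[p] f ∧
      ∀ n < i, u n = 1 := by
    intro i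
    induction i with
    | zero =>
      exact fun _ => ⟨f, hQf, by simp [hf, hg], by simp [hf, hg], rfl, rfl, fun n hn => absurd hn (Nat.not_lt_zero n)⟩
    | succ i ihi =>
      intro hi
      obtain ⟨u, hu, hu0, hu1, hup, hud, hui⟩ := ihi (by omega)
      rcases Nat.lt_or_ge i 2 with h2 | h2
      · refine ⟨u, hu, hu0, hu1, hup, hud, fun n hn => ?_⟩
        rcases Nat.lt_or_eq_of_le (Nat.lt_succ_iff.mp hn) with h | rfl
        · exact hui n h
        · interval_cases n
          · exact hu0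
          · exact hu1
      · have hb : u i ∈ F G i := by
          have := ((P_iff hc _ _).mp (Q_iter hc hu i).1).1 (i - i)
          rwa [(iter_first hui i le_rfl).2, Nat.zero_add] at this
        have hQb : Q c K 0 (fun n => (u i)⁻¹ ^ n.choose i) :=
          ⟨P_choose hc i 0 (by rw [Nat.zero_add]; exact inv_mem hb), fun n => K.pow_mem (K.inv_mem (hu.2 i)) _⟩
        refine ⟨fun n => u n * (u i)⁻¹ ^ n.choose i, Q_mul hc hu hQb, ?_, ?_, ?_, ?_, fun n hn => ?_⟩
        · simp [hu0, Nat.choose_eq_zero_of_lt (show 0 < i by omega)]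
        · simp [hu1, Nat.choose_eq_zero_of_lt (show 1 < i by omega)]
        · obtain ⟨q, hq⟩ := hp.dvd_choose_self (by omega : i ≠ 0) (by omega)
          show u p * (u i)⁻¹ ^ p.choose i = f p
          rw [hq, pow_mul, inv_pow, hexp _ (F_antitone h2 hb), inv_one, one_pow, mul_one, hup]
        · rw [iter_mul hc hK p 0 _ _ (by omega) hu hQb, show p = (p - i) + i by omega,
            Function.iterate_add_apply D (p - i) i (fun n => (u i)⁻¹ ^ n.choose i), iter_choose,
            iter_const (by omega), show (p - i) + i = p by omega, hud]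
          funext n; exact mul_one _
        · rcases Nat.lt_or_eq_of_le (Nat.lt_succ_iff.mp hn) with h | rfl
          · show u n * _ = 1
            rw [hui n h, Nat.choose_eq_zero_of_lt h, pow_zero, one_mul]
          · show u n * _ = 1
            rw [Nat.choose_self, pow_one, mul_inv_cancel]
  obtain ⟨u, -, -, -, hup, hud, hui⟩ := step p le_rfl
  have h1 := (iter_first hui p le_rfl).2
  rw [Nat.sub_self, hud, hDf 0, hup] at h1
  simp only [pow_zero, inv_one, one_mul, mul_one, hf, hg, hx, hxh] at h1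
  rw [h1, mul_inv_cancel]

end Cfsg.Agent.CharP.SmallCentralizerPoly
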