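import Cfsg.Agent.Lib.CharP.FactorList
import Cfsg.Agent.Lib.CharP.Basic
import Cfsg.Agent.Lib.PLocal.InvolvesS4
import Cfsg.Agent.Lib.PLocal.Cores

/-!
Groups of characteristic two without a section `S₄` whose composition factors are Suzuki groups,
`PSL₂(3 ^ (2 n + 1))` or of odd order: the square bound for sections and basic tools for the
two-factorization.
-/

set_option autoImplicit false
set_option linter.unusedSectionVars false
set_option linter.style.haveILetI false

namespace Cfsg.Agent.CharP.Square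

open Subgroup
open Cfsg.Agent.CharP.FactorList (Listed)
open scoped commutatorElement

universe u

variable {G H : Type u} [Group G] [Group H]

theorem commute_of_pow {y r : G} {n : ℕ} (h : Commute (y ^ n) r) (hc : (orderOf y).Coprime n) :
    Commute y r := by
  obtain ⟨m, hm⟩ := exists_pow_eq_self_of_coprime hc.symm
  simpa [hm] using h.pow_left m

/-- An element trivial on two factors acts with order dividing the first. -/
theorem chain_pow {N : Subgroup G} [Finite G] {y r : G} (hy : ∀ n ∈ N, Commute y n)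
    (hr : y * r * y⁻¹ * r⁻¹ ∈ N) : Commute (y ^ Nat.card N) r := by
  set c := y * r * y⁻¹ * r⁻¹ with hc
  have key : ∀ n : ℕ, y ^ n * r * (y ^ n)⁻¹ = c ^ n * r := by
    intro n
    induction n with
    | zero => simp
    | succ n ih =>
      have h1 : y * c ^ n * y⁻¹ = c ^ n := by
        rw [((hy c hr).pow_right n).eq, mul_inv_cancel_right]
      calc y ^ (n + 1) * r * (y ^ (n + 1))⁻¹ = y * (y ^ n * r * (y ^ n)⁻¹) * y⁻¹ := by
            rw [pow_succ']; group
        _ = (y * c ^ n * y⁻¹) * (y * r * y⁻¹) := by rw [ih]; group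
        _ = c ^ (n + 1) * r := by rw [h1, hc, pow_succ]; group
  have h := key (Nat.card N)
  have h2 : c ^ Nat.card N = 1 := by
    have := congrArg Subtype.val (pow_card_eq_one' (x := (⟨c, hr⟩ : N)))
    rw [SubmonoidClass.coe_pow] at this
    exact this
  rw [h2, one_mul, mul_inv_eq_iff_eq_mul] at h
  exact h

theorem commute_of_chain {N : Subgroup G} [Finite G] {y r : G} (hy : ∀ n ∈ N, Commute y n)
    (hr : y * r * y⁻¹ * r⁻¹ ∈ N) (hN : IsPGroup 2 N) (hodd : Odd (orderOf y)) : Commute y r := by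
  haveI : Fact (Nat.Prime 2) := ⟨Nat.prime_two⟩
  obtain ⟨k, hk⟩ := hN.exists_card_eq
  refine commute_of_pow (chain_pow hy hr) ?_
  rw [hk]
  exact (Nat.coprime_two_right.2 hodd).pow_right k

/-- Points of a 2-factor fixed by a group acting as a 2-group. -/
theorem exists_fixed_mod [Finite G] {N L K : Subgroup G} [N.Normal] [L.Normal] (hNL : N < L)
    (hL : ∀ l ∈ L, ∃ e : ℕ, l ^ 2 ^ e ∈ N)
    (hK : ∀ k ∈ K, ∃ e : ℕ, ∀ l ∈ L, k ^ 2 ^ e * l * (k ^ 2 ^ e)⁻¹ * l⁻¹ ∈ N) :
    ∃ l ∈ L, l ∉ N ∧ ∀ k ∈ K, k * l * k⁻¹ * l⁻¹ ∈ N := by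
  haveI : Fact (Nat.Prime 2) := ⟨Nat.prime_two⟩
  let π := QuotientGroup.mk' N
  set Lb : Subgroup (G ⧸ N) := L.map π with hLb
  haveI : Lb.Normal := (inferInstance : L.Normal).map π (QuotientGroup.mk'_surjective N)
  let f : ↥K →* MulAut ↥Lb := (MulAut.conjNormal (H := Lb)).comp (π.comp K.subtype)
  have hP : IsPGroup 2 f.range := by
    rintro ⟨_, k, rfl⟩
    obtain ⟨e, he⟩ := hK k k.2
    refine ⟨e, Subtype.ext (MulEquiv.ext fun x => Subtype.ext ?_)⟩
    obtain ⟨_, l, hl, rfl⟩ := x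
    rw [SubmonoidClass.coe_pow, ← map_pow]
    show π ((k : G) ^ 2 ^ e) * π l * (π ((k : G) ^ 2 ^ e))⁻¹ = π l
    rw [← map_inv, ← map_mul, ← map_mul]
    exact QuotientGroup.eq_iff_div_mem.2 (by rw [div_eq_mul_inv]; exact he l hl)
  have hdvd : 2 ∣ Nat.card ↥Lb := by
    have hp : IsPGroup 2 ↥Lb := by
      rintro ⟨_, l, hl, rfl⟩
      obtain ⟨e, he⟩ := hL l hl
      exact ⟨e, Subtype.ext (by
        rw [SubmonoidClass.coe_pow, ← map_pow]; exact (QuotientGroup.eq_one_iff _).2 he)⟩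
    obtain ⟨n, hn⟩ := hp.exists_card_eq
    rcases n with _ | n
    · refine absurd ?_ hNL.not_ge
      have h1 : Lb = ⊥ := card_eq_one.1 (by simpa using hn)
      rwa [hLb, Subgroup.map_eq_bot_iff, QuotientGroup.ker_mk'] at h1
    · exact hn ▸ dvd_pow_self 2 n.succ_ne_zero
  obtain ⟨x, hx, hx1⟩ := hP.exists_fixed_point_of_prime_dvd_card_of_fixed_point (α := ↥Lb) hdvd
    (a := 1) (fun g => map_one g.1)
  obtain ⟨_, l, hl, rfl⟩ := x
  refine ⟨l, hl, fun h => hx1 (Subtype.ext ((QuotientGroup.eq_one_iff l).2 h).symm), fun k hk => ?_⟩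
  have h := congrArg Subtype.val (hx ⟨f ⟨k, hk⟩, ⟨_, rfl⟩⟩)
  change π k * π l * (π k)⁻¹ = π l at h
  rw [← map_inv, ← map_mul, ← map_mul] at h
  rw [← div_eq_mul_inv]
  exact QuotientGroup.eq_iff_div_mem.1 h

/-! ### The hypothesis on the group -/

/-- Characteristic two, no section `S₄`, and composition factors in the list. -/
structure Good (G : Type u) [Group G] : Prop where
  constrained : centralizer (Cfsg.pCore 2 G : Set G) ≤ Cfsg.pCore 2 G
  free : ¬ Cfsg.Involves (Equiv.Perm (Fin 4)) G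
  listed : Listed G

theorem Good.s3free [Finite G] (h : Good G) {f : G →* H} (hf : Function.Surjective f)
    (hQ : Cfsg.pCore 2 G ≤ f.ker) : ¬ Cfsg.Involves (Equiv.Perm (Fin 3)) H := by
  intro hI
  set Q := Cfsg.pCore 2 G
  refine h.free (PLocal.InvolvesS4.involves_of_automizer (T := Q) PLocal.Cores.isPGroup_pCore ?_)
  set N := normalizer (Q : Set G)
  let g : ↥N ⧸ (centralizer (Q : Set G)).subgroupOf N →* H :=
    QuotientGroup.lift _ (f.comp N.subtype) fun n hn => hQ (h.constrained hn)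
  refine Fusion.LocalModels.involves_of_surjective g ?_ hI
  intro y
  obtain ⟨x, rfl⟩ := hf y
  exact ⟨QuotientGroup.mk ⟨x, (normalizer_eq_top Q).ge (mem_top x)⟩, rfl⟩

theorem Good.sub [Finite G] (h : Good G) {K : Subgroup G} (hQ : Cfsg.pCore 2 G ≤ K)
    (hK : Listed ↥K) : Good ↥K := by
  refine ⟨fun k hk => ?_, fun hI => h.free
    (Fusion.LocalModels.involves_of_injective K.subtype K.subtype_injective hI), hK⟩
  have hle : (Cfsg.pCore 2 G).subgroupOf K ≤ Cfsg.pCore 2 ↥K :=
    le_sSup ⟨inferInstance, (PLocal.Cores.isPGroup_pCore (p := 2)).comap_of_injective K.subtype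
      K.subtype_injective⟩
  refine hle (mem_subgroupOf.2 (h.constrained fun q hq => ?_))
  exact congrArg Subtype.val (hk ⟨q, hQ hq⟩ (hle (mem_subgroupOf.2 hq)))

theorem Good.normal [Finite G] (h : Good G) (K : Subgroup G) [hn : K.Normal] : Good ↥K := by
  refine ⟨?_, fun hI => h.free
    (Fusion.LocalModels.involves_of_injective K.subtype K.subtype_injective hI),
    FactorList.of_subnormal h.listed hn.isSubnormal⟩
  have hQp : IsPGroup 2 ↥(Cfsg.pCore 2 G) := PLocal.Cores.isPGroup_pCore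
  set Q := Cfsg.pCore 2 G
  set X := centralizer (Cfsg.pCore 2 ↥K : Set ↥K) with hX
  have hle : Q.subgroupOf K ≤ Cfsg.pCore 2 ↥K :=
    le_sSup ⟨inferInstance, hQp.comap_of_injective K.subtype K.subtype_injective⟩
  haveI : (Cfsg.pCore 2 ↥K).Normal := inferInstance
  refine le_sSup ⟨inferInstance, fun x => ?_⟩
  haveI : Fact (Nat.Prime 2) := ⟨Nat.prime_two⟩
  obtain ⟨e, he⟩ := (hQp.to_le (inf_le_left : Q ⊓ K ≤ Q)).exists_card_eq
  have hmem : ((x : ↥K) : G) ^ 2 ^ e ∈ Q := h.constrained fun q (hq : q ∈ Q) => by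
    refine (he ▸ chain_pow (N := Q ⊓ K) (y := ((x : ↥K) : G)) (r := q) ?_ ?_).eq.symm
    · exact fun n hn => (congrArg Subtype.val (x.2 ⟨n, hn.2⟩ (hle (mem_subgroupOf.2 hn.1)))).symm
    · refine ⟨Q.mul_mem ((inferInstance : Q.Normal).conj_mem q hq _) (Q.inv_mem hq), ?_⟩
      rw [mul_assoc, mul_assoc]
      refine mul_mem x.1.2 ?_
      rw [← mul_assoc]
      exact hn.conj_mem _ (inv_mem x.1.2) q
  obtain ⟨d, hd⟩ := hQp (⟨_, hmem⟩ : ↥Q)
  refine ⟨e + d, Subtype.ext (Subtype.ext ?_)⟩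
  have h1 := congrArg Subtype.val hd
  simp only [SubmonoidClass.coe_pow, OneMemClass.coe_one] at h1 ⊢
  rw [pow_add, pow_mul, h1]

/-! ### Indices of centralisers -/

/-- The index of the centraliser of `A` in `B`. -/
noncomputable def idx (A B : Subgroup G) : ℕ := (centralizer (A : Set G)).relIndex B

theorem idx_eq_one {A B : Subgroup G} : idx A B = 1 ↔ B ≤ centralizer (A : Set G) := relIndex_eq_one

theorem idx_pos [Finite G] (A B : Subgroup G) : 0 < idx A B := Nat.pos_of_ne_zero (FiniteIndex.index_ne_zero)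

theorem idx_mul_card [Finite G] (A B : Subgroup G) :
    idx A B * Nat.card ↥(B ⊓ centralizer (A : Set G)) = Nat.card B := by
  rw [idx, mul_comm, ← inf_relIndex_left, ← relIndex_bot_left, ← relIndex_bot_left,
    relIndex_mul_relIndex ⊥ _ _ bot_le inf_le_left]

theorem comap_centralizer {f : G →* H} (hf : Function.Injective f) (A : Subgroup G) :
    (centralizer (A.map f : Set H)).comap f = centralizer (A : Set G) := by
  ext x
  simp only [mem_comap, mem_centralizer_iff, coe_map, Set.mem_image, SetLike.mem_coe]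
  constructor
  · intro h a ha
    exact hf (by rw [map_mul, map_mul]; exact h _ ⟨a, ha, rfl⟩)
  · rintro h _ ⟨a, ha, rfl⟩
    rw [← map_mul, h a ha, map_mul]

theorem idx_map {f : G →* H} (hf : Function.Injective f) (A B : Subgroup G) :
    idx (A.map f) (B.map f) = idx A B := by
  rw [idx, idx, ← relIndex_comap, comap_centralizer hf]

/-- The condition of the definition of E-groups on `V`, first inequality. -/
def Cond (V : Subgroup G) : Prop :=
  ∀ R : Subgroup G, IsPGroup 2 R → R ≤ normalizer (V : Set G) →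
    ⁅R, R⁆ ≤ centralizer (V : Set G) → (∀ r ∈ R, r ^ 2 ∈ centralizer (V : Set G)) →
    ¬ R ≤ centralizer (V : Set G) → idx V R ^ 3 < idx R V ^ 2

theorem Cond.of_map {f : G →* H} (hf : Function.Injective f) {V : Subgroup G}
    (h : Cond (V.map f)) : Cond V := by
  intro R hR hRn h1 h2 h3
  have hle : ∀ S : Subgroup G, S ≤ centralizer (V : Set G) ↔
      S.map f ≤ centralizer (V.map f : Set H) := fun S => by
    rw [map_le_iff_le_comap, comap_centralizer hf]
  have := h (R.map f) (hR.map f) ((map_mono hRn).trans (le_normalizer_map f))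
    (by rw [← map_commutator]; exact (hle _).1 h1)
    (by
      rintro _ ⟨r, hr, rfl⟩
      rw [← map_pow, ← mem_comap, comap_centralizer hf]
      exact h2 r hr)
    (fun h' => h3 ((hle R).2 h'))
  rwa [idx_map hf, idx_map hf] at this

theorem map_conj_conj (V : Subgroup G) (a b : G) :
    (V.map (MulAut.conj b).toMonoidHom).map (MulAut.conj a).toMonoidHom =
      V.map (MulAut.conj (a * b)).toMonoidHom := by
  rw [Subgroup.map_map]; congr 1; ext; simp [mul_assoc]

theorem map_conj_one (V : Subgroup G) : V.map (MulAut.conj (1 : G)).toMonoidHom = V := by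
  ext; simp

theorem Cond.conj {V : Subgroup G} (h : Cond V) (g : G) :
    Cond (V.map (MulAut.conj g).toMonoidHom) := by
  refine Cond.of_map (f := (MulAut.conj g⁻¹).toMonoidHom) (MulEquiv.injective _) ?_
  rwa [map_conj_conj, inv_mul_cancel, map_conj_one]

/-- It is enough to ask it inside a Sylow 2-subgroup normalising `V`. -/
theorem cond_of_sylow [Finite G] {V : Subgroup G} (S : Sylow 2 G)
    (hS : (S : Subgroup G) ≤ normalizer (V : Set G))
    (h : ∀ R : Subgroup G, R ≤ (S : Subgroup G) → ⁅R, R⁆ ≤ centralizer (V : Set G) →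
      (∀ r ∈ R, r ^ 2 ∈ centralizer (V : Set G)) →
      ¬ R ≤ centralizer (V : Set G) → idx V R ^ 3 < idx R V ^ 2) : Cond V := by
  intro R hR hRn h1 h2 h3
  haveI : Fact (Nat.Prime 2) := ⟨Nat.prime_two⟩
  set N := normalizer (V : Set G)
  obtain ⟨T, hT⟩ := (hR.comap_of_injective N.subtype N.subtype_injective).exists_le_sylow
  obtain ⟨n, hn⟩ := MulAction.exists_smul_eq (↥N) T (S.subtype hS)
  set f := (MulAut.conj (n : G)).toMonoidHom
  have hinj : Function.Injective f := MulEquiv.injective _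
  have hVf : V.map f = V := mem_normalizer_iff_map_conj_eq.1 n.2
  have hle : R.map f ≤ (S : Subgroup G) := by
    rintro _ ⟨r, hr, rfl⟩
    have h4 : (⟨(n : G) * r * (n : G)⁻¹, mul_mem (mul_mem n.2 (hRn hr)) (inv_mem n.2)⟩ : ↥N) ∈
        ((S.subtype hS : Sylow 2 ↥N) : Subgroup ↥N) := by
      rw [← hn]
      exact ⟨⟨r, hRn hr⟩, hT (mem_subgroupOf.2 hr), rfl⟩
    exact h4
  have hc : ∀ S : Subgroup G, S ≤ centralizer (V : Set G) ↔ S.map f ≤ centralizer (V : Set G) :=
    fun S => by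
      conv_rhs => rw [← hVf, map_le_iff_le_comap, comap_centralizer hinj]
  have h' := h (R.map f) hle (by rw [← map_commutator]; exact (hc _).1 h1)
    (by
      rintro _ ⟨r, hr, rfl⟩
      rw [← map_pow, ← mem_comap]
      rw [← hVf, comap_centralizer hinj]
      exact h2 r hr)
    (fun h' => h3 ((hc R).2 h'))
  have e1 := idx_map hinj V R
  have e2 := idx_map hinj R V
  rw [hVf] at e1 e2
  rwa [e1, e2] at h'

/-- An elementary abelian subgroup of largest order. -/
def IsMax (A : Subgroup G) : Prop :=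
  Cfsg.IsElementaryAbelian 2 A ∧ ∀ B : Subgroup G, Cfsg.IsElementaryAbelian 2 B → Nat.card B ≤ Nat.card A

theorem elementary_map {f : G →* H} {A : Subgroup G} (h : Cfsg.IsElementaryAbelian 2 A) :
    Cfsg.IsElementaryAbelian 2 (A.map f) := by
  haveI := h.1
  exact ⟨inferInstance, by rintro _ ⟨a, ha, rfl⟩; rw [← map_pow, h.2 a ha, map_one]⟩

theorem elementary_of_map {f : G →* H} (hf : Function.Injective f) {A : Subgroup G}
    (h : Cfsg.IsElementaryAbelian 2 (A.map f)) : Cfsg.IsElementaryAbelian 2 A :=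
  ⟨⟨⟨fun a b => Subtype.ext (hf (by
    simp only [Subgroup.coe_mul, map_mul]
    exact congrArg Subtype.val
      (h.1.is_comm.comm ⟨f a, a, a.2, rfl⟩ ⟨f b, b, b.2, rfl⟩)))⟩⟩,
   fun a ha => hf (by rw [map_pow, map_one]; exact h.2 _ ⟨a, ha, rfl⟩)⟩

theorem IsMax.of_map {f : G →* H} (hf : Function.Injective f) {A : Subgroup G}
    (h : IsMax (A.map f)) : IsMax A :=
  ⟨elementary_of_map hf h.1, fun B hB => by
    rw [← card_map_of_injective (f := f) (K := B) hf, ← card_map_of_injective (f := f) (K := A) hf]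
    exact h.2 _ (elementary_map hB)⟩

theorem elementary_sup {A M : Subgroup G} (hA : Cfsg.IsElementaryAbelian 2 A)
    (hM : Cfsg.IsElementaryAbelian 2 M) (hc : A ≤ centralizer (M : Set G)) :
    Cfsg.IsElementaryAbelian 2 (A ⊔ M) := by
  have hn : A ≤ normalizer (M : Set G) := hc.trans (centralizer_le_normalizer _)
  have hmem : ∀ z ∈ A ⊔ M, ∃ a ∈ A, ∃ m ∈ M, z = a * m := by
    intro z hz
    have hz' : z ∈ ((A ⊔ M : Subgroup G) : Set G) := hz
    rw [coe_mul_of_left_le_normalizer_right A M hn] at hz'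
    obtain ⟨a, ha, m, hm, rfl⟩ := hz'
    exact ⟨a, ha, m, hm, rfl⟩
  have hAM : ∀ a ∈ A, ∀ m ∈ M, Commute a m := fun a ha m hm => (hc ha m hm).symm
  have hAA : ∀ a ∈ A, ∀ b ∈ A, Commute a b := fun a ha b hb =>
    congrArg Subtype.val (hA.1.is_comm.comm ⟨a, ha⟩ ⟨b, hb⟩)
  have hMM : ∀ a ∈ M, ∀ b ∈ M, Commute a b := fun a ha b hb =>
    congrArg Subtype.val (hM.1.is_comm.comm ⟨a, ha⟩ ⟨b, hb⟩)
  refine ⟨⟨⟨fun x y => Subtype.ext ?_⟩⟩, fun z hz => ?_⟩
  · obtain ⟨a, ha, m, hm, e⟩ := hmem x x.2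
    obtain ⟨b, hb, n, hn', e'⟩ := hmem y y.2
    simp only [Subgroup.coe_mul, e, e']
    exact ((hAA a ha b hb).mul_right (hAM a ha n hn')).mul_left
      ((hAM b hb m hm).symm.mul_right (hMM m hm n hn'))
  · obtain ⟨a, ha, m, hm, rfl⟩ := hmem z hz
    rw [(hAM a ha m hm).mul_pow, hA.2 a ha, hM.2 m hm, one_mul]

/-- A largest elementary abelian subgroup is not beaten. -/
theorem IsMax.idx_le [Finite G] {A M : Subgroup G} (hA : IsMax A)
    (hM : Cfsg.IsElementaryAbelian 2 M) : idx A M ≤ idx M A := by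
  set C := A ⊓ centralizer (M : Set G) with hC
  have hCe : Cfsg.IsElementaryAbelian 2 C :=
    ⟨⟨⟨fun a b => Subtype.ext (show (a : G) * b = b * a from
      congrArg Subtype.val (hA.1.1.is_comm.comm ⟨a, a.2.1⟩ ⟨b, b.2.1⟩))⟩⟩,
      fun a ha => hA.1.2 a ha.1⟩
  have h1 : Nat.card C * Nat.card M ≤ Nat.card A * Nat.card ↥(M ⊓ centralizer (A : Set G)) :=
    (card_mul_le_card_sup_mul_card_inf C M).trans (Nat.mul_le_mul
      (hA.2 _ (elementary_sup hCe hM inf_le_right))
      (card_le_of_le fun z hz => ⟨hz.2, fun a ha =>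
        congrArg Subtype.val (hA.1.1.is_comm.comm ⟨a, ha⟩ ⟨z, hz.1.1⟩)⟩))
  rw [← idx_mul_card A M, ← idx_mul_card M A, ← hC] at h1
  refine Nat.le_of_mul_le_mul_right (c := Nat.card C * Nat.card ↥(M ⊓ centralizer (A : Set G))) ?_
    (Nat.mul_pos Nat.card_pos Nat.card_pos)
  calc idx A M * (Nat.card C * Nat.card ↥(M ⊓ centralizer (A : Set G)))
      = Nat.card C * (idx A M * Nat.card ↥(M ⊓ centralizer (A : Set G))) := by ring
    _ ≤ _ := h1
    _ = _ := by ring

/-! ### The square bound for a section -/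

theorem cost [Finite G] [Finite H] (hG : Good G) (π : G →* H) {M : Subgroup H}
    (hM : Cfsg.IsElementaryAbelian 2 M) (hn : π.range ≤ normalizer (M : Set H))
    (hQ : Cfsg.pCore 2 G ≤ (centralizer (M : Set H)).comap π)
    (hO : ∀ N : Subgroup G, N.Normal → (centralizer (M : Set H)).comap π ≤ N →
      (∀ g ∈ N, ∃ e : ℕ, g ^ 2 ^ e ∈ (centralizer (M : Set H)).comap π) →
      N ≤ (centralizer (M : Set H)).comap π)
    {A : Subgroup G} (hAc : ∀ a ∈ A, ∀ b ∈ A, ⁅a, b⁆ ∈ (centralizer (M : Set H)).comap π)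
    (hAs : ∀ a ∈ A, a ^ 2 ∈ (centralizer (M : Set H)).comap π) :
    ((centralizer (M : Set H)).comap π).relIndex A ^ 2 *
        Nat.card ↥(M ⊓ centralizer (A.map π : Set H)) ≤ Nat.card M ∧
      ((centralizer (M : Set H)).comap π).relIndex A ^ 2 ≤ Nat.card ↥⁅M, A.map π⁆ := by
  classical
  haveI : Fact (Nat.Prime 2) := ⟨Nat.prime_two⟩
  set K := (centralizer (M : Set H)).comap π with hK
  have hmem : ∀ g : G, ∀ m : ↥M, π g * m * (π g)⁻¹ ∈ M := fun g m =>
    (mem_normalizer_iff.1 (hn ⟨g, rfl⟩) m).1 m.2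
  letI : CommGroup ↥M :=
    { (inferInstance : Group ↥M) with mul_comm := fun a b => hM.1.is_comm.comm a b }
  letI hact : MulDistribMulAction G ↥M :=
    { smul := fun g m => ⟨π g * m * (π g)⁻¹, hmem g m⟩
      one_smul := fun m => Subtype.ext (by simp [HSMul.hSMul, SMul.smul])
      mul_smul := fun g h m => Subtype.ext (by simp [HSMul.hSMul, SMul.smul, mul_assoc])
      smul_mul := fun g m n => Subtype.ext (by simp [HSMul.hSMul, SMul.smul, mul_assoc])
      smul_one := fun g => Subtype.ext (by simp [HSMul.hSMul, SMul.smul]) }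
  have hsmul : ∀ (g : G) (m : ↥M), ((g • m : ↥M) : H) = π g * m * (π g)⁻¹ := fun g m => rfl
  have hKmem : ∀ g : G, g ∈ K ↔ ∀ m : ↥M, g • m = m := by
    intro g
    constructor
    · intro h m
      refine Subtype.ext ?_
      rw [hsmul]
      exact mul_inv_eq_iff_eq_mul.2 (h m m.2).symm
    · intro h m hm
      have h1 := congrArg Subtype.val (h ⟨m, hm⟩)
      rw [hsmul] at h1
      exact (mul_inv_eq_iff_eq_mul.1 h1).symm
  haveI hKn : K.Normal := by
    have e : K = (MulDistribMulAction.toMulAut G ↥M).ker := by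
      ext g
      rw [hKmem, MonoidHom.mem_ker, MulEquiv.ext_iff]
      rfl
    rw [e]; infer_instance
  letI : MulDistribMulAction (G ⧸ K) ↥M := MulDistribMulAction.compHom ↥M
    (QuotientGroup.lift K (MulDistribMulAction.toMulAut G ↥M) fun g hg =>
      MulEquiv.ext fun m => (hKmem g).1 hg m)
  have hsm : ∀ (g : G) (m : ↥M), (QuotientGroup.mk g : G ⧸ K) • m = g • m := fun g m => rfl
  have hexp : ∀ m : ↥M, m * m = 1 := fun m => Subtype.ext (by
    rw [Subgroup.coe_mul, ← pow_two]; exact hM.2 m m.2)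
  have hfaith : ∀ q : G ⧸ K, (∀ m : ↥M, q • m = m) → q = 1 := by
    intro q
    induction q using QuotientGroup.induction_on with
    | H g => exact fun h => (QuotientGroup.eq_one_iff g).2 ((hKmem g).2 h)
  have hO2 : Cfsg.pCore 2 (G ⧸ K) = ⊥ := by
    have hle : (Cfsg.pCore 2 (G ⧸ K)).comap (QuotientGroup.mk' K) ≤ K := by
      refine hO _ ((inferInstance : (Cfsg.pCore 2 (G ⧸ K)).Normal).comap _) ?_ fun g hg => ?_
      · intro k hk
        rw [mem_comap, QuotientGroup.mk'_apply, (QuotientGroup.eq_one_iff k).2 hk]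
        exact one_mem _
      · obtain ⟨e, he⟩ := PLocal.Cores.isPGroup_pCore (p := 2) (⟨_, hg⟩ : ↥(Cfsg.pCore 2 (G ⧸ K)))
        refine ⟨e, (QuotientGroup.eq_one_iff _).1 ?_⟩
        have h1 := congrArg Subtype.val he
        rw [SubmonoidClass.coe_pow] at h1
        exact h1
    refine eq_bot_iff.2 fun q hq => ?_
    obtain ⟨g, rfl⟩ := QuotientGroup.mk'_surjective K q
    exact mem_bot.2 ((QuotientGroup.eq_one_iff g).2 (hle hq))
  set Ab := A.map (QuotientGroup.mk' K) with hAb
  have hAe : S3FreeOffender.IsElem Ab := by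
    constructor
    · rintro _ ⟨a, ha, rfl⟩ _ ⟨b, hb, rfl⟩
      rw [← commutatorElement_eq_one_iff_mul_comm, ← map_commutatorElement]
      exact (QuotientGroup.eq_one_iff _).2 (hAc a ha b hb)
    · rintro _ ⟨a, ha, rfl⟩
      rw [← map_mul, ← pow_two]
      exact (QuotientGroup.eq_one_iff _).2 (hAs a ha)
  obtain ⟨h1, h2⟩ := InvertedBound.bounds hexp hfaith
    (S3FreeSplit.hasSplit (hG.s3free (QuotientGroup.mk'_surjective K) (by rwa [QuotientGroup.ker_mk']))
      hO2 (FactorList.quotient hG.listed (QuotientGroup.mk'_surjective K))) hAe (V := ↥M)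
  have hcard : Nat.card Ab = K.relIndex A := by
    rw [hAb, ← relIndex_ker, QuotientGroup.ker_mk']
  rw [hcard] at h1 h2
  constructor
  · refine le_trans (Nat.mul_le_mul_left _ ?_) h1
    refine Nat.card_le_card_of_injective (fun m => ⟨⟨m.1, m.2.1⟩, ?_⟩)
      fun m n h => Subtype.ext (congrArg (fun z => (z.1 : H)) h)
    rintro _ ⟨a, ha, rfl⟩
    refine Subtype.ext ?_
    show π a * m * (π a)⁻¹ = _
    exact mul_inv_eq_iff_eq_mul.2 (m.2.2 (π a) ⟨a, ha, rfl⟩)
  · refine h2.trans ?_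
    have hle : (InvertedBound.comm ↥M Ab).map M.subtype ≤ ⁅M, A.map π⁆ := by
      rw [Subgroup.map_le_iff_le_comap]
      refine InvertedBound.comm_le_iff.2 ?_
      rintro _ ⟨a, ha, rfl⟩ m
      rw [Subgroup.mem_comap, map_div]
      show π a * m * (π a)⁻¹ / (m : H) ∈ ⁅M, A.map π⁆
      rw [div_eq_mul_inv, Subgroup.commutator_comm]
      exact Subgroup.commutator_mem_commutator ⟨a, ha, rfl⟩ m.2
    rw [← Subgroup.card_map_of_injective M.subtype_injective]
    exact Subgroup.card_le_of_le hle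

end Cfsg.Agent.CharP.Square
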