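import Cfsg.Agent.Lib.CharP.SquareNormal
import Cfsg.Agent.Lib.Transfer.NormalPComplement

/-!
The last configuration of the two-factorization: every normal subgroup above the kernel that does
not contain `O²(G)` meets a largest elementary abelian subgroup in the kernel. Then that subgroup
centralises all conjugates of `V`.
-/

set_option autoImplicit false
set_option linter.unusedSectionVars false
set_option linter.style.haveILetI false

namespace Cfsg.Agent.CharP.Square

open Subgroup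
open scoped commutatorElement

universe u

variable {G : Type u} [Group G] [Finite G]

local notation "Y₂" => Cfsg.pResidual 2 G

theorem residual_le {K : Subgroup G} (h : ∀ y : G, Odd (orderOf y) → y ∈ K) :
    Cfsg.pResidual 2 G ≤ K :=
  (closure_le K).2 fun y hy => h y (Nat.coprime_two_right.1 hy)

theorem mem_residual {y : G} (h : Odd (orderOf y)) : y ∈ Cfsg.pResidual 2 G :=
  Transfer.NormalPComplement.mem_pResidual_of_coprime (Nat.coprime_two_right.2 h)

/-- The elements moving each point of `X` inside `N`. -/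
def stab (N X : Subgroup G) [N.Normal] : Subgroup G :=
  (centralizer ((X.map (QuotientGroup.mk' N) : Subgroup (G ⧸ N)) : Set (G ⧸ N))).comap
    (QuotientGroup.mk' N)

theorem mem_stab {N X : Subgroup G} [N.Normal] {g : G} :
    g ∈ stab N X ↔ ∀ x ∈ X, g * x * g⁻¹ * x⁻¹ ∈ N := by
  rw [stab, mem_comap, mem_centralizer_iff]
  constructor
  · intro h x hx
    rw [← QuotientGroup.eq_one_iff (N := N), QuotientGroup.mk_mul, QuotientGroup.mk_mul,
      QuotientGroup.mk_mul, QuotientGroup.mk_inv, QuotientGroup.mk_inv]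
    have := h _ ⟨x, hx, rfl⟩
    rw [QuotientGroup.mk'_apply, QuotientGroup.mk'_apply] at this
    rw [← this, mul_inv_cancel_right, mul_inv_cancel]
  · rintro h _ ⟨x, hx, rfl⟩
    rw [← map_mul, ← map_mul]
    refine (QuotientGroup.eq_iff_div_mem.2 ?_).symm
    rw [div_eq_mul_inv, mul_inv_rev, ← mul_assoc]
    exact h x hx

theorem stab_comm {N X Z : Subgroup G} [N.Normal] (h : Z ≤ stab N X) : X ≤ stab N Z := by
  intro x hx
  refine mem_stab.2 fun z hz => ?_
  rw [show x * z * x⁻¹ * z⁻¹ = (z * x * z⁻¹ * x⁻¹)⁻¹ by group]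
  exact inv_mem (mem_stab.1 (h hz) x hx)

theorem stab_normal {N X : Subgroup G} [N.Normal] [hX : X.Normal] : (stab N X).Normal := by
  haveI := hX.map (QuotientGroup.mk' N) (QuotientGroup.mk'_surjective N)
  exact Subgroup.Normal.comap inferInstance _

theorem mem_stab_zpowers {N : Subgroup G} [N.Normal] {x y : G} :
    x ∈ stab N (zpowers y) ↔ x * y * x⁻¹ * y⁻¹ ∈ N := by
  refine ⟨fun h => mem_stab.1 h y (mem_zpowers y), fun h => ?_⟩
  rw [stab, mem_comap, MonoidHom.map_zpowers, mem_centralizer_iff]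
  rintro _ ⟨i, rfl⟩
  have hc : Commute (QuotientGroup.mk' N x) (QuotientGroup.mk' N y) := by
    rw [← commutatorElement_eq_one_iff_commute, ← map_commutatorElement]
    exact (QuotientGroup.eq_one_iff _).2 h
  exact ((hc.zpow_right i).eq).symm

/-- A subgroup without large powers fixes the factor of a maximal invariant subgroup. -/
theorem le_stab_of_pow {N1 N2 : Subgroup G} [N1.Normal] [N2.Normal] (h12 : N1 < N2)
    (hmax : ∀ N : Subgroup G, N.Normal → N1 ≤ N → N ≤ N2 → N = N1 ∨ N = N2)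
    (hsq : ∀ l ∈ N2, ∃ e : ℕ, l ^ 2 ^ e ∈ N1) {K : Subgroup G} [K.Normal]
    (hK : ∀ k ∈ K, ∃ e : ℕ, k ^ 2 ^ e ∈ stab N1 N2) : K ≤ stab N1 N2 := by
  obtain ⟨l, hl, hl1, hlK⟩ := exists_fixed_mod h12 hsq fun k hk => by
    obtain ⟨e, he⟩ := hK k hk
    exact ⟨e, fun l hl => mem_stab.1 he l hl⟩
  haveI := stab_normal (N := N1) (X := K)
  have hfix : l ∈ stab N1 K := mem_stab.2 fun k hk => by
    rw [show l * k * l⁻¹ * k⁻¹ = (k * l * k⁻¹ * l⁻¹)⁻¹ by group]
    exact inv_mem (hlK k hk)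
  rcases hmax (N2 ⊓ stab N1 K) inferInstance
    (le_inf h12.le fun n hn => mem_stab.2 fun k _ => by
      rw [mul_assoc n, mul_assoc n]
      exact mul_mem hn ((inferInstance : N1.Normal).conj_mem _ (inv_mem hn) k)) inf_le_left with h | h
  · exact absurd (h.le ⟨hl, hfix⟩) hl1
  · exact stab_comm (h.ge.trans inf_le_right)

theorem idx_sup_eq {C X M : Subgroup G} (hC : C ≤ centralizer (M : Set G)) :
    idx (X ⊔ C) M = idx X M := by
  rw [idx, idx, ← inf_relIndex_right (centralizer ((X ⊔ C : Subgroup G) : Set G)),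
    ← inf_relIndex_right (centralizer (X : Set G))]
  congr 1
  refine le_antisymm (inf_le_inf_right M (centralizer_le (SetLike.coe_subset_coe.2 le_sup_left))) (le_inf ?_ inf_le_right)
  intro m hm
  have hle : X ⊔ C ≤ centralizer ({m} : Set G) := sup_le
    (fun x hx => mem_centralizer_singleton_iff.2 (hm.1 x hx))
    (fun c hc => mem_centralizer_singleton_iff.2 (hC hc m hm.2).symm)
  exact fun z hz => mem_centralizer_singleton_iff.1 (hle hz)

/-- The telescoped condition for subgroups of the kernel. -/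
theorem telescope_kernel {V Q C X : Subgroup G} [Q.Normal] [hCn : C.Normal]
    (hC : C = centralizer (span V : Set G))
    (hQ2 : IsPGroup 2 ↥Q) (hV : Cond V) (hQn : Q ≤ normalizer (V : Set G)) (hX : X ≤ C ⊔ Q)
    (hXc : ∀ a ∈ X, ∀ b ∈ X, ⁅a, b⁆ ∈ C) (hXs : ∀ a ∈ X, a ^ 2 ∈ C) :
    idx (span V) X ^ 3 ≤ idx X (span V) ^ 2 ∧
      (¬ X ≤ C → idx (span V) X ^ 3 < idx X (span V) ^ 2) := by
  set R := Q ⊓ (X ⊔ C) with hR
  have hsup : R ⊔ C = X ⊔ C := by
    refine le_antisymm (sup_le inf_le_right le_sup_right) fun z hz => ?_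
    obtain ⟨c, hc, q, hq, rfl⟩ := mem_sup_of_normal_left.1 ((sup_le hX le_sup_left : X ⊔ C ≤ C ⊔ Q) hz)
    refine mul_mem (mem_sup_right hc) (mem_sup_left ⟨hq, ?_⟩)
    have := mul_mem (inv_mem (mem_sup_right (S := X) hc)) hz
    rwa [inv_mul_cancel_left] at this
  have hrel : idx (span V) R = idx (span V) X := by
    rw [idx, idx, ← hC, ← relIndex_sup_right R C, hsup, relIndex_sup_right X C]
  have hmov : idx R (span V) = idx X (span V) := by
    rw [← idx_sup_eq (C := C) (X := R) hC.le, hsup, idx_sup_eq hC.le]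
  have hmem : ∀ r ∈ R, ∃ x ∈ X, (QuotientGroup.mk r : G ⧸ C) = QuotientGroup.mk x := by
    intro r hr
    obtain ⟨x, hx, c, hc, rfl⟩ := mem_sup_of_normal_right.1 hr.2
    exact ⟨x, hx, by rw [QuotientGroup.mk_mul, (QuotientGroup.eq_one_iff c).2 hc, mul_one]⟩
  obtain ⟨h1, h2⟩ := telescope (R := R) hQ2 hV hQn inf_le_left
    (commutator_le.2 fun a ha b hb => by
      rw [← hC]
      obtain ⟨x, hx, ex⟩ := hmem a ha
      obtain ⟨x', hx', ex'⟩ := hmem b hb
      rw [← QuotientGroup.eq_one_iff (N := C)]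
      show QuotientGroup.mk' C ⁅a, b⁆ = 1
      rw [map_commutatorElement, QuotientGroup.mk'_apply, QuotientGroup.mk'_apply, ex, ex']
      show ⁅QuotientGroup.mk' C x, QuotientGroup.mk' C x'⁆ = 1
      rw [← map_commutatorElement]
      exact (QuotientGroup.eq_one_iff _).2 (hXc x hx x' hx'))
    (fun r hr => by
      rw [← hC]
      obtain ⟨x, hx, ex⟩ := hmem r hr
      rw [← QuotientGroup.eq_one_iff (N := C), QuotientGroup.mk_pow, ex, ← QuotientGroup.mk_pow]
      exact (QuotientGroup.eq_one_iff _).2 (hXs x hx))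
  rw [hrel, hmov] at h1 h2
  exact ⟨h1, fun h => h2 fun hRC => h (le_sup_left.trans (hsup.ge.trans (sup_le (hC ▸ hRC) le_rfl)))⟩

theorem relIndex_le_two {K M : Subgroup G}
    (h : ∀ a ∈ M, a ∉ K → ∀ b ∈ M, b ∉ K → a⁻¹ * b ∈ K) : K.relIndex M ≤ 2 := by
  classical
  let f : ↥M ⧸ K.subgroupOf M → Bool := fun q => decide ((q.out : G) ∈ K)
  refine le_of_le_of_eq (Nat.card_le_card_of_injective f fun q q' hqq => ?_) (by simp)
  have hiff : ((q.out : G) ∈ K) ↔ ((q'.out : G) ∈ K) := by simpa [f] using hqq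
  rw [← QuotientGroup.out_eq' q, ← QuotientGroup.out_eq' q', QuotientGroup.eq, mem_subgroupOf]
  by_cases hq : (q.out : G) ∈ K
  · exact mul_mem (inv_mem hq) (hiff.1 hq)
  · exact h _ q.out.2 hq _ q'.out.2 fun hh => hq (hiff.2 hh)

theorem index_two_lt {R1 R2 : Subgroup G} (h : R1 < R2) : 2 ≤ R1.relIndex R2 := by
  rcases Nat.lt_or_ge (R1.relIndex R2) 2 with h2 | h2
  · exfalso
    have h0 : R1.relIndex R2 ≠ 0 := FiniteIndex.index_ne_zero
    exact h.not_ge (relIndex_eq_one.1 (by omega))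
  · exact h2

/-- A section inside `M` on which `O²(G)` is not trivial. -/
theorem exists_section (hG : Good G) {M C P A : Subgroup G} [M.Normal] [C.Normal] [P.Normal]
    (hMe : Cfsg.IsElementaryAbelian 2 M) (hC : C = centralizer (M : Set G))
    (hQP : Cfsg.pCore 2 G ≤ P) (hCP : C ≤ P) (hP2 : ∀ g ∈ P, ∃ e : ℕ, g ^ 2 ^ e ∈ C)
    (hA : Cfsg.IsElementaryAbelian 2 A)
    (hres : ∀ K : Subgroup G, K.Normal → P ≤ K → ¬ Y₂ ≤ K → A ⊓ K ≤ P)
    {L : Subgroup G} [L.Normal] (hLM : L ≤ M) (hL : ¬ Y₂ ≤ centralizer (L : Set G)) :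
    ∃ (N1 : Subgroup G) (_ : N1.Normal), N1 < ⁅Y₂, L⁆ ∧
      (∀ N : Subgroup G, N.Normal → N1 ≤ N → N ≤ ⁅Y₂, L⁆ → N = N1 ∨ N = ⁅Y₂, L⁆) ∧
      P ≤ stab N1 ⁅Y₂, L⁆ ∧ ¬ Y₂ ≤ stab N1 ⁅Y₂, L⁆ ∧
      P.relIndex A ^ 2 ≤ (stab N1 A).relIndex ⁅Y₂, L⁆ := by
  classical
  haveI : (Y₂).Normal := inferInstance
  set N2 := ⁅Y₂, L⁆ with hN2
  have hN2L : N2 ≤ L := commutator_le_right _ _
  have hne : N2 ≠ ⊥ := fun h => hL (commutator_eq_bot_iff_le_centralizer.1 h)
  obtain ⟨N1, ⟨hN1n, hlt⟩, hmax⟩ :=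
    (Set.toFinite {N : Subgroup G | N.Normal ∧ N < N2}).exists_maximal
      ⟨⊥, inferInstance, bot_lt_iff_ne_bot.2 hne⟩
  haveI := hN1n
  have hmax' : ∀ N : Subgroup G, N.Normal → N1 ≤ N → N ≤ N2 → N = N1 ∨ N = N2 := by
    intro N hN h1 h2
    by_contra hcon
    push Not at hcon
    exact hcon.1 (le_antisymm (hmax ⟨hN, lt_of_le_of_ne h2 hcon.2⟩ h1) h1)
  have hsq : ∀ l ∈ N2, ∃ e : ℕ, l ^ 2 ^ e ∈ N1 := fun l hl =>
    ⟨1, by rw [pow_one, hMe.2 l (hLM (hN2L hl))]; exact one_mem _⟩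
  haveI := stab_normal (N := N1) (X := N2)
  have hCs : C ≤ stab N1 N2 := fun c hc => mem_stab.2 fun x hx => by
    rw [hC] at hc
    rw [← (hc x (hLM (hN2L hx))), mul_inv_cancel_right, mul_inv_cancel]
    exact one_mem _
  have hPs : P ≤ stab N1 N2 := le_stab_of_pow hlt hmax' hsq fun g hg => by
    obtain ⟨e, he⟩ := hP2 g hg
    exact ⟨e, hCs he⟩
  have hYs : ¬ Y₂ ≤ stab N1 N2 := by
    intro h
    refine hlt.not_ge (hN2 ▸ commutator_le.2 fun y hy l hl => ?_)
    haveI := stab_normal (N := N1) (X := L)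
    rw [commutatorElement_def]
    refine mem_stab.1 ((residual_le fun y hyo => ?_) hy) l hl
    refine mem_stab.2 fun l hl => ?_
    set π := QuotientGroup.mk' N1
    have hy' := mem_residual hyo
    have hcomm : Commute (π y) (π l) := by
      refine commute_of_chain (N := N2.map π) ?_ ?_ ((elem_isPGroup (elem_mono hMe
        (hN2L.trans hLM))).map π) (hyo.of_dvd_nat (orderOf_map_dvd π y))
      · rintro _ ⟨w, hw, rfl⟩
        show π y * π w = π w * π y
        rw [← map_mul, ← map_mul]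
        refine QuotientGroup.eq_iff_div_mem.2 ?_
        rw [div_eq_mul_inv, mul_inv_rev, ← mul_assoc]
        exact mem_stab.1 (h hy') w hw
      · rw [← map_inv, ← map_inv, ← map_mul, ← map_mul, ← map_mul]
        exact mem_map_of_mem π (hN2 ▸ commutator_mem_commutator hy' hl)
    refine (QuotientGroup.eq_one_iff _).1 ?_
    show π (y * l * y⁻¹ * l⁻¹) = 1
    rw [map_mul, map_mul, map_mul, map_inv, map_inv, hcomm.eq, mul_inv_cancel_right, mul_inv_cancel]
  refine ⟨N1, hN1n, hlt, hmax', hPs, hYs, ?_⟩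
  -- the square bound on the factor
  set π := QuotientGroup.mk' N1 with hπ
  have hKA : (stab N1 N2).relIndex A = P.relIndex A := by
    rw [← inf_relIndex_right _ A, ← inf_relIndex_right P A]
    congr 1
    refine le_antisymm (le_inf ?_ inf_le_right) (inf_le_inf_right A hPs)
    rw [inf_comm]
    exact hres _ inferInstance hPs hYs
  obtain ⟨hb, -⟩ := cost hG π (elementary_map (f := π) (elem_mono hMe (hN2L.trans hLM)))
    (by rw [normalizer_eq_top_iff.2 ((inferInstance : N2.Normal).map π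
      (QuotientGroup.mk'_surjective N1))]; exact le_top)
    (hQP.trans hPs) (fun N hN hKN hNpow => le_stab_of_pow hlt hmax' hsq hNpow)
    (A := A) (fun a ha b hb => by
      rw [commutatorElement_eq_one_iff_mul_comm.2 (elem_comm hA ha hb).eq]; exact one_mem _)
    (fun a ha => by rw [hA.2 a ha]; exact one_mem _)
  change (stab N1 N2).relIndex A ^ 2 * _ ≤ _ at hb
  rw [hKA, ← idx_mul_card (A.map π) (N2.map π)] at hb
  rw [stab, relIndex_comap]
  exact Nat.le_of_mul_le_mul_right hb Nat.card_pos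

/-- The last configuration. -/
theorem core (hG : Good G) (S : Sylow 2 G) {V A P : Subgroup G} [P.Normal]
    (hS : (S : Subgroup G) ≤ normalizer (V : Set G))
    (hV : Cond V) (hMe : Cfsg.IsElementaryAbelian 2 (span V)) (hA : IsMax A)
    (hAV : A ≤ centralizer (V : Set G))
    (hPdef : P = centralizer (span V : Set G) ⊔ Cfsg.pCore 2 G)
    (hPmax : ∀ N : Subgroup G, N.Normal → centralizer (span V : Set G) ≤ N →
      (∀ g ∈ N, ∃ e : ℕ, g ^ 2 ^ e ∈ centralizer (span V : Set G)) → N ≤ P)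
    (hres : ∀ K : Subgroup G, K.Normal → P ≤ K → ¬ Y₂ ≤ K → A ⊓ K ≤ P) :
    A ≤ centralizer (span V : Set G) := by
  classical
  haveI : Fact (Nat.Prime 2) := ⟨Nat.prime_two⟩
  by_contra hAC
  set M := span V with hM
  set C := centralizer (M : Set G) with hC
  set Q := Cfsg.pCore 2 G with hQ
  haveI : C.Normal := inferInstance
  have hQn : Q ≤ normalizer (V : Set G) := (PLocal.Cores.pCore_le_sylow S).trans hS
  have hCP : C ≤ P := hPdef ▸ le_sup_left
  have hQP : Q ≤ P := hPdef ▸ le_sup_right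
  have hP2 : ∀ g ∈ P, ∃ e : ℕ, g ^ 2 ^ e ∈ C := by
    intro g hg
    rw [hPdef] at hg
    obtain ⟨c, hc, q, hq, rfl⟩ := mem_sup_of_normal_left.1 hg
    obtain ⟨e, he⟩ := PLocal.Cores.isPGroup_pCore (p := 2) (⟨q, hq⟩ : ↥Q)
    refine ⟨e, (QuotientGroup.eq_one_iff _).1 ?_⟩
    have h1 := congrArg Subtype.val he
    rw [SubmonoidClass.coe_pow] at h1
    rw [QuotientGroup.mk_pow, QuotientGroup.mk_mul, (QuotientGroup.eq_one_iff c).2 hc, one_mul,
      ← QuotientGroup.mk_pow, h1]
    rfl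
  set a := P.relIndex A with ha
  set m := idx A M with hm
  set b := idx M (A ⊓ P) with hb
  have hab : idx M A = b * a := by
    rw [hb, ha, idx, idx, ← hC, ← inf_relIndex_right C A, ← inf_relIndex_left A P,
      ← relIndex_mul_relIndex (C ⊓ A) (A ⊓ P) A (le_inf inf_le_right (inf_le_left.trans hCP))
        inf_le_left, ← inf_relIndex_right (C ⊓ A) (A ⊓ P), inf_assoc,
      inf_eq_right.2 (inf_le_left : A ⊓ P ≤ A), inf_relIndex_right]
  have hmab : m ≤ b * a := hab ▸ hA.idx_le hMe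
  have hAPe := elem_mono hA.1 (inf_le_left : A ⊓ P ≤ A)
  obtain ⟨htel, -⟩ := telescope_kernel (X := A ⊓ P) (C := C) hC PLocal.Cores.isPGroup_pCore hV hQn
    (inf_le_right.trans hPdef.le)
    (fun x hx y hy => by
      rw [commutatorElement_eq_one_iff_mul_comm.2 (elem_comm hAPe hx hy).eq]; exact one_mem _)
    (fun x hx => by rw [hAPe.2 x hx]; exact one_mem _)
  have hb3 : b ^ 3 ≤ m ^ 2 := htel.trans (Nat.pow_le_pow_left
    (relIndex_le_of_le_left (centralizer_le inf_le_left) index_ne_zero_of_finite) 2)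
  have hbpos : 0 < b := idx_pos _ _
  have hmpos : 0 < m := idx_pos _ _
  have hm2 : b ^ 3 ≤ b ^ 2 * a ^ 2 := hb3.trans (by rw [← mul_pow]; exact Nat.pow_le_pow_left hmab 2)
  have hba : b ≤ a ^ 2 := by
    refine Nat.le_of_mul_le_mul_left ?_ (pow_pos hbpos 2)
    rwa [← pow_succ]
  have ha1 : 1 < a := by
    by_contra h
    have hb1 : b = 1 := by
      have : a ^ 2 ≤ 1 := pow_le_one₀ (Nat.zero_le _) (not_lt.1 h)
      omega
    have hle : idx M A ≤ 1 := by
      rw [hab, hb1, one_mul]; exact not_lt.1 h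
    exact hAC (idx_eq_one.1 (le_antisymm hle (idx_pos _ _)))
  have hYP : ¬ Y₂ ≤ P := by
    intro h
    have htop : (⊤ : Subgroup G) ≤ P := hPmax ⊤ inferInstance le_top fun g _ => by
      obtain ⟨k, hk⟩ := Transfer.NormalPComplement.pow_pResidual_mem (p := 2) g
      obtain ⟨e, he⟩ := hP2 _ (h hk)
      exact ⟨k + e, by rwa [pow_add, pow_mul]⟩
    have : a = 1 := relIndex_eq_one.2 fun x _ => htop (mem_top x)
    omega
  obtain ⟨N1, _, h12, hmax, hPs, hYs, hcost⟩ := exists_section hG hMe rfl hQP hCP hP2 hA.1 hres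
    (L := M) le_rfl (fun h => hYP (h.trans hCP))
  set N2 := ⁅Y₂, M⁆ with hN2
  have hN2M : N2 ≤ M := commutator_le_right _ _
  have hN1M : N1 ≤ M := h12.le.trans hN2M
  set D := stab N1 A with hD
  have hCD : centralizer (A : Set G) ≤ D := fun g hg => mem_stab.2 fun x hx => by
    rw [← hg x hx, mul_inv_cancel_right, mul_inv_cancel]
    exact one_mem _
  have hN1D : N1 ≤ D := fun n hn => mem_stab.2 fun x _ => by
    rw [mul_assoc n, mul_assoc n]
    exact mul_mem hn ((inferInstance : N1.Normal).conj_mem _ (inv_mem hn) x)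
  have hidx2 : idx A N2 ≤ m := relIndex_le_of_le_right hN2M index_ne_zero_of_finite
  -- `O²(G)` centralises `N1`
  have hYN1 : Y₂ ≤ centralizer (N1 : Set G) := by
    by_contra h
    obtain ⟨N1', _, h12', -, -, -, hcost'⟩ := exists_section hG hMe rfl hQP hCP hP2 hA.1 hres
      (L := N1) hN1M h
    have hlow : a ^ 2 ≤ idx A N1 := hcost'.trans ((relIndex_le_of_le_left (fun g hg => mem_stab.2
      fun x hx => by rw [← hg x hx, mul_inv_cancel_right, mul_inv_cancel]; exact one_mem _)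
      index_ne_zero_of_finite).trans (relIndex_le_of_le_right (commutator_le_right _ _)
      index_ne_zero_of_finite))
    have hN1D' : N1 ≤ D ⊓ N2 := le_inf hN1D h12.le
    have h4 : idx A N1 * D.relIndex N2 ≤ idx A N2 := by
      calc idx A N1 * D.relIndex N2 ≤
          (centralizer (A : Set G)).relIndex (D ⊓ N2) * (D ⊓ N2).relIndex N2 := by
            rw [inf_relIndex_right]
            exact Nat.mul_le_mul_right _ (relIndex_le_of_le_right hN1D' index_ne_zero_of_finite)
        _ = (centralizer (A : Set G) ⊓ N2).relIndex N2 := by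
            rw [← relIndex_mul_relIndex (centralizer (A : Set G) ⊓ N2) (D ⊓ N2) N2
              (inf_le_inf_right N2 hCD) inf_le_right]
            congr 1
            rw [← inf_relIndex_right _ (D ⊓ N2),
              ← inf_relIndex_right (centralizer (A : Set G) ⊓ N2) (D ⊓ N2), inf_assoc,
              inf_eq_right.2 (inf_le_right : D ⊓ N2 ≤ N2)]
        _ = idx A N2 := inf_relIndex_right _ _
    have h5 : a ^ 2 * a ^ 2 ≤ b * a := (Nat.mul_le_mul hlow hcost).trans ((h4.trans hidx2).trans hmab)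
    have h6 : a ^ 2 * a ^ 2 ≤ a ^ 2 * a := h5.trans (Nat.mul_le_mul_right _ hba)
    have h7 : a ^ 2 ≤ a := Nat.le_of_mul_le_mul_left h6 (by positivity)
    have h8 : a * 2 ≤ a ^ 2 := by rw [pow_two]; exact Nat.mul_le_mul_left _ ha1
    omega
  have hMV : M ≤ V ⊔ N2 := by
    have hnS : (S : Subgroup G) ≤ normalizer ((V ⊔ N2 : Subgroup G) : Set G) := fun s hs =>
      mem_normalizer_iff_map_conj_eq.2 (by
        rw [Subgroup.map_sup, mem_normalizer_iff_map_conj_eq.1 (hS hs),
          mem_normalizer_iff_map_conj_eq.1 ((normalizer_eq_top N2).ge (mem_top s))])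
    have hnY : Y₂ ≤ normalizer ((V ⊔ N2 : Subgroup G) : Set G) := fun y hy =>
      PLocal.GlaubermanReplacement.mem_normalizer_of_conj_mem fun w hw => by
        have hle : V ⊔ N2 ≤ M := sup_le (le_span V) hN2M
        rw [show y * w * y⁻¹ = (y * w * y⁻¹ * w⁻¹) * w by group]
        exact mul_mem (mem_sup_right (commutator_mem_commutator hy (hle hw))) hw
    haveI : (V ⊔ N2).Normal := normalizer_eq_top_iff.1 (top_le_iff.1 ((Transfer.NormalPComplement.pResidual_sup_sylow S).ge.trans (sup_le hnY hnS)))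
    exact normalClosure_le_normal (SetLike.coe_subset_coe.2 le_sup_left)
  -- the action of `A ⊓ P`
  have hb0 : A ⊓ P ≤ stab N1 M := by
    refine stab_comm (hMV.trans (sup_le (fun v hv => mem_stab.2 fun x hx => ?_)
      (stab_comm (inf_le_right.trans hPs))))
    rw [show v * x = x * v from hAV hx.1 v hv, mul_inv_cancel_right, mul_inv_cancel]
    exact one_mem _
  set T0 := centralizer (N1 : Set G) ⊓ stab N1 M with hT0
  haveI := stab_normal (N := N1) (X := M)
  have hCT0 : C ≤ T0 := le_inf (centralizer_le hN1M) fun c hc => mem_stab.2 fun x hx => by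
    rw [← hc x hx, mul_inv_cancel_right, mul_inv_cancel]
    exact one_mem _
  have hMcomm : ∀ x ∈ M, ∀ y ∈ M, x * y = y * x := fun x hx y hy => (elem_comm hMe hx hy).eq
  -- the image of a point
  have himg : ∀ t ∈ T0, ∀ x ∈ M, ∃ c ∈ N1, t * x * t⁻¹ = c * x := fun t ht x hx =>
    ⟨_, mem_stab.1 ht.2 x hx, by group⟩
  have hfixN : ∀ t ∈ T0, ∀ c ∈ N1, t * c * t⁻¹ = c := fun t ht c hc => by
    rw [← ht.1 c hc, mul_inv_cancel_right]
  have hT0c : ∀ s ∈ T0, ∀ t ∈ T0, ⁅s, t⁆ ∈ C := by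
    intro s hs t ht x hx
    have e3 : ⁅s, t⁆ * x * ⁅s, t⁆⁻¹ = x := by
      have hst : (t * s)⁻¹ * (s * t) ∈ T0 := mul_mem (inv_mem (mul_mem ht hs)) (mul_mem hs ht)
      rw [commutatorElement_def]
      calc s * t * s⁻¹ * t⁻¹ * x * (s * t * s⁻¹ * t⁻¹)⁻¹
          = (s * t) * ((t * s)⁻¹ * x * (t * s)) * (s * t)⁻¹ := by group
        _ = x := by
          set u := (t * s)⁻¹ * x * (t * s) with hu
          have hx' : u ∈ M := by
            have := (inferInstance : M.Normal).conj_mem x hx (t * s)⁻¹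
            rwa [inv_inv] at this
          obtain ⟨c', hc', h1'⟩ := himg t ht u hx'
          obtain ⟨d', hd', h2'⟩ := himg s hs u hx'
          calc s * t * u * (s * t)⁻¹ = s * (t * u * t⁻¹) * s⁻¹ := by group
            _ = (s * c' * s⁻¹) * (s * u * s⁻¹) := by rw [h1']; group
            _ = c' * (d' * u) := by rw [hfixN s hs c' hc', h2']
            _ = d' * (c' * u) := by
              rw [← mul_assoc, hMcomm c' (hN1M hc') d' (hN1M hd'), mul_assoc]
            _ = (t * d' * t⁻¹) * (t * u * t⁻¹) := by rw [hfixN t ht d' hd', h1']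
            _ = t * (s * u * s⁻¹) * t⁻¹ := by rw [h2']; group
            _ = x := by rw [hu]; group
    exact (mul_inv_eq_iff_eq_mul.1 e3).symm
  have hT0s : ∀ t ∈ T0, t ^ 2 ∈ C := by
    intro t ht x hx
    obtain ⟨c, hc, h1⟩ := himg t ht x hx
    have h2 : t ^ 2 * x * (t ^ 2)⁻¹ = x := by
      calc t ^ 2 * x * (t ^ 2)⁻¹ = t * (t * x * t⁻¹) * t⁻¹ := by rw [pow_two]; group
        _ = t * (c * x) * t⁻¹ := by rw [h1]
        _ = (t * c * t⁻¹) * (t * x * t⁻¹) := by group
        _ = c * c * x := by rw [hfixN t ht c hc, h1, mul_assoc]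
        _ = x := by rw [elem_mul_self hMe (hN1M hc), one_mul]
    exact (mul_inv_eq_iff_eq_mul.1 h2).symm
  have hT0P : T0 ≤ P := hPmax T0 inferInstance hCT0 fun t ht => ⟨1, by rw [pow_one]; exact hT0s t ht⟩
  set π := QuotientGroup.mk' C with hπ
  have hπ1 : ∀ g : G, g ∈ C → π g = 1 := fun g hg => (QuotientGroup.eq_one_iff g).2 hg
  let Cen : Subgroup G → Prop := fun Z => ∀ (_ : Z.Normal), ∀ y : G, Odd (orderOf y) →
    ∀ t ∈ T0 ⊓ stab Z M, ⁅y, t⁆ ∈ C
  have hCen1 : ¬ Cen N1 := by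
    intro h
    refine hAC ?_
    have hfix : A ⊓ P ≤ C := by
      intro b0 hb0m
      -- `O²(G)` commutes with `b₀` modulo `C`
      have hY : Y₂ ≤ stab C (A ⊓ P) := residual_le fun y hy => mem_stab.2 fun b0 hb0m => by
        have hyR := mem_residual hy
        have hcT : ⁅y, b0⁆ ∈ T0 := by
          refine ⟨?_, ?_⟩
          · rw [commutatorElement_def, mul_assoc, mul_assoc]
            refine mul_mem (hYN1 hyR) ?_
            rw [← mul_assoc]
            exact (inferInstance : (centralizer (N1 : Set G)).Normal).conj_mem _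
              ((centralizer (N1 : Set G)).inv_mem (hYN1 hyR)) b0
          · rw [commutatorElement_def]
            exact (stab N1 M).mul_mem ((inferInstance : (stab N1 M).Normal).conj_mem _ (hb0 hb0m) y)
              ((stab N1 M).inv_mem (hb0 hb0m))
        have hc := h inferInstance y hy _ ⟨hcT, hcT.2⟩
        set c := ⁅y, b0⁆ with hcdef
        have hcy : Commute (π y) (π c) := by
          rw [← commutatorElement_eq_one_iff_commute, ← map_commutatorElement]
          exact hπ1 _ hc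
        have hc2 : π c ^ 2 = 1 := by rw [← map_pow]; exact hπ1 _ (hT0s c hcT)
        set n := orderOf y with hn
        have hyn : π y ^ n = 1 := by rw [← map_pow, pow_orderOf_eq_one, map_one]
        have h1 : ((π c)⁻¹ * π y) ^ n = 1 := by
          have e : (π c)⁻¹ * π y = π b0 * π y * (π b0)⁻¹ := by
            rw [hcdef, map_commutatorElement, commutatorElement_def]; group
          rw [e, conj_pow, hyn, mul_one, mul_inv_cancel]
        rw [(hcy.symm.inv_left).mul_pow, hyn, mul_one, inv_pow, inv_eq_one] at h1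
        have h3 : π c = 1 := by
          obtain ⟨k, hk⟩ := hy
          rw [hk, pow_succ, pow_mul, hc2, one_pow, one_mul] at h1
          exact h1
        rw [← commutatorElement_def]
        exact (QuotientGroup.eq_one_iff _).1 h3
      have hcover : M ≤ centralizer ({b0} : Set G) := span_le fun g => by
        obtain ⟨y, hy, s, hs, rfl⟩ := mem_sup_of_normal_left.1
          ((Transfer.NormalPComplement.pResidual_sup_sylow S).ge (mem_top g))
        rintro _ ⟨v, hv, rfl⟩
        set v' := s * v * s⁻¹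
        have hv' : v' ∈ V := (mem_normalizer_iff.1 (hS hs) v).1 hv
        refine mem_centralizer_singleton_iff.2 ?_
        show y * s * v * (y * s)⁻¹ * b0 = b0 * (y * s * v * (y * s)⁻¹)
        rw [show y * s * v * (y * s)⁻¹ = y * v' * y⁻¹ by simp only [v']; group]
        set c := y * b0 * y⁻¹ * b0⁻¹ with hc
        have hcC : c ∈ C := mem_stab.1 (hY hy) b0 hb0m
        set x := y * v' * y⁻¹ with hx
        have hxM : x ∈ M := (inferInstance : M.Normal).conj_mem v' (le_span V hv') y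
        have hb0' : b0 = c⁻¹ * (y * b0 * y⁻¹) := by rw [hc]; group
        have h1 : x * (y * b0 * y⁻¹) = (y * b0 * y⁻¹) * x := by
          rw [hx, show y * v' * y⁻¹ * (y * b0 * y⁻¹) = y * (v' * b0) * y⁻¹ by group,
            show v' * b0 = b0 * v' from hAV hb0m.1 v' hv']
          group
        have h2 : x * c⁻¹ = c⁻¹ * x := inv_mem hcC x hxM
        rw [hb0', ← mul_assoc, h2, mul_assoc, h1, ← mul_assoc]
      exact fun x hx => mem_centralizer_singleton_iff.1 (hcover hx)
    have hb1 : b = 1 := idx_eq_one.2 hfix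
    have hN2le : a ^ 2 ≤ m :=
      hcost.trans ((relIndex_le_of_le_left hCD index_ne_zero_of_finite).trans hidx2)
    exfalso
    rw [hb1, one_mul] at hmab
    have h8 : a * 2 ≤ a ^ 2 := by rw [pow_two]; exact Nat.mul_le_mul_left _ ha1
    omega
  have hCenBot : Cen ⊥ := by
    intro _ y _ t ht
    have htC : t ∈ C := fun x hx => by
      have := mem_stab.1 ht.2 x hx
      rw [mem_bot, mul_inv_eq_one, mul_inv_eq_iff_eq_mul] at this
      exact this.symm
    rw [commutatorElement_def]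
    exact mul_mem ((inferInstance : C.Normal).conj_mem t htC y) (inv_mem htC)
  obtain ⟨N0, ⟨hN0n, hN01, hCen0⟩, hN0max⟩ :=
    (Set.toFinite {Z : Subgroup G | Z.Normal ∧ Z ≤ N1 ∧ Cen Z}).exists_maximal
      ⟨⊥, inferInstance, bot_le, hCenBot⟩
  haveI := hN0n
  have hN0lt : N0 < N1 := lt_of_le_of_ne hN01 fun h => hCen1 (h ▸ hCen0)
  obtain ⟨z, hz, hz0, hzfix⟩ := exists_fixed_mod (K := (⊤ : Subgroup G)) hN0lt
    (fun l hl => ⟨1, by rw [pow_one, hMe.2 l (hN1M hl)]; exact one_mem _⟩)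
    (fun g _ => by
      obtain ⟨k, hk⟩ := Transfer.NormalPComplement.pow_pResidual_mem (p := 2) g
      refine ⟨k, fun l hl => ?_⟩
      rw [← hYN1 hk l hl, mul_inv_cancel_right, mul_inv_cancel]
      exact one_mem _)
  set N0' := N0 ⊔ zpowers z with hN0'
  have hzz : z * z = 1 := elem_mul_self hMe (hN1M hz)
  have hN0'mem : ∀ x ∈ N0', x ∈ N0 ∨ x * z ∈ N0 := by
    intro x hx
    obtain ⟨n, hn, w, hw, rfl⟩ := mem_sup_of_normal_left.1 hx
    obtain ⟨i, rfl⟩ := mem_zpowers_iff.1 hw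
    rcases Int.even_or_odd i with ⟨k, rfl⟩ | ⟨k, rfl⟩
    · left; rw [← two_mul, zpow_mul, zpow_two, hzz, one_zpow, mul_one]; exact hn
    · right
      rw [zpow_add, zpow_mul, zpow_two, hzz, one_zpow, one_mul, zpow_one, mul_assoc, hzz, mul_one]
      exact hn
  haveI hN0'n : N0'.Normal := by
    refine normalizer_eq_top_iff.1 (eq_top_iff.2 fun g _ =>
      mem_normalizer_iff_map_conj_eq.2 (eq_of_le_of_card_ge ?_
        (card_map_of_injective (MulAut.conj g).injective).ge))
    rw [hN0', Subgroup.map_sup, MonoidHom.map_zpowers]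
    refine sup_le (le_trans ?_ le_sup_left) (zpowers_le.2 ?_)
    · rintro _ ⟨x, hx, rfl⟩
      exact hN0n.conj_mem x hx g
    · show g * z * g⁻¹ ∈ _
      rw [show g * z * g⁻¹ = (g * z * g⁻¹ * z⁻¹) * z by group]
      exact mul_mem (mem_sup_left (hzfix g (mem_top g))) (mem_sup_right (mem_zpowers z))
  have hN0'1 : N0' ≤ N1 := sup_le hN01 (zpowers_le.2 hz)
  have hnCen : ¬ Cen N0' := fun h => hz0
    ((hN0max ⟨hN0'n, hN0'1, h⟩ le_sup_left) (mem_sup_right (mem_zpowers z)))
  set T' := T0 ⊓ stab N0' M with hT'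
  haveI := stab_normal (N := N0') (X := M)
  -- conjugation of a map by an element of `O²(G)`
  have hkey : ∀ y ∈ Y₂, ∀ t ∈ T', ∀ x ∈ M,
      ⁅y, t⁆ * x * ⁅y, t⁆⁻¹ * x⁻¹ = t * (y⁻¹ * x * y * x⁻¹) * t⁻¹ * (y⁻¹ * x * y * x⁻¹)⁻¹ := by
    intro y hy t ht x hx
    set w := y⁻¹ * x * y * x⁻¹ with hw
    have hwM : w ∈ M := by
      refine mul_mem ?_ (inv_mem hx)
      have := (inferInstance : M.Normal).conj_mem x hx y⁻¹
      rwa [inv_inv] at this
    obtain ⟨c, hc, h1⟩ := himg t ht.1 x hx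
    obtain ⟨d, hd, h2⟩ := himg t ht.1 w hwM
    have hyfix : ∀ c ∈ N1, y * c * y⁻¹ = c := fun c hc => by
      rw [← hYN1 hy c hc, mul_inv_cancel_right]
    have hcc : c * c = 1 := elem_mul_self hMe (hN1M hc)
    have h3 : t⁻¹ * x * t = c * x := by
      have h4 : t⁻¹ * c * t = c := by
        have := hfixN t⁻¹ (inv_mem ht.1) c hc
        rwa [inv_inv] at this
      calc t⁻¹ * x * t = t⁻¹ * (c * (t * x * t⁻¹)) * t := by rw [h1, ← mul_assoc c, hcc, one_mul]
        _ = (t⁻¹ * c * t) * x := by group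
        _ = _ := by rw [h4]
    calc ⁅y, t⁆ * x * ⁅y, t⁆⁻¹ * x⁻¹ = y * t * y⁻¹ * (t⁻¹ * x * t) * y * t⁻¹ * y⁻¹ * x⁻¹ := by
          rw [commutatorElement_def]; group
      _ = (y * t * (y⁻¹ * c * y) * t⁻¹ * y⁻¹) * (y * (t * w * t⁻¹) * y⁻¹) *
          (y * (t * x * t⁻¹) * y⁻¹) * x⁻¹ := by rw [h3, hw]; group
      _ = c * (d * (y * w * y⁻¹)) * (c * (y * x * y⁻¹)) * x⁻¹ := by
          rw [h1, h2]
          have e1 : y⁻¹ * c * y = c := by
            calc y⁻¹ * c * y = y⁻¹ * (y * c * y⁻¹) * y := by rw [hyfix c hc]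
              _ = c := by group
          rw [e1, show y * t * c * t⁻¹ * y⁻¹ = y * (t * c * t⁻¹) * y⁻¹ by group, hfixN t ht.1 c hc,
            hyfix c hc, show y * (d * w) * y⁻¹ = (y * d * y⁻¹) * (y * w * y⁻¹) by group, hyfix d hd,
            show y * (c * x) * y⁻¹ = (y * c * y⁻¹) * (y * x * y⁻¹) by group, hyfix c hc]
      _ = d := by
          have hyw : y * w * y⁻¹ ∈ M := (inferInstance : M.Normal).conj_mem w hwM y
          have e : (d * (y * w * y⁻¹)) * c = c * (d * (y * w * y⁻¹)) :=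
            hMcomm _ (mul_mem (hN1M hd) hyw) c (hN1M hc)
          calc c * (d * (y * w * y⁻¹)) * (c * (y * x * y⁻¹)) * x⁻¹
              = c * ((d * (y * w * y⁻¹)) * c) * (y * x * y⁻¹) * x⁻¹ := by group
            _ = (c * c) * d * ((y * w * y⁻¹) * (y * x * y⁻¹) * x⁻¹) := by rw [e]; group
            _ = d := by rw [hcc, hw]; group
      _ = _ := by rw [h2, mul_inv_cancel_right]
  set L0 := N2 ⊓ stab N0 T' with hL0
  haveI := stab_normal (N := N0) (X := T')
  have hL01 : L0 = N1 := by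
    refine (hmax L0 inferInstance (le_inf h12.le fun n hn => mem_stab.2 fun t ht => ?_)
      inf_le_left).resolve_right fun h2 => hnCen fun _ y hyo t ht => ?_
    · rw [ht.1.1 n hn, mul_inv_cancel_right, mul_inv_cancel]
      exact one_mem _
    · have ht' : t ∈ T' := ht
      have hyR := mem_residual hyo
      have hyt : ⁅y, t⁆ ∈ T0 ⊓ stab N0 M := by
        refine ⟨?_, mem_stab.2 fun x hx => ?_⟩
        · rw [commutatorElement_def]
          exact T0.mul_mem ((inferInstance : T0.Normal).conj_mem t ht.1 y) (T0.inv_mem ht.1)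
        · rw [hkey y hyR t ht' x hx]
          have hw : y⁻¹ * x * y * x⁻¹ ∈ N2 := by
            have := commutator_mem_commutator (inv_mem hyR) hx
            rwa [commutatorElement_def, inv_inv] at this
          refine mem_stab.1 (stab_comm ?_ ht') _ hw
          exact h2.ge.trans inf_le_right
      have hcomm : Commute (π y) (π t) := by
        refine commute_of_chain (N := (T0 ⊓ stab N0 M).map π) ?_ ?_ ?_
          (hyo.of_dvd_nat (orderOf_map_dvd π y))
        · rintro _ ⟨s, hs, rfl⟩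
          rw [← commutatorElement_eq_one_iff_commute, ← map_commutatorElement]
          exact hπ1 _ (hCen0 inferInstance y hyo s hs)
        · rw [← commutatorElement_def, ← map_commutatorElement]
          exact mem_map_of_mem π hyt
        · rintro ⟨_, s, hs, rfl⟩
          exact ⟨1, Subtype.ext (by
            rw [SubmonoidClass.coe_pow, pow_one, ← map_pow]; exact hπ1 _ (hT0s s hs.1))⟩
      refine (QuotientGroup.eq_one_iff _).1 ?_
      show π ⁅y, t⁆ = 1
      rw [map_commutatorElement]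
      exact commutatorElement_eq_one_iff_commute.2 hcomm
  obtain ⟨y, hyo, hys⟩ : ∃ y : G, Odd (orderOf y) ∧ y ∉ stab N1 N2 := by
    by_contra hcon
    push Not at hcon
    exact hYs (residual_le hcon)
  have hyR := mem_residual hyo
  set R := closure {r | ∃ t ∈ T', ⁅y, t⁆ = r} with hR
  have hRT : R ≤ T0 := (closure_le _).2 (by
    rintro _ ⟨t, ht, rfl⟩
    rw [commutatorElement_def]
    exact mul_mem ((inferInstance : T0.Normal).conj_mem t ht.1 y) (inv_mem ht.1))
  have hRT' : R ≤ stab N0' M := (closure_le _).2 (by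
    rintro _ ⟨t, ht, rfl⟩
    rw [commutatorElement_def]
    exact mul_mem ((inferInstance : (stab N0' M).Normal).conj_mem t ht.2 y) (inv_mem ht.2))
  set F := M ⊓ stab N1 (zpowers y) with hF
  have hwN2 : ∀ x ∈ M, y⁻¹ * x * y * x⁻¹ ∈ N2 := fun x hx => by
    have := commutator_mem_commutator (inv_mem hyR) hx
    rwa [commutatorElement_def, inv_inv] at this
  have hyconj : ∀ x ∈ M, y⁻¹ * x * y * x⁻¹ ∈ N1 → y * x * y⁻¹ * x⁻¹ = (y⁻¹ * x * y * x⁻¹)⁻¹ := by
    intro x hx hw
    set w := y⁻¹ * x * y * x⁻¹ with hwdef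
    have h1 : y * w * y⁻¹ = w := by rw [← hYN1 hyR w hw, mul_inv_cancel_right]
    rw [show y * x * y⁻¹ * x⁻¹ = (y * w * y⁻¹)⁻¹ by rw [hwdef]; group, h1]
  have hDF : M ⊓ stab N0 R ≤ F := by
    rintro x ⟨hx, hxR⟩
    have hw : y⁻¹ * x * y * x⁻¹ ∈ L0 := ⟨hwN2 x hx, mem_stab.2 fun t ht => by
      set w := y⁻¹ * x * y * x⁻¹
      rw [show w * t * w⁻¹ * t⁻¹ = (t * w * t⁻¹ * w⁻¹)⁻¹ by group, ← hkey y hyR t ht x hx,
        show (⁅y, t⁆ * x * ⁅y, t⁆⁻¹ * x⁻¹)⁻¹ = x * ⁅y, t⁆ * x⁻¹ * ⁅y, t⁆⁻¹ by group]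
      exact mem_stab.1 hxR _ (subset_closure ⟨t, ht, rfl⟩)⟩
    rw [hL01] at hw
    refine ⟨hx, mem_stab_zpowers.2 ?_⟩
    rw [show x * y * x⁻¹ * y⁻¹ = (y * x * y⁻¹ * x⁻¹)⁻¹ by group, hyconj x hx hw, inv_inv]
    exact hw
  have hFR : F ≤ centralizer (R : Set G) := fun x hx => by
    have hle : R ≤ centralizer ({x} : Set G) := (closure_le _).2 (by
      rintro _ ⟨t, ht, rfl⟩
      refine mem_centralizer_singleton_iff.2 ?_
      have hw : y⁻¹ * x * y * x⁻¹ ∈ N1 := by
        rw [show y⁻¹ * x * y * x⁻¹ = y⁻¹ * (x * y * x⁻¹ * y⁻¹) * y⁻¹⁻¹ by group]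
        exact (inferInstance : N1.Normal).conj_mem _ (mem_stab_zpowers.1 hx.2) _
      have h := hkey y hyR t ht x hx.1
      rw [hfixN t ht.1 _ hw, mul_inv_cancel, mul_inv_eq_one] at h
      exact mul_inv_eq_iff_eq_mul.1 h)
    exact fun r hr => mem_centralizer_singleton_iff.1 (hle hr)
  -- counting
  have hcount : ∀ R1 : Subgroup G, R1 ≤ R →
      (M ⊓ stab N0 R1).relIndex M ≤ idx M R1 := by
    intro R1
    induction hn : Nat.card R1 using Nat.strong_induction_on generalizing R1 with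
    | _ n ih =>
      subst hn
      intro hR1
      by_cases hR1C : R1 ≤ C
      · have : M ≤ stab N0 R1 := fun x hx => mem_stab.2 fun r hr => by
          rw [hR1C hr x hx, mul_inv_cancel_right, mul_inv_cancel]
          exact one_mem _
        rw [inf_eq_left.2 this, relIndex_self]
        exact idx_pos _ _
      obtain ⟨r, hr, hrC⟩ := SetLike.not_le_iff_exists.1 hR1C
      obtain ⟨R2, ⟨hR2le, hCR2, hrR2⟩, hR2max⟩ :=
        (Set.toFinite {R2 : Subgroup G | R2 ≤ R1 ∧ R1 ⊓ C ≤ R2 ∧ r ∉ R2}).exists_maximal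
          ⟨R1 ⊓ C, inf_le_left, le_rfl, fun h => hrC h.2⟩
      have hlt : R2 < R1 := lt_of_le_of_ne hR2le fun h => hrR2 (h ▸ hr)
      have h1 := ih _ (Set.ncard_lt_ncard (SetLike.coe_ssubset_coe.2 hlt) (Set.toFinite _)) R2 rfl
        (hR2le.trans hR1)
      have hgen : ∀ s ∈ R1, s ∈ R2 ⊔ zpowers r := by
        intro s hs
        by_cases hs2 : s ∈ R2
        · exact mem_sup_left hs2
        have hmem : r ∈ R2 ⊔ zpowers s := by
          by_contra h
          exact hs2 (hR2max ⟨sup_le hR2le (zpowers_le.2 hs), hCR2.trans le_sup_left, h⟩ le_sup_left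
            (mem_sup_right (mem_zpowers s)))
        -- `R1` is abelian of exponent two modulo `C`
        have hn2 : zpowers s ≤ normalizer (R2 : Set G) := zpowers_le.2
          (PLocal.GlaubermanReplacement.mem_normalizer_of_conj_mem fun w hw => by
            rw [show s * w * s⁻¹ = ⁅s, w⁆ * w by rw [commutatorElement_def]; group]
            refine mul_mem (hCR2 ⟨?_, hT0c s (hRT (hR1 hs)) w (hRT (hR1 (hR2le hw)))⟩) hw
            rw [commutatorElement_def]
            exact R1.mul_mem (R1.mul_mem (R1.mul_mem hs (hR2le hw)) (R1.inv_mem hs)) (R1.inv_mem (hR2le hw)))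
        have hmem' : r ∈ ((R2 ⊔ zpowers s : Subgroup G) : Set G) := hmem
        rw [coe_mul_of_right_le_normalizer_left R2 _ hn2] at hmem'
        obtain ⟨u, hu, w, hw, e⟩ := hmem'
        obtain ⟨i, rfl⟩ := mem_zpowers_iff.1 hw
        rcases Int.even_or_odd i with ⟨k, rfl⟩ | ⟨k, rfl⟩
        · refine absurd ?_ hrR2
          rw [← e]
          refine mul_mem hu ?_
          rw [← two_mul, zpow_mul]
          exact zpow_mem (hCR2 ⟨by rw [zpow_two]; exact mul_mem hs hs,
            by rw [zpow_two, ← pow_two]; exact hT0s s (hRT (hR1 hs))⟩) k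
        · have hsk : s ^ (2 * k) ∈ R2 := by
            rw [zpow_mul]
            exact zpow_mem (hCR2 ⟨by rw [zpow_two]; exact mul_mem hs hs,
              by rw [zpow_two, ← pow_two]; exact hT0s s (hRT (hR1 hs))⟩) k
          have e2 : s = (s ^ (2 * k))⁻¹ * u⁻¹ * r := by
            rw [← e]; simp only []; rw [zpow_add, zpow_one]; group
          rw [e2]
          exact mul_mem (mul_mem (inv_mem (mem_sup_left hsk)) (inv_mem (mem_sup_left hu)))
            (mem_sup_right (mem_zpowers r))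
      set K := stab N0 (zpowers r) with hK
      have hD2 : (M ⊓ stab N0 R2) ⊓ (M ⊓ K) ≤ M ⊓ stab N0 R1 := fun x hx =>
        ⟨hx.1.1, stab_comm (X := zpowers x) (Z := R1)
          (fun s hs => (sup_le (stab_comm (zpowers_le.2 hx.1.2)) (stab_comm (zpowers_le.2 hx.2.2)) :
            R2 ⊔ zpowers r ≤ stab N0 (zpowers x)) (hgen s hs)) (mem_zpowers x)⟩
      have hK2 : (M ⊓ K).relIndex M ≤ 2 := by
        refine relIndex_le_two fun u hu huK w hw hwK => ⟨M.mul_mem (M.inv_mem hu) hw, ?_⟩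
        have hr0 : r ∈ T0 ⊓ stab N0' M := ⟨hRT (hR1 hr), hRT' (hR1 hr)⟩
        have hnot : ∀ x ∈ M, x ∉ M ⊓ K → r * x * r⁻¹ * x⁻¹ * z ∈ N0 := by
          intro x hx hxK
          refine (hN0'mem _ (mem_stab.1 hr0.2 x hx)).resolve_left fun h => hxK ⟨hx, ?_⟩
          refine mem_stab_zpowers.2 ?_
          rw [show x * r * x⁻¹ * r⁻¹ = (r * x * r⁻¹ * x⁻¹)⁻¹ by group]
          exact inv_mem h
        set q := QuotientGroup.mk' N0
        have hq : ∀ x ∈ M, x ∉ M ⊓ K → q r * q x * (q r)⁻¹ = (q z)⁻¹ * q x := by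
          intro x hx hxK
          have h1 : q r * q x * (q r)⁻¹ * (q x)⁻¹ * q z = 1 := by
            rw [← map_inv, ← map_inv, ← map_mul, ← map_mul, ← map_mul, ← map_mul]
            exact (QuotientGroup.eq_one_iff _).2 (hnot x hx hxK)
          have hzx : q z * (q x) = q x * q z := by
            rw [← map_mul, ← map_mul, hMcomm z (hN1M hz) x hx]
          calc q r * q x * (q r)⁻¹ = (q r * q x * (q r)⁻¹ * (q x)⁻¹ * q z) * (q z)⁻¹ * q x := by group
            _ = _ := by rw [h1, one_mul]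
        refine mem_stab_zpowers.2 ?_
        refine (QuotientGroup.eq_one_iff _).1 ?_
        show q (u⁻¹ * w * r * (u⁻¹ * w)⁻¹ * r⁻¹) = 1
        have e : q r * ((q u)⁻¹ * q w) * (q r)⁻¹ = (q u)⁻¹ * q w := by
          rw [show q r * ((q u)⁻¹ * q w) * (q r)⁻¹ =
            (q r * q u * (q r)⁻¹)⁻¹ * (q r * q w * (q r)⁻¹) by group, hq u hu huK, hq w hw hwK]
          group
        simp only [map_mul, map_inv]
        rw [show (q u)⁻¹ * q w * q r * ((q u)⁻¹ * q w)⁻¹ * (q r)⁻¹ =
          ((q r * ((q u)⁻¹ * q w) * (q r)⁻¹) * ((q u)⁻¹ * q w)⁻¹)⁻¹ by group, e, mul_inv_cancel,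
          inv_one]
      calc (M ⊓ stab N0 R1).relIndex M ≤ ((M ⊓ stab N0 R2) ⊓ (M ⊓ K)).relIndex M :=
            relIndex_le_of_le_left hD2 index_ne_zero_of_finite
        _ ≤ (M ⊓ stab N0 R2).relIndex M * (M ⊓ K).relIndex M := relIndex_inf_le
        _ ≤ idx M R2 * R2.relIndex R1 := Nat.mul_le_mul h1 (hK2.trans (index_two_lt hlt))
        _ = idx M R1 := by
          rw [idx, idx, ← hC, ← inf_relIndex_right C R1,
            ← relIndex_mul_relIndex (C ⊓ R1) R2 R1 ((inf_comm C R1).le.trans hCR2) hR2le,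
            ← inf_relIndex_right (C ⊓ R1) R2, inf_assoc, inf_eq_right.2 hR2le, inf_relIndex_right]
  have h1 : idx R M ≤ idx M R := by
    refine le_trans ?_ (hcount R le_rfl)
    exact relIndex_le_of_le_left (hDF.trans hFR) index_ne_zero_of_finite
  have hRC : ¬ R ≤ C := by
    intro hRC
    refine hys (mem_stab.2 fun w hw => ?_)
    have h2 := hcount R le_rfl
    rw [idx_eq_one.2 hRC] at h2
    have h3 : w ∈ F := hDF ((relIndex_eq_one.1 (le_antisymm h2
      (Nat.pos_of_ne_zero FiniteIndex.index_ne_zero))) (hN2M hw))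
    rw [show y * w * y⁻¹ * w⁻¹ = (w * y * w⁻¹ * y⁻¹)⁻¹ by group]
    exact inv_mem (mem_stab.1 h3.2 y (mem_zpowers y))
  obtain ⟨-, hlt⟩ := telescope_kernel (X := R) (C := C) hC PLocal.Cores.isPGroup_pCore hV hQn
    ((hRT.trans hT0P).trans hPdef.le) (fun s hs t ht => hT0c s (hRT hs) t (hRT ht))
    (fun t ht => hT0s t (hRT ht))
  have h4 := hlt hRC
  change idx M R ^ 3 < idx R M ^ 2 at h4
  have h5 : idx R M ^ 2 ≤ idx M R ^ 2 := Nat.pow_le_pow_left h1 2
  have h6 : idx M R ^ 2 ≤ idx M R ^ 3 := Nat.pow_le_pow_right (idx_pos _ _) (by norm_num)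
  omega

end Cfsg.Agent.CharP.Square
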