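import Cfsg.Agent.Lib.CharP.SquareFactor

/-!
`J_e`, E-subgroups and `Ĵ` in an ambient group, and the three factorizations of a group of
characteristic two without a section `S₄` and with the listed composition factors.
-/

set_option autoImplicit false
set_option linter.unusedSectionVars false
set_option linter.style.haveILetI false

namespace Cfsg.Agent.CharP.Square

open Subgroup
open Cfsg.Agent.CharP.FactorList (Listed)
open scoped commutatorElement

universe u

variable {G H : Type u} [Group G] [Group H] [Finite G] [Finite H]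

/-- The E-condition of an elementary subgroup on a subgroup, seen in the ambient group. -/
def ECond (V U : Subgroup G) : Prop :=
  ∀ R ≤ U, ⁅R, R⁆ ≤ centralizer (V : Set G) → (∀ r ∈ R, r ^ 2 ∈ centralizer (V : Set G)) →
    ¬ R ≤ centralizer (V : Set G) →
      idx V R ^ 3 < idx R V ^ 2 ∧
        Nat.card R < Nat.card ↥⁅V, R⁆ * Nat.card ↥(R ⊓ centralizer (V : Set G))

/-- An E-subgroup, seen in the ambient group. -/
def IsE (U : Subgroup G) : Prop :=
  ∀ V ≤ U, U ≤ normalizer (V : Set G) → Cfsg.IsElementaryAbelian 2 V → ECond V U →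
    V ≤ centralizer (U : Set G)

theorem card_eq_idx (V R : Subgroup G) :
    Nat.card V ^ 2 * Nat.card ↥(R ⊓ centralizer (V : Set G)) ^ 3 >
        Nat.card R ^ 3 * Nat.card ↥(V ⊓ centralizer (R : Set G)) ^ 2 ↔
      idx V R ^ 3 < idx R V ^ 2 := by
  rw [← idx_mul_card V R, ← idx_mul_card R V]
  have h : 0 < Nat.card ↥(R ⊓ centralizer (V : Set G)) ^ 3 * Nat.card ↥(V ⊓ centralizer (R : Set G)) ^ 2 :=
    Nat.mul_pos (pow_pos Nat.card_pos 3) (pow_pos Nat.card_pos 2)
  rw [gt_iff_lt, ← Nat.mul_lt_mul_right h (b := idx V R ^ 3)]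
  ring_nf

theorem map_inf_centralizer {f : H →* G} (hf : Function.Injective f) (A B : Subgroup H) :
    (A ⊓ centralizer (B : Set H)).map f = A.map f ⊓ centralizer (B.map f : Set G) := by
  ext x
  constructor
  · rintro ⟨a, ⟨ha, hb⟩, rfl⟩
    exact ⟨⟨a, ha, rfl⟩, (comap_centralizer hf B).ge hb⟩
  · rintro ⟨⟨a, ha, rfl⟩, hb⟩
    exact ⟨a, ⟨ha, (comap_centralizer hf B).le hb⟩, rfl⟩

theorem eCond_map {f : H →* G} (hf : Function.Injective f) {V U : Subgroup H} :
    ECond (V.map f) (U.map f) ↔ ECond V U := by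
  have hC : ∀ R : Subgroup H, R ≤ centralizer (V : Set H) ↔
      R.map f ≤ centralizer (V.map f : Set G) := fun R => by
    rw [map_le_iff_le_comap, comap_centralizer hf]
  have hi : ∀ R : Subgroup H, (idx (V.map f) (R.map f) ^ 3 < idx (R.map f) (V.map f) ^ 2 ∧
      Nat.card ↥(R.map f) < Nat.card ↥⁅V.map f, R.map f⁆ *
        Nat.card ↥(R.map f ⊓ centralizer (V.map f : Set G))) ↔
      (idx V R ^ 3 < idx R V ^ 2 ∧
        Nat.card R < Nat.card ↥⁅V, R⁆ * Nat.card ↥(R ⊓ centralizer (V : Set H))) := fun R => by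
    rw [idx_map hf, idx_map hf, ← map_commutator, ← map_inf_centralizer hf,
      card_map_of_injective hf, card_map_of_injective hf, card_map_of_injective hf]
  constructor
  · intro h R hR h1 h2 h3
    refine (hi R).1 (h _ (map_mono hR) ?_ ?_ fun h' => h3 ((hC R).2 h'))
    · rw [← map_commutator]; exact (hC _).1 h1
    · rintro _ ⟨r, hr, rfl⟩
      rw [← map_pow, ← mem_comap, comap_centralizer hf]
      exact h2 r hr
  · intro h R hR h1 h2 h3
    obtain ⟨R, hR', rfl⟩ : ∃ R' : Subgroup H, R' ≤ U ∧ R'.map f = R := ⟨R.comap f, fun x hx => by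
      obtain ⟨y, hy, e⟩ := hR (mem_comap.1 hx)
      rwa [← hf e], map_comap_eq_self (hR.trans (map_le_range f U))⟩
    rw [← map_commutator] at h1
    refine (hi R).2 (h R hR' ((hC _).2 h1) (fun r hr => ?_) fun h' => h3 ((hC R).1 h'))
    have := h2 _ ⟨r, hr, rfl⟩
    rwa [← map_pow, ← mem_comap, comap_centralizer hf] at this

/-- The definition, through an embedding. -/
theorem isEGroup_iff {T : Type u} [Group T] [Finite T] {f : T →* G} (hf : Function.Injective f) :
    Cfsg.IsEGroup T ↔ IsE f.range := by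
  have hcond : ∀ V : Subgroup T,
      (∀ R : Subgroup T,
        ⁅R, R⁆ ≤ centralizer (V : Set T) → (∀ r ∈ R, r ^ 2 ∈ centralizer (V : Set T)) →
        ¬ R ≤ centralizer (V : Set T) →
          (Nat.card V) ^ 2 * (Nat.card ↥(R ⊓ centralizer (V : Set T))) ^ 3 >
              (Nat.card R) ^ 3 * (Nat.card ↥(V ⊓ centralizer (R : Set T))) ^ 2 ∧
            Nat.card ↥⁅V, R⁆ * Nat.card ↥(R ⊓ centralizer (V : Set T)) > Nat.card R) ↔
      ECond (V.map f) f.range := fun V => by
    rw [MonoidHom.range_eq_map, eCond_map hf]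
    exact ⟨fun h R _ h1 h2 h3 => ⟨(card_eq_idx V R).1 (h R h1 h2 h3).1, (h R h1 h2 h3).2⟩,
      fun h R h1 h2 h3 => ⟨(card_eq_idx V R).2 (h R le_top h1 h2 h3).1, (h R le_top h1 h2 h3).2⟩⟩
  constructor
  · intro h V' hV' hn hVe hc
    obtain ⟨V, rfl⟩ : ∃ V : Subgroup T, V.map f = V' := ⟨V'.comap f, map_comap_eq_self hV'⟩
    have hnor : V.Normal := ⟨fun v hv t => by
      have h1 := (mem_normalizer_iff.1 (hn ⟨t, rfl⟩) (f v)).1 ⟨v, hv, rfl⟩
      obtain ⟨w, hw, e⟩ := h1
      rw [← map_inv, ← map_mul, ← map_mul] at e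
      rwa [← hf e]⟩
    have hle := h V hnor (elementary_of_map hf hVe) ((hcond V).2 hc)
    rintro _ ⟨v, hv, rfl⟩ _ ⟨t, rfl⟩
    rw [← map_mul, ← map_mul, mem_center_iff.1 (hle hv) t]
  · intro h V hnor hVe hc v hv
    have hle := h (V.map f) (map_le_range f V) (by
      rintro _ ⟨t, rfl⟩
      rw [MonoidHom.range_eq_map] at *
      exact le_normalizer_map f ⟨t, (normalizer_eq_top V).ge (mem_top t), rfl⟩)
      (elementary_map hVe) ((hcond V).1 hc)
    exact mem_center_iff.2 fun t => hf (by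
      rw [map_mul, map_mul]; exact hle (mem_map_of_mem f hv) (f t) (MonoidHom.mem_range.2 ⟨t, rfl⟩))

theorem isE_map {f : H →* G} (hf : Function.Injective f) {U : Subgroup H} :
    IsE (U.map f) ↔ IsE U := by
  have h1 := isEGroup_iff (T := ↥U) U.subtype_injective
  have h2 := isEGroup_iff (T := ↥U) (f := f.comp U.subtype) (hf.comp U.subtype_injective)
  rw [range_subtype] at h1
  rw [MonoidHom.range_comp, range_subtype] at h2
  exact h2.symm.trans h1

theorem exists_conj_le_sylow (S : Sylow 2 G) {X : Subgroup G} (hX : IsPGroup 2 ↥X) :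
    ∃ g : G, X.map (MulAut.conj g).toMonoidHom ≤ (S : Subgroup G) := by
  haveI : Fact (Nat.Prime 2) := ⟨Nat.prime_two⟩
  obtain ⟨T, hT⟩ := hX.exists_le_sylow
  obtain ⟨g, rfl⟩ := MulAction.exists_smul_eq G T S
  exact ⟨g, map_mono hT⟩

theorem IsMax.conj {A : Subgroup G} (h : IsMax A) (g : G) :
    IsMax (A.map (MulAut.conj g).toMonoidHom) :=
  IsMax.of_map (f := (MulAut.conj g⁻¹).toMonoidHom) (MulEquiv.injective _)
    (by rwa [map_conj_conj, inv_mul_cancel, map_conj_one])

theorem exists_isMax_le (S : Sylow 2 G) : ∃ A : Subgroup G, IsMax A ∧ A ≤ (S : Subgroup G) := by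
  obtain ⟨A, hA, hmax⟩ := Set.exists_max_image {A : Subgroup G | Cfsg.IsElementaryAbelian 2 A}
    (fun A => Nat.card A) (Set.toFinite _)
    ⟨⊥, inferInstance, fun a ha => by rw [mem_bot.1 ha, one_pow]⟩
  obtain ⟨g, hg⟩ := exists_conj_le_sylow S (elem_isPGroup hA)
  exact ⟨_, IsMax.conj ⟨hA, hmax⟩ g, hg⟩

/-- The subgroup generated by the largest elementary abelian subgroups inside `T`. -/
def jMax (T : Subgroup G) : Subgroup G := sSup {A | IsMax A ∧ A ≤ T}

theorem jMax_le (T : Subgroup G) : jMax T ≤ T := sSup_le fun _ h => h.2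

theorem le_jMax {A T : Subgroup G} (hA : IsMax A) (h : A ≤ T) : A ≤ jMax T := le_sSup ⟨hA, h⟩

theorem thompsonSubgroupOf_eq (T : Subgroup G) (hT : ∃ A, IsMax A ∧ A ≤ T) :
    Cfsg.thompsonSubgroupOf 2 T = jMax T := by
  obtain ⟨A0, hA0, hA0T⟩ := hT
  refine le_antisymm ?_ (sSup_le fun A ⟨hA, hAT⟩ => ?_)
  · rw [Cfsg.thompsonSubgroupOf, map_le_iff_le_comap]
    refine sSup_le fun B hB => ?_
    rw [← map_le_iff_le_comap]
    refine le_jMax ⟨elementary_map hB.1, fun E hE => (hA0.2 E hE).trans ?_⟩ (map_subtype_le B)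
    rw [card_map_of_injective T.subtype_injective]
    have h := hB.2 (A0.subgroupOf T) (elementary_of_map T.subtype_injective
      (by rw [map_subgroupOf_eq_of_le hA0T]; exact hA0.1))
    rwa [Nat.card_congr (subgroupOfEquivOfLe hA0T).toEquiv] at h
  · intro a ha
    refine ⟨⟨a, hAT ha⟩, (show A.subgroupOf T ≤ Cfsg.thompsonSubgroup 2 ↥T from
      le_sSup (a := A.subgroupOf T) (show A.subgroupOf T ∈ Cfsg.maxElementaryAbelianSubgroups 2 ↥T from
        ⟨elementary_of_map T.subtype_injective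
          (by rw [map_subgroupOf_eq_of_le hAT]; exact hA.1), fun B hB => ?_⟩)) (mem_subgroupOf.2 ha), rfl⟩
    rw [Nat.card_congr (subgroupOfEquivOfLe hAT).toEquiv, ← card_map_of_injective T.subtype_injective]
    exact hA.2 _ (elementary_map hB)

theorem conj_jMax (T : Subgroup G) (g : G) :
    (jMax T).map (MulAut.conj g).toMonoidHom = jMax (T.map (MulAut.conj g).toMonoidHom) := by
  refine le_antisymm ?_ (sSup_le fun A ⟨hA, hAT⟩ => ?_)
  · rw [map_le_iff_le_comap]
    refine sSup_le fun A ⟨hA, hAT⟩ => ?_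
    rw [← map_le_iff_le_comap]
    exact le_jMax (hA.conj g) (map_mono hAT)
  · have hle : A.map (MulAut.conj g⁻¹).toMonoidHom ≤ jMax T := by
      refine le_jMax (hA.conj _) ?_
      have := map_mono (f := (MulAut.conj g⁻¹).toMonoidHom) hAT
      rwa [map_conj_conj, inv_mul_cancel, map_conj_one] at this
    have := map_mono (f := (MulAut.conj g).toMonoidHom) hle
    rwa [map_conj_conj, mul_inv_cancel, map_conj_one] at this

/-- The subgroup generated by the E-subgroups of `T` over `jMax T`. -/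
def jE (T : Subgroup G) : Subgroup G := sSup {U | U ≤ T ∧ IsE U ∧ jMax T ≤ U}

theorem jHat_map_eq (T : Subgroup G) (hT : ∃ A, IsMax A ∧ A ≤ T) :
    (Cfsg.jHat ↥T).map T.subtype = jE T := by
  have hth : (Cfsg.thompsonSubgroup 2 ↥T).map T.subtype = jMax T := thompsonSubgroupOf_eq T hT
  have hiff : ∀ U : Subgroup ↥T, Cfsg.IsEGroup ↥U ↔ IsE (U.map T.subtype) := fun U => by
    rw [isEGroup_iff (f := T.subtype.comp U.subtype) (T.subtype_injective.comp U.subtype_injective),
      MonoidHom.range_comp, range_subtype]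
  refine le_antisymm ?_ (sSup_le fun U ⟨hUT, hUE, hJU⟩ => ?_)
  · rw [map_le_iff_le_comap, Cfsg.jHat]
    refine sSup_le fun U hU => ?_
    rw [← map_le_iff_le_comap]
    exact le_sSup ⟨map_subtype_le U, (hiff U).1 hU.1, hth ▸ map_mono hU.2⟩
  · rw [← map_subgroupOf_eq_of_le hUT]
    refine map_mono (le_sSup ⟨(hiff _).2 (by rwa [map_subgroupOf_eq_of_le hUT]), fun x hx => ?_⟩)
    exact mem_subgroupOf.2 (hJU (hth ▸ mem_map_of_mem _ hx))

theorem conj_jE (T : Subgroup G) (g : G) :
    (jE T).map (MulAut.conj g).toMonoidHom = jE (T.map (MulAut.conj g).toMonoidHom) := by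
  refine le_antisymm ?_ (sSup_le fun U ⟨hUT, hUE, hJU⟩ => ?_)
  · rw [map_le_iff_le_comap]
    refine sSup_le fun U ⟨hUT, hUE, hJU⟩ => ?_
    rw [← map_le_iff_le_comap]
    exact le_sSup ⟨map_mono hUT, (isE_map (MulEquiv.injective _)).2 hUE,
      (conj_jMax T g).ge.trans (map_mono hJU)⟩
  · have hle : U.map (MulAut.conj g⁻¹).toMonoidHom ≤ jE T := by
      refine le_sSup ⟨?_, (isE_map (MulEquiv.injective _)).2 hUE, ?_⟩
      · have := map_mono (f := (MulAut.conj g⁻¹).toMonoidHom) hUT
        rwa [map_conj_conj, inv_mul_cancel, map_conj_one] at this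
      · have := map_mono (f := (MulAut.conj g⁻¹).toMonoidHom) hJU
        rwa [conj_jMax, map_conj_conj, inv_mul_cancel, map_conj_one] at this
    have := map_mono (f := (MulAut.conj g).toMonoidHom) hle
    rwa [map_conj_conj, mul_inv_cancel, map_conj_one] at this

/-- `J_e` is an E-subgroup. -/
theorem isE_jMax (T : Subgroup G) : IsE (jMax T) := by
  intro V hV hn hVe hc
  have hle : jMax T ≤ centralizer (V : Set G) := sSup_le fun A ⟨hA, hAT⟩ => by
    by_contra h
    obtain ⟨h1, -⟩ := hc A (le_jMax hA hAT) (elem_commutator_le hA.1 _)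
      (fun a ha => by rw [hA.1.2 a ha]; exact one_mem _) h
    have h3 : idx V A ^ 2 ≤ idx V A ^ 3 := Nat.pow_le_pow_right (idx_pos _ _) (by norm_num)
    have h4 : idx A V ^ 2 ≤ idx V A ^ 2 := Nat.pow_le_pow_left (hA.idx_le hVe) 2
    omega
  exact fun v hv j hj => (hle hj v hv).symm

theorem jMax_le_jE (T : Subgroup G) : jMax T ≤ jE T :=
  le_sSup ⟨jMax_le T, isE_jMax T, le_rfl⟩

/-- A normal subgroup over `C` with 2-powers in `C` is generated by `C` and a Sylow part. -/
theorem le_sup_sylow (S : Sylow 2 G) {C N : Subgroup G} [C.Normal] [N.Normal] (hCN : C ≤ N)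
    (hpow : ∀ g ∈ N, ∃ e : ℕ, g ^ 2 ^ e ∈ C) : N ≤ C ⊔ ((S : Subgroup G) ⊓ N) := by
  haveI : Fact (Nat.Prime 2) := ⟨Nat.prime_two⟩
  rw [← relIndex_eq_one]
  have hp : IsPGroup 2 ↥(N.map (QuotientGroup.mk' C)) := by
    rintro ⟨_, g, hg, rfl⟩
    obtain ⟨e, he⟩ := hpow g hg
    exact ⟨e, Subtype.ext (by
      rw [SubmonoidClass.coe_pow, ← map_pow]; exact (QuotientGroup.eq_one_iff _).2 he)⟩
  obtain ⟨e, he⟩ := hp.exists_card_eq
  have h0 : C.relIndex N = 2 ^ e := by rw [← he, ← Subgroup.relIndex_ker, QuotientGroup.ker_mk']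
  have h1 : (C ⊔ ((S : Subgroup G) ⊓ N)).relIndex N ∣ 2 ^ e :=
    h0 ▸ Dvd.intro_left _ (relIndex_mul_relIndex C _ N le_sup_left (sup_le hCN inf_le_right))
  have h2 : (C ⊔ ((S : Subgroup G) ⊓ N)).relIndex N ∣ ((S : Subgroup G) ⊓ N).relIndex N :=
    Dvd.intro_left _ (relIndex_mul_relIndex _ _ N le_sup_right (sup_le hCN inf_le_right))
  refine Nat.eq_one_of_dvd_coprimes ?_ h1 h2
  exact (Nat.prime_two.coprime_iff_not_dvd.2 (odd_relIndex S N)).pow_left e

theorem Good.of_equiv (h : Good G) (e : G ≃* H) : Good H := by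
  refine ⟨fun x hx => ?_, fun hI => h.free (Fusion.LocalModels.involves_of_injective e.symm.toMonoidHom
    e.symm.injective hI), FactorList.quotient (f := e.toMonoidHom) h.listed e.surjective⟩
  obtain ⟨g, rfl⟩ := e.surjective x
  rw [← PLocal.Cores.map_pCore_equiv e] at hx ⊢
  refine mem_map_of_mem _ (h.constrained fun q hq => e.injective ?_)
  rw [map_mul, map_mul]
  exact hx _ ⟨q, hq, rfl⟩

/-- The first two factorizations. -/
theorem factor_center (hG : Good G) (S : Sylow 2 G) (g : G) :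
    ∃ c ∈ centralizer ((((S : Subgroup G) ⊓ centralizer ((S : Subgroup G) : Set G)) : Subgroup G) : Set G),
      ∃ n : G, n ∈ normalizer (jMax (S : Subgroup G) : Set G) ∧
        n ∈ normalizer (jE (S : Subgroup G) : Set G) ∧ g = c * n := by
  classical
  haveI : Fact (Nat.Prime 2) := ⟨Nat.prime_two⟩
  set Q := Cfsg.pCore 2 G with hQ
  have hQS : Q ≤ (S : Subgroup G) := PLocal.Cores.pCore_le_sylow S
  set Z := (S : Subgroup G) ⊓ centralizer ((S : Subgroup G) : Set G) with hZ
  have hZQ : Z ≤ centralizer (Q : Set G) := inf_le_right.trans (centralizer_le hQS)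
  set W := normalClosure (Z : Set G) with hW
  have hWQC : W ≤ Q ⊓ centralizer (Q : Set G) :=
    normalClosure_le_normal fun z hz => ⟨hG.constrained (hZQ hz), hZQ hz⟩
  have hWc : ∀ x ∈ W, ∀ y ∈ W, Commute x y := fun x hx y hy =>
    ((hWQC hy).2 x (hWQC hx).1)
  set V := Cfsg.omegaOne 2 W with hV
  have hVW : V ≤ W := (closure_le W).2 fun x hx => hx.1
  have hVe : Cfsg.IsElementaryAbelian 2 V := by
    let E : Subgroup G :=
      { carrier := {x | x ∈ W ∧ x ^ 2 = 1}
        one_mem' := ⟨one_mem _, one_pow 2⟩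
        mul_mem' := fun {x y} hx hy => ⟨mul_mem hx.1 hy.1, by
          rw [(hWc x hx.1 y hy.1).mul_pow, hx.2, hy.2, one_mul]⟩
        inv_mem' := fun {x} hx => ⟨inv_mem hx.1, by rw [inv_pow, hx.2, inv_one]⟩ }
    have hE : V ≤ E := (closure_le E).2 fun x hx => hx
    exact ⟨⟨⟨fun a b => Subtype.ext (hWc a (hVW a.2) b (hVW b.2)).eq⟩⟩, fun a ha => (hE ha).2⟩
  haveI hVn : V.Normal := ⟨fun v hv x => by
    have hle : V ≤ V.comap (MulAut.conj x).toMonoidHom := (closure_le _).2 fun w hw =>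
      subset_closure ⟨(inferInstance : W.Normal).conj_mem w hw.1 x, by
        show (x * w * x⁻¹) ^ 2 = 1
        rw [conj_pow, hw.2, mul_one, mul_inv_cancel]⟩
    exact hle hv⟩
  set C := centralizer (V : Set G) with hC
  haveI : C.Normal := inferInstance
  have hodd : ∀ y ∈ C, Odd (orderOf y) → y ∈ centralizer (W : Set G) := by
    intro y hy ho
    have key : ∀ m : ℕ, ∀ w ∈ W, orderOf w = m → Commute y w := by
      intro m
      induction m using Nat.strong_induction_on with
      | _ m ihm =>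
        intro w hw hm
        by_cases h1 : w ^ 2 = 1
        · exact (hy w (subset_closure ⟨hw, h1⟩)).symm
        have hlt : orderOf (w ^ 2) < m := by
          have h2 : 2 ∣ orderOf w := by
            obtain ⟨k, hk⟩ := (PLocal.Cores.isPGroup_pCore (p := 2) (G := G)) ⟨w, (hWQC hw).1⟩
            have hk' : w ^ 2 ^ k = 1 := congrArg Subtype.val hk
            obtain ⟨i, -, hi⟩ := (Nat.dvd_prime_pow Nat.prime_two).1 (orderOf_dvd_of_pow_eq_one hk')
            rcases i with _ | i
            · rw [pow_zero, orderOf_eq_one_iff] at hi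
              exact absurd (by rw [hi, one_pow]) h1
            · exact hi ▸ dvd_pow_self 2 i.succ_ne_zero
          rw [orderOf_pow' w two_ne_zero, Nat.gcd_eq_right h2, ← hm]
          exact Nat.div_lt_self (orderOf_pos w) one_lt_two
        have h2 := ihm _ hlt (w ^ 2) (pow_mem hw 2) rfl
        set c := y * w * y⁻¹ * w⁻¹ with hc
        have hywW : y * w * y⁻¹ ∈ W := (inferInstance : W.Normal).conj_mem w hw y
        have hcV : c ∈ V := by
          refine subset_closure ⟨mul_mem hywW (inv_mem hw), ?_⟩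
          show c ^ 2 = 1
          rw [hc, (hWc _ hywW _ (inv_mem hw)).mul_pow, conj_pow, inv_pow, h2.eq, mul_inv_cancel_right,
            mul_inv_cancel]
        exact commute_of_chain (fun v hv => (hy v hv).symm) hcV (elem_isPGroup hVe) ho
    exact fun w hw => ((key _ w hw rfl).eq).symm
  -- `O₂(G / C(W))` is trivial
  have hpow : ∀ x ∈ C, ∃ e : ℕ, x ^ 2 ^ e ∈ centralizer (W : Set G) := fun x hx => by
    obtain ⟨k, m, hm, hkm⟩ := Nat.exists_eq_pow_mul_and_not_dvd (orderOf_pos x).ne' 2 (by norm_num)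
    refine ⟨k, hodd _ (pow_mem hx _) ?_⟩
    rw [orderOf_pow' x (pow_ne_zero _ two_ne_zero), hkm, Nat.gcd_eq_right (Dvd.intro m rfl),
      Nat.mul_div_cancel_left m (Nat.pow_pos two_pos)]
    exact Nat.odd_iff.2 (Nat.two_dvd_ne_zero.1 hm)
  have hred : ∀ N : Subgroup G, N.Normal → centralizer (W : Set G) ≤ N →
      (∀ x ∈ N, ∃ e : ℕ, x ^ 2 ^ e ∈ centralizer (W : Set G)) → N ≤ centralizer (W : Set G) := by
    intro N hN hle hp
    have hNZ : N ≤ centralizer (Z : Set G) := (le_sup_sylow S hle hp).trans (sup_le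
      (centralizer_le subset_normalClosure) (inf_le_left.trans fun s hs z hz => (hz.2 s hs).symm))
    intro x hx
    have hWx : W ≤ centralizer ({x} : Set G) := (closure_le _).2 fun w hw => by
      obtain ⟨z, hz, hc⟩ := Group.mem_conjugatesOfSet_iff.1 hw
      obtain ⟨c, rfl⟩ := isConj_iff.1 hc
      refine mem_centralizer_singleton_iff.2 ?_
      have h1 : z * (c⁻¹ * x * c) = c⁻¹ * x * c * z := hNZ (by simpa using hN.conj_mem x hx c⁻¹) z hz
      calc c * z * c⁻¹ * x = c * (z * (c⁻¹ * x * c)) * c⁻¹ := by group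
        _ = c * (c⁻¹ * x * c * z) * c⁻¹ := by rw [h1]
        _ = _ := by group
    exact fun w hw => mem_centralizer_singleton_iff.1 (hWx hw)
  have hCW : C ≤ centralizer (W : Set G) := hred C inferInstance (centralizer_le hVW) hpow
  have hQC : Q ≤ C := fun q hq v hv => ((hWQC (hVW hv)).2 q hq).symm
  have hcost : ∀ R : Subgroup G, (∀ a ∈ R, ∀ b ∈ R, ⁅a, b⁆ ∈ C) → (∀ a ∈ R, a ^ 2 ∈ C) →
      idx V R ^ 2 ≤ idx R V ∧ idx V R ^ 2 ≤ Nat.card ↥⁅V, R⁆ := by
    intro R h1 h2
    obtain ⟨hb1, hb2⟩ := cost hG (MonoidHom.id G) hVe (by rw [normalizer_eq_top]; exact le_top)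
      (by rw [comap_id]; exact hQC)
      (fun N hN hle hp => by
        rw [comap_id] at hle hp ⊢
        exact (hred N hN ((centralizer_le hVW).trans hle) fun x hx => by
          obtain ⟨e, he⟩ := hp x hx
          exact ⟨e, hCW he⟩).trans (centralizer_le hVW))
      (A := R) (by rw [comap_id]; exact h1) (by rw [comap_id]; exact h2)
    simp only [comap_id, Subgroup.map_id] at hb1 hb2
    refine ⟨?_, hb2⟩
    rw [← idx_mul_card R V] at hb1
    exact Nat.le_of_mul_le_mul_right hb1 Nat.card_pos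
  have hAC : ∀ A, IsMax A → A ≤ C := by
    intro A hA
    obtain ⟨h1, -⟩ := hcost A
      (fun a ha b hb => by
        rw [commutatorElement_eq_one_iff_mul_comm.2 (elem_comm hA.1 ha hb).eq]; exact one_mem _)
      (fun a ha => by rw [hA.1.2 a ha]; exact one_mem _)
    have h2 : idx V A ^ 2 ≤ idx V A * 1 := by rw [mul_one]; exact h1.trans (hA.idx_le hVe)
    rw [pow_two] at h2
    exact idx_eq_one.1 (le_antisymm (Nat.le_of_mul_le_mul_left h2 (idx_pos _ _)) (idx_pos _ _))
  have hVA : ∀ A, IsMax A → V ≤ A := fun A hA =>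
    (eq_of_le_of_card_ge (le_sup_left (b := V))
      (hA.2 _ (elementary_sup hA.1 hVe (hAC A hA)))).ge.trans' le_sup_right
  obtain ⟨A0, hA0, hA0S⟩ := exists_isMax_le S
  have hEC : ∀ U : Subgroup G, U ≤ (S : Subgroup G) → IsE U → jMax (S : Subgroup G) ≤ U → U ≤ C := by
    intro U hUS hUE hJU
    have hVU : V ≤ U := (hVA A0 hA0).trans ((le_jMax hA0 hA0S).trans hJU)
    have h := hUE V hVU (by rw [normalizer_eq_top]; exact le_top) hVe fun R hR h1 h2 h3 => by
      obtain ⟨hi, hc⟩ := hcost R (fun a ha b hb => h1 (commutator_mem_commutator ha hb)) h2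
      have h4 : 2 ≤ idx V R := by
        have := idx_pos V R
        have : idx V R ≠ 1 := fun e => h3 (idx_eq_one.1 e)
        omega
      constructor
      · calc idx V R ^ 3 < idx V R ^ 4 := Nat.pow_lt_pow_right h4 (by norm_num)
          _ = (idx V R ^ 2) ^ 2 := by ring
          _ ≤ _ := Nat.pow_le_pow_left hi 2
      · calc Nat.card R = idx V R * Nat.card ↥(R ⊓ centralizer (V : Set G)) := (idx_mul_card V R).symm
          _ < idx V R ^ 2 * Nat.card ↥(R ⊓ centralizer (V : Set G)) :=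
              Nat.mul_lt_mul_of_pos_right (lt_self_pow₀ h4 one_lt_two) Nat.card_pos
          _ ≤ _ := Nat.mul_le_mul_right _ hc
    exact fun x hx v hv => (h hv x hx).symm
  set T := (S : Subgroup G) ⊓ C with hT
  have hJ : jMax (S : Subgroup G) = jMax T := le_antisymm
    (sSup_le fun A ⟨hA, hAS⟩ => le_jMax hA (le_inf hAS (hAC A hA)))
    (sSup_le fun A ⟨hA, hAT⟩ => le_jMax hA (hAT.trans inf_le_left))
  have hE : jE (S : Subgroup G) = jE T := by
    refine le_antisymm (sSup_le fun U ⟨hUS, hUE, hJU⟩ => le_sSup ⟨le_inf hUS (hEC U hUS hUE hJU), hUE, hJ ▸ hJU⟩) ?_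
    exact sSup_le fun U ⟨hUT, hUE, hJU⟩ => le_sSup ⟨hUT.trans inf_le_left, hUE, hJ.le.trans hJU⟩
  obtain ⟨c, hc, k, hk, rfl⟩ :=
    mem_sup_of_normal_left.1 ((sup_comm _ _).le.trans' (normalizer_sup_eq_top S C).ge (mem_top g))
  refine ⟨c, centralizer_le subset_normalClosure (hCW hc), k, ?_, ?_, rfl⟩
  · rw [hJ, mem_normalizer_iff_map_conj_eq]
    exact (conj_jMax T k).trans (congrArg jMax (mem_normalizer_iff_map_conj_eq.1 hk))
  · rw [hE, mem_normalizer_iff_map_conj_eq]
    exact (conj_jE T k).trans (congrArg jE (mem_normalizer_iff_map_conj_eq.1 hk))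

/-- The third factorization. -/
theorem factor_omega (hG : Good G) (S : Sylow 2 G) (g : G) :
    ∃ c ∈ centralizer ((Cfsg.omegaOne 2 (jE (S : Subgroup G) ⊓
        centralizer (jE (S : Subgroup G) : Set G)) : Subgroup G) : Set G),
      ∃ n ∈ normalizer (jMax (S : Subgroup G) : Set G), g = c * n := by
  classical
  haveI : Fact (Nat.Prime 2) := ⟨Nat.prime_two⟩
  set J := jMax (S : Subgroup G) with hJ
  set E := jE (S : Subgroup G) with hE
  set D := Cfsg.omegaOne 2 (E ⊓ centralizer (E : Set G)) with hD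
  have hDE : D ≤ E ⊓ centralizer (E : Set G) := (closure_le _).2 fun x hx => hx.1
  have hDc : ∀ x ∈ D, ∀ y ∈ D, Commute x y := fun x hx y hy => ((hDE hy).2 x (hDE hx).1)
  have hDe : Cfsg.IsElementaryAbelian 2 D := by
    let F : Subgroup G :=
      { carrier := {x | x ∈ E ⊓ centralizer (E : Set G) ∧ x ^ 2 = 1}
        one_mem' := ⟨one_mem _, one_pow 2⟩
        mul_mem' := fun {x y} hx hy => ⟨mul_mem hx.1 hy.1, by
          rw [(show Commute x y from hy.1.2 x hx.1.1).mul_pow, hx.2, hy.2, one_mul]⟩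
        inv_mem' := fun {x} hx => ⟨inv_mem hx.1, by rw [inv_pow, hx.2, inv_one]⟩ }
    have hF : D ≤ F := (closure_le F).2 fun x hx => hx
    exact ⟨⟨⟨fun a b => Subtype.ext (hDc a a.2 b b.2).eq⟩⟩, fun a ha => (hF ha).2⟩
  obtain ⟨A0, hA0, hA0S⟩ := exists_isMax_le S
  have hDJ : D ≤ J := by
    have h1 : A0 ≤ centralizer (D : Set G) := fun a ha d hd =>
      ((hDE hd).2 a (jMax_le_jE _ (le_jMax hA0 hA0S ha))).symm
    exact ((eq_of_le_of_card_ge (le_sup_left (b := D))
      (hA0.2 _ (elementary_sup hA0.1 hDe h1))).ge.trans' le_sup_right).trans (le_jMax hA0 hA0S)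
  suffices ∀ (n : ℕ) (K : Subgroup G), Nat.card K = n → J ≤ K → Good ↥K →
      IsSylIn 2 ((S : Subgroup G) ⊓ K) K → ∀ k ∈ K, ∃ c ∈ centralizer (D : Set G),
        ∃ m ∈ normalizer (J : Set G), k = c * m from
    this _ ⊤ rfl le_top (hG.of_equiv Subgroup.topEquiv.symm)
      (by rw [inf_top_eq]; exact isSylIn_top_iff.2 ⟨S, rfl⟩) g (mem_top g)
  intro n
  induction n using Nat.strong_induction_on with
  | _ n ih =>
  intro K hn hJK hGK hsyl k hk
  set L0 : Subgroup ↥K := normalClosure ((J.subgroupOf K : Subgroup ↥K) : Set ↥K) with hL0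
  by_cases hL : L0 = ⊤
  · -- every member of `K` centralises `D`
    refine ⟨k, ?_, 1, one_mem _, (mul_one k).symm⟩
    have hJT : J ≤ (S : Subgroup G) ⊓ K := le_inf (jMax_le _) hJK
    set T := (S : Subgroup G) ⊓ K
    have key : ∀ V : Subgroup G, V ≤ T → T ≤ normalizer (V : Set G) → Cfsg.IsElementaryAbelian 2 V →
        ECond V T → K ≤ centralizer (V : Set G) := by
      intro V hVT hTn hVe hc
      obtain ⟨T0, hT0⟩ := hsyl
      have hVK : V ≤ K := hVT.trans inf_le_right
      have eV : (V.subgroupOf K).map K.subtype = V := map_subgroupOf_eq_of_le hVK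
      have hT0n : (T0 : Subgroup ↥K) ≤ normalizer ((V.subgroupOf K : Subgroup ↥K) : Set ↥K) := by
        intro t ht
        rw [mem_normalizer_iff]
        intro u
        exact mem_normalizer_iff.1 (hTn (hT0.le ⟨t, ht, rfl⟩)) u
      have hcond : Cond (V.subgroupOf K) := cond_of_sylow T0 hT0n fun R hR h1 h2 h3 =>
        (((eCond_map K.subtype_injective).1 (by rw [eV, hT0]; exact hc)) R hR h1 h2 h3).1
      have hmax : ∀ A, IsMax A → A ≤ (S : Subgroup G) → A ≤ T := fun A hA hAS =>
        (le_jMax hA hAS).trans hJT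
      have hconj : ∀ x : ↥K, ∀ j ∈ J.subgroupOf K, x * j * x⁻¹ ∈ centralizer ((V.subgroupOf K : Subgroup ↥K) : Set ↥K) := by
        intro x
        have hle : J ≤ ((centralizer ((V.subgroupOf K : Subgroup ↥K) : Set ↥K)).comap
            (MulAut.conj x).toMonoidHom).map K.subtype := sSup_le fun A ⟨hA, hAS⟩ => by
          have hAK : A ≤ K := (hmax A hA hAS).trans inf_le_right
          have eA : (A.subgroupOf K).map K.subtype = A := map_subgroupOf_eq_of_le hAK
          have h := conj_le_centralizer hGK T0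
            (elementary_of_map K.subtype_injective (by rwa [eV])) hT0n hcond
            (IsMax.of_map K.subtype_injective (by rwa [eA]))
            (fun y hy => by
              obtain ⟨z, hz, e⟩ := hT0.ge (hmax A hA hAS (mem_subgroupOf.1 hy))
              rwa [← K.subtype_injective e]) x
          intro a ha
          exact ⟨⟨a, hAK ha⟩, map_le_iff_le_comap.1 h (mem_subgroupOf.2 ha), rfl⟩
        intro j hj
        obtain ⟨y, hy, e⟩ := hle (mem_subgroupOf.1 hj)
        rw [← K.subtype_injective e]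
        exact hy
      have hall : L0 ≤ centralizer ((V.subgroupOf K : Subgroup ↥K) : Set ↥K) :=
        (closure_le _).2 fun y hy => by
          obtain ⟨j, hj, hc⟩ := Group.mem_conjugatesOfSet_iff.1 hy
          obtain ⟨x, rfl⟩ := isConj_iff.1 hc
          exact hconj x j hj
      intro x hx v hv
      exact congrArg Subtype.val
        (hall (hL.ge (mem_top (⟨x, hx⟩ : ↥K))) ⟨v, hVK hv⟩ (mem_subgroupOf.2 hv))
    have hTE : IsE T := fun V hVT hTn hVe hc v hv t ht =>
      (key V hVT hTn hVe hc (inf_le_right (a := (S : Subgroup G)) ht) v hv).symm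
    have hTm : T ≤ E := le_sSup ⟨inf_le_left, hTE, hJT⟩
    have hTD : T ≤ centralizer (D : Set G) := fun t ht d hd => ((hDE hd).2 t (hTm ht)).symm
    exact key D (hDJ.trans hJT) (hTD.trans (centralizer_le_normalizer _)) hDe
      (fun R hR _ _ h3 => absurd (hR.trans hTD) h3) hk
  · set L := L0.map K.subtype with hLdef
    have hLK : L ≤ K := map_subtype_le _
    haveI : L0.Normal := normalClosure_normal
    have hlt : Nat.card L < n := by
      rw [hLdef, card_map_of_injective K.subtype_injective, ← hn]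
      exact lt_of_le_of_ne (Subgroup.card_le_card_group L0) fun h => hL (eq_top_of_card_eq L0 h)
    have hJL : J ≤ L := fun j hj =>
      ⟨⟨j, hJK hj⟩, subset_normalClosure (mem_subgroupOf.2 hj), rfl⟩
    have hKn : K ≤ normalizer (L : Set G) := fun x hx => by
      refine le_normalizer_map K.subtype ⟨⟨x, hx⟩, ?_, rfl⟩
      rw [normalizer_eq_top]; exact mem_top _
    have hsylL : IsSylIn 2 ((S : Subgroup G) ⊓ L) L := by
      have := hsyl.inf_normal hLK hKn
      rwa [inf_assoc, inf_eq_right.2 hLK] at this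
    have hGL : Good ↥L := (hGK.normal L0).of_equiv (equivMapOfInjective L0 K.subtype K.subtype_injective)
    haveI : (L.subgroupOf K).Normal := (normal_subgroupOf_iff_le_normalizer hLK).2 hKn
    obtain ⟨TL, hTL⟩ := hsylL
    obtain ⟨l, hl, m, hm, hklm⟩ : ∃ l ∈ L, ∃ m ∈ normalizer (((S : Subgroup G) ⊓ L : Subgroup G) : Set G),
        k = l * m := by
      have h1 := IsSylIn.conj (show IsSylIn 2 ((S : Subgroup G) ⊓ L) L from ⟨TL, hTL⟩) k
      rw [conj_map_of_mem (hKn hk)] at h1
      obtain ⟨a, ha, hag⟩ := h1.exists_conj ⟨TL, hTL⟩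
      refine ⟨a⁻¹, inv_mem ha, a * k, ?_, by group⟩
      exact mem_normalizer_of_conj_map (by rw [← conj_map_map]; exact hag)
    obtain ⟨c, hc, m', hm', hlc⟩ := ih _ hlt L rfl hJL hGL ⟨TL, hTL⟩ l hl
    refine ⟨c, hc, m' * m, mul_mem hm' ?_, by rw [hklm, hlc, mul_assoc]⟩
    have hJeq : jMax ((S : Subgroup G) ⊓ L) = J := le_antisymm
      (sSup_le fun A ⟨hA, hAT⟩ => le_jMax hA (hAT.trans inf_le_left))
      (sSup_le fun A ⟨hA, hAS⟩ => le_jMax hA (le_inf hAS ((le_jMax hA hAS).trans hJL)))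
    rw [← hJeq, mem_normalizer_iff_map_conj_eq]
    exact (conj_jMax _ m).trans (congrArg jMax (mem_normalizer_iff_map_conj_eq.1 hm))

end Cfsg.Agent.CharP.Square
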