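import Cfsg.Agent.Lib.CharP.SquareCore

/-!
In a group of characteristic two without a section `S₄` and with the listed composition factors,
every largest elementary abelian subgroup centralises, together with all its conjugates, each normal
elementary subgroup of a Sylow 2-subgroup that satisfies the square condition.
-/

set_option autoImplicit false
set_option linter.unusedSectionVars false
set_option linter.style.haveILetI false

namespace Cfsg.Agent.CharP.Square

open Subgroup
open Cfsg.Agent.CharP.FactorList (Listed)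
open scoped commutatorElement

universe u

variable {G : Type u} [Group G] [Finite G]

theorem card_sup_mul_inf (H K : Subgroup G) [K.Normal] :
    Nat.card ↥(H ⊔ K) * Nat.card ↥(H ⊓ K) = Nat.card H * Nat.card K := by
  have h1 : Nat.card K * K.relIndex (H ⊔ K) = Nat.card ↥(H ⊔ K) := by
    rw [← relIndex_bot_left, ← relIndex_bot_left, relIndex_mul_relIndex _ _ _ bot_le le_sup_right]
  have h2 : Nat.card ↥(H ⊓ K) * (H ⊓ K).relIndex H = Nat.card H := by
    rw [← relIndex_bot_left, ← relIndex_bot_left, relIndex_mul_relIndex _ _ _ bot_le inf_le_left]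
  rw [← h1, ← h2, relIndex_sup_right, inf_relIndex_left]
  ring

/-- The Frattini argument. -/
theorem normalizer_sup_eq_top (S : Sylow 2 G) (K : Subgroup G) [K.Normal] :
    normalizer (((S : Subgroup G) ⊓ K : Subgroup G) : Set G) ⊔ K = ⊤ := by
  haveI : Fact (Nat.Prime 2) := ⟨Nat.prime_two⟩
  obtain ⟨T, hT⟩ : IsSylIn 2 ((S : Subgroup G) ⊓ K) K :=
    (isSylIn_top_iff.2 ⟨S, rfl⟩).inf_normal le_top (by rw [normalizer_eq_top])
  rw [← hT]
  exact Sylow.normalizer_sup_eq_top T

theorem odd_relIndex (S : Sylow 2 G) (K : Subgroup G) [K.Normal] :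
    ¬ 2 ∣ ((S : Subgroup G) ⊓ K).relIndex K := by
  haveI : Fact (Nat.Prime 2) := ⟨Nat.prime_two⟩
  exact ((isSylIn_top_iff.2 ⟨S, rfl⟩).inf_normal le_top (by rw [normalizer_eq_top])).not_dvd

theorem listed_normalizer (hG : Listed G) (S : Sylow 2 G) (K : Subgroup G) [K.Normal] :
    Listed ↥(normalizer (((S : Subgroup G) ⊓ K : Subgroup G) : Set G)) := by
  haveI : Fact (Nat.Prime 2) := ⟨Nat.prime_two⟩
  set T := (S : Subgroup G) ⊓ K with hT
  set N := normalizer (T : Set G) with hN
  set f := (QuotientGroup.mk' K).comp N.subtype with hf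
  have hfs : Function.Surjective f := by
    intro q
    obtain ⟨g, rfl⟩ := QuotientGroup.mk'_surjective K q
    obtain ⟨n, hn, k, hk, rfl⟩ := mem_sup_of_normal_right.1 ((normalizer_sup_eq_top S K).ge (mem_top g))
    refine ⟨⟨n, hn⟩, ?_⟩
    show QuotientGroup.mk' K n = QuotientGroup.mk' K (n * k)
    rw [map_mul, show QuotientGroup.mk' K k = 1 from (QuotientGroup.eq_one_iff k).2 hk, mul_one]
  have hker : f.ker = K.subgroupOf N := by
    ext x
    rw [MonoidHom.mem_ker, mem_subgroupOf]
    exact QuotientGroup.eq_one_iff (x : G)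
  refine FactorList.extension hfs ?_ (FactorList.quotient hG (QuotientGroup.mk'_surjective K))
  set i := N.subtype.comp f.ker.subtype with hi
  have hinj : Function.Injective i := N.subtype_injective.comp f.ker.subtype_injective
  have hrange : i.range = N ⊓ K := by
    rw [hi, MonoidHom.range_eq_map, ← Subgroup.map_map, ← MonoidHom.range_eq_map, range_subtype, hker,
      subgroupOf_map_subtype, inf_comm]
  haveI hn : (T.comap i).Normal := ⟨fun x hx g => by
    rw [mem_comap, map_mul, map_mul, map_inv]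
    exact (mem_normalizer_iff.1 (g : ↥N).2 _).1 hx⟩
  refine FactorList.extension (QuotientGroup.mk'_surjective (T.comap i)) ?_ ?_
  · rw [QuotientGroup.ker_mk']
    exact FactorList.of_isPGroup (((S.2.to_le inf_le_left : IsPGroup 2 ↥T)).comap_of_injective i hinj)
  · refine FactorList.of_odd (Nat.not_even_iff_odd.1 fun he => odd_relIndex S K ?_)
    rw [even_iff_two_dvd, ← Subgroup.index, ← relIndex_top_right, relIndex_comap,
      ← MonoidHom.range_eq_map, hrange] at he
    have hTN : T ≤ N ⊓ K := le_inf le_normalizer inf_le_right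
    rw [← relIndex_mul_relIndex T (N ⊓ K) K hTN inf_le_right]
    exact dvd_mul_of_dvd_left he _

theorem listed_sup (hG : Listed G) (K A : Subgroup G) [K.Normal] (hA : IsPGroup 2 ↥A) :
    Listed ↥(K ⊔ A) := by
  set H := K ⊔ A
  set f := (QuotientGroup.mk' K).comp H.subtype with hf
  have hr : IsPGroup 2 f.range := by
    have : f.range ≤ A.map (QuotientGroup.mk' K) := by
      rw [hf, MonoidHom.range_comp, range_subtype]
      show (K ⊔ A).map _ ≤ _
      rw [Subgroup.map_sup, QuotientGroup.map_mk'_self, bot_sup_eq]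
    exact (hA.map _).to_le this
  refine FactorList.extension f.rangeRestrict_surjective ?_ (FactorList.of_isPGroup hr)
  rw [f.ker_rangeRestrict]
  let j : ↥f.ker →* ↥K :=
    (H.subtype.comp f.ker.subtype).codRestrict K fun x => (QuotientGroup.eq_one_iff _).1 x.2
  refine FactorList.of_injective (f := j) (FactorList.of_subnormal hG (inferInstance : K.Normal).isSubnormal)
    (fun x y h => Subtype.ext (Subtype.ext (congrArg (fun z : ↥K => (z : G)) h))) ?_
  have : j.range = ⊤ := eq_top_iff.2 fun k _ =>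
    ⟨⟨⟨k, mem_sup_left k.2⟩, (QuotientGroup.eq_one_iff _).2 k.2⟩, rfl⟩
  rw [this]
  exact IsSubnormal.top

/-- All conjugates of a largest elementary abelian subgroup centralise `V`. -/
theorem conj_le_centralizer (hG : Good G) (S : Sylow 2 G) {V A : Subgroup G}
    (hVe : Cfsg.IsElementaryAbelian 2 V) (hS : (S : Subgroup G) ≤ normalizer (V : Set G))
    (hV : Cond V) (hA : IsMax A) (hAS : A ≤ (S : Subgroup G)) (g : G) :
    A.map (MulAut.conj g).toMonoidHom ≤ centralizer (V : Set G) := by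
  suffices ∀ (n : ℕ) (G : Type u) [Group G] [Finite G], Nat.card G = n → Good G →
      ∀ (S : Sylow 2 G) (V A : Subgroup G), Cfsg.IsElementaryAbelian 2 V →
      (S : Subgroup G) ≤ normalizer (V : Set G) → Cond V → IsMax A → A ≤ (S : Subgroup G) →
      ∀ g : G, A.map (MulAut.conj g).toMonoidHom ≤ centralizer (V : Set G) from
    this _ G rfl hG S V A hVe hS hV hA hAS g
  intro n
  induction n using Nat.strong_induction_on with
  | _ n ih =>
  intro G _ _ hn hG S V A hVe hS hV hA hAS
  haveI : Fact (Nat.Prime 2) := ⟨Nat.prime_two⟩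
  set Q := Cfsg.pCore 2 G with hQ
  have hQS : Q ≤ (S : Subgroup G) := PLocal.Cores.pCore_le_sylow S
  have hVQ : V ≤ Q := le_pCore_of_cond hG S hVe hS hV
  have hQn : Q ≤ normalizer (V : Set G) := hQS.trans hS
  have hMe := span_elementary hVe hV hVQ hQn
  set M := span V with hM
  set C := centralizer (M : Set G) with hC
  have hAV : A ≤ centralizer (V : Set G) := le_centralizer_of_max hVe hV hA (hAS.trans hS)
  -- the induction hypothesis in a proper subgroup
  have useIH : ∀ K : Subgroup G, K ≠ ⊤ → Q ≤ K → Listed ↥K → ∀ T : Subgroup G, IsSylIn 2 T K →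
      ∀ U : Subgroup G, Cfsg.IsElementaryAbelian 2 U → U ≤ K → T ≤ normalizer (U : Set G) → Cond U →
      A ≤ T → ∀ k ∈ K, A.map (MulAut.conj k).toMonoidHom ≤ centralizer (U : Set G) := by
    intro K hK hQK hKl T hT U hUe hUK hTU hU hAT k hk
    obtain ⟨T0, rfl⟩ := hT
    have hlt : Nat.card K < n := hn ▸ lt_of_le_of_ne (Subgroup.card_le_card_group K)
      fun h => hK (eq_top_of_card_eq K h)
    have hAK : A ≤ K := hAT.trans (map_subtype_le _)
    have eU : (U.subgroupOf K).map K.subtype = U := map_subgroupOf_eq_of_le hUK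
    have eA : (A.subgroupOf K).map K.subtype = A := map_subgroupOf_eq_of_le hAK
    have h := ih _ hlt ↥K rfl (hG.sub hQK hKl) T0 (U.subgroupOf K) (A.subgroupOf K)
      (elementary_of_map K.subtype_injective (by rwa [eU]))
      (fun t ht => by
        rw [mem_normalizer_iff]
        intro u
        exact mem_normalizer_iff.1 (hTU ⟨t, ht, rfl⟩) u)
      (Cond.of_map K.subtype_injective (by rwa [eU]))
      (IsMax.of_map K.subtype_injective (by rwa [eA]))
      (fun x hx => by
        obtain ⟨y, hy, e⟩ := hAT (mem_subgroupOf.1 hx)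
        rwa [← K.subtype_injective e]) ⟨k, hk⟩
    rintro _ ⟨a, ha, rfl⟩ u hu
    exact congrArg Subtype.val
      (h ⟨⟨a, hAK ha⟩, mem_subgroupOf.2 ha, rfl⟩ ⟨u, hUK hu⟩ (mem_subgroupOf.2 hu))
  set P := (Cfsg.pCore 2 (G ⧸ C)).comap (QuotientGroup.mk' C) with hP
  haveI : P.Normal := (inferInstance : (Cfsg.pCore 2 (G ⧸ C)).Normal).comap _
  have hCP : C ≤ P := fun c hc => by
    rw [hP, mem_comap, QuotientGroup.mk'_apply, (QuotientGroup.eq_one_iff c).2 hc]; exact one_mem _
  have hPmax : ∀ N : Subgroup G, N.Normal → C ≤ N → (∀ g ∈ N, ∃ e : ℕ, g ^ 2 ^ e ∈ C) → N ≤ P := by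
    intro N hN _ hpow
    haveI := hN.map (QuotientGroup.mk' C) (QuotientGroup.mk'_surjective C)
    refine map_le_iff_le_comap.1 (PLocal.Cores.le_pCore ?_)
    rintro ⟨_, g, hg, rfl⟩
    obtain ⟨e, he⟩ := hpow g hg
    exact ⟨e, Subtype.ext (by
      rw [SubmonoidClass.coe_pow, ← map_pow]; exact (QuotientGroup.eq_one_iff _).2 he)⟩
  have hQP : Q ≤ P := by
    refine le_trans le_sup_right (hPmax (C ⊔ Q) inferInstance le_sup_left fun g hg => ?_)
    obtain ⟨c, hc, q, hq, rfl⟩ := mem_sup_of_normal_left.1 hg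
    obtain ⟨e, he⟩ := PLocal.Cores.isPGroup_pCore (p := 2) (⟨q, hq⟩ : ↥Q)
    refine ⟨e, (QuotientGroup.eq_one_iff _).1 ?_⟩
    have h1 := congrArg Subtype.val he
    rw [SubmonoidClass.coe_pow] at h1
    rw [QuotientGroup.mk_pow, QuotientGroup.mk_mul, (QuotientGroup.eq_one_iff c).2 hc, one_mul,
      ← QuotientGroup.mk_pow, h1]
    rfl
  have hPC : P = C ⊔ ((S : Subgroup G) ⊓ P) := by
    refine le_antisymm ?_ (sup_le hCP inf_le_right)
    rw [← relIndex_eq_one]
    obtain ⟨e, he⟩ : ∃ e, C.relIndex P = 2 ^ e := by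
      have h := (PLocal.Cores.isPGroup_pCore (p := 2) (G := G ⧸ C)).exists_card_eq
      obtain ⟨e, he⟩ := h
      refine ⟨e, ?_⟩
      have h1 : C.relIndex P = Nat.card (P.map (QuotientGroup.mk' C)) := by
        rw [← Subgroup.relIndex_ker, QuotientGroup.ker_mk']
      rw [h1, hP, map_comap_eq_self_of_surjective (QuotientGroup.mk'_surjective C), he]
    have h1 : (C ⊔ ((S : Subgroup G) ⊓ P)).relIndex P ∣ 2 ^ e :=
      he ▸ Dvd.intro_left _ (relIndex_mul_relIndex C _ P le_sup_left (sup_le hCP inf_le_right))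
    have h2 : (C ⊔ ((S : Subgroup G) ⊓ P)).relIndex P ∣ ((S : Subgroup G) ⊓ P).relIndex P :=
      Dvd.intro_left _ (relIndex_mul_relIndex _ _ P le_sup_right (sup_le hCP inf_le_right))
    refine Nat.eq_one_of_dvd_coprimes ?_ h1 h2
    exact (Nat.prime_two.coprime_iff_not_dvd.2 (odd_relIndex S P)).pow_left e
  intro g
  by_cases hN : normalizer (((S : Subgroup G) ⊓ P : Subgroup G) : Set G) = ⊤
  swap
  · set N := normalizer (((S : Subgroup G) ⊓ P : Subgroup G) : Set G) with hNdef
    have hNC : C ⊔ N = ⊤ := by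
      rw [eq_top_iff, ← normalizer_sup_eq_top S P, ← hNdef]
      refine sup_le le_sup_right ?_
      rw [hPC]
      exact sup_le le_sup_left (le_trans le_normalizer le_sup_right)
    obtain ⟨c, hc, k, hk, rfl⟩ := mem_sup_of_normal_left.1 (hNC.ge (mem_top g))
    have hSN : (S : Subgroup G) ≤ N := fun s hs => mem_normalizer_iff_map_conj_eq.2 (by
      rw [map_inf _ _ _ (MulAut.conj s).injective, mem_normalizer_iff_map_conj_eq.1 (le_normalizer hs),
        mem_normalizer_iff_map_conj_eq.1 ((normalizer_eq_top P).ge (mem_top s))])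
    have h := useIH N hN (hQS.trans hSN) (listed_normalizer hG.listed S P) S
      ((isSylIn_top_iff.2 ⟨S, rfl⟩).mono hSN le_top) V hVe (hVQ.trans (hQS.trans hSN)) hS hV hAS k hk
    rintro _ ⟨a, ha, rfl⟩ v hv
    show v * (c * k * a * (c * k)⁻¹) = c * k * a * (c * k)⁻¹ * v
    have h1 : v * (k * a * k⁻¹) = k * a * k⁻¹ * v := h ⟨a, ha, rfl⟩ v hv
    have h2 : v * c = c * v := hc v (le_span V hv)
    rw [show c * k * a * (c * k)⁻¹ = c * (k * a * k⁻¹) * c⁻¹ by group]
    exact (((show Commute v c from h2).mul_right h1).mul_right (show Commute v c from h2).inv_right).eq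
  -- `O₂(G / C)` is the image of `O₂(G)`
  have hPdef : P = C ⊔ Q := by
    refine le_antisymm ?_ (sup_le hCP hQP)
    rw [hPC]
    refine sup_le le_sup_left (le_trans ?_ le_sup_right)
    haveI : ((S : Subgroup G) ⊓ P).Normal := normalizer_eq_top_iff.1 hN
    exact PLocal.Cores.le_pCore (S.2.to_le inf_le_left)
  by_cases hres : ∀ K : Subgroup G, K.Normal → P ≤ K → ¬ Cfsg.pResidual 2 G ≤ K → A ⊓ K ≤ P
  · have hAC := core hG S hS hV hMe hA hAV hPdef hPmax hres
    rintro _ ⟨a, ha, rfl⟩ v hv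
    show v * (g * a * g⁻¹) = g * a * g⁻¹ * v
    have hmem : g⁻¹ * v * g ∈ M := by
      have := (inferInstance : M.Normal).conj_mem v (le_span V hv) g⁻¹
      rwa [inv_inv] at this
    have h1 : g⁻¹ * v * g * a = a * (g⁻¹ * v * g) := hAC ha _ hmem
    calc v * (g * a * g⁻¹) = g * (g⁻¹ * v * g * a) * g⁻¹ := by group
      _ = g * (a * (g⁻¹ * v * g)) * g⁻¹ := by rw [h1]
      _ = _ := by group
  · push Not at hres
    obtain ⟨K, hKn, hPK, hYK, hAK⟩ := hres
    haveI := hKn
    set T0 := (S : Subgroup G) ⊓ K with hT0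
    set N := normalizer (T0 : Set G) with hNdef
    have hN' : N ≠ ⊤ := fun h => hAK (by
      haveI : T0.Normal := normalizer_eq_top_iff.1 h
      exact (inf_le_inf_right K hAS).trans ((PLocal.Cores.le_pCore (S.2.to_le inf_le_left)).trans hQP))
    have hSN : (S : Subgroup G) ≤ N := fun s hs => mem_normalizer_iff_map_conj_eq.2 (by
      show ((S : Subgroup G) ⊓ K).map _ = (S : Subgroup G) ⊓ K
      rw [map_inf _ _ _ (MulAut.conj s).injective,
        mem_normalizer_iff_map_conj_eq.1 (le_normalizer hs),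
        mem_normalizer_iff_map_conj_eq.1 ((normalizer_eq_top K).ge (mem_top s))])
    obtain ⟨k0, hk0, k, hk, rfl⟩ :=
      mem_sup_of_normal_right.1 ((normalizer_sup_eq_top S K).ge (mem_top g))
    have hIH := useIH N hN' (hQS.trans hSN) (listed_normalizer hG.listed S K) S
      ((isSylIn_top_iff.2 ⟨S, rfl⟩).mono hSN le_top) V hVe (hVQ.trans (hQS.trans hSN)) hS hV hAS k0 hk0
    set U := V.map (MulAut.conj k0⁻¹).toMonoidHom with hU
    have hAU : A ≤ centralizer (U : Set G) := by
      rintro a ha _ ⟨v, hv, rfl⟩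
      show k0⁻¹ * v * k0⁻¹⁻¹ * a = a * (k0⁻¹ * v * k0⁻¹⁻¹)
      have h1 : v * (k0 * a * k0⁻¹) = k0 * a * k0⁻¹ * v := hIH ⟨a, ha, rfl⟩ v hv
      calc k0⁻¹ * v * k0⁻¹⁻¹ * a = k0⁻¹ * (v * (k0 * a * k0⁻¹)) * k0 := by group
        _ = k0⁻¹ * (k0 * a * k0⁻¹ * v) * k0 := by rw [h1]
        _ = _ := by group
    have hT0U : T0 ≤ normalizer (U : Set G) := by
      have e : T0.map (MulAut.conj k0⁻¹).toMonoidHom = T0 :=
        mem_normalizer_iff_map_conj_eq.1 (inv_mem hk0)
      rw [← e]
      exact (map_mono (inf_le_left.trans hS)).trans (le_normalizer_map _)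
    set H := K ⊔ A with hH
    set T := T0 ⊔ A with hT
    have hTS : T ≤ (S : Subgroup G) := sup_le inf_le_left hAS
    have hTH : T ≤ H := sup_le (le_sup_of_le_left inf_le_right) le_sup_right
    have hsup : T ⊔ K = H := le_antisymm (sup_le hTH le_sup_left)
      (sup_le le_sup_right (le_sup_of_le_left le_sup_right))
    have hTsyl : IsSylIn 2 T H := by
      refine isSylIn_of_not_dvd (S.2.to_le hTS) hTH fun hd => odd_relIndex S K ?_
      have h1 := card_sup_mul_inf T K
      rw [hsup, ← relIndex_bot_left, ← relIndex_bot_left, ← relIndex_bot_left, ← relIndex_bot_left,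
        ← relIndex_mul_relIndex ⊥ T H bot_le hTH,
        ← relIndex_mul_relIndex ⊥ (T ⊓ K) K bot_le inf_le_right] at h1
      have h2 : T.relIndex H = (T ⊓ K).relIndex K := by
        have h0 : 0 < (⊥ : Subgroup G).relIndex T * (⊥ : Subgroup G).relIndex (T ⊓ K) :=
          Nat.mul_pos (Nat.pos_of_ne_zero FiniteIndex.index_ne_zero)
            (Nat.pos_of_ne_zero FiniteIndex.index_ne_zero)
        refine Nat.eq_of_mul_eq_mul_left h0 ?_
        calc _ = (⊥ : Subgroup G).relIndex T * T.relIndex H * (⊥ : Subgroup G).relIndex (T ⊓ K) := by ring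
          _ = _ := h1
          _ = _ := by ring
      rw [h2] at hd
      have hle : (S : Subgroup G) ⊓ K ≤ T ⊓ K := le_inf le_sup_left inf_le_right
      rw [← relIndex_mul_relIndex _ (T ⊓ K) K hle inf_le_right]
      exact dvd_mul_of_dvd_right hd _
    have hH' : H ≠ ⊤ := by
      intro h
      refine hYK (Transfer.NormalPComplement.pResidual_le fun q => ⟨1, ?_⟩)
      obtain ⟨x, rfl⟩ := QuotientGroup.mk'_surjective K q
      obtain ⟨k', hk', a, ha, rfl⟩ := mem_sup_of_normal_left.1 (h.ge (mem_top x))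
      rw [map_mul, show QuotientGroup.mk' K k' = 1 from (QuotientGroup.eq_one_iff k').2 hk', one_mul,
        pow_one, ← map_pow, hA.1.2 a ha, map_one]
    have hUK : U ≤ H := by
      rintro _ ⟨v, hv, rfl⟩
      exact mem_sup_left (hPK (hQP ((inferInstance : Q.Normal).conj_mem v (hVQ hv) _)))
    have h := useIH H hH' (hQP.trans (hPK.trans le_sup_left))
      (listed_sup hG.listed K A (elem_isPGroup hA.1)) T hTsyl U (elementary_map hVe) hUK
      (sup_le hT0U (hAU.trans (centralizer_le_normalizer _))) (hV.conj _) le_sup_right k (mem_sup_left hk)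
    rintro _ ⟨a, ha, rfl⟩ v hv
    show v * (k0 * k * a * (k0 * k)⁻¹) = k0 * k * a * (k0 * k)⁻¹ * v
    have h1 : k0⁻¹ * v * k0⁻¹⁻¹ * (k * a * k⁻¹) = k * a * k⁻¹ * (k0⁻¹ * v * k0⁻¹⁻¹) :=
      h ⟨a, ha, rfl⟩ _ ⟨v, hv, rfl⟩
    calc v * (k0 * k * a * (k0 * k)⁻¹) = k0 * (k0⁻¹ * v * k0⁻¹⁻¹ * (k * a * k⁻¹)) * k0⁻¹ := by group
      _ = k0 * (k * a * k⁻¹ * (k0⁻¹ * v * k0⁻¹⁻¹)) * k0⁻¹ := by rw [h1]
      _ = _ := by group

end Cfsg.Agent.CharP.Square
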