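import Cfsg.Agent.Lib.CharP.SquareBase
import Cfsg.Agent.Lib.CharP.Parabolic
import Cfsg.Agent.Lib.PLocal.GlaubermanReplacement

/-!
A normal elementary subgroup of a Sylow 2-subgroup with the square condition lies in `O₂`, commutes
with its conjugates and is centralised by the elementary abelian subgroups of largest order; the
square condition telescopes over the conjugates.
-/

set_option autoImplicit false
set_option linter.unusedSectionVars false
set_option linter.style.haveILetI false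

namespace Cfsg.Agent.CharP.Square

open Subgroup
open scoped commutatorElement

universe u

variable {G : Type u} [Group G]

theorem elem_comm {A : Subgroup G} (h : Cfsg.IsElementaryAbelian 2 A) {a b : G} (ha : a ∈ A)
    (hb : b ∈ A) : Commute a b :=
  congrArg Subtype.val (h.1.is_comm.comm ⟨a, ha⟩ ⟨b, hb⟩)

theorem elem_mul_self {A : Subgroup G} (h : Cfsg.IsElementaryAbelian 2 A) {a : G} (ha : a ∈ A) :
    a * a = 1 := by rw [← pow_two]; exact h.2 a ha

theorem elem_isPGroup {A : Subgroup G} (h : Cfsg.IsElementaryAbelian 2 A) : IsPGroup 2 ↥A :=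
  fun a => ⟨1, Subtype.ext (by rw [pow_one, SubmonoidClass.coe_pow]; exact h.2 a a.2)⟩

theorem elem_mono {A B : Subgroup G} (h : Cfsg.IsElementaryAbelian 2 A) (hle : B ≤ A) :
    Cfsg.IsElementaryAbelian 2 B :=
  ⟨⟨⟨fun a b => Subtype.ext (elem_comm h (hle a.2) (hle b.2)).eq⟩⟩, fun b hb => h.2 b (hle hb)⟩

theorem elem_le_centralizer {A : Subgroup G} (h : Cfsg.IsElementaryAbelian 2 A) :
    A ≤ centralizer (A : Set G) := fun _ ha _ hb => (elem_comm h hb ha).eq

theorem elem_commutator_le {A : Subgroup G} (h : Cfsg.IsElementaryAbelian 2 A) (B : Subgroup G) :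
    ⁅A, A⁆ ≤ B :=
  commutator_le.2 fun a ha b hb => by
    rw [commutatorElement_eq_one_iff_mul_comm.2 (elem_comm h ha hb).eq]
    exact one_mem B

/-- The condition, for an elementary subgroup. -/
theorem Cond.elem {V R : Subgroup G} (hV : Cond V) (hR : Cfsg.IsElementaryAbelian 2 R)
    (hn : R ≤ normalizer (V : Set G)) (h : ¬ R ≤ centralizer (V : Set G)) :
    idx V R ^ 3 < idx R V ^ 2 :=
  hV R (elem_isPGroup hR) hn (elem_commutator_le hR _)
    (fun r hr => by rw [hR.2 r hr]; exact one_mem _) h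

variable [Finite G]

/-- A largest elementary abelian subgroup centralises `V`. -/
theorem le_centralizer_of_max {V A : Subgroup G} (hVe : Cfsg.IsElementaryAbelian 2 V) (hV : Cond V)
    (hA : IsMax A) (hn : A ≤ normalizer (V : Set G)) : A ≤ centralizer (V : Set G) := by
  by_contra h
  have h1 := hV.elem hA.1 hn h
  have h2 := hA.idx_le hVe
  have h3 : idx V A ^ 2 ≤ idx V A ^ 3 := Nat.pow_le_pow_right (idx_pos _ _) (by norm_num)
  have h4 : idx A V ^ 2 ≤ idx V A ^ 2 := Nat.pow_le_pow_left h2 2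
  omega

/-- An element trivial modulo a chain and inverted gives a large index. -/
theorem module_bound {B B' : Subgroup G} (hB : Cfsg.IsElementaryAbelian 2 B)
    (hB' : Cfsg.IsElementaryAbelian 2 B') (hn : B' ≤ normalizer (B : Set G))
    (hn' : B ≤ normalizer (B' : Set G)) {a z : G}
    (haW : a ∈ normalizer ((B ⊔ B' : Subgroup G) : Set G) ⊓ centralizer ((B ⊓ B' : Subgroup G) : Set G))
    (hzW : z ∈ normalizer ((B ⊔ B' : Subgroup G) : Set G) ⊓ centralizer ((B ⊓ B' : Subgroup G) : Set G))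
    (ha2 : a * a = 1) (haB : ∀ b ∈ B, Commute a b) {p : ℕ} [Fact p.Prime] (hp2 : p ≠ 2)
    (hzp : z ^ p = 1) (hinv : a * z * a⁻¹ = z⁻¹)
    (hnt : ∃ w ∈ B ⊔ B', z * w * z⁻¹ * w⁻¹ ∉ B ⊓ B') :
    ∃ j : ℕ, 0 < j ∧ p ∣ 4 ^ j - 1 ∧ 2 ^ j ≤ idx (zpowers a) B' := by
  classical
  set W := B ⊔ B' with hW
  set U := B ⊓ B' with hU
  set X := normalizer (W : Set G) ⊓ centralizer (U : Set G) with hX
  have hWcent : ∀ w ∈ W, ∀ u ∈ U, Commute w u := by
    intro w hw u hu
    have hle : W ≤ centralizer ({u} : Set G) := sup_le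
      (fun b hb => mem_centralizer_singleton_iff.2 (elem_comm hB hb hu.1).eq)
      (fun b hb => mem_centralizer_singleton_iff.2 (elem_comm hB' hb hu.2).eq)
    exact mem_centralizer_singleton_iff.1 (hle hw)
  haveI hUn : (U.subgroupOf W).Normal := ⟨fun u hu w => by
    rw [mem_subgroupOf] at hu ⊢
    rwa [Subgroup.coe_mul, Subgroup.coe_mul, Subgroup.coe_inv, (hWcent w w.2 u hu).eq,
      mul_inv_cancel_right]⟩
  have hmem : ∀ w ∈ W, ∃ b' ∈ B', ∃ b ∈ B, w = b' * b := by
    intro w hw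
    have hw' : w ∈ ((B' ⊔ B : Subgroup G) : Set G) := by rw [sup_comm]; exact hw
    rw [coe_mul_of_left_le_normalizer_right B' B hn] at hw'
    obtain ⟨b', hb', b, hb, rfl⟩ := hw'
    exact ⟨b', hb', b, hb, rfl⟩
  have hsq : ∀ w ∈ W, w * w ∈ U := by
    intro w hw
    obtain ⟨b', hb', b, hb, rfl⟩ := hmem w hw
    have hc : b * b' * b⁻¹ * b'⁻¹ ∈ U := by
      refine ⟨?_, B'.mul_mem ((mem_normalizer_iff.1 (hn' hb) b').1 hb') (B'.inv_mem hb')⟩
      have h := (mem_normalizer_iff.1 (hn hb') b⁻¹).1 (B.inv_mem hb)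
      have := mul_mem hb h
      rwa [show b * (b' * b⁻¹ * b'⁻¹) = b * b' * b⁻¹ * b'⁻¹ by group] at this
    have e : b' * b * (b' * b) = (b' * (b * b' * b⁻¹ * b'⁻¹) * b'⁻¹) * ((b' * b') * (b * b)) := by
      group
    rw [e, elem_mul_self hB hb, elem_mul_self hB' hb', mul_one, mul_one,
      (hWcent b' (mem_sup_right hb') _ hc).eq, mul_inv_cancel_right]
    exact hc
  have hexp : ∀ q : ↥W ⧸ U.subgroupOf W, q * q = 1 := fun q => by
    induction q using QuotientGroup.induction_on with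
    | H w => exact (QuotientGroup.eq_one_iff _).2 (mem_subgroupOf.2 (hsq w w.2))
  letI : CommGroup (↥W ⧸ U.subgroupOf W) :=
    { (inferInstance : Group (↥W ⧸ U.subgroupOf W)) with
      mul_comm := fun x y => by
        have hi : ∀ q : ↥W ⧸ U.subgroupOf W, q⁻¹ = q := fun q => inv_eq_of_mul_eq_one_right (hexp q)
        rw [← hi (x * y), mul_inv_rev, hi, hi] }
  have hXm : ∀ (g : ↥X) (w : ↥W), (g : G) * w * (g : G)⁻¹ ∈ W := fun g w =>
    (mem_normalizer_iff.1 g.2.1 w).1 w.2
  let act : ↥X → ↥W →* ↥W := fun g =>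
    { toFun := fun w => ⟨(g : G) * w * (g : G)⁻¹, hXm g w⟩
      map_one' := Subtype.ext (by simp)
      map_mul' := fun v w => Subtype.ext (by simp [mul_assoc]) }
  letI : MulDistribMulAction ↥X (↥W ⧸ U.subgroupOf W) :=
    { smul := fun g => QuotientGroup.map _ _ (act g) fun u hu => by
        rw [mem_subgroupOf] at hu
        show (g : G) * u * (g : G)⁻¹ ∈ U
        rwa [← g.2.2 u hu, mul_inv_cancel_right]
      one_smul := fun q => by
        induction q using QuotientGroup.induction_on with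
        | H w => exact congrArg QuotientGroup.mk (Subtype.ext (by simp [act]))
      mul_smul := fun g h q => by
        induction q using QuotientGroup.induction_on with
        | H w => exact congrArg QuotientGroup.mk (Subtype.ext (by simp [act, mul_assoc]))
      smul_mul := fun g => map_mul _
      smul_one := fun g => map_one _ }
  let f := MulDistribMulAction.toMulAut ↥X (↥W ⧸ U.subgroupOf W)
  obtain ⟨j, hj, hjd, hjle⟩ := InvertedBound.exists_index_fixed
    (W := ↥W ⧸ U.subgroupOf W) (α := f ⟨a, haW⟩) (x := f ⟨z, hzW⟩) hexp hp2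
    (by rw [← map_mul, show (⟨a, haW⟩ : ↥X) * ⟨a, haW⟩ = 1 from Subtype.ext ha2, map_one])
    (by rw [← map_pow, show (⟨z, hzW⟩ : ↥X) ^ p = 1 from Subtype.ext (by simpa using hzp), map_one])
    (by rw [← map_inv, ← map_mul, ← map_mul, ← map_inv,
      show (⟨a, haW⟩ : ↥X) * ⟨z, hzW⟩ * (⟨a, haW⟩ : ↥X)⁻¹ = (⟨z, hzW⟩ : ↥X)⁻¹ from Subtype.ext hinv])
    (fun h => by
      obtain ⟨w, hw, hwU⟩ := hnt
      refine hwU ?_
      have h1 : ((⟨z * w * z⁻¹, hXm ⟨z, hzW⟩ ⟨w, hw⟩⟩ : ↥W) : ↥W ⧸ U.subgroupOf W) =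
          ((⟨w, hw⟩ : ↥W) : ↥W ⧸ U.subgroupOf W) :=
        DFunLike.congr_fun h ((⟨w, hw⟩ : ↥W) : ↥W ⧸ U.subgroupOf W)
      rw [QuotientGroup.eq_iff_div_mem, div_eq_mul_inv, mem_subgroupOf] at h1
      exact h1)
  refine ⟨j, hj, hjd, hjle.trans ?_⟩
  set K := (InvertedBound.move (f ⟨a, haW⟩)).ker with hK
  set C' := (centralizer ((zpowers a : Subgroup G) : Set G)).subgroupOf B' with hC'
  have hfix : ∀ w : ↥W, Commute a (w : G) → ((w : ↥W) : ↥W ⧸ U.subgroupOf W) ∈ K := by
    intro w hw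
    rw [hK, InvertedBound.mem_ker_move]
    show ((⟨a * w * a⁻¹, hXm ⟨a, haW⟩ w⟩ : ↥W) : ↥W ⧸ U.subgroupOf W) = _
    congr 1
    refine Subtype.ext ?_
    show a * (w : G) * a⁻¹ = (w : G)
    rw [hw.eq, mul_inv_cancel_right]
  let g : ↥B' ⧸ C' → (↥W ⧸ U.subgroupOf W) ⧸ K := fun q => Quotient.liftOn' q
    (fun b => QuotientGroup.mk (QuotientGroup.mk (⟨b, mem_sup_right b.2⟩ : ↥W)))
    fun b c hbc => by
      rw [QuotientGroup.leftRel_apply, hC', mem_subgroupOf, mem_centralizer_iff] at hbc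
      refine QuotientGroup.eq.2 ?_
      rw [← QuotientGroup.mk_inv, ← QuotientGroup.mk_mul]
      exact hfix _ (hbc a (mem_zpowers a))
  have hg : Function.Surjective g := by
    intro q
    induction q using QuotientGroup.induction_on with
    | H w' =>
      induction w' using QuotientGroup.induction_on with
      | H w =>
        obtain ⟨b', hb', b, hb, e⟩ := hmem w w.2
        refine ⟨QuotientGroup.mk (⟨b', hb'⟩ : ↥B'), QuotientGroup.eq.2 ?_⟩
        rw [← QuotientGroup.mk_inv, ← QuotientGroup.mk_mul]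
        refine hfix _ ?_
        rw [Subgroup.coe_mul, Subgroup.coe_inv, e]
        show Commute a (b'⁻¹ * (b' * b))
        rw [inv_mul_cancel_left]
        exact haB b hb
  exact Nat.card_le_card_of_surjective g hg

/-- `V` lies in `O₂(G)`. -/
theorem le_pCore_of_cond (hG : Good G) (S : Sylow 2 G) {V : Subgroup G}
    (hVe : Cfsg.IsElementaryAbelian 2 V) (hS : (S : Subgroup G) ≤ normalizer (V : Set G))
    (hV : Cond V) : V ≤ Cfsg.pCore 2 G := by
  classical
  haveI : Fact (Nat.Prime 2) := ⟨Nat.prime_two⟩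
  by_contra hVQ
  set Q := Cfsg.pCore 2 G with hQ
  have hQS : Q ≤ (S : Subgroup G) := PLocal.Cores.pCore_le_sylow S
  set π := QuotientGroup.mk' Q with hπ
  set Ab := V.map π with hAb
  have hAe : S3FreeOffender.IsElem Ab := by
    constructor
    · rintro _ ⟨a, ha, rfl⟩ _ ⟨b, hb, rfl⟩
      rw [← map_mul, ← map_mul, (elem_comm hVe ha hb).eq]
    · rintro _ ⟨a, ha, rfl⟩
      rw [← map_mul, elem_mul_self hVe ha, map_one]
  have hAne : Ab ≠ ⊥ := fun h => hVQ (by
    rwa [hAb, Subgroup.map_eq_bot_iff, QuotientGroup.ker_mk'] at h)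
  obtain ⟨Bb, hBA, _, ⟨a, ha, rfl⟩, xb, p, hp, hp2, hxo, hinv, hxB, hsize⟩ :=
    S3FreeSplit.hasSplit (hG.s3free (QuotientGroup.mk'_surjective Q) (QuotientGroup.ker_mk' Q).ge)
      PLocal.Cores.pCore_quotient_pCore
      (FactorList.quotient hG.listed (QuotientGroup.mk'_surjective Q)) Ab hAe hAne
  haveI : Fact p.Prime := ⟨hp⟩
  obtain ⟨x, rfl⟩ := QuotientGroup.mk'_surjective Q xb
  set B := V ⊓ Bb.comap π with hB
  set c := (MulAut.conj x).toMonoidHom with hc
  have hcinj : Function.Injective c := MulEquiv.injective _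
  have hcapp : ∀ g, c g = x * g * x⁻¹ := fun g => rfl
  set B' := B.map c with hB'
  set V' := V.map c with hV'
  set R := B ⊔ Q with hR
  have hQker : ∀ q ∈ Q, π q = 1 := fun q hq => (QuotientGroup.eq_one_iff q).2 hq
  have hQn : Q ≤ normalizer (V : Set G) := hQS.trans hS
  have hRn : R ≤ normalizer (V : Set G) := sup_le (inf_le_left.trans le_normalizer) hQn
  have hRB : ∀ r ∈ R, π r ∈ Bb := fun r hr => by
    have hle : R ≤ Bb.comap π := sup_le inf_le_right fun q hq => by
      rw [mem_comap, hQker q hq]; exact one_mem _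
    exact hle hr
  have hR2 : IsPGroup 2 ↥R :=
    ((elem_isPGroup hVe).to_le inf_le_left).to_sup_of_normal_right PLocal.Cores.isPGroup_pCore
  -- `x` normalises `R`
  have hB'R : B' ≤ R := by
    rintro _ ⟨b, hb, rfl⟩
    rw [show c b = b * (b⁻¹ * (x * b * x⁻¹)) by rw [mul_inv_cancel_left]; rfl]
    refine mul_mem (mem_sup_left hb) (mem_sup_right ((QuotientGroup.eq_one_iff _).1 ?_))
    show π (b⁻¹ * (x * b * x⁻¹)) = 1
    rw [map_mul, map_mul, map_mul, map_inv, map_inv, hxB _ hb.2, mul_inv_cancel_right, inv_mul_cancel]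
  have hRc : R.map c = R := by
    refine eq_of_le_of_card_ge ?_ (card_map_of_injective hcinj).ge
    rw [hR, Subgroup.map_sup]
    exact sup_le hB'R (le_trans (by
      rintro _ ⟨q, hq, rfl⟩
      exact (inferInstance : Q.Normal).conj_mem q hq x) le_sup_right)
  have hRn' : R ≤ normalizer (V' : Set G) := by
    rw [← hRc]; exact (map_mono hRn).trans (le_normalizer_map c)
  -- commutators
  have hVR : ∀ v ∈ V, ∀ r ∈ R, v * r * v⁻¹ * r⁻¹ ∈ B := by
    intro v hv r hr
    refine ⟨?_, show π (v * r * v⁻¹ * r⁻¹) ∈ Bb from ?_⟩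
    · rw [mul_assoc v r, mul_assoc v]
      exact mul_mem hv ((mem_normalizer_iff.1 (hRn hr) _).1 (inv_mem hv))
    · rw [map_mul, map_mul, map_mul, map_inv, map_inv,
        hAe.1 _ ⟨v, hv, rfl⟩ _ (hBA (hRB r hr)), mul_inv_cancel_right, mul_inv_cancel]
      exact one_mem _
  have hV'R : ∀ v ∈ V', ∀ r ∈ R, v * r * v⁻¹ * r⁻¹ ∈ B' := by
    rintro _ ⟨v, hv, rfl⟩ r hr
    obtain ⟨r, hr', rfl⟩ := hRc.ge hr
    exact ⟨_, hVR v hv r hr', by simp only [map_mul, map_inv]⟩
  have hRB₀ : R ≤ normalizer (B : Set G) := fun r hr =>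
    PLocal.GlaubermanReplacement.mem_normalizer_of_conj_mem fun b hb => by
      have hrb : (r * b * r⁻¹) = (b * r * b⁻¹ * r⁻¹)⁻¹ * b := by group
      rw [hrb]
      exact mul_mem (inv_mem (hVR b hb.1 r hr)) hb
  have hRB' : R ≤ normalizer (B' : Set G) := by
    rw [← hRc]; exact (map_mono hRB₀).trans (le_normalizer_map c)
  set W := B ⊔ B' with hW
  set U := B ⊓ B' with hU
  have hBe : Cfsg.IsElementaryAbelian 2 B := elem_mono hVe inf_le_left
  have hB'e : Cfsg.IsElementaryAbelian 2 B' := elementary_map hBe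
  have hV'e : Cfsg.IsElementaryAbelian 2 V' := elementary_map hVe
  have hB'V' : B' ≤ V' := map_mono inf_le_left
  -- elements trivial on `R / W` and on `U`
  let P : G → Prop := fun g => g ∈ normalizer (W : Set G) ⊓ centralizer (U : Set G) ∧
    ∀ r ∈ R, g * r * g⁻¹ * r⁻¹ ∈ W
  have hPmul : ∀ g h, P g → P h → P (g * h) := by
    intro g h hg hh
    refine ⟨mul_mem hg.1 hh.1, fun r hr => ?_⟩
    rw [show g * h * r * (g * h)⁻¹ * r⁻¹ =
      (g * (h * r * h⁻¹ * r⁻¹) * g⁻¹) * (g * r * g⁻¹ * r⁻¹) by group]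
    exact mul_mem ((mem_normalizer_iff.1 hg.1.1 _).1 (hh.2 r hr)) (hg.2 r hr)
  have hWR : W ≤ R := sup_le le_sup_left hB'R
  have hPV : ∀ v ∈ V, P v := by
    intro v hv
    refine ⟨⟨PLocal.GlaubermanReplacement.mem_normalizer_of_conj_mem fun w hw => ?_, fun u hu =>
      (elem_comm hVe hu.1.1 hv).eq⟩, fun r hr => mem_sup_left (hVR v hv r hr)⟩
    rw [show v * w * v⁻¹ = (v * w * v⁻¹ * w⁻¹) * w by group]
    exact mul_mem (mem_sup_left (hVR v hv w (hWR hw))) hw
  have hPV' : ∀ v ∈ V', P v := by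
    intro v hv
    refine ⟨⟨PLocal.GlaubermanReplacement.mem_normalizer_of_conj_mem fun w hw => ?_, fun u hu =>
      (elem_comm hV'e (hB'V' hu.2) hv).eq⟩, fun r hr => mem_sup_right (hV'R v hv r hr)⟩
    rw [show v * w * v⁻¹ = (v * w * v⁻¹ * w⁻¹) * w by group]
    exact mul_mem (mem_sup_right (hV'R v hv w (hWR hw))) hw
  -- the inverted element
  set a' := x * a * x⁻¹ with ha'
  have ha'V : a' ∈ V' := ⟨a, ha, rfl⟩
  have haa := elem_mul_self hVe ha
  have haa' : a' * a' = 1 := elem_mul_self hV'e ha'V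
  set y := a * a' with hy
  have hii : ∀ s t : G, s * s = 1 → t * t = 1 →
      s * (s * t) * s⁻¹ = (s * t)⁻¹ ∧ t * (s * t) * t⁻¹ = (s * t)⁻¹ := fun s t hs ht => by
    rw [mul_inv_rev, inv_eq_of_mul_eq_one_right hs, inv_eq_of_mul_eq_one_right ht]
    exact ⟨by rw [← mul_assoc, hs, one_mul], by rw [mul_assoc, mul_assoc, ht, mul_one]⟩
  have hy1 : a * y * a⁻¹ = y⁻¹ := (hii a a' haa haa').1
  have hy2 : a' * y * a'⁻¹ = y⁻¹ := (hii a a' haa haa').2
  have hπy : π y = ((π x) ^ 2)⁻¹ := by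
    have hai : (π a)⁻¹ = π a := inv_eq_of_mul_eq_one_right (hAe.2 _ ⟨a, ha, rfl⟩)
    rw [hai] at hinv
    rw [hy, ha', map_mul, map_mul, map_mul, map_inv]
    calc π a * (π x * π a * (π x)⁻¹) = π a * π x * π a * (π x)⁻¹ := by group
      _ = _ := by rw [hinv, pow_two, mul_inv_rev]
  have hπyo : orderOf (π y) = p := by
    rw [hπy, orderOf_inv, Nat.Coprime.orderOf_pow]
    · exact hxo
    · rw [hxo]; exact Nat.coprime_two_right.2 (hp.odd_of_ne_two hp2)
  have hypQ : y ^ p ∈ Q := by
    refine (QuotientGroup.eq_one_iff _).1 ?_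
    show π (y ^ p) = 1
    rw [map_pow, ← hπyo, pow_orderOf_eq_one]
  obtain ⟨e, he⟩ := (PLocal.Cores.isPGroup_pCore (p := 2)) (⟨_, hypQ⟩ : ↥Q)
  set z := y ^ 2 ^ e with hz
  have hzp : z ^ p = 1 := by
    have h1 := congrArg Subtype.val he
    rw [SubmonoidClass.coe_pow] at h1
    rw [hz, ← pow_mul, mul_comm, pow_mul]
    exact h1
  have hzinv : a * z * a⁻¹ = z⁻¹ := by rw [hz, ← conj_pow, hy1, inv_pow]
  have hzinv' : a' * z * a'⁻¹ = z⁻¹ := by rw [hz, ← conj_pow, hy2, inv_pow]
  have hzQ : z ∉ Q := by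
    intro h
    have h1 : π y ^ 2 ^ e = 1 := by rw [← map_pow]; exact hQker _ h
    have h2 := orderOf_dvd_of_pow_eq_one h1
    rw [hπyo] at h2
    exact hp2 ((Nat.prime_dvd_prime_iff_eq hp Nat.prime_two).1 (hp.dvd_of_dvd_pow h2))
  have hPz : P z := by
    rw [hz]
    generalize 2 ^ e = n
    induction n with
    | zero =>
      rw [pow_zero]
      exact ⟨one_mem _, fun r _ => by simp⟩
    | succ n ih => rw [pow_succ]; exact hPmul _ _ ih (hPmul _ _ (hPV a ha) (hPV' a' ha'V))
  have hzodd : Odd (orderOf z) :=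
    (hp.odd_of_ne_two hp2).of_dvd_nat (orderOf_dvd_of_pow_eq_one hzp)
  have hnt : ∃ w ∈ W, z * w * z⁻¹ * w⁻¹ ∉ U := by
    by_contra hcon
    push Not at hcon
    have hzW : ∀ w ∈ W, Commute z w := fun w hw =>
      commute_of_chain (fun u hu => (hPz.1.2 u hu).symm) (hcon w hw)
        ((elem_isPGroup hVe).to_le (inf_le_left.trans inf_le_left)) hzodd
    refine hzQ (hG.constrained fun q hq => ?_)
    exact (commute_of_chain hzW (hPz.2 q (mem_sup_right hq)) (hR2.to_le hWR) hzodd).symm.eq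
  have hBn : B ≤ normalizer (B' : Set G) := le_sup_left.trans hRB'
  have hB'n : B' ≤ normalizer (B : Set G) := hB'R.trans hRB₀
  obtain ⟨j, hj, hjd, hjle⟩ := module_bound hBe hB'e hB'n hBn (hPV a ha).1 hPz.1 haa
    (fun b hb => elem_comm hVe ha hb.1) hp2 hzp hzinv hnt
  have hW' : B' ⊔ B = W := sup_comm _ _
  have hU' : B' ⊓ B = U := inf_comm _ _
  obtain ⟨i, hi, hid, hile⟩ := module_bound hB'e hBe hBn hB'n
    (a := a') (z := z) (by rw [hW', hU']; exact (hPV' a' ha'V).1)
    (by rw [hW', hU']; exact hPz.1) haa'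
    (fun b hb => elem_comm hV'e ha'V (hB'V' hb)) hp2 hzp hzinv'
    (by rw [hW', hU']; exact hnt)
  have hr : 2 ^ j ≤ idx V B' :=
    hjle.trans (relIndex_le_of_le_left (centralizer_le (zpowers_le.2 ha)) index_ne_zero_of_finite)
  have hs : 2 ^ i ≤ idx V' B :=
    hile.trans (relIndex_le_of_le_left (centralizer_le (zpowers_le.2 ha'V)) index_ne_zero_of_finite)
  set k := Bb.relIndex Ab with hk
  have hk1 : B.relIndex V = k := by
    rw [hB, inf_comm, inf_relIndex_right, relIndex_comap]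
  have hk2 : B'.relIndex V' = k := by rw [hB', hV', relIndex_map_map_of_injective _ _ hcinj, hk1]
  have hkA : Nat.card Ab = Nat.card Bb * k := by
    rw [← relIndex_bot_left, ← relIndex_bot_left, hk, relIndex_mul_relIndex _ _ _ bot_le hBA]
  have hsz : ∀ l : ℕ, 0 < l → p ∣ 4 ^ l - 1 → k ^ 2 ≤ 2 ^ l := by
    intro l hl hld
    have h := hsize l hl hld
    rw [hkA, mul_pow, mul_comm] at h
    exact Nat.le_of_mul_le_mul_right h (pow_pos Nat.card_pos 2)
  have hnc : ∀ {X Y : Subgroup G} {l : ℕ}, 0 < l → 2 ^ l ≤ idx X Y → ¬ Y ≤ centralizer (X : Set G) := by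
    intro X Y l hl hle h
    rw [idx_eq_one.2 h] at hle
    have : 2 ≤ 2 ^ l := Nat.le_self_pow hl.ne' 2
    omega
  have h1 := hV.elem hB'e (hB'R.trans hRn) (hnc hj hr)
  have h2 := (hV.conj x).elem hBe (le_sup_left.trans hRn') (hnc hi hs)
  change idx V' B ^ 3 < idx B V' ^ 2 at h2
  have h3 : idx B' V ≤ k * idx V' B := by
    calc idx B' V ≤ (centralizer (B' : Set G) ⊓ B).relIndex V :=
          relIndex_le_of_le_left inf_le_left index_ne_zero_of_finite
      _ = (centralizer (B' : Set G) ⊓ B).relIndex B * B.relIndex V :=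
          (relIndex_mul_relIndex _ _ _ inf_le_right inf_le_left).symm
      _ ≤ idx V' B * k := by
          rw [inf_relIndex_right, hk1]
          exact Nat.mul_le_mul_right _
            (relIndex_le_of_le_left (centralizer_le hB'V') index_ne_zero_of_finite)
      _ = _ := mul_comm _ _
  have h4 : idx B V' ≤ k * idx V B' := by
    calc idx B V' ≤ (centralizer (B : Set G) ⊓ B').relIndex V' :=
          relIndex_le_of_le_left inf_le_left index_ne_zero_of_finite
      _ = (centralizer (B : Set G) ⊓ B').relIndex B' * B'.relIndex V' :=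
          (relIndex_mul_relIndex _ _ _ inf_le_right hB'V').symm
      _ ≤ idx V B' * k := by
          rw [inf_relIndex_right, hk2]
          exact Nat.mul_le_mul_right _
            (relIndex_le_of_le_left (centralizer_le inf_le_left) index_ne_zero_of_finite)
      _ = _ := mul_comm _ _
  set r := idx V B'
  set s := idx V' B
  have hr0 : 0 < r := idx_pos _ _
  have hs0 : 0 < s := idx_pos _ _
  have h5 : r ^ 3 * s ^ 3 < (k * s) ^ 2 * (k * r) ^ 2 := Nat.mul_lt_mul''
    (h1.trans_le (Nat.pow_le_pow_left h3 2)) (h2.trans_le (Nat.pow_le_pow_left h4 2))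
  have h6 : k ^ 2 * k ^ 2 ≤ r * s :=
    Nat.mul_le_mul ((hsz j hj hjd).trans hr) ((hsz i hi hid).trans hs)
  have h7 : (k * s) ^ 2 * (k * r) ^ 2 ≤ r ^ 3 * s ^ 3 :=
    calc (k * s) ^ 2 * (k * r) ^ 2 = k ^ 2 * k ^ 2 * (r ^ 2 * s ^ 2) := by ring
      _ ≤ r * s * (r ^ 2 * s ^ 2) := Nat.mul_le_mul_right _ h6
      _ = _ := by ring
  omega

/-- `M = ⟨V ^ G⟩`. -/
abbrev span (V : Subgroup G) : Subgroup G := normalClosure (V : Set G)

theorem le_span (V : Subgroup G) : V ≤ span V := subset_normalClosure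

theorem conj_le_span (V : Subgroup G) (g : G) : V.map (MulAut.conj g).toMonoidHom ≤ span V := by
  rintro _ ⟨v, hv, rfl⟩
  exact (inferInstance : (span V).Normal).conj_mem v (le_span V hv) g

theorem span_le {V K : Subgroup G} (h : ∀ g : G, V.map (MulAut.conj g).toMonoidHom ≤ K) :
    span V ≤ K := (closure_le K).2 fun x hx => by
  obtain ⟨v, hv, hc⟩ := Group.mem_conjugatesOfSet_iff.1 hx
  obtain ⟨c, rfl⟩ := isConj_iff.1 hc
  exact h c ⟨v, hv, rfl⟩

theorem normal_le_normalizer_conj {V Q : Subgroup G} [hQn : Q.Normal]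
    (hQ : Q ≤ normalizer (V : Set G)) (g : G) :
    Q ≤ normalizer ((V.map (MulAut.conj g).toMonoidHom : Subgroup G) : Set G) := by
  refine le_trans (fun q hq => ?_) (le_normalizer_map _)
  exact ⟨g⁻¹ * q * g, hQ (by simpa using hQn.conj_mem q hq g⁻¹),
    show g * (g⁻¹ * q * g) * g⁻¹ = q by group⟩

/-- The conjugates of `V` generate an elementary abelian subgroup. -/
theorem span_elementary {V Q : Subgroup G} [Q.Normal] (hVe : Cfsg.IsElementaryAbelian 2 V)
    (hV : Cond V) (hVQ : V ≤ Q) (hQn : Q ≤ normalizer (V : Set G)) :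
    Cfsg.IsElementaryAbelian 2 (span V) := by
  have hle : ∀ g : G, V.map (MulAut.conj g).toMonoidHom ≤ Q := by
    rintro g _ ⟨v, hv, rfl⟩
    exact (inferInstance : Q.Normal).conj_mem v (hVQ hv) g
  have key : ∀ g h : G, V.map (MulAut.conj g).toMonoidHom ≤
      centralizer ((V.map (MulAut.conj h).toMonoidHom : Subgroup G) : Set G) := by
    intro g h
    set X := V.map (MulAut.conj g).toMonoidHom
    set Y := V.map (MulAut.conj h).toMonoidHom
    by_contra hXY
    have hYX : ¬ Y ≤ centralizer (X : Set G) := fun h' => hXY fun a ha b hb => (h' hb a ha).symm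
    have h1 := (hV.conj h).elem (elementary_map hVe)
      ((hle g).trans (normal_le_normalizer_conj hQn h)) hXY
    have h2 := (hV.conj g).elem (elementary_map hVe)
      ((hle h).trans (normal_le_normalizer_conj hQn g)) hYX
    change idx Y X ^ 3 < idx X Y ^ 2 at h1
    change idx X Y ^ 3 < idx Y X ^ 2 at h2
    have h3 : idx Y X ^ 2 ≤ idx Y X ^ 3 := Nat.pow_le_pow_right (idx_pos _ _) (by norm_num)
    have h4 : idx X Y ^ 2 ≤ idx X Y ^ 3 := Nat.pow_le_pow_right (idx_pos _ _) (by norm_num)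
    omega
  have hc : span V ≤ centralizer (span V : Set G) := span_le fun g => fun x hx y hy => by
    have : span V ≤ centralizer ({x} : Set G) := span_le fun h => fun z hz =>
      mem_centralizer_singleton_iff.2 ((key g h hx z hz))
    exact mem_centralizer_singleton_iff.1 (this hy)
  let E : Subgroup G :=
    { carrier := {x | x ∈ span V ∧ x ^ 2 = 1}
      one_mem' := ⟨one_mem _, one_pow 2⟩
      mul_mem' := fun {x y} hx hy => ⟨mul_mem hx.1 hy.1, by
        rw [(show Commute x y from hc hy.1 x hx.1).mul_pow, hx.2, hy.2, one_mul]⟩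
      inv_mem' := fun {x} hx => ⟨inv_mem hx.1, by rw [inv_pow, hx.2, inv_one]⟩ }
  have hE : span V ≤ E := span_le fun g x hx =>
    ⟨conj_le_span V g hx, (elementary_map hVe).2 x hx⟩
  exact ⟨⟨⟨fun a b => Subtype.ext (hc b.2 a a.2)⟩⟩, fun a ha => (hE ha).2⟩

/-- The condition telescopes over the conjugates. -/
theorem telescope {V Q R : Subgroup G} [Q.Normal] (hQ2 : IsPGroup 2 ↥Q) (hV : Cond V)
    (hQn : Q ≤ normalizer (V : Set G)) (hR : R ≤ Q)
    (hc : ⁅R, R⁆ ≤ centralizer (span V : Set G)) (hs : ∀ r ∈ R, r ^ 2 ∈ centralizer (span V : Set G)) :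
    idx (span V) R ^ 3 ≤ idx R (span V) ^ 2 ∧
      (¬ R ≤ centralizer (span V : Set G) → idx (span V) R ^ 3 < idx R (span V) ^ 2) := by
  set M := span V with hM
  induction hn : Nat.card R using Nat.strong_induction_on generalizing R with
  | _ n ih =>
    subst hn
    by_cases hRM : R ≤ centralizer (M : Set G)
    · refine ⟨?_, fun h => absurd hRM h⟩
      rw [idx_eq_one.2 hRM, one_pow]
      exact Nat.one_le_pow _ _ (idx_pos _ _)
    obtain ⟨g, hg⟩ : ∃ g : G,
        ¬ R ≤ centralizer ((V.map (MulAut.conj g).toMonoidHom : Subgroup G) : Set G) := by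
      by_contra hcon
      push Not at hcon
      refine hRM fun r hr m hm => ?_
      have : span V ≤ centralizer ({r} : Set G) := span_le fun g x hx =>
        mem_centralizer_singleton_iff.2 (hcon g hr x hx)
      exact mem_centralizer_singleton_iff.1 (this hm)
    set U := V.map (MulAut.conj g).toMonoidHom with hU
    have hUM : U ≤ M := conj_le_span V g
    have hCle : centralizer (M : Set G) ≤ centralizer (U : Set G) := centralizer_le hUM
    have h1 : idx U R ^ 3 < idx R U ^ 2 := (hV.conj g) R (hQ2.to_le hR)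
      (hR.trans (normal_le_normalizer_conj hQn g)) (hc.trans hCle) (fun r hr => hCle (hs r hr)) hg
    set R1 := R ⊓ centralizer (U : Set G) with hR1
    have hlt : R1 < R := lt_of_le_of_ne inf_le_left fun h => hg (h.ge.trans inf_le_right)
    obtain ⟨h2, -⟩ := ih _ (Set.ncard_lt_ncard (SetLike.coe_ssubset_coe.2 hlt) (Set.toFinite _))
      (inf_le_left.trans hR) ((commutator_mono inf_le_left inf_le_left).trans hc)
      (fun r hr => hs r hr.1) rfl
    have e1 : idx M R = idx M R1 * idx U R := by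
      rw [idx, idx, idx, ← inf_relIndex_right (centralizer (M : Set G)) R,
        ← inf_relIndex_left R (centralizer (U : Set G)), ← hR1,
        ← relIndex_mul_relIndex (centralizer (M : Set G) ⊓ R) R1 R
          (le_inf inf_le_right (inf_le_left.trans hCle)) inf_le_left,
        ← inf_relIndex_right (centralizer (M : Set G) ⊓ R) R1, inf_assoc,
        inf_eq_right.2 (inf_le_left : R1 ≤ R), inf_relIndex_right]
    have e2 : idx R U * idx R1 M ≤ idx R M := by
      set D := centralizer (R1 : Set G) ⊓ M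
      have hUD : U ≤ D := le_inf (fun u hu r hr => (hr.2 u hu).symm) hUM
      calc idx R U * idx R1 M ≤ (centralizer (R : Set G) ⊓ M).relIndex D * D.relIndex M := by
            refine Nat.mul_le_mul ?_ (inf_relIndex_right _ M).ge
            calc idx R U = (centralizer (R : Set G) ⊓ M).relIndex U := by
                  rw [idx, ← inf_relIndex_right, ← inf_relIndex_right (_ ⊓ M), inf_assoc,
                    inf_eq_right.2 hUM]
              _ ≤ _ := relIndex_le_of_le_right hUD index_ne_zero_of_finite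
        _ = (centralizer (R : Set G) ⊓ M).relIndex M :=
            relIndex_mul_relIndex _ _ _ (inf_le_inf_right M (centralizer_le inf_le_left)) inf_le_right
        _ = idx R M := inf_relIndex_right _ M
    have h3 : idx M R ^ 3 < idx R M ^ 2 :=
      calc idx M R ^ 3 = idx U R ^ 3 * idx M R1 ^ 3 := by rw [e1]; ring
        _ < idx R U ^ 2 * idx R1 M ^ 2 :=
            Nat.mul_lt_mul_of_lt_of_le h1 h2 (pow_pos (idx_pos _ _) 2)
        _ = (idx R U * idx R1 M) ^ 2 := by ring
        _ ≤ _ := Nat.pow_le_pow_left e2 2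
    exact ⟨h3.le, fun _ => h3⟩

end Cfsg.Agent.CharP.Square
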