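import Cfsg.Agent.Lib.CharP.SquareEGroup
import Cfsg.Agent.Lib.Cores.Subnormal
import Mathlib.GroupTheory.Transfer

/-!
Characteristic-two sections: a group with a normal 2-subgroup containing the centraliser of it in
a Sylow 2-subgroup, modulo its odd core.
-/

set_option autoImplicit false
set_option linter.unusedSectionVars false
set_option linter.style.haveILetI false

namespace Cfsg.Agent.CharP.Square

open Subgroup
open scoped commutatorElement

universe u

variable {G : Type u} [Group G] [Finite G]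

theorem odd_core_inf {T : Subgroup G} (hT : IsPGroup 2 ↥T) : T ⊓ Cfsg.pPrimeCore 2 G = ⊥ := by
  haveI : Fact (Nat.Prime 2) := ⟨Nat.prime_two⟩
  refine inf_eq_bot_of_coprime ?_
  obtain ⟨k, hk⟩ := hT.exists_card_eq
  rw [hk]
  exact (Cores.pPrimeCore_card_coprime (G := G) 2).symm.pow_left k

/-- Centralisers in the quotient by the odd core. -/
theorem constrained_quotient {X : Type u} [Group X] [Finite X] (S : Sylow 2 X) (T : Subgroup X)
    [hn : T.Normal] (hT : IsPGroup 2 ↥T)
    (hc : (S : Subgroup X) ⊓ centralizer (T : Set X) ≤ T) :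
    centralizer (Cfsg.pCore 2 (X ⧸ Cfsg.pPrimeCore 2 X) : Set (X ⧸ Cfsg.pPrimeCore 2 X)) ≤
      Cfsg.pCore 2 (X ⧸ Cfsg.pPrimeCore 2 X) := by
  haveI : Fact (Nat.Prime 2) := ⟨Nat.prime_two⟩
  set O := Cfsg.pPrimeCore 2 X with hO
  set q := QuotientGroup.mk' O
  haveI : (T.map q).Normal := hn.map q (QuotientGroup.mk'_surjective O)
  have hTle : T.map q ≤ Cfsg.pCore 2 (X ⧸ O) := PLocal.Cores.le_pCore (hT.map q)
  set C := centralizer (T : Set X) with hC
  haveI : C.Normal := inferInstance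
  -- a normal 2-complement of the centraliser
  obtain ⟨P, hP⟩ : IsSylIn 2 ((S : Subgroup X) ⊓ C) C :=
    (isSylIn_top_iff.2 ⟨S, rfl⟩).inf_normal le_top (by rw [normalizer_eq_top])
  have hPT : ∀ x : ↥C, x ∈ (P : Subgroup ↥C) → (x : X) ∈ T := fun x hx =>
    hc (hP ▸ mem_map_of_mem _ hx)
  have hcen : normalizer ((P : Subgroup ↥C) : Set ↥C) ≤ centralizer ((P : Subgroup ↥C) : Set ↥C) :=
    fun n _ x hx => Subtype.ext (n.2 (x : X) (hPT x hx))
  set K := (MonoidHom.transferSylow P hcen).ker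
  have hKc : K.IsComplement' (P : Subgroup ↥C) := MonoidHom.ker_transferSylow_isComplement' P hcen
  have hKodd : (Nat.card K).Coprime 2 := by
    have h := MonoidHom.not_dvd_card_ker_transferSylow P hcen
    exact (Nat.prime_two.coprime_iff_not_dvd.2 h).symm
  have hCle : C ≤ T ⊔ O := by
    intro c hc'
    obtain ⟨⟨k, s⟩, e⟩ := hKc.2 ⟨c, hc'⟩
    have e' : ((k : ↥C) : X) * ((s : ↥C) : X) = c := congrArg Subtype.val e
    rw [← e']
    refine mul_mem (mem_sup_right ?_) (mem_sup_left (hPT _ s.2))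
    exact Cores.map_pPrimeCore_le_of_isSubnormal 2 (inferInstance : C.Normal).isSubnormal
      ⟨k, PLocal.Cores.le_pPrimeCore hKodd k.2, rfl⟩
  intro x hx
  obtain ⟨g, rfl⟩ := QuotientGroup.mk'_surjective O x
  have hgC : g ∈ C := fun t ht => by
    have h1 : q t * q g = q g * q t := hx _ (hTle (mem_map_of_mem q ht))
    rw [← map_mul, ← map_mul] at h1
    have h2 : g * t * g⁻¹ * t⁻¹ ∈ T ⊓ O := by
      refine ⟨T.mul_mem (hn.conj_mem t ht g) (T.inv_mem ht), ?_⟩
      have h3 := QuotientGroup.eq_iff_div_mem.1 h1.symm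
      rwa [div_eq_mul_inv, mul_inv_rev, ← mul_assoc] at h3
    rw [odd_core_inf hT, mem_bot, mul_inv_eq_one, mul_inv_eq_iff_eq_mul] at h2
    exact h2.symm
  obtain ⟨t, ht, o, ho, rfl⟩ := mem_sup_of_normal_right.1 (hCle hgC)
  rw [map_mul, show q o = 1 from (QuotientGroup.eq_one_iff o).2 ho, mul_one]
  exact hTle (mem_map_of_mem q ht)

/-- A characteristic-two section is good. -/
theorem good_section (hfree : ¬ Cfsg.Involves (Equiv.Perm (Fin 4)) G)
    (hsec : ∀ (K R : Subgroup G) [hR : (R.subgroupOf K).Normal],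
      centralizer (Cfsg.pCore 2 (K ⧸ R.subgroupOf K) : Set (K ⧸ R.subgroupOf K)) ≤
        Cfsg.pCore 2 (K ⧸ R.subgroupOf K) →
      Cfsg.IsCompositionKGroupWith Cfsg.IsSuzukiOrPSL2OddPowerThree (K ⧸ R.subgroupOf K))
    {X : Subgroup G} (N : Subgroup ↥X) [N.Normal]
    (hc : centralizer (Cfsg.pCore 2 (↥X ⧸ N) : Set (↥X ⧸ N)) ≤ Cfsg.pCore 2 (↥X ⧸ N)) :
    Good (↥X ⧸ N) := by
  have e : (N.map X.subtype).subgroupOf X = N :=
    comap_map_eq_self_of_injective X.subtype_injective N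
  haveI : ((N.map X.subtype).subgroupOf X).Normal := by rw [e]; infer_instance
  have hfree' : ∀ {Y : Type u} [Group Y] (f : ↥X →* Y), Function.Surjective f →
      ¬ Cfsg.Involves (Equiv.Perm (Fin 4)) Y := fun f hf hI => hfree
    (Fusion.LocalModels.involves_of_injective X.subtype X.subtype_injective
      (Fusion.LocalModels.involves_of_surjective f hf hI))
  let ε : ↥X ⧸ (N.map X.subtype).subgroupOf X ≃* ↥X ⧸ N := QuotientGroup.quotientMulEquivOfEq e
  have hc' : centralizer (Cfsg.pCore 2 (↥X ⧸ (N.map X.subtype).subgroupOf X) : Set _) ≤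
      Cfsg.pCore 2 (↥X ⧸ (N.map X.subtype).subgroupOf X) := by
    intro x hx
    have h1 : ε x ∈ Cfsg.pCore 2 (↥X ⧸ N) := hc fun y hy => by
      rw [← PLocal.Cores.map_pCore_equiv ε] at hy
      obtain ⟨z, hz, rfl⟩ := hy
      show ε z * ε x = ε x * ε z
      rw [← map_mul, ← map_mul, hx z hz]
    rw [← PLocal.Cores.map_pCore_equiv ε] at h1
    obtain ⟨z, hz, hze⟩ := h1
    rwa [← ε.injective hze]
  exact ⟨hc, hfree' _ (QuotientGroup.mk'_surjective N),
    FactorList.quotient (f := ε.toMonoidHom) (FactorList.of_kGroup (hsec X (N.map X.subtype) hc'))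
      ε.surjective⟩

end Cfsg.Agent.CharP.Square
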