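import Cfsg.Agent.Lib.CharP.SquareSection
import Cfsg.Agent.Lib.PLocal.ThompsonSubgroup
import Cfsg.Agent.S1996

/-!
The normal closure of `Ω₁(Z(S))` in the normalizer of `J_e(S)` is strongly closed in a group without
a section `S₄` whose sections of characteristic two have the listed composition factors.
-/

set_option autoImplicit false
set_option linter.unusedSectionVars false
set_option linter.style.haveILetI false

namespace Cfsg.Agent.CharP.Square

open Subgroup
open scoped commutatorElement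

universe u

variable {G : Type u} [Group G] [Finite G]

/-- The square bound gives the two inequalities of an E-group. -/
theorem eCond_of_square {V U : Subgroup G}
    (h : ∀ R ≤ U, (∀ a ∈ R, ∀ b ∈ R, ⁅a, b⁆ ∈ centralizer (V : Set G)) →
      (∀ a ∈ R, a ^ 2 ∈ centralizer (V : Set G)) →
      idx V R ^ 2 ≤ idx R V ∧ idx V R ^ 2 ≤ Nat.card ↥⁅V, R⁆) : ECond V U := by
  intro R hR h1 h2 h3
  obtain ⟨hi, hc⟩ := h R hR (fun a ha b hb => h1 (commutator_mem_commutator ha hb)) h2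
  have h4 : 2 ≤ idx V R := by
    have := idx_pos V R
    have : idx V R ≠ 1 := fun e => h3 (idx_eq_one.1 e)
    omega
  constructor
  · calc idx V R ^ 3 < idx V R ^ 4 := Nat.pow_lt_pow_right h4 (by norm_num)
      _ = (idx V R ^ 2) ^ 2 := by ring
      _ ≤ _ := Nat.pow_le_pow_left hi 2
  · calc Nat.card R = idx V R * Nat.card ↥(R ⊓ centralizer (V : Set G)) := (idx_mul_card V R).symm
      _ < idx V R ^ 2 * Nat.card ↥(R ⊓ centralizer (V : Set G)) :=
          Nat.mul_lt_mul_of_pos_right (lt_self_pow₀ h4 one_lt_two) Nat.card_pos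
      _ ≤ _ := Nat.mul_le_mul_right _ hc

/-- `Ω₁(Z(Ĵ(Q)))`, as a functor. -/
def dFunctor : ∀ (Q : Type u) [Group Q], Subgroup Q := fun Q _ =>
  Cfsg.omegaOne 2 (Cfsg.jHat Q ⊓ centralizer (Cfsg.jHat Q : Set Q))

theorem induced_d (T : Subgroup G) (hT : ∃ A, IsMax A ∧ A ≤ T) :
    Cfsg.inducedFunctor (G := G) dFunctor.{u} T =
      Cfsg.omegaOne 2 (jE T ⊓ centralizer (jE T : Set G)) := by
  show (dFunctor ↥T).map T.subtype = _
  rw [dFunctor, CharP.omegaOne_map T.subtype_injective, CharP.map_centre_inf T.subtype_injective,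
    jHat_map_eq T hT]

theorem map_jHat {Q R : Type u} [Group Q] [Group R] [Finite Q] [Finite R] (φ : Q ≃* R) :
    (Cfsg.jHat Q).map φ.toMonoidHom = Cfsg.jHat R := by
  have key : ∀ {Q R : Type u} [Group Q] [Group R] [Finite Q] [Finite R] (φ : Q ≃* R),
      (Cfsg.jHat Q).map φ.toMonoidHom ≤ Cfsg.jHat R := by
    intro Q R _ _ _ _ φ
    rw [map_le_iff_le_comap, Cfsg.jHat]
    refine sSup_le fun U hU => ?_
    rw [← map_le_iff_le_comap]
    refine le_sSup ⟨?_, (PLocal.ThompsonSubgroup.map_thompsonSubgroup_equiv φ).ge.trans (map_mono hU.2)⟩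
    have h1 := hU.1
    rw [isEGroup_iff (f := U.subtype) U.subtype_injective, range_subtype,
      ← isE_map (f := φ.toMonoidHom) φ.injective] at h1
    rw [isEGroup_iff (f := (U.map φ.toMonoidHom).subtype) (subtype_injective _), range_subtype]
    exact h1
  refine le_antisymm (key φ) fun x hx => ⟨φ.symm x, key φ.symm (mem_map_of_mem _ hx), φ.apply_symm_apply x⟩

theorem omegaCenter_le_max {S : Subgroup G} {z : G}
    (hz : z ∈ Cfsg.omegaOne 2 (S ⊓ centralizer (S : Set G))) {B : Subgroup G} (hB : IsMax B)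
    (hBS : B ≤ S) : z ∈ B := by
  set Z := Cfsg.omegaOne 2 (S ⊓ centralizer (S : Set G))
  have hZle : Z ≤ S ⊓ centralizer (S : Set G) := (closure_le _).2 fun x hx => hx.1
  let E : Subgroup G :=
    { carrier := {x | x ∈ S ⊓ centralizer (S : Set G) ∧ x ^ 2 = 1}
      one_mem' := ⟨one_mem _, one_pow 2⟩
      mul_mem' := fun {x y} hx hy => ⟨mul_mem hx.1 hy.1, by
        rw [(show Commute x y from hy.1.2 x hx.1.1).mul_pow, hx.2, hy.2, one_mul]⟩
      inv_mem' := fun {x} hx => ⟨inv_mem hx.1, by rw [inv_pow, hx.2, inv_one]⟩ }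
  have hE : Z ≤ E := (closure_le E).2 fun x hx => hx
  have hZe : Cfsg.IsElementaryAbelian 2 Z :=
    ⟨⟨⟨fun a b => Subtype.ext ((hZle b.2).2 a (hZle a.2).1)⟩⟩, fun a ha => (hE ha).2⟩
  have hBZ : B ≤ centralizer (Z : Set G) := fun b hb x hx => ((hZle hx).2 b (hBS hb)).symm
  exact ((eq_of_le_of_card_ge (le_sup_left (b := Z)) (hB.2 _ (elementary_sup hB.1 hZe hBZ))).ge
    (mem_sup_right hz))

theorem isCharPFunctor_d : Cfsg.IsCharPFunctor.{u} 2 dFunctor.{u} := by
  refine ⟨fun Q _ _ hQ hnt => ?_, fun Q R _ _ _ hQ φ => ?_⟩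
  · haveI : Fact (Nat.Prime 2) := ⟨Nat.prime_two⟩
    haveI := hQ.center_nontrivial
    obtain ⟨z, hz⟩ := exists_prime_orderOf_dvd_card' (G := ↥(center Q)) 2
      (by
        obtain ⟨n, hn⟩ := (hQ.to_subgroup (center Q)).exists_card_eq
        rcases n with _ | n
        · exact absurd (hn.trans (pow_zero 2)) Finite.one_lt_card.ne'
        · exact hn ▸ dvd_pow_self 2 n.succ_ne_zero)
    intro h
    have hz1 : (z : Q) ≠ 1 := fun e => by
      rw [show z = 1 from Subtype.ext e, orderOf_one] at hz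
      omega
    refine hz1 (mem_bot.1 (h ▸ subset_closure ⟨⟨?_, ?_⟩, ?_⟩))
    · obtain ⟨A, hA, -⟩ := exists_isMax_le (default : Sylow 2 Q)
      have hm : A ∈ Cfsg.maxElementaryAbelianSubgroups 2 Q := ⟨hA.1, hA.2⟩
      have hzA : (z : Q) ∈ A := omegaCenter_le_max (S := (⊤ : Subgroup Q))
        (subset_closure ⟨⟨mem_top _, fun y _ => mem_center_iff.1 z.2 y⟩, by
          rw [← SubmonoidClass.coe_pow, ← hz, pow_orderOf_eq_one]; rfl⟩) hA le_top
      have hJ : Cfsg.thompsonSubgroup 2 Q ≤ Cfsg.jHat Q := le_sSup ⟨by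
        rw [isEGroup_iff (f := (Cfsg.thompsonSubgroup 2 Q).subtype) (subtype_injective _), range_subtype]
        have e : Cfsg.thompsonSubgroup 2 Q = jMax (⊤ : Subgroup Q) := le_antisymm
          (sSup_le fun B hB => le_jMax ⟨hB.1, hB.2⟩ le_top) (sSup_le fun B hB => le_sSup ⟨hB.1.1, hB.1.2⟩)
        rw [e]
        exact isE_jMax _, le_rfl⟩
      exact hJ (le_sSup hm hzA)
    · exact fun y _ => mem_center_iff.1 z.2 y
    · rw [← SubmonoidClass.coe_pow, ← hz, pow_orderOf_eq_one]; rfl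
  · haveI : Finite R := Finite.of_equiv _ φ.toEquiv
    show (dFunctor Q).map φ.toMonoidHom = dFunctor R
    rw [dFunctor, CharP.omegaOne_map φ.injective, CharP.map_centre_inf φ.injective, map_jHat φ]
    rfl

/-- The main result. -/
theorem strongly_closed
    (hfree : ¬ Cfsg.Involves (Equiv.Perm (Fin 4)) G)
    (hsec : ∀ (K R : Subgroup G) [hR : (R.subgroupOf K).Normal],
      centralizer (Cfsg.pCore 2 (K ⧸ R.subgroupOf K) : Set (K ⧸ R.subgroupOf K)) ≤
        Cfsg.pCore 2 (K ⧸ R.subgroupOf K) →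
      Cfsg.IsCompositionKGroupWith Cfsg.IsSuzukiOrPSL2OddPowerThree (K ⧸ R.subgroupOf K))
    (S : Sylow 2 G) (N : Subgroup G) (hN : N = normalizer (jMax (S : Subgroup G) : Set G))
    (A : Subgroup G)
    (hA : A = (normalClosure (((Cfsg.omegaOne 2 ((S : Subgroup G) ⊓ centralizer ((S : Subgroup G) : Set G))).subgroupOf N : Subgroup ↥N) : Set ↥N)).map N.subtype) :
    A ≤ (S : Subgroup G) ∧ Cfsg.IsElementaryAbelian 2 A ∧ Cfsg.IsStronglyClosed A (S : Subgroup G) := by
  classical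
  haveI : Fact (Nat.Prime 2) := ⟨Nat.prime_two⟩
  set J := jMax (S : Subgroup G) with hJ
  set Z1 := Cfsg.omegaOne 2 ((S : Subgroup G) ⊓ centralizer ((S : Subgroup G) : Set G)) with hZ1
  have hSN : (S : Subgroup G) ≤ N := by
    intro s hs
    rw [hN, mem_normalizer_iff_map_conj_eq]
    exact (conj_jMax _ s).trans (congrArg jMax (mem_normalizer_iff_map_conj_eq.1 (le_normalizer hs)))
  have hZS : Z1 ≤ (S : Subgroup G) ⊓ centralizer ((S : Subgroup G) : Set G) :=
    (closure_le _).2 fun x hx => hx.1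
  have hgen : ∀ n ∈ N, ∀ z ∈ Z1, n * z * n⁻¹ ∈ A := fun n hn z hz => by
    rw [hA]
    exact ⟨⟨n, hn⟩ * ⟨z, hSN (hZS hz).1⟩ * (⟨n, hn⟩ : ↥N)⁻¹,
      (normalClosure_normal).conj_mem _ (subset_normalClosure (mem_subgroupOf.2 hz)) _, rfl⟩
  have hAle : ∀ K : Subgroup G, (∀ n ∈ N, ∀ z ∈ Z1, n * z * n⁻¹ ∈ K) → A ≤ K := by
    intro K hK
    rw [hA, map_le_iff_le_comap]
    refine (closure_le _).2 fun y hy => ?_
    obtain ⟨z, hz, hc⟩ := Group.mem_conjugatesOfSet_iff.1 hy
    obtain ⟨c, rfl⟩ := isConj_iff.1 hc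
    exact hK c c.2 z hz
  have hAN : N ≤ normalizer (A : Set G) := fun x hx => by
    rw [hA]
    refine le_normalizer_map N.subtype ⟨⟨x, hx⟩, ?_, rfl⟩
    rw [normalizer_eq_top_iff.2 normalClosure_normal]; exact mem_top _
  have hAB : ∀ B, IsMax B → B ≤ (S : Subgroup G) → A ≤ B := fun B hB hBS => hAle B fun n hn z hz => by
    have hle : B.map (MulAut.conj n⁻¹).toMonoidHom ≤ (S : Subgroup G) := by
      refine (map_mono (le_jMax hB hBS)).trans ?_
      have e : J.map (MulAut.conj n⁻¹).toMonoidHom = J :=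
        mem_normalizer_iff_map_conj_eq.1 (show n⁻¹ ∈ normalizer (J : Set G) from hN ▸ inv_mem hn)
      exact e.le.trans (jMax_le _)
    obtain ⟨b, hb, e⟩ := omegaCenter_le_max hz (hB.conj n⁻¹) hle
    change n⁻¹ * b * n⁻¹⁻¹ = z at e
    rw [← e, show n * (n⁻¹ * b * n⁻¹⁻¹) * n⁻¹ = b by group]
    exact hb
  obtain ⟨B0, hB0, hB0S⟩ := exists_isMax_le S
  have hAJ : A ≤ J := (hAB B0 hB0 hB0S).trans (le_jMax hB0 hB0S)
  have hAS : A ≤ (S : Subgroup G) := hAJ.trans (jMax_le _)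
  have hAe : Cfsg.IsElementaryAbelian 2 A := elem_mono hB0.1 (hAB B0 hB0 hB0S)
  -- the section on `A`
  set C := centralizer (A : Set G) with hC
  set X := N ⊓ normalizer (((S : Subgroup G) ⊓ C : Subgroup G) : Set G) with hX
  have hSyl : IsSylIn 2 (S : Subgroup G) N := (isSylIn_top_iff.2 ⟨S, rfl⟩).mono hSN le_top
  have hSX : (S : Subgroup G) ≤ X := le_inf hSN ((le_inf le_normalizer
    ((hSN.trans hAN).trans (normalizer_le_normalizer_centralizer A))).trans
    inf_normalizer_le_normalizer_inf)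
  set S0 : Sylow 2 ↥X := S.subtype hSX with hS0
  set T0 : Subgroup ↥X := ((S : Subgroup G) ⊓ C).subgroupOf X with hT0
  haveI : T0.Normal := normal_subgroupOf_iff_le_normalizer (inf_le_left.trans hSX) |>.2 inf_le_right
  have hAT : A ≤ (S : Subgroup G) ⊓ C := le_inf hAS (elem_le_centralizer hAe)
  have hT2 : IsPGroup 2 ↥T0 :=
    (S.2.to_le (inf_le_left : (S : Subgroup G) ⊓ C ≤ _)).comap_of_injective X.subtype X.subtype_injective
  have hconst := constrained_quotient S0 T0 hT2 (fun x hx => mem_subgroupOf.2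
    ⟨mem_subgroupOf.1 hx.1, fun a ha => congrArg Subtype.val
      (hx.2 ⟨a, hSX (hAS ha)⟩ (mem_subgroupOf.2 (hAT ha)))⟩)
  set O := Cfsg.pPrimeCore 2 ↥X with hO
  have hGX : Good (↥X ⧸ O) := good_section hfree hsec O hconst
  set q := QuotientGroup.mk' O with hq
  let j : ↥(S : Subgroup G) →* ↥X := inclusion hSX
  set f := q.comp j with hf
  have hfinj : Function.Injective f := by
    rw [← MonoidHom.ker_eq_bot_iff, eq_bot_iff]
    intro s hs
    have h1 : j s ∈ O := (QuotientGroup.eq_one_iff _).1 hs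
    have h2 : j s ∈ (S0 : Subgroup ↥X) ⊓ O := ⟨mem_subgroupOf.2 s.2, h1⟩
    rw [odd_core_inf S0.2, mem_bot] at h2
    exact mem_bot.2 (Subtype.ext (congrArg (fun y : ↥X => (y : G)) h2))
  set As := A.subgroupOf (S : Subgroup G) with hAs
  have eAs : As.map (S : Subgroup G).subtype = A := map_subgroupOf_eq_of_le hAS
  set M := As.map f with hM
  have hMe : Cfsg.IsElementaryAbelian 2 M :=
    elementary_map (elementary_of_map (subtype_injective _) (by rwa [eAs]))
  have hMmem : ∀ {a : G} (ha : a ∈ A), q ⟨a, hSX (hAS ha)⟩ ∈ M := fun {a} ha =>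
    ⟨⟨a, hAS ha⟩, mem_subgroupOf.2 ha, rfl⟩
  have hMn : ⊤ ≤ normalizer (M : Set (↥X ⧸ O)) := fun y _ => by
    obtain ⟨x, rfl⟩ := QuotientGroup.mk'_surjective O y
    refine PLocal.GlaubermanReplacement.mem_normalizer_of_conj_mem ?_
    rintro _ ⟨a, ha, rfl⟩
    have hxa : (x : G) * (a : G) * (x : G)⁻¹ ∈ A :=
      (mem_normalizer_iff.1 (hAN x.2.1) _).1 (mem_subgroupOf.1 ha)
    have h1 := hMmem hxa
    rw [show (⟨_, hSX (hAS hxa)⟩ : ↥X) = x * j a * x⁻¹ from rfl, map_mul, map_mul, map_inv] at h1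
    exact h1
  haveI hMnormal : M.Normal := normalizer_eq_top_iff.1 (top_le_iff.1 hMn)
  have hS' : ∀ s : ↥(S : Subgroup G), f s ∈ ((S0.mapSurjective (QuotientGroup.mk'_surjective O) :
      Sylow 2 (↥X ⧸ O)) : Subgroup (↥X ⧸ O)) := fun s => by
    rw [Sylow.coe_mapSurjective]
    exact mem_map_of_mem q (mem_subgroupOf.2 s.2)
  set S' := S0.mapSurjective (QuotientGroup.mk'_surjective O) with hS'def
  have hS'le : (S' : Subgroup (↥X ⧸ O)) ≤ f.range := by
    rw [hS'def, Sylow.coe_mapSurjective]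
    rintro _ ⟨x, hx, rfl⟩
    exact ⟨⟨x, mem_subgroupOf.1 hx⟩, rfl⟩
  have hOred : ∀ W : Subgroup (↥X ⧸ O), W.Normal → centralizer (M : Set (↥X ⧸ O)) ≤ W →
      (∀ w ∈ W, ∃ e : ℕ, w ^ 2 ^ e ∈ centralizer (M : Set (↥X ⧸ O))) →
      W ≤ centralizer (M : Set (↥X ⧸ O)) := by
    intro W hW hle hp
    have hsup := le_sup_sylow S' hle hp
    have hWz : ∀ w ∈ W, ∀ (z : G) (hz : z ∈ Z1), Commute w (q ⟨z, hSX (hZS hz).1⟩) := by
      intro w hw z hz
      have hzA : z ∈ A := by simpa using hgen 1 (one_mem N) z hz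
      have h1 : centralizer (M : Set (↥X ⧸ O)) ⊔ ((S' : Subgroup (↥X ⧸ O)) ⊓ W) ≤
          centralizer ({q ⟨z, hSX (hZS hz).1⟩} : Set (↥X ⧸ O)) := by
        refine sup_le (fun c hc => mem_centralizer_singleton_iff.2 (hc _ (hMmem hzA)).symm) ?_
        intro c hc
        obtain ⟨s, rfl⟩ := hS'le hc.1
        refine mem_centralizer_singleton_iff.2 ?_
        show q (j s) * q _ = q _ * q (j s)
        rw [← map_mul, ← map_mul]
        exact congrArg q (Subtype.ext ((hZS hz).2 (s : G) s.2))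
      exact mem_centralizer_singleton_iff.1 (h1 (hsup hw))
    intro w hw
    have hA' : A ≤ ((centralizer ({w} : Set (↥X ⧸ O))).comap q).map X.subtype := hAle _ fun n hn z hz => by
      obtain ⟨x, hx, c, hc, rfl⟩ := exists_mem_normalizer_mul_mem_centralizer hSyl hAN hn
      have hzA : z ∈ A := by simpa using hgen 1 (one_mem N) z hz
      have e : x * c * z * (x * c)⁻¹ = x * z * x⁻¹ := by
        calc x * c * z * (x * c)⁻¹ = x * (c * z) * c⁻¹ * x⁻¹ := by group
          _ = x * (z * c) * c⁻¹ * x⁻¹ := by rw [← hc.2 z hzA]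
          _ = _ := by group
      rw [e]
      refine ⟨⟨x, hx⟩ * ⟨z, hSX (hZS hz).1⟩ * (⟨x, hx⟩ : ↥X)⁻¹, mem_centralizer_singleton_iff.2 ?_, rfl⟩
      rw [map_mul, map_mul, map_inv]
      set u := q ⟨x, hx⟩
      have h2 := hWz (u⁻¹ * w * u) (by have := hW.conj_mem w hw u⁻¹; rwa [inv_inv] at this) z hz
      set v := q ⟨z, hSX (hZS hz).1⟩
      calc u * v * u⁻¹ * w = u * (v * (u⁻¹ * w * u)) * u⁻¹ := by group
        _ = u * (u⁻¹ * w * u * v) * u⁻¹ := by rw [h2.eq]
        _ = _ := by group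
    rintro _ ⟨a, ha, rfl⟩
    obtain ⟨y, hy, e⟩ := hA' (mem_subgroupOf.1 ha)
    have hy' : y = j a := Subtype.ext e
    subst hy'
    exact mem_centralizer_singleton_iff.1 hy
  have hQC : Cfsg.pCore 2 (↥X ⧸ O) ≤ centralizer (M : Set (↥X ⧸ O)) := by
    refine le_trans le_sup_right (hOred (centralizer (M : Set (↥X ⧸ O)) ⊔ Cfsg.pCore 2 (↥X ⧸ O))
      inferInstance le_sup_left fun g hg => ?_)
    obtain ⟨c, hc, x, hx, rfl⟩ := mem_sup_of_normal_left.1 hg
    obtain ⟨e, he⟩ := PLocal.Cores.isPGroup_pCore (p := 2) (⟨x, hx⟩ : ↥(Cfsg.pCore 2 (↥X ⧸ O)))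
    refine ⟨e, (QuotientGroup.eq_one_iff _).1 ?_⟩
    have h1 := congrArg Subtype.val he
    rw [SubmonoidClass.coe_pow] at h1
    rw [QuotientGroup.mk_pow, QuotientGroup.mk_mul, (QuotientGroup.eq_one_iff c).2 hc, one_mul,
      ← QuotientGroup.mk_pow, h1]
    rfl
  have hcond' : ECond M f.range := eCond_of_square fun R _ h1 h2 => by
    obtain ⟨hb1, hb2⟩ := cost hGX (MonoidHom.id (↥X ⧸ O)) hMe
      (by rw [normalizer_eq_top]; exact le_top) (by rw [comap_id]; exact hQC)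
      (fun W hW hle hp => by rw [comap_id] at hle hp ⊢; exact hOred W hW hle hp)
      (A := R) (by rw [comap_id]; exact h1) (by rw [comap_id]; exact h2)
    simp only [comap_id, Subgroup.map_id] at hb1 hb2
    refine ⟨?_, hb2⟩
    rw [← idx_mul_card R M] at hb1
    exact Nat.le_of_mul_le_mul_right hb1 Nat.card_pos
  have hcond : ECond A (S : Subgroup G) := by
    rw [MonoidHom.range_eq_map, eCond_map hfinj] at hcond'
    have := (eCond_map (f := (S : Subgroup G).subtype) (subtype_injective _)).2 hcond'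
    rwa [eAs, ← MonoidHom.range_eq_map, range_subtype] at this
  -- `A ≤ Ω₁(Z(Ĵ(S)))`
  set E := jE (S : Subgroup G) with hE
  set D := Cfsg.omegaOne 2 (E ⊓ centralizer (E : Set G)) with hD
  have hEA : E ≤ centralizer (A : Set G) := sSup_le fun U ⟨hUS, hUE, hJU⟩ => fun x hx a ha =>
    ((hUE A (hAJ.trans hJU) ((hUS.trans hSN).trans hAN) hAe
      (fun R hR => hcond R (hR.trans hUS))) ha x hx).symm
  have hAD : A ≤ D := fun a ha =>
    subset_closure ⟨⟨jMax_le_jE _ (hAJ ha), fun e he => (hEA he a ha).symm⟩, hAe.2 a ha⟩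
  have hDn : (S : Subgroup G) ≤ normalizer (D : Set G) := fun s hs => by
    refine mem_normalizer_iff_map_conj_eq.2 ?_
    show D.map (MulAut.conj s).toMonoidHom = D
    have e : (S : Subgroup G).map (MulAut.conj s).toMonoidHom = S :=
      mem_normalizer_iff_map_conj_eq.1 (le_normalizer hs)
    rw [hD, CharP.omegaOne_map (MulEquiv.injective _), CharP.map_centre_inf (MulEquiv.injective _),
      hE, conj_jE, e]
  -- the normalizer of `D`
  have hND : normalizer (D : Set G) ≤ normalizer (A : Set G) := by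
    intro n hn
    obtain ⟨a, ha, c, hc, rfl⟩ := exists_mem_normalizer_mul_mem_centralizer
      ((isSylIn_top_iff.2 ⟨S, rfl⟩).mono hDn le_top) le_rfl hn
    refine mul_mem (hAN ?_) ((centralizer_le hAD).trans (centralizer_le_normalizer _) hc.2)
    have hJT : jMax ((S : Subgroup G) ⊓ centralizer (D : Set G)) = J := le_antisymm
      (sSup_le fun B ⟨hB, hBT⟩ => le_jMax hB (hBT.trans inf_le_left))
      (sSup_le fun B ⟨hB, hBS⟩ => le_jMax hB (le_inf hBS fun b hb d hd =>
        (((closure_le _).2 fun x hx => hx.1 : D ≤ E ⊓ centralizer (E : Set G)) hd).2 b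
          (jMax_le_jE _ (le_jMax hB hBS hb)) |>.symm))
    rw [hN, mem_normalizer_iff_map_conj_eq, ← hJT]
    exact (conj_jMax _ a).trans (congrArg jMax (mem_normalizer_iff_map_conj_eq.1 ha.2))
  refine ⟨hAS, hAe, hAS, ?_⟩
  -- fusion
  obtain ⟨T, -, hT2', hTi, hchain⟩ := Cfsg.Agent.S1996.result (G := G) (p := 2) dFunctor.{u}
    (fun Q _ => Cfsg.thompsonSubgroup 2 Q) isCharPFunctor_d
    ⟨fun Q _ _ hQ hnt => by
      refine PLocal.ThompsonSubgroup.thompsonSubgroup_ne_bot ?_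
      obtain ⟨n, hn0, hn⟩ := (hQ.nontrivial_iff_card).1 hnt
      rw [hn]
      exact dvd_pow_self 2 hn0.ne',
      fun Q R _ _ _ _ φ => PLocal.ThompsonSubgroup.map_thompsonSubgroup_equiv φ⟩
    (fun K R hR hc T x => by
      have hG : Good (↥K ⧸ R.subgroupOf K) := good_section hfree hsec (R.subgroupOf K) hc
      obtain ⟨a, ha, b, hb, e⟩ := factor_omega hG T x
      refine ⟨a, ?_, b, ?_, e⟩
      · rw [induced_d _ (exists_isMax_le T)]
        exact centralizer_le_normalizer _ ha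
      · show b ∈ normalizer ((Cfsg.thompsonSubgroupOf 2 (T : Subgroup (↥K ⧸ R.subgroupOf K)) :
          Subgroup (↥K ⧸ R.subgroupOf K)) : Set (↥K ⧸ R.subgroupOf K))
        rw [thompsonSubgroupOf_eq _ (exists_isMax_le T)]
        exact hb)
  obtain ⟨g, hg⟩ := exists_conj_le_sylow S hT2'
  set c' := (MulAut.conj g).toMonoidHom
  have hTS : T.map c' = (S : Subgroup G) := by
    refine eq_of_le_of_card_ge hg ?_
    rw [card_map_of_injective (MulEquiv.injective _)]
    obtain ⟨T', hT'⟩ := isSylIn_top_iff.1 (isSylIn_of_not_dvd hT2' le_top hTi)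
    rw [← hT', T'.card_eq_multiplicity, S.card_eq_multiplicity]
  intro x hx h hh
  have hTmax : ∃ B, IsMax B ∧ B ≤ T := ⟨B0.map (MulAut.conj g⁻¹).toMonoidHom, hB0.conj _, by
    have := map_mono (f := (MulAut.conj g⁻¹).toMonoidHom) (hB0S.trans hTS.ge)
    rwa [map_conj_conj, inv_mul_cancel, map_conj_one] at this⟩
  have hmemT : ∀ y : G, y ∈ (S : Subgroup G) → g⁻¹ * y * g ∈ T := fun y hy => by
    obtain ⟨t, ht, rfl⟩ := hTS.ge hy
    show g⁻¹ * (g * t * g⁻¹) * g ∈ T
    rwa [show g⁻¹ * (g * t * g⁻¹) * g = t by group]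
  obtain ⟨k, cc, hc0, hstep, -, hlast⟩ := hchain {g⁻¹ * x * g} (g⁻¹ * h * g) (mem_top _)
    (Set.singleton_subset_iff.2 (hmemT x (hAS hx))) (by
      rw [Set.image_singleton, Set.singleton_subset_iff]
      show g⁻¹ * h * g * (g⁻¹ * x * g) * (g⁻¹ * h * g)⁻¹ ∈ (T : Set G)
      rw [show g⁻¹ * h * g * (g⁻¹ * x * g) * (g⁻¹ * h * g)⁻¹ = g⁻¹ * (h * x * h⁻¹) * g by group]
      exact hmemT _ hh)
  have hwN : ∀ w, (∃ W ∈ ({Cfsg.inducedFunctor (G := G) dFunctor.{u},
      Cfsg.inducedFunctor (G := G) (fun Q _ => Cfsg.thompsonSubgroup 2 Q)} :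
        Set (Subgroup G → Subgroup G)), w ∈ (⊤ : Subgroup G) ⊓ normalizer ((W T : Subgroup G) : Set G)) →
      g * w * g⁻¹ ∈ normalizer (A : Set G) := by
    rintro w ⟨W, rfl | rfl, -, hw⟩
    · refine hND ?_
      have h1 := le_normalizer_map c' (mem_map_of_mem c' hw)
      rw [induced_d T hTmax, CharP.omegaOne_map (MulEquiv.injective _),
        CharP.map_centre_inf (MulEquiv.injective _), conj_jE, hTS] at h1
      exact h1
    · refine hAN ?_
      have h1 := le_normalizer_map c' (mem_map_of_mem c' hw)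
      rw [show Cfsg.inducedFunctor (G := G) (fun Q _ => Cfsg.thompsonSubgroup 2 Q) T =
        jMax T from thompsonSubgroupOf_eq T hTmax, conj_jMax, hTS] at h1
      rw [hN]
      exact h1
  have hind : ∀ i : Fin (k + 1), g * (cc i) * g⁻¹ ∈ normalizer (A : Set G) := by
    intro i
    induction i using Fin.induction with
    | zero => rw [hc0, mul_one, mul_inv_cancel]; exact one_mem _
    | succ i ih =>
      have h1 := mul_mem (hwN _ (hstep i)) ih
      rwa [show g * (cc i.succ * (cc i.castSucc)⁻¹) * g⁻¹ * (g * cc i.castSucc * g⁻¹) =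
        g * cc i.succ * g⁻¹ by group] at h1
  have h1 := hlast (g⁻¹ * x * g) rfl
  have h2 := (mem_normalizer_iff.1 (hind (Fin.last k)) x).1 hx
  rw [show g * cc (Fin.last k) * g⁻¹ * x * (g * cc (Fin.last k) * g⁻¹)⁻¹ =
    g * (cc (Fin.last k) * (g⁻¹ * x * g) * (cc (Fin.last k))⁻¹) * g⁻¹ by group, h1,
    show g * (g⁻¹ * h * g * (g⁻¹ * x * g) * (g⁻¹ * h * g)⁻¹) * g⁻¹ = h * x * h⁻¹ by group] at h2
  exact h2

end Cfsg.Agent.CharP.Square
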