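import Cfsg.Agent.Lib.CharP.StableNormal

/-!
For odd `p`, the fusion system of a stable group is constrained.
-/

set_option autoImplicit false
set_option linter.unusedSectionVars false
set_option maxHeartbeats 1000000

universe u

namespace Cfsg.Agent.CharP.StableConstrained

open Cfsg Cfsg.FusionSystem Cfsg.Agent.Fusion.Basic Cfsg.Agent.CharP.InnerControlZJ
  Cfsg.Agent.CharP.LocalControl Cfsg.Agent.Techniques.SL2.ZJFusion Cfsg.Agent.Fusion.Group
  Cfsg.Agent.PLocal.StableFusion

variable {p : ℕ} [Fact p.Prime] {G : Type u} [Group G] [Finite G]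

/-- An automorphism fixing a `p`-subgroup fixes the centre of its Thompson subgroup. -/
theorem zj_aut {R : Subgroup G} (hR : IsPGroup p R) (θ : MulAut G) (h : ∀ x ∈ R, θ x ∈ R)
    {x : G} (hx : x ∈ centerThompsonAOf R) : θ x ∈ centerThompsonAOf R := by
  rw [centerThompsonAOf_eq hR] at hx ⊢
  have hh : IsHomOn R (θ : G → G) := fun a _ b _ => map_mul θ a b
  have himg : img (θ : G → G) R = R := by
    refine Subgroup.eq_of_le_of_card_ge (img_le h) ?_
    have hm : R.map θ.toMonoidHom ≤ img (θ : G → G) R := by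
      rintro _ ⟨a, ha, rfl⟩
      exact mem_img_self _ ha
    refine le_trans (Eq.le ?_) (Nat.card_mono (Set.toFinite _) hm)
    exact Nat.card_congr (R.equivMapOfInjective θ.toMonoidHom θ.injective).toEquiv
  have h1 := Wof_img isCharPFunctor_zj.{u}.2 hR hh θ.injective.injOn
  rw [himg] at h1
  rw [← h1]
  exact mem_img_self _ hx

/-- The theorem. -/
theorem constrained (hp : p ≠ 2) (hst : IsNormalizerPStable p G) (P : Sylow p G) :
    (groupFusionSystem (P : Subgroup G)).IsConstrained p := by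
  classical
  set F := groupFusionSystem (P : Subgroup G) with hFdef
  have hsat : F.IsSaturated p := group_saturated P
  set Q := F.core with hQdef
  have hQn : F.IsNormal Q := Fusion.Normal.core_isNormal
  have hQP : Q ≤ (P : Subgroup G) := hQn.1
  have hQsc := Fusion.Normal.normal_stronglyClosed hQn
  have hPQ : (P : Subgroup G) ≤ Subgroup.normalizer (Q : Set G) := fun s hs =>
    Fusion.Normal.le_normalizer_of_stronglyClosed hQsc hs
  -- every map is a conjugation from the normalizer
  have hmaps : ∀ R f, IsMap F R f → ∃ g ∈ Subgroup.normalizer (Q : Set G), ∀ x ∈ R, f x = cj g x := by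
    intro R f hf
    obtain ⟨f', hf', he, himg⟩ := (Fusion.Normal.isNormal_iff.1 hQn).2 R f hf
    obtain ⟨-, -, g, hg⟩ := isMap_group_iff.1 hf'
    refine ⟨g, ?_, fun x hx => by rw [← he x hx]; exact hg x (Subgroup.mem_sup_left hx)⟩
    have h1 : img (cj g) Q = Q :=
      (img_congr fun x hx => (hg x (Subgroup.mem_sup_right hx)).symm).trans himg
    rw [img_cj] at h1
    refine Subgroup.mem_normalizer_iff.2 fun x => ⟨fun hx => ?_, fun hx => ?_⟩
    · rw [← h1]; exact ⟨x, hx, rfl⟩
    · rw [← h1] at hx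
      obtain ⟨y, hy, he⟩ := hx
      rwa [show x = y from mul_left_cancel (mul_right_cancel he.symm)]
  set K := Subgroup.centralizer (Q : Set G) with hKdef
  have hKN : K ≤ Subgroup.normalizer (Q : Set G) := Subgroup.centralizer_le_normalizer _
  have hNK : Subgroup.normalizer (Q : Set G) ≤ Subgroup.normalizer (K : Set G) := by
    have hconj : ∀ g ∈ Subgroup.normalizer (Q : Set G), ∀ x ∈ K, g * x * g⁻¹ ∈ K := by
      intro g hg x hx q hq
      have h1 : g⁻¹ * q * g ∈ Q := by
        have := (Subgroup.mem_normalizer_iff.1 (inv_mem hg) q).1 hq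
        rwa [inv_inv] at this
      calc q * (g * x * g⁻¹) = g * ((g⁻¹ * q * g) * x) * g⁻¹ := by group
        _ = g * (x * (g⁻¹ * q * g)) * g⁻¹ := by rw [hx _ h1]
        _ = g * x * g⁻¹ * q := by group
    intro g hg
    refine Subgroup.mem_normalizer_iff.2 fun x => ⟨hconj g hg x, fun hx => ?_⟩
    have h2 := hconj g⁻¹ (inv_mem hg) _ hx
    rwa [inv_inv, show g⁻¹ * (g * x * g⁻¹) * g = x by group] at h2
  -- the centralizer in the Sylow subgroup
  suffices hmain : (P : Subgroup G) ⊓ K ≤ Q by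
    refine ⟨hsat, Q, hQn, hQP, fun R hR => ?_⟩
    obtain ⟨f, hf, rfl⟩ := isConj_iff_map.1 hR
    have hfQ : img f Q = Q := Fusion.Normal.normal_img_eq hQn hf le_rfl
    rw [hfQ]
    intro x hx
    exact hmain ⟨hx.1, hx.2⟩
  set Z := Q.subgroupOf K with hZdef
  have hZc : Z ≤ Subgroup.center K := fun z hz => Subgroup.mem_center_iff.2 fun k =>
    Subtype.ext (k.2 _ hz).symm
  have hZn : Z.Normal := ⟨fun z hz g => by
    rw [Subgroup.mem_center_iff.1 (hZc hz) g, mul_inv_cancel_right]; exact hz⟩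
  have hZp : IsPGroup p Z := (P.2.to_le hQP).comap_subtype (K := K)
  have hstK : IsNormalizerPStable p (↥K ⧸ Z) := stable_iff.2
    (StableOdd.stable_quotient_central_odd hp (stable_subgroup (stable_iff.1 hst) K) Z hZp
      fun x _ z hz => (Subgroup.mem_center_iff.1 (hZc hz) x).symm)
  -- the Sylow subgroup of the centralizer
  obtain ⟨PK, hPK⟩ : ∃ PK : Sylow p K, (PK : Subgroup K) = (P : Subgroup G).subgroupOf K := by
    obtain ⟨PK, hle⟩ := ((P.2.comap_subtype (K := K))).exists_le_sylow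
    refine ⟨PK, le_antisymm ?_ hle⟩
    set N := Subgroup.normalizer (Q : Set G) with hNdef
    have hmap : IsPGroup p ((PK : Subgroup K).map K.subtype) := PK.2.map _
    have hmapN : (PK : Subgroup K).map K.subtype ≤ N := (Subgroup.map_subtype_le _).trans hKN
    obtain ⟨R, hR⟩ := (hmap.comap_subtype (K := N)).exists_le_sylow
    set PN := P.subtype hPQ with hPN
    obtain ⟨c, hc⟩ := MulAction.exists_smul_eq N PN R
    have hcard : Nat.card ((PK : Subgroup K)) ≤ Nat.card ((P : Subgroup G).subgroupOf K) := by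
      rw [← Subgroup.card_map_of_injective (K := (PK : Subgroup K)) K.subtype_injective,
        ← Subgroup.card_map_of_injective (K := (P : Subgroup G).subgroupOf K) K.subtype_injective]
      rw [← Subgroup.card_map_of_injective (K := (PK : Subgroup K).map K.subtype)
        (f := (MulAut.conj (c : G)⁻¹).toMonoidHom) (MulAut.conj (c : G)⁻¹).injective]
      refine Nat.card_mono (Set.toFinite _) ?_
      rintro _ ⟨x, hx, rfl⟩
      have hxK : x ∈ K := Subgroup.map_subtype_le _ hx
      have hxc : (c : G)⁻¹ * x * (c : G) ∈ K := by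
        have := (Subgroup.mem_normalizer_iff.1 (inv_mem (hNK c.2)) x).1 hxK
        rwa [inv_inv] at this
      have h2 : (⟨x, hmapN hx⟩ : N) ∈ (R : Subgroup N) := hR hx
      rw [← hc, Sylow.coe_subgroup_smul, Subgroup.mem_pointwise_smul_iff_inv_smul_mem] at h2
      have h3 : (c : G)⁻¹ * x * (c : G) ∈ (P : Subgroup G) := by
        simpa [hPN, Subgroup.mem_subgroupOf, MulAut.smul_def] using h2
      exact ⟨⟨_, hxc⟩, h3, by simp⟩
    exact (Subgroup.eq_of_le_of_card_ge hle hcard).ge
  set π := QuotientGroup.mk' Z with hπ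
  set PB := PK.mapSurjective (QuotientGroup.mk'_surjective Z) with hPB
  have hPBmap : (PB : Subgroup (↥K ⧸ Z)) = (PK : Subgroup K).map π := rfl
  set W := centerThompsonAOf (PB : Subgroup (↥K ⧸ Z)) with hW
  have hWP : W ≤ (PB : Subgroup (↥K ⧸ Z)) := by
    rw [hW, centerThompsonAOf_eq PB.2]; exact Wof_le _
  have hZPK : Z ≤ (PK : Subgroup K) := by
    rw [hPK]; exact fun z hz => hQP hz
  have hWcomap : W.comap π ≤ (PK : Subgroup K) := by
    refine (Subgroup.comap_mono hWP).trans ?_
    rw [hPBmap, Subgroup.comap_map_eq, hπ, QuotientGroup.ker_mk']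
    exact sup_le le_rfl hZPK
  set Y := (W.comap π).map K.subtype with hY
  have hYP : Y ≤ (P : Subgroup G) := by
    rintro _ ⟨y, hy, rfl⟩
    have := hWcomap hy
    rw [hPK] at this
    exact this
  -- strong closure
  have hYsc : F.StronglyClosed Y := by
    refine ⟨hYP, fun R hR φ hφ r => ?_⟩
    obtain ⟨g, hg, hge⟩ := hmaps R _ (IsMap.of_hom hφ)
    rw [← ext_apply φ r, hge r r.2]
    have hval : cj g (r : G) ∈ (P : Subgroup G) := by
      rw [← hge r r.2]; exact (IsMap.of_hom hφ).mem r.2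
    obtain ⟨y, hy, hyr⟩ := hR r.2
    set αg := Subgroup.normalizerMonoidHom K ⟨g, hNK hg⟩ with hαg
    have hαv : ∀ x : K, (αg x : G) = g * x * g⁻¹ := fun _ => rfl
    obtain ⟨k, hk⟩ := MulAction.exists_smul_eq K PK (PK.mapSurjective (f := αg.toMonoidHom) αg.surjective)
    have hk' : ∀ x ∈ (PK : Subgroup K), k⁻¹ * αg x * k ∈ (PK : Subgroup K) := by
      intro x hx
      have h1 : αg x ∈ (PK.mapSurjective (f := αg.toMonoidHom) αg.surjective : Subgroup K) :=
        ⟨x, hx, rfl⟩
      rw [← hk, Sylow.coe_subgroup_smul, Subgroup.mem_pointwise_smul_iff_inv_smul_mem] at h1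
      simpa [MulAut.smul_def] using h1
    set β : MulAut K := (MulAut.conj k)⁻¹ * αg with hβ
    have hβv : ∀ x : K, β x = k⁻¹ * αg x * k := fun x => by simp [hβ]
    have hβQ : ∀ z ∈ Z, β z ∈ Z := by
      intro z hz
      have h1 : (αg z : K) ∈ Z := (Subgroup.mem_normalizer_iff.1 hg _).1 hz
      rw [hβv, mul_assoc, ← Subgroup.mem_center_iff.1 (hZc h1) k, inv_mul_cancel_left]
      exact h1
    have hβmap : Z.map β.toMonoidHom = Z := by
      refine Subgroup.eq_of_le_of_card_ge ?_ (Eq.le ?_)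
      · rintro _ ⟨z, hz, rfl⟩; exact hβQ z hz
      · exact Nat.card_congr (Z.equivMapOfInjective β.toMonoidHom β.injective).toEquiv
    set θ : MulAut (↥K ⧸ Z) := QuotientGroup.congr Z Z β hβmap with hθ
    have hθv : ∀ x : K, θ (π x) = π (β x) := fun _ => rfl
    have hθW : θ (π y) ∈ W := by
      refine zj_aut PB.2 θ ?_ hy
      rw [hPBmap]
      rintro _ ⟨x, hx, rfl⟩
      exact ⟨β x, by rw [hβv]; exact hk' x hx, (hθv x).symm⟩
    have hαP : αg y ∈ (PK : Subgroup K) := by
      rw [hPK]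
      show (αg y : G) ∈ (P : Subgroup G)
      rw [hαv, show (y : G) = r from hyr]
      exact hval
    have hback : αg y = k * β y * k⁻¹ := by rw [hβv]; group
    obtain ⟨x, hx, hxe⟩ := (StableOdd.controls_odd hp hstK PB {π (β y)} (by
      rintro _ rfl
      rw [← hθv]; exact hWP hθW)).2 (π k) (by
        rintro _ ⟨a, ha, rfl⟩
        rw [Set.mem_singleton_iff.1 ha]
        show π k * π (β y) * (π k)⁻¹ ∈ _
        rw [← map_inv, ← map_mul, ← map_mul, ← hback, hPBmap]
        exact ⟨_, hαP, rfl⟩)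
    have hmem : αg y ∈ W.comap π := by
      show π (αg y) ∈ W
      rw [hback, map_mul, map_mul, map_inv, hxe _ (Set.mem_singleton _)]
      refine (Subgroup.mem_normalizer_iff.1 hx _).1 ?_
      rw [← hθv]
      exact hθW
    refine ⟨αg y, hmem, ?_⟩
    show (αg y : G) = cj g r
    rw [hαv, show (y : G) = r from hyr]; rfl
  -- the centre of `Q`
  have hZsc : F.StronglyClosed (Z.map K.subtype) := by
    refine ⟨fun z hz => ?_, fun R hR φ hφ r => ?_⟩
    · obtain ⟨w, hw, rfl⟩ := hz
      exact hQP hw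
    · obtain ⟨g, hg, hge⟩ := hmaps R _ (IsMap.of_hom hφ)
      rw [← ext_apply φ r, hge r r.2]
      obtain ⟨w, hw, hwr⟩ := hR r.2
      rw [← hwr]
      exact ⟨⟨g * w * g⁻¹, (Subgroup.mem_normalizer_iff.1 (hNK hg) _).1 w.2⟩,
        (Subgroup.mem_normalizer_iff.1 hg _).1 hw, rfl⟩
  have hYn : F.IsNormal Y := by
    let C : ℕ → Subgroup G := fun i => if i = 0 then ⊥ else if i = 1 then Z.map K.subtype else Y
    have hZY : Z.map K.subtype ≤ Y := Subgroup.map_mono fun z hz => by
      show π z ∈ W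
      rw [show π z = 1 from (QuotientGroup.eq_one_iff z).2 hz]
      exact W.one_mem
    refine Fusion.Normal.normal_of_series P.2 hsat 2 C rfl rfl ?_ ?_ ?_
    · intro i hi
      obtain rfl | rfl : i = 0 ∨ i = 1 := by omega
      · exact bot_le
      · exact hZY
    · intro i hi
      obtain rfl | rfl | rfl : i = 0 ∨ i = 1 ∨ i = 2 := by omega
      exacts [Fusion.Normal.normal_stronglyClosed Fusion.Normal.isNormal_bot, hZsc, hYsc]
    · intro i hi x hx z hz
      obtain ⟨a, ha, rfl⟩ := hx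
      obtain rfl | rfl : i = 0 ∨ i = 1 := by omega
      · obtain ⟨b, hb, rfl⟩ := hz
        refine Subgroup.mem_bot.2 ?_
        show ((a * b * a⁻¹ * b⁻¹ : K) : G) = 1
        rw [Subgroup.mem_center_iff.1 (hZc hb) a, mul_inv_cancel_right, mul_inv_cancel]; rfl
      · obtain ⟨b, hb, rfl⟩ := hz
        refine ⟨a * b * a⁻¹ * b⁻¹, ?_, rfl⟩
        rw [SetLike.mem_coe, ← QuotientGroup.eq_one_iff]
        show π (a * b * a⁻¹ * b⁻¹) = 1
        have hc : π a * π b = π b * π a := hb.2 _ ha.1
        simp only [map_mul, map_inv, hc, mul_inv_cancel_right, mul_inv_cancel]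
  have hYQ : Y ≤ Q := Fusion.Normal.le_core hYn
  have hWbot : W = ⊥ := by
    refine le_bot_iff.1 fun w hw => ?_
    obtain ⟨y, rfl⟩ := QuotientGroup.mk'_surjective Z w
    exact Subgroup.mem_bot.2 ((QuotientGroup.eq_one_iff y).2 (hYQ ⟨y, hw, rfl⟩))
  intro x hx
  by_contra hxQ
  refine StableNormal.zj_ne_bot PB (fun hbot => hxQ ?_) hWbot
  have h1 : π ⟨x, hx.2⟩ ∈ (PB : Subgroup (↥K ⧸ Z)) := ⟨⟨x, hx.2⟩, by rw [hPK]; exact hx.1, rfl⟩
  rw [hbot, Subgroup.mem_bot] at h1
  exact (QuotientGroup.eq_one_iff (N := Z) _).1 h1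

end Cfsg.Agent.CharP.StableConstrained
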