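import Mathlib
import Cfsg.Prelude.Def_PLocal
import Cfsg.Agent.Lib.PLocal.MaxAbelian
import Cfsg.Agent.Lib.PLocal.Cores
import Cfsg.Agent.Lib.PLocal.ZJ

/-!
Normality of the intersection of the largest abelian subgroups of a Sylow subgroup, assuming stability only for the
elements of these subgroups (the proof of `PLocal.ZJ.core_normal` with that weaker hypothesis).
-/

set_option autoImplicit false
set_option linter.unusedSectionVars false

namespace Cfsg.Agent.CharP.StableFamily

open Subgroup Cfsg Cfsg.Agent.PLocal Cfsg.Agent.PLocal.MaxAbelian Cfsg.Agent.PLocal.Cores Cfsg.Agent.PLocal.ZJ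
open scoped commutatorElement

variable {G : Type*} [Group G] [Finite G] {p : ℕ} [hp : Fact p.Prime]

/-- Elements of the largest good subgroups of `U` acting quadratically act stably. -/
def StableFam (p e : ℕ) (U : Subgroup G) : Prop :=
  ∀ A ∈ family e U, ∀ a ∈ A, ∀ (P : Subgroup G) [P.Normal], IsPGroup p P →
    ⁅⁅P, zpowers a⁆, zpowers a⁆ = ⊥ →
      (QuotientGroup.mk a : G ⧸ centralizer (P : Set G)) ∈ pCore p (G ⧸ centralizer (P : Set G))

theorem main (hp2 : p ≠ 2) (e : ℕ)
    (S : Sylow p G) (hst : StableFam p e (S : Subgroup G)) :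
    ∀ n : ℕ, ∀ B : Subgroup G, Nat.card B = n → B.Normal → IsPGroup p B →
      (core e (S : Subgroup G) ⊓ B).Normal := by
  intro n
  induction n using Nat.strong_induction_on with
  | _ n IH =>
  intro B hn hBn hBp
  haveI := hBn
  set Z := core e (S : Subgroup G) with hZ
  set Z0 := Z ⊓ B with hZ0
  by_contra hnot
  have hBS : B ≤ S := hBp.le_sylow_of_normal S
  have hSZ : (S : Subgroup G) ≤ normalizer (Z : Set G) :=
    le_normalizer.trans (normalizer_le_normalizer_core e _)
  have hSB : (S : Subgroup G) ≤ normalizer (B : Set G) := by rw [normalizer_eq_top]; exact le_top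
  have hSZ0 : (S : Subgroup G) ≤ normalizer (Z0 : Set G) := fun s hs =>
    GlaubermanReplacement.mem_normalizer_of_conj_mem fun x hx =>
      mem_inf.mpr ⟨(mem_normalizer_iff.mp (hSZ hs) x).mp (mem_inf.mp hx).1,
        hBn.conj_mem x (mem_inf.mp hx).2 s⟩
  have hsmall : ∀ V : Subgroup G, V.Normal → V < B → (Z ⊓ V).Normal := fun V hV hlt =>
    IH _ (hn ▸ (by
      rcases Nat.lt_or_ge (Nat.card V) (Nat.card B) with h | h
      · exact h
      · exact absurd (eq_of_le_of_card_ge hlt.le h) hlt.ne)) V rfl hV (hBp.to_le hlt.le)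
  -- `B` is generated by the conjugates of `Z0`
  have hgen : normalClosure (Z0 : Set G) = B := by
    refine le_antisymm (normalClosure_le_normal inf_le_right) ?_
    by_contra hlt
    have hlt' : normalClosure (Z0 : Set G) < B :=
      lt_of_le_not_ge (normalClosure_le_normal inf_le_right) hlt
    have := hsmall _ inferInstance hlt'
    refine hnot ?_
    have he : Z ⊓ normalClosure (Z0 : Set G) = Z0 :=
      le_antisymm (inf_le_inf_left _ hlt'.le) (le_inf inf_le_left subset_normalClosure)
    rwa [he] at this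
  -- `B' ≤ Z`
  have hnb : B ≠ ⊥ := by
    rintro rfl
    exact hnot (by rw [hZ0, inf_bot_eq]; infer_instance)
  have hlt : ⁅B, B⁆ < B := by
    refine lt_of_le_of_ne (commutator_le_left B B) fun he => ?_
    haveI : Nontrivial B := (nontrivial_iff_ne_bot B).mpr hnb
    haveI := hBp.isNilpotent
    have h1 := IsSolvable.commutator_lt_top_of_nontrivial B
    refine h1.ne ((map_injective B.subtype_injective) ?_)
    rw [map_subtype_commutator, he, ← MonoidHom.range_eq_map, range_subtype]
  haveI hMn : (Z ⊓ ⁅B, B⁆).Normal := hsmall _ inferInstance hlt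
  have hBB : ⁅B, B⁆ ≤ Z := by
    refine le_trans ?_ (inf_le_left : Z ⊓ ⁅B, B⁆ ≤ Z)
    set M := Z ⊓ ⁅B, B⁆ with hM
    set q := QuotientGroup.mk' M
    have h0 : ⁅Z0, B⁆ ≤ M := by
      refine le_inf ?_ (commutator_mono inf_le_right le_rfl)
      rw [commutator_le]
      intro z hz b hb
      rw [commutatorElement_def, mul_assoc, mul_assoc, ← mul_assoc b]
      exact mul_mem (mem_inf.mp hz).1 ((mem_normalizer_iff.mp (hSZ (hBS hb)) _).mp (inv_mem (mem_inf.mp hz).1))
    have h1 : B ≤ (centralizer (B.map q : Set (G ⧸ M))).comap q := by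
      haveI : (B.map q).Normal := Subgroup.Normal.map hBn q (QuotientGroup.mk'_surjective M)
      conv_lhs => rw [← hgen]
      refine normalClosure_le_normal fun z hz => ?_
      rw [SetLike.mem_coe, mem_comap]
      rintro _ ⟨b, hb, rfl⟩
      have h2 := h0 (commutator_mem_commutator hz hb)
      rw [← QuotientGroup.eq_one_iff] at h2
      change q ⁅z, b⁆ = 1 at h2
      rw [map_commutatorElement, commutatorElement_eq_one_iff_mul_comm] at h2
      exact h2.symm
    rw [commutator_le]
    intro x hx y hy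
    have h2 := h1 hx (q y) ⟨y, hy, rfl⟩
    rw [← QuotientGroup.eq_one_iff]
    change q ⁅x, y⁆ = 1
    rw [map_commutatorElement, commutatorElement_eq_one_iff_mul_comm]
    exact h2.symm
  -- the kernel of the action on `Z0`, made normal
  set L := (normalizer (Z0 : Set G)).normalCore with hL
  haveI : L.Normal := normalCore_normal _
  set E := (pCore p (G ⧸ centralizer (B : Set G))).comap (QuotientGroup.mk' _) with hE
  have hEL : E ≤ L := by
    haveI : (pCore p (G ⧸ centralizer (B : Set G))).Normal := inferInstance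
    haveI : E.Normal := Subgroup.Normal.comap inferInstance _
    refine normal_le_normalCore.mpr ((comap_pCore_le_sup S _).trans (sup_le hSZ0 ?_))
    intro c hc
    refine GlaubermanReplacement.mem_normalizer_of_conj_mem fun x hx => ?_
    rw [← hc x (mem_inf.mp hx).2, mul_inv_cancel_right]
    exact hx
  set U := (S : Subgroup G) ⊓ L with hU
  set FL := {A | A ∈ family e (S : Subgroup G) ∧ A ≤ L} with hFL
  have hBX : ∀ A ∈ FL, B ≤ A := by
    intro A hA
    conv_lhs => rw [← hgen]
    refine (closure_le _).mpr ?_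
    intro y hy
    obtain ⟨z, hz, hzy⟩ := Group.mem_conjugatesOfSet_iff.mp hy
    obtain ⟨g, rfl⟩ := isConj_iff.mp hzy
    obtain ⟨k, hk, l, hl, rfl⟩ := frattini_inf S L g
    have hk' : k⁻¹ ∈ normalizer (U : Set G) := inv_mem hk
    set f := (MulAut.conj k⁻¹).toMonoidHom with hf
    have hsub : A.map f ≤ U := by
      rintro _ ⟨a, ha, rfl⟩
      exact (mem_normalizer_iff.mp hk' a).mp (mem_inf.mpr ⟨hA.1.1 ha, hA.2 ha⟩)
    have hA' : A.map f ∈ family e (S : Subgroup G) := by
      refine ⟨hsub.trans inf_le_left, hA.1.2.1.map f, fun C hC hg => ?_⟩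
      rw [← Nat.card_congr (equivMapOfInjective A f (MulAut.conj k⁻¹).injective).toEquiv]
      exact hA.1.2.2 C hC hg
    have hzl : l * z * l⁻¹ ∈ Z0 := (mem_normalizer_iff.mp (normalCore_le _ hl) z).mp hz
    obtain ⟨a, ha, hae⟩ := (sInf_le hA' : core e (S : Subgroup G) ≤ A.map f) (mem_inf.mp hzl).1
    simp only [hf, MulEquiv.coe_toMonoidHom, MulAut.conj_apply] at hae
    have : k * l * z * (k * l)⁻¹ = a := by
      have : a = k * (k⁻¹ * a * k⁻¹⁻¹) * k⁻¹ := by group
      rw [this, hae]; group
    rw [SetLike.mem_coe, this]; exact ha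
  by_cases hall : ∀ A ∈ family e (S : Subgroup G), A ≤ L
  · refine hnot ?_
    have : B ≤ Z := le_sInf fun A hA => hBX A ⟨hA, hall A hA⟩
    rw [hZ0, inf_eq_right.mpr this]; exact hBn
  · push Not at hall
    obtain ⟨A₀, hA₀, hA₀L⟩ := hall
    obtain ⟨A, ⟨hA, hAL⟩, hmax⟩ := Set.exists_max_image
      {A | A ∈ family e (S : Subgroup G) ∧ ¬ A ≤ L} (fun A => Nat.card ↥(A ⊓ B)) (Set.toFinite _)
      ⟨A₀, hA₀, hA₀L⟩
    have hnotN : ¬ B ≤ normalizer (A : Set G) := by
      intro h
      refine hAL fun a ha => hEL ?_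
      exact hst A hA a ha B hBp (quad_of_normalizes h hA.2.1.1 ha)
    obtain ⟨A', hA', -, hA'N, hlt', -⟩ := exists_replacement hp2 S.2 hBS hSB le_rfl le_normalizer hA
      (hBB.trans (sInf_le hA)) hnotN
    have hA'L : A' ≤ L := by
      by_contra h
      exact hlt'.ne (eq_of_le_of_card_ge hlt'.le (hmax A' ⟨hA', h⟩))
    exact hnotN ((hBX A' ⟨hA', hA'L⟩).trans hA'N)

theorem le_pCore (hc : centralizer (pCore p G : Set G) ≤ pCore p G) (e : ℕ)
    (S : Sylow p G) (hst : StableFam p e (S : Subgroup G)) :
    core e (S : Subgroup G) ≤ pCore p G := by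
  intro z hz
  obtain ⟨A, hA⟩ := family_nonempty e (S : Subgroup G)
  set Q := pCore p G with hQ
  have hQn : Q.Normal := inferInstance
  have hQS : Q ≤ normalizer (core e (S : Subgroup G) : Set G) :=
    (pCore_le_sylow S).trans (le_normalizer.trans (normalizer_le_normalizer_core e _))
  have h := hst A hA z ((sInf_le hA : core e (S : Subgroup G) ≤ A) hz) Q isPGroup_pCore
    (quad_of_normalizes hQS (core_comm e _) hz)
  set C := centralizer (Q : Set G) with hC
  haveI hEn : ((pCore p (G ⧸ C)).comap (QuotientGroup.mk' C)).Normal := Subgroup.Normal.comap inferInstance _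
  refine Cores.le_pCore (N := (pCore p (G ⧸ C)).comap (QuotientGroup.mk' C)) ?_ h
  exact (Cores.isPGroup_pCore).comap_of_ker_isPGroup _
    (by rw [QuotientGroup.ker_mk']; exact isPGroup_pCore.to_le hc)

/-- The intersection of the largest subgroups is normal. -/
theorem core_normal (hp2 : p ≠ 2) (hc : centralizer (pCore p G : Set G) ≤ pCore p G) (e : ℕ)
    (S : Sylow p G) (hst : StableFam p e (S : Subgroup G)) : (core e (S : Subgroup G)).Normal := by
  have := main hp2 e S hst _ (pCore p G) rfl inferInstance isPGroup_pCore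
  rwa [inf_eq_left.mpr (le_pCore hc e S hst)] at this

end Cfsg.Agent.CharP.StableFamily
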