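import Cfsg.Agent.Lib.CharP.StableOdd
import Cfsg.Agent.Lib.CharP.InnerControlZJ
import Cfsg.Agent.Lib.Fusion.Stable

/-!
For odd `p`, the centre of the Thompson subgroup is normal in the fusion system of a stable group.
-/

set_option autoImplicit false
set_option linter.unusedSectionVars false

universe u

namespace Cfsg.Agent.CharP.StableNormal

open Cfsg Cfsg.FusionSystem Cfsg.Agent.Fusion.Basic Cfsg.Agent.CharP.InnerControlZJ
  Cfsg.Agent.CharP.LocalControl Cfsg.Agent.Techniques.SL2.ZJFusion
  Cfsg.Agent.Fusion.Group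

variable {p : ℕ} [Fact p.Prime] {G : Type u} [Group G]

/-- A normal subgroup whose normalizer controls fusion is normal in the fusion system. -/
theorem normal_of_controls {S N : Subgroup G} (hN : N ≤ S)
    (h : ∀ A : Set G, A ⊆ S → ControlsStrongFusionOf (Subgroup.normalizer (N : Set G)) S A) :
    (groupFusionSystem S).IsNormal N := by
  refine Fusion.Normal.isNormal_iff.2 ⟨hN, fun P f hf => ?_⟩
  obtain ⟨hP, hS, g, hg⟩ := isMap_group_iff.1 hf
  obtain ⟨x, hx, he⟩ := (h P hP).2 g (by
    rintro _ ⟨a, ha, rfl⟩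
    have := hS a ha
    rwa [hg a ha] at this)
  refine ⟨cj x, isMap_group_iff.2 ⟨sup_le hP hN, fun y hy => ?_, x, fun _ _ => rfl⟩,
    fun y hy => by rw [hg y hy]; exact (he y hy).symm, img_cj_eq_of_mem_normalizer hx⟩
  suffices hle : P ⊔ N ≤ S.comap (MulAut.conj x).toMonoidHom by exact hle hy
  refine sup_le (fun a ha => ?_) fun a ha => hN ((Subgroup.mem_normalizer_iff.1 hx a).1 ha)
  show x * a * x⁻¹ ∈ S
  rw [← he a ha, ← cj_apply, ← hg a ha]
  exact hS a ha

/-- The centre of the Thompson subgroup of a Sylow subgroup is normal in the system. -/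
theorem zj_normal [Finite G] (hp : p ≠ 2) (hst : IsNormalizerPStable p G) (P : Sylow p G) :
    (groupFusionSystem (P : Subgroup G)).IsNormal (centerThompsonAOf (P : Subgroup G)) := by
  refine normal_of_controls ?_ fun A hA => StableOdd.controls_odd hp hst P A hA
  rw [centerThompsonAOf_eq P.2]
  exact Wof_le _

/-- It is not trivial. -/
theorem zj_ne_bot [Finite G] (P : Sylow p G) (hP : (P : Subgroup G) ≠ ⊥) :
    centerThompsonAOf (P : Subgroup G) ≠ ⊥ := by
  rw [centerThompsonAOf_eq P.2]
  exact InnerControl.Wof_ne_bot isCharPFunctor_zj P.2 le_rfl hP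

end Cfsg.Agent.CharP.StableNormal
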