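import Cfsg.Agent.Lib.PLocal.StableFusion

/-!
Stable groups and central quotients, and control of fusion by `ZJ`, for every odd prime.
-/

set_option autoImplicit false
set_option linter.all false

universe u

namespace Cfsg.Agent.CharP.StableOdd

open Cfsg.Agent.PLocal Cfsg.Agent.PLocal.StableFusion

open Subgroup Cfsg
open scoped commutatorElement MatrixGroups Matrix

variable {p : ℕ} [hp : Fact p.Prime]

section core

variable {G : Type*} [Group G] [Finite G]

/-- A stable group has no subgroup acting as `SL₂(p)` on a natural plane above a central part. -/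
theorem no_natural_odd (hp2 : p ≠ 2) (hst : Stable p G) {L : Subgroup G} {Z E : Subgroup G}
    (hEp : IsPGroup p E) (hLE : L ≤ normalizer (E : Set G)) (hZE : Z ≤ E)
    (hEZ : ∀ e ∈ E, ∀ z ∈ Z, e * z = z * e)
    (hcen : ∀ x ∈ L, (orderOf x).Coprime p → x ∈ centralizer (Z : Set G))
    (hpow : ∀ e ∈ E, e ^ p ∈ Z) (θ : L →* SL(2, ZMod p)) (hθ : Function.Surjective θ)
    (v : G → Fin 2 → ZMod p)
    (hv : ∀ a ∈ E, ∀ b ∈ E, v (a * b) = v a + v b) (hv1 : v 1 = 0)
    (hker : ∀ a ∈ E, v a = 0 → a ∈ Z) (hsurj : ∀ w, ∃ a ∈ E, v a = w)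
    (hact : ∀ l : L, ∀ a ∈ E, v ((l : G) * a * (l : G)⁻¹) = (θ l).1 *ᵥ v a) : False := by
  classical
  have h2 : (2 : ZMod p) ≠ 0 := fun h =>
    hp2 ((Nat.prime_dvd_prime_iff_eq hp.out Nat.prime_two).mp
      ((ZMod.natCast_eq_zero_iff _ _).mp (by exact_mod_cast h)))
  have hcE : ∀ l : L, ∀ a ∈ E, (l : G) * a * (l : G)⁻¹ ∈ E := fun l a ha =>
    (mem_normalizer_iff.mp (hLE l.2) a).mp ha
  have hvinv : ∀ a ∈ E, v a⁻¹ = -v a := fun a ha => by
    have := hv a⁻¹ (inv_mem ha) a ha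
    rw [inv_mul_cancel, hv1] at this
    exact eq_neg_of_add_eq_zero_left this.symm
  have hdiff : ∀ a ∈ E, ∀ b ∈ E, v (a * b⁻¹) = v a - v b := fun a ha b hb => by
    rw [hv a ha _ (inv_mem hb), hvinv b hb, sub_eq_add_neg]
  have hvpow : ∀ a ∈ E, ∀ k : ℕ, v (a ^ k) = (k : ZMod p) • v a := by
    intro a ha k
    induction k with
    | zero => rw [pow_zero, hv1, Nat.cast_zero, zero_smul]
    | succ k ih => rw [pow_succ, hv _ (pow_mem ha k) a ha, ih, Nat.cast_succ, add_smul, one_smul]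
  obtain ⟨t, ht, htZ, htc⟩ : ∃ l : L, θ l = -1 ∧ (l : G) ∈ centralizer (Z : Set G) ∧
      (orderOf (l : G)).Coprime p := by
    obtain ⟨l, hl⟩ := hθ (-1)
    obtain ⟨k, hk⟩ := exists_coprime_pow (p := p) (l : G)
    refine ⟨l ^ p ^ k, by rw [map_pow, hl, neg_one_pow_odd hp2], ?_, ?_⟩
    · rw [SubmonoidClass.coe_pow]; exact hcen _ (pow_mem l.2 _) hk
    · rw [SubmonoidClass.coe_pow]; exact hk
  -- the action on `E`
  let φ : L →* MulAut E := (normalizerMonoidHom E).comp (inclusion hLE)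
  have hφ : ∀ (l : L) (e : E), ((φ l e : E) : G) = (l : G) * e * (l : G)⁻¹ := fun l e => rfl
  have hone : ∀ (l : L), θ l = 1 → (l : G) ∈ centralizer (Z : Set G) → ∀ e ∈ E,
      ∃ z ∈ Z, (l : G) * e * (l : G)⁻¹ = z * e ∧ (l : G) * z * (l : G)⁻¹ = z := by
    intro l hl hlZ e he
    have hz : (l : G) * e * (l : G)⁻¹ * e⁻¹ ∈ Z := by
      refine hker _ (mul_mem (hcE l e he) (inv_mem he)) ?_
      rw [hdiff _ (hcE l e he) e he, hact l e he, hl]
      simp
    exact ⟨_, hz, by group,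
      by rw [← mem_centralizer_iff.mp hlZ _ hz, mul_inv_cancel_right]⟩
  set τ := φ t with hτdef
  have hττ : τ * τ = 1 := by
    rw [hτdef, ← map_mul]
    ext e
    rw [hφ, MulAut.one_apply]
    have htc2 : (orderOf ((t * t : L) : G)).Coprime p := by
      rw [Subgroup.coe_mul, ← pow_two]
      exact htc.coprime_dvd_left (orderOf_pow_dvd 2)
    obtain ⟨z, hz, he1, hz1⟩ := hone (t * t) (by rw [map_mul, ht]; simp)
      (mul_mem htZ htZ) e e.2
    refine mul_inv_eq_iff_eq_mul.mpr (fix_of_coprime htc2 hEp (R := E) ?_ ?_)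
    · rw [he1, mul_inv_cancel_right]; exact hZE hz
    · rw [he1, mul_inv_cancel_right]; exact hz1
  have hτi : τ⁻¹ = τ := inv_eq_of_mul_eq_one_right hττ
  -- every element of `SL₂(p)` has a preimage commuting with `t` on `E`
  have hlift : ∀ s, ∃ l : L, θ l = s ∧ φ l * τ = τ * φ l := by
    intro s
    obtain ⟨X0, hθX0⟩ := hθ s
    set K : L := X0⁻¹ * t * X0 * t with hK
    have hθK : θ K = 1 := by
      simp [hK, map_mul, map_inv, ht]
    have hKZ : (K : G) ∈ centralizer (Z : Set G) := by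
      refine mul_mem (hcen _ (X0⁻¹ * t * X0 : L).2 ?_) htZ
      rw [Subgroup.coe_mul, Subgroup.coe_mul, Subgroup.coe_inv]
      nth_rewrite 2 [← inv_inv (X0 : G)]
      rw [← MulAut.conj_apply, MulEquiv.orderOf_eq]
      exact htc
    have hKp : φ K ^ p = 1 := by
      rw [← map_pow]
      ext e
      rw [hφ, MulAut.one_apply, SubmonoidClass.coe_pow]
      obtain ⟨z, hz, he1, hz1⟩ := hone K hθK hKZ e e.2
      rw [conj_pow_step he1 hz1 p]
      have h4 : (z * (e : G)) ^ p = (e : G) ^ p := by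
        rw [← he1, conj_pow, ← mem_centralizer_iff.mp hKZ _ (hpow e e.2), mul_inv_cancel_right]
      rw [(show Commute z (e : G) from (hEZ e e.2 z hz).symm).mul_pow] at h4
      rw [mul_eq_right.mp h4, one_mul]
    set κ := φ K with hκdef
    set ξ0 := φ X0 with hξ0def
    have hκ : κ = ξ0⁻¹ * τ * ξ0 * τ := by simp [hκdef, hK, hξ0def, hτdef, map_mul, map_inv]
    set n := (p + 1) / 2 with hn
    have hn2 : 2 * n = p + 1 := by
      obtain ⟨i, hi⟩ := hp.out.odd_of_ne_two hp2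
      omega
    refine ⟨X0 * K ^ n, by rw [map_mul, map_pow, hθK, one_pow, mul_one, hθX0], ?_⟩
    have e1 : τ * κ * τ⁻¹ = κ⁻¹ := by
      simp only [hκ, mul_inv_rev, inv_inv, hτi, mul_assoc, hττ, mul_one]
    have e2 : τ * ξ0 * τ⁻¹ = ξ0 * κ := by
      rw [hτi, hκ]; simp [mul_assoc]
    have e3 : τ * φ (X0 * K ^ n) * τ⁻¹ = ξ0 * κ * (κ⁻¹) ^ n := by
      rw [map_mul, map_pow, ← hκdef, ← hξ0def, ← e2, ← e1, conj_pow]; group
    have e4 : κ * (κ⁻¹) ^ n = κ ^ n := by
      rw [inv_pow, mul_inv_eq_iff_eq_mul, ← pow_add, ← two_mul, hn2, pow_succ, hKp, one_mul]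
    rw [mul_assoc ξ0, e4, mul_inv_eq_iff_eq_mul] at e3
    rw [map_mul, map_pow, ← hκdef, ← hξ0def] at e3 ⊢
    exact e3.symm
  have hcommE : ∀ l : L, φ l * τ = τ * φ l → ∀ a ∈ E,
      (t : G) * ((l : G) * a * (l : G)⁻¹) * (t : G)⁻¹ =
        (l : G) * ((t : G) * a * (t : G)⁻¹) * (l : G)⁻¹ := by
    intro l hl a ha
    have := congrArg (fun ψ : MulAut E => ((ψ ⟨a, ha⟩ : E) : G)) hl
    simp only [MulAut.mul_apply, hφ, hτdef] at this
    exact this.symm
  -- the subgroup generated by two elements inverted by `t`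
  have htfix : ∀ z ∈ Z, (t : G) * z * (t : G)⁻¹ = z := fun z hz => by
    rw [← mem_centralizer_iff.mp htZ z hz, mul_inv_cancel_right]
  obtain ⟨j, hj⟩ : ∃ j, ∀ z ∈ E, z ^ p ^ j = 1 := by
    obtain ⟨j, hj⟩ := IsPGroup.iff_card.mp hEp
    exact ⟨j, fun z hz => by
      rw [← hj]
      exact congrArg Subtype.val (pow_card_eq_one' (x := (⟨z, hz⟩ : E)))⟩
  have hhalf : ∀ z ∈ E, ∀ A : Subgroup G, z ^ 2 ∈ A → z ∈ A := by
    intro z hz A hA
    obtain ⟨m, hm⟩ := exists_pow_eq_self_of_coprime (n := 2) (x := z)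
      (Nat.Coprime.coprime_dvd_right (orderOf_dvd_of_pow_eq_one (hj z hz))
        (((Nat.coprime_primes hp.out Nat.prime_two).mpr hp2).symm.pow_right j))
    exact hm ▸ pow_mem hA m
  have hinv : ∀ w, ∃ e ∈ E, v e = w ∧ (t : G) * e * (t : G)⁻¹ = e⁻¹ := by
    intro w
    obtain ⟨a, ha, hva⟩ := hsurj ((2 : ZMod p)⁻¹ • w)
    refine ⟨a * ((t : G) * a * (t : G)⁻¹)⁻¹, mul_mem ha (inv_mem (hcE t a ha)), ?_, ?_⟩
    · rw [hdiff a ha _ (hcE t a ha), hact t a ha, ht]
      simp [Matrix.neg_mulVec, hva, ← two_smul (ZMod p), smul_smul, mul_inv_cancel₀ h2]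
    · have h3 := congrArg (fun ψ : MulAut E => ((ψ ⟨a, ha⟩ : E) : G)) hττ
      simp only [MulAut.mul_apply, hφ, hτdef, MulAut.one_apply] at h3
      calc (t : G) * (a * ((t : G) * a * (t : G)⁻¹)⁻¹) * (t : G)⁻¹
          = ((t : G) * a * (t : G)⁻¹) * ((t : G) * ((t : G) * a * (t : G)⁻¹) * (t : G)⁻¹)⁻¹ := by
            group
        _ = ((t : G) * a * (t : G)⁻¹) * a⁻¹ := by rw [h3]
        _ = _ := by group
  obtain ⟨e₁, he₁, hv₁, hi₁⟩ := hinv (Pi.single 0 1)
  obtain ⟨e₂, he₂, hv₂, hi₂⟩ := hinv (Pi.single 1 1)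
  set E₀ := closure ({e₁, e₂} : Set G) with hE₀def
  have hE₀E : E₀ ≤ E := (closure_le _).mpr (by rintro z (rfl | rfl); exacts [he₁, he₂])
  have he₁0 : e₁ ∈ E₀ := subset_closure (Or.inl rfl)
  have he₂0 : e₂ ∈ E₀ := subset_closure (Or.inr rfl)
  have ht0 : ∀ x ∈ E₀, (t : G) * x * (t : G)⁻¹ ∈ E₀ := by
    intro x hx
    have hle : E₀ ≤ E₀.comap (MulAut.conj (t : G)).toMonoidHom := (closure_le _).mpr (by
      rintro z (rfl | rfl)
      · exact show (t : G) * _ * (t : G)⁻¹ ∈ E₀ from hi₁ ▸ inv_mem he₁0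
      · exact show (t : G) * _ * (t : G)⁻¹ ∈ E₀ from hi₂ ▸ inv_mem he₂0)
    exact hle hx
  have hpair : ∀ u : Fin 2 → ZMod p, ∃ x ∈ E₀, v x = u := by
    intro u
    refine ⟨e₁ ^ (u 0).val * e₂ ^ (u 1).val, mul_mem (pow_mem he₁0 _) (pow_mem he₂0 _), ?_⟩
    rw [hv _ (pow_mem he₁ _) _ (pow_mem he₂ _), hvpow _ he₁, hvpow _ he₂, hv₁, hv₂,
      ZMod.natCast_zmod_val, ZMod.natCast_zmod_val]
    funext i
    fin_cases i <;> simp
  have hinvmem : ∀ u ∈ E, (t : G) * u * (t : G)⁻¹ = u⁻¹ → u ∈ E₀ := by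
    intro u hu hui
    obtain ⟨x, hx, hxv⟩ := hpair (v u)
    set z := x⁻¹ * u with hzdef
    have hzE : z ∈ E := mul_mem (inv_mem (hE₀E hx)) hu
    have hz : z ∈ Z := hker _ hzE (by
      rw [hv _ (inv_mem (hE₀E hx)) u hu, hvinv x (hE₀E hx), hxv, neg_add_cancel])
    have h1 : (t : G) * u * (t : G)⁻¹ = ((t : G) * x * (t : G)⁻¹) * z := by
      rw [show u = x * z by rw [hzdef]; group, show (t : G) * (x * z) * (t : G)⁻¹ =
        ((t : G) * x * (t : G)⁻¹) * ((t : G) * z * (t : G)⁻¹) by group, htfix z hz]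
    rw [hui, show u⁻¹ = z⁻¹ * x⁻¹ by rw [hzdef]; group] at h1
    have hxz : x * z = z * x := hEZ x (hE₀E hx) z hz
    have h3 : z ^ 2 = ((t : G) * x * (t : G)⁻¹)⁻¹ * x⁻¹ := by
      calc z ^ 2 = ((t : G) * x * (t : G)⁻¹)⁻¹ * (((t : G) * x * (t : G)⁻¹) * z) * z := by
            rw [pow_two]; group
        _ = ((t : G) * x * (t : G)⁻¹)⁻¹ * (z⁻¹ * x⁻¹) * z := by rw [← h1]
        _ = ((t : G) * x * (t : G)⁻¹)⁻¹ * ((x * z)⁻¹ * z) := by group
        _ = ((t : G) * x * (t : G)⁻¹)⁻¹ * ((z * x)⁻¹ * z) := by rw [hxz]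
        _ = _ := by group
    have h4 : z ∈ E₀ := hhalf z hzE E₀ (h3 ▸ mul_mem (inv_mem (ht0 x hx)) (inv_mem hx))
    have h5 := mul_mem hx h4
    rwa [hzdef, mul_inv_cancel_left] at h5
  let L₀ : Subgroup L := (centralizer ({τ} : Set (MulAut E))).comap φ
  have hL₀mem : ∀ l, l ∈ L₀ ↔ φ l * τ = τ * φ l := fun l => by
    rw [mem_comap, mem_centralizer_singleton_iff]
  have hL₀ : ∀ l ∈ L₀, (l : G) ∈ normalizer (E₀ : Set G) := by
    intro l hl
    refine GlaubermanReplacement.mem_normalizer_of_conj_mem fun x hx => ?_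
    have hle : E₀ ≤ E₀.comap (MulAut.conj (l : G)).toMonoidHom := by
      refine (closure_le _).mpr ?_
      have key : ∀ e ∈ E, (t : G) * e * (t : G)⁻¹ = e⁻¹ → (l : G) * e * (l : G)⁻¹ ∈ E₀ :=
        fun e he hei => hinvmem _ (hcE l e he) (by
          rw [hcommE l ((hL₀mem l).mp hl) e he, hei]; group)
      rintro z (rfl | rfl)
      exacts [key _ he₁ hi₁, key _ he₂ hi₂]
    exact hle hx
  -- `E₀ ∩ Z` is generated by the commutator of the two generators
  set c := ⁅e₁, e₂⁆ with hcdef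
  have hcE' : c ∈ E := by
    rw [hcdef, commutatorElement_def]
    exact mul_mem (mul_mem (mul_mem he₁ he₂) (inv_mem he₁)) (inv_mem he₂)
  have hcZ : c ∈ Z := hker _ hcE' (by
    rw [hcdef, commutatorElement_def, hdiff _ (mul_mem (mul_mem he₁ he₂) (inv_mem he₁)) _ he₂,
      hdiff _ (mul_mem he₁ he₂) _ he₁, hv _ he₁ _ he₂]
    abel)
  have hepow : ∀ e ∈ E, (t : G) * e * (t : G)⁻¹ = e⁻¹ → e ^ p = 1 := by
    intro e he hei
    refine Subgroup.mem_bot.mp (hhalf _ (pow_mem he p) ⊥ (Subgroup.mem_bot.mpr ?_))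
    have h1 := htfix _ (hpow e he)
    rw [← conj_pow, hei, inv_pow] at h1
    rw [pow_two]
    exact eq_inv_iff_mul_eq_one.mp h1.symm
  have hE₀Z : ∀ z ∈ E₀, z ∈ Z → z ∈ zpowers c := by
    intro z hz hzZ
    set A := zpowers c ⊔ zpowers e₁ with hA
    have hce : ∀ x ∈ E, x * c = c * x := fun x hx => hEZ x hx c hcZ
    have hnorm : e₂ ∈ normalizer (A : Set G) := by
      refine GlaubermanReplacement.mem_normalizer_of_conj_mem fun x hx => ?_
      have hle : A ≤ A.comap (MulAut.conj e₂).toMonoidHom := by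
        refine sup_le (zpowers_le.mpr ?_) (zpowers_le.mpr ?_)
        · show e₂ * c * e₂⁻¹ ∈ A
          rw [hce _ he₂, mul_inv_cancel_right]
          exact mem_sup_left (mem_zpowers c)
        · show e₂ * e₁ * e₂⁻¹ ∈ A
          have hi : e₂ * e₁ * e₂⁻¹ = c⁻¹ * e₁ := by rw [hcdef, commutatorElement_def]; group
          rw [hi]
          exact mul_mem (mem_sup_left (inv_mem (mem_zpowers c))) (mem_sup_right (mem_zpowers _))
      exact hle hx
    have hle : E₀ ≤ A ⊔ zpowers e₂ := (closure_le _).mpr (by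
      rintro y (rfl | rfl)
      exacts [mem_sup_left (mem_sup_right (mem_zpowers _)), mem_sup_right (mem_zpowers _)])
    have hzm := hle hz
    rw [← SetLike.mem_coe, coe_mul_of_right_le_normalizer_left A _ (zpowers_le.mpr hnorm)] at hzm
    obtain ⟨a, ha, b, hb, rfl⟩ := hzm
    have hc1 : zpowers c ≤ normalizer (zpowers e₁ : Set G) := zpowers_le.mpr
      (centralizer_le_normalizer _ (by
        rw [zpowers_eq_closure, centralizer_closure, mem_centralizer_singleton_iff]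
        exact (hce _ he₁).symm))
    rw [hA, coe_mul_of_left_le_normalizer_right _ _ hc1] at ha
    obtain ⟨d, hd, a, ha, rfl⟩ := ha
    obtain ⟨i, rfl⟩ := mem_powers_iff_mem_zpowers.mpr ha
    obtain ⟨k, rfl⟩ := mem_powers_iff_mem_zpowers.mpr hb
    have hdE : d ∈ E := zpowers_le.mpr hcE' hd
    have hdZ : d ∈ Z := zpowers_le.mpr hcZ hd
    have hv0 : ∀ y ∈ Z, v y = 0 := by
      intro y hy
      have h3 := hact t y (hZE hy)
      rw [htfix y hy, ht] at h3
      simp only [Matrix.SpecialLinearGroup.coe_neg, Matrix.SpecialLinearGroup.coe_one,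
        Matrix.neg_mulVec, Matrix.one_mulVec] at h3
      have h4 : (2 : ZMod p) • v y = 0 := by rw [two_smul]; exact eq_neg_iff_add_eq_zero.mp h3
      exact (smul_eq_zero.mp h4).resolve_left h2
    have h5 := hv0 _ hzZ
    simp only at h5
    rw [hv _ (mul_mem hdE (pow_mem he₁ _)) _ (pow_mem he₂ _), hv _ hdE _ (pow_mem he₁ _),
      hv0 d hdZ, hvpow _ he₁, hvpow _ he₂, hv₁, hv₂] at h5
    have hi0 : p ∣ i := (ZMod.natCast_eq_zero_iff i p).mp (by
      have := congrFun h5 0; simpa using this)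
    have hk0 : p ∣ k := (ZMod.natCast_eq_zero_iff k p).mp (by
      have := congrFun h5 1; simpa using this)
    obtain ⟨i', rfl⟩ := hi0
    obtain ⟨k', rfl⟩ := hk0
    simp only [pow_mul, hepow _ he₁ hi₁, hepow _ he₂ hi₂, one_pow, mul_one]
    exact hd
  have hcp : c ^ p = 1 := by
    have h1 : e₁ * e₂ * e₁⁻¹ = c * e₂ := by rw [hcdef, commutatorElement_def]; group
    have h3 : (c * e₂) ^ p = c ^ p * e₂ ^ p :=
      (show Commute c e₂ from (hEZ e₂ he₂ c hcZ).symm).mul_pow p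
    rw [← h1, conj_pow, hepow _ he₂ hi₂, mul_one, mul_one, mul_inv_cancel] at h3
    exact h3.symm
  -- the transvection
  obtain ⟨X0, hθX0, hX0τ⟩ := hlift (umat 1)
  obtain ⟨i, m, hm, him⟩ := Nat.exists_eq_pow_mul_and_not_dvd (orderOf_pos X0).ne' p hp.out.ne_one
  have hmc : Nat.Coprime m p := ((Nat.Prime.coprime_iff_not_dvd hp.out).mpr hm).symm
  have hup : (umat 1 : SL(2, ZMod p)) ^ p = 1 := by
    have hn : ∀ n : ℕ, ((umat 1 ^ n : SL(2, ZMod p)) : Matrix (Fin 2) (Fin 2) (ZMod p)) =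
        !![1, (n : ZMod p); 0, 1] := by
      intro n
      induction n with
      | zero =>
        ext r s
        fin_cases r <;> fin_cases s <;> simp
      | succ n ih =>
        rw [pow_succ, Matrix.SpecialLinearGroup.coe_mul, ih]
        ext r s
        fin_cases r <;> fin_cases s <;> simp [umat, Matrix.mul_apply, Fin.sum_univ_two, add_comm]
    apply Subtype.ext
    rw [hn, ZMod.natCast_self]
    ext r s
    fin_cases r <;> fin_cases s <;> simp
  obtain ⟨m', hm'⟩ := exists_pow_eq_self_of_coprime (n := m) (x := (umat 1 : SL(2, ZMod p)))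
    (hmc.coprime_dvd_right (orderOf_dvd_of_pow_eq_one hup))
  set X : L := (X0 ^ m) ^ m' with hX
  have hθX : θ X = umat 1 := by rw [hX, map_pow, map_pow, hθX0, hm']
  have hXL₀ : X ∈ L₀ := pow_mem (pow_mem ((hL₀mem X0).mpr hX0τ) _) _
  have hXp : X ^ p ^ i = 1 := by
    rw [hX, ← pow_mul, ← pow_mul, show m * (m' * p ^ i) = (p ^ i * m) * m' by ring, pow_mul, ← him,
      pow_orderOf_eq_one, one_pow]
  have hXc : (X : G) * c * (X : G)⁻¹ = c := by
    have hXn := hL₀ X hXL₀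
    have hmem : (X : G) * c * (X : G)⁻¹ ∈ zpowers c := by
      refine hE₀Z _ ((mem_normalizer_iff.mp hXn c).mp ?_) ?_
      · rw [hcdef, commutatorElement_def]
        exact mul_mem (mul_mem (mul_mem he₁0 he₂0) (inv_mem he₁0)) (inv_mem he₂0)
      · refine hker _ (hcE X c hcE') ?_
        have h3 : v c = 0 := by
          rw [hcdef, commutatorElement_def, hdiff _ (mul_mem (mul_mem he₁ he₂) (inv_mem he₁)) _ he₂,
            hdiff _ (mul_mem he₁ he₂) _ he₁, hv _ he₁ _ he₂]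
          abel
        rw [hact X c hcE', h3, Matrix.mulVec_zero]
    obtain ⟨a, ha⟩ := mem_powers_iff_mem_zpowers.mpr hmem
    replace ha : (X : G) * c * (X : G)⁻¹ = c ^ a := ha.symm
    have hiter : ∀ n : ℕ, (X : G) ^ n * c * ((X : G) ^ n)⁻¹ = c ^ a ^ n := by
      intro n
      induction n with
      | zero => simp
      | succ n ih =>
        calc (X : G) ^ (n + 1) * c * ((X : G) ^ (n + 1))⁻¹
            = (X : G) ^ n * ((X : G) * c * (X : G)⁻¹) * ((X : G) ^ n)⁻¹ := by rw [pow_succ]; group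
          _ = ((X : G) ^ n * c * ((X : G) ^ n)⁻¹) ^ a := by rw [ha, conj_pow]
          _ = _ := by rw [ih, ← pow_mul, pow_succ]
    have h1 := hiter (p ^ i)
    rw [← SubmonoidClass.coe_pow, hXp, OneMemClass.coe_one, one_mul, inv_one, mul_one] at h1
    by_cases hc1 : c = 1
    · rw [hc1]; group
    have hord : orderOf c = p := orderOf_eq_prime hcp hc1
    have h3 : a ^ p ^ i ≡ 1 [MOD p] := by
      have h4 := pow_eq_pow_iff_modEq.mp (show c ^ a ^ p ^ i = c ^ 1 by rw [← h1, pow_one])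
      rwa [hord] at h4
    rw [← ZMod.natCast_eq_natCast_iff, Nat.cast_pow, ZMod.pow_card_pow] at h3
    rw [ha]
    conv_rhs => rw [← pow_one c]
    rw [pow_eq_pow_iff_modEq, hord, ← ZMod.natCast_eq_natCast_iff]
    exact h3
  have hXfix : ∀ z ∈ E₀, z ∈ Z → (X : G) * z * (X : G)⁻¹ = z := by
    intro z hz hzZ
    obtain ⟨k, rfl⟩ := mem_powers_iff_mem_zpowers.mpr (hE₀Z z hz hzZ)
    show (X : G) * c ^ k * (X : G)⁻¹ = c ^ k
    rw [← conj_pow, hXc]
  -- quadratic action
  have hX0E : ∀ e ∈ E₀, (X : G) * e * (X : G)⁻¹ ∈ E₀ := fun e he =>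
    (mem_normalizer_iff.mp (hL₀ X hXL₀) e).mp he
  have hfix : ∀ e ∈ E₀, (X : G) * ((X : G) * e * (X : G)⁻¹ * e⁻¹) * (X : G)⁻¹ =
      (X : G) * e * (X : G)⁻¹ * e⁻¹ := by
    intro e he
    set d := (X : G) * e * (X : G)⁻¹ * e⁻¹ with hd
    have hd0 : d ∈ E₀ := mul_mem (hX0E e he) (inv_mem he)
    have hdmem : d ∈ E := hE₀E hd0
    have hvd : v d = (umat 1).1 *ᵥ v e - v e := by
      rw [hd, hdiff _ (hcE X e (hE₀E he)) e (hE₀E he), hact X e (hE₀E he), hθX]
    set w := (X : G) * d * (X : G)⁻¹ * d⁻¹ with hw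
    have hw0 : w ∈ E₀ := mul_mem (hX0E d hd0) (inv_mem hd0)
    have hwZ : w ∈ Z := by
      refine hker _ (mul_mem (hcE X d hdmem) (inv_mem hdmem)) ?_
      rw [hdiff _ (hcE X d hdmem) d hdmem, hact X d hdmem, hθX, hvd, umat_fix, sub_self]
    have hz : (t : G) * d * (t : G)⁻¹ * d ∈ Z := by
      refine hker _ (mul_mem (hcE t d hdmem) hdmem) ?_
      rw [hv _ (hcE t d hdmem) d hdmem, hact t d hdmem, ht]
      simp [Matrix.neg_mulVec]
    set z := (t : G) * d * (t : G)⁻¹ * d with hzdef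
    -- conjugating `w` by `t` inverts it
    have h1 : (t : G) * w * (t : G)⁻¹ = w := htfix w hwZ
    have hXz : (X : G) * z * (X : G)⁻¹ = z := hXfix z (mul_mem (ht0 d hd0) hd0) hz
    have htc' : (t : G) * d * (t : G)⁻¹ = z * d⁻¹ := by rw [hzdef]; group
    have h2' : (t : G) * w * (t : G)⁻¹ = w⁻¹ := by
      have hcw : d * w = w * d := hEZ d hdmem w hwZ
      calc (t : G) * w * (t : G)⁻¹
          = ((t : G) * ((X : G) * d * (X : G)⁻¹) * (t : G)⁻¹) * ((t : G) * d * (t : G)⁻¹)⁻¹ := by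
            rw [hw]; group
        _ = ((X : G) * z * (X : G)⁻¹) * ((X : G) * d * (X : G)⁻¹)⁻¹ * (d * z⁻¹) := by
            rw [hcommE X ((hL₀mem X).mp hXL₀) d hdmem, htc']; group
        _ = z * ((X : G) * d * (X : G)⁻¹)⁻¹ * (d * z⁻¹) := by rw [hXz]
        _ = z * (d⁻¹ * w⁻¹ * d) * z⁻¹ := by rw [hw]; group
        _ = z * w⁻¹ * z⁻¹ := by
            rw [show d⁻¹ * w⁻¹ * d = (d⁻¹ * (w * d))⁻¹ by group, ← hcw, inv_mul_cancel_left]
        _ = w⁻¹ := by
            rw [← hEZ z (hZE hz) w⁻¹ (inv_mem hwZ) |>.symm, mul_inv_cancel_right]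
    have hw2 : w ^ 2 = 1 := by
      rw [pow_two]
      exact eq_inv_iff_mul_eq_one.mp (h1.symm.trans h2')
    have hw1 : w = 1 := Subgroup.mem_bot.mp (hhalf w (hZE hwZ) ⊥ (Subgroup.mem_bot.mpr hw2))
    rw [hw] at hw1
    exact mul_inv_eq_one.mp hw1
  have hquad : ⁅⁅E₀, zpowers (X : G)⁆, zpowers (X : G)⁆ = ⊥ := by
    rw [commutator_eq_bot_iff_le_centralizer, commutator_le]
    intro e he y hy
    have hd : ∀ k : ℕ, Commute (X : G) ((X : G) ^ k * e * ((X : G) ^ k)⁻¹ * e⁻¹) := by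
      intro k
      induction k with
      | zero => simp
      | succ k ih =>
        have h1 : Commute (X : G) ((X : G) * e * (X : G)⁻¹ * e⁻¹) :=
          mul_inv_eq_iff_eq_mul.mp (hfix e he)
        have e1 : (X : G) ^ (k + 1) * e * ((X : G) ^ (k + 1))⁻¹ * e⁻¹ =
            (X : G) * ((X : G) ^ k * e * ((X : G) ^ k)⁻¹ * e⁻¹) * (X : G)⁻¹ *
              ((X : G) * e * (X : G)⁻¹ * e⁻¹) := by
          rw [pow_succ']; group
        rw [e1, ih.eq, mul_inv_cancel_right]
        exact ih.mul_right h1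
    obtain ⟨k, rfl⟩ := mem_powers_iff_mem_zpowers.mpr hy
    rw [zpowers_eq_closure, centralizer_closure, mem_centralizer_iff]
    rintro _ rfl
    rw [← commutatorElement_inv]
    exact ((hd k).inv_right).eq
  obtain ⟨M, -, hMn, hXM, hMp⟩ := hst E₀ (hEp.to_le hE₀E) X (hL₀ X hXL₀) hquad
  have hp1 : ∀ l : L, (l : G) ∈ M → ∃ k : ℕ, θ l ^ p ^ k = 1 := by
    intro l hl
    obtain ⟨k, hk⟩ := hMp l hl
    refine ⟨k, ?_⟩
    rw [← map_pow]
    refine Subtype.ext (Matrix.ext_of_mulVec_single fun r => ?_)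
    obtain ⟨a, ha, hva⟩ := hpair (Pi.single r 1)
    rw [← hva, ← hact (l ^ p ^ k) a (hE₀E ha), SubmonoidClass.coe_pow,
      ← mem_centralizer_iff.mp hk a ha, mul_inv_cancel_right,
      Matrix.SpecialLinearGroup.coe_one, Matrix.one_mulVec]
  obtain ⟨w, hw, hwτ⟩ := hlift wmat
  obtain ⟨k, hk⟩ := hp1 (X * (w * X * w⁻¹))
    (mul_mem hXM (hMn w (hL₀ w ((hL₀mem w).mpr hwτ)) X hXM))
  simp only [map_mul, map_inv, hw, hθX] at hk
  set y : SL(2, ZMod p) := umat 1 * (wmat * umat 1 * wmat⁻¹) with hy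
  have hdvd : orderOf y ∣ 3 := by
    refine (Nat.Coprime.dvd_of_dvd_mul_left ?_
      (show orderOf y ∣ 2 * 3 from orderOf_dvd_of_pow_eq_one wu_pow_six))
    exact ((Nat.coprime_primes hp.out Nat.prime_two).mpr hp2).pow_left k |>.coprime_dvd_left
      (orderOf_dvd_of_pow_eq_one hk)
  have h3 : smat ^ 3 = (1 : SL(2, ZMod p)) := by
    rw [← wu_eq]; exact orderOf_dvd_iff_pow_eq_one.mp hdvd
  have h00 := congrArg (fun s : SL(2, ZMod p) => (s : Matrix (Fin 2) (Fin 2) (ZMod p)) 0 0) h3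
  rw [show (3 : ℕ) = 1 + 1 + 1 from rfl, pow_succ, pow_succ, pow_one] at h00
  change ((!![0, 1; -1, (1 : ZMod p)] * !![0, 1; -1, (1 : ZMod p)]) * !![0, 1; -1, (1 : ZMod p)]) 0 0 =
    (1 : Matrix (Fin 2) (Fin 2) (ZMod p)) 0 0 at h00
  simp [Matrix.mul_apply, Fin.sum_univ_two] at h00
  first
  | exact h2 (by linear_combination -h00)
  | exact h2 (by linear_combination h00)
  | exact h2 h00

/-- No pair of elements quadratic modulo `Q` moves a `p`-subgroup by `p'`-elements. -/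
theorem no_pair_odd (hp2 : p ≠ 2) (hst : Stable p G) {Q : Subgroup G}
    (hQc : ∀ x : G, (orderOf x).Coprime p → x ∈ centralizer (Q : Set G)) {a b : G} :
    ∀ n : ℕ, ∀ R : Subgroup G, Nat.card R = n → IsPGroup p R →
      closure ({a, b} : Set G) ≤ normalizer (R : Set G) →
      ⁅⁅R, zpowers a⁆, zpowers a⁆ ≤ Q → ⁅⁅R, zpowers b⁆, zpowers b⁆ ≤ Q →
      ∀ y ∈ closure ({a, b} : Set G), (orderOf y).Coprime p → y ∈ centralizer (R : Set G) := by
  classical
  intro n
  induction n using Nat.strong_induction_on with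
  | _ n IH =>
  intro R hn hRp hLR hqa hqb y0 hy0 hy0c
  by_contra hy0R
  set L := closure ({a, b} : Set G) with hL
  set S0 : Set G := {x | x ∈ L ∧ (orderOf x).Coprime p} with hS0
  set C0 := centralizer S0 with hC0
  have hsmall : ∀ R' : Subgroup G, R' ≤ R → R' ≠ R → L ≤ normalizer (R' : Set G) → R' ≤ C0 := by
    intro R' hle hne hinv r hr
    refine mem_centralizer_iff.mpr fun y hy => ?_
    have hlt : Nat.card R' < n := by
      rw [← hn]
      exact lt_of_not_ge fun h => hne (eq_of_le_of_card_ge hle h)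
    exact (mem_centralizer_iff.mp (IH _ hlt R' rfl (hRp.to_le hle) hinv
      ((commutator_mono (commutator_mono hle le_rfl) le_rfl).trans hqa)
      ((commutator_mono (commutator_mono hle le_rfl) le_rfl).trans hqb) y hy.1 hy.2) r hr).symm
  have hS0conj : ∀ l ∈ L, ∀ x ∈ S0, l * x * l⁻¹ ∈ S0 := fun l hl x hx =>
    ⟨mul_mem (mul_mem hl hx.1) (inv_mem hl), by
      rw [← MulAut.conj_apply, MulEquiv.orderOf_eq]; exact hx.2⟩
  set Z := R ⊓ C0 with hZ
  have hZR : Z ≤ R := inf_le_left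
  have hLZ : L ≤ normalizer (Z : Set G) := fun l hl =>
    GlaubermanReplacement.mem_normalizer_of_conj_mem fun z hz =>
      mem_inf.mpr ⟨(mem_normalizer_iff.mp (hLR hl) z).mp (mem_inf.mp hz).1,
        mem_centralizer_iff.mpr fun x hx => by
          have h1 := mem_centralizer_iff.mp (mem_inf.mp hz).2 _ (hS0conj l⁻¹ (inv_mem hl) x hx)
          rw [inv_inv] at h1
          calc x * (l * z * l⁻¹) = l * ((l⁻¹ * x * l) * z) * l⁻¹ := by group
            _ = l * (z * (l⁻¹ * x * l)) * l⁻¹ := by rw [h1]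
            _ = l * z * l⁻¹ * x := by group⟩
  have hQZ : R ⊓ Q ≤ Z := le_inf inf_le_left fun q hq =>
    mem_centralizer_iff.mpr fun x hx =>
      (mem_centralizer_iff.mp (hQc x hx.2) q (mem_inf.mp hq).2).symm
  -- the Frattini subgroup
  set F := (frattini R).map R.subtype with hF
  have hFZ : F ≤ Z := by
    refine le_inf (map_subtype_le _) (hsmall F (map_subtype_le _) (fun e => hy0R ?_)
      (hLR.trans (Coprime.OmegaDetect.normalizer_le_normalizer_char R (frattini R))))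
    have htop : frattini R = ⊤ := by
      have h1 := congrArg (fun H : Subgroup G => H.comap R.subtype) e
      simp only [hF, comap_map_eq_self_of_injective R.subtype_injective] at h1
      rw [h1]; exact subgroupOf_self R
    have hbot : (⊥ : Subgroup R) = ⊤ := frattini_nongenerating (by rw [htop, sup_top_eq])
    refine mem_centralizer_iff.mpr fun r hr => ?_
    have h1 : (⟨r, hr⟩ : R) ∈ (⊥ : Subgroup R) := by rw [hbot]; exact mem_top _
    have h2 : r = 1 := congrArg Subtype.val (mem_bot.mp h1)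
    rw [h2, one_mul, mul_one]
  have := hRp.isNilpotent
  have hcommF : ∀ x ∈ R, ∀ y ∈ R, ⁅x, y⁆ ∈ Z := fun x hx y hy =>
    hFZ ⟨⁅(⟨x, hx⟩ : R), ⟨y, hy⟩⁆, Coprime.commutator_le_frattini R
      (commutator_mem_commutator (mem_top _) (mem_top _)), rfl⟩
  have hpow : ∀ x ∈ R, x ^ p ∈ Z := fun x hx =>
    hFZ ⟨(⟨x, hx⟩ : R) ^ p, Solvable.Basics.pow_mem_frattini hRp _, rfl⟩
  -- `R` is perfect with respect to the `p'`-elements, hence `Z` is central in `R`
  set Y := closure S0 with hY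
  have hYL : Y ≤ L := (closure_le _).mpr fun x hx => hx.1
  have hRY : ⁅R, Y⁆ = R := by
    have hle : ⁅R, Y⁆ ≤ R := by
      rw [commutator_le]
      intro r hr x hx
      rw [commutatorElement_def, mul_assoc, mul_assoc, ← mul_assoc x]
      exact mul_mem hr ((mem_normalizer_iff.mp (hLR (hYL hx)) _).mp (inv_mem hr))
    by_contra hne
    refine hy0R (mem_centralizer_iff.mpr fun r hr => ?_)
    have h1 := hsmall _ hle hne (fun l hl => by
      refine GlaubermanReplacement.mem_normalizer_of_conj_mem fun z hz => ?_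
      have h1 : (⁅R, Y⁆).map (MulAut.conj l).toMonoidHom ≤ ⁅R, Y⁆ := by
        rw [map_commutator, hY, MonoidHom.map_closure]
        refine commutator_mono ?_ (closure_mono ?_)
        · rintro _ ⟨w, hw, rfl⟩
          exact (mem_normalizer_iff.mp (hLR hl) w).mp hw
        · rintro _ ⟨w, hw, rfl⟩
          exact hS0conj l hl w hw
      exact h1 ⟨z, hz, rfl⟩)
    have hm : ⁅y0, r⁆ ∈ ⁅R, Y⁆ := by
      rw [commutator_comm]
      exact commutator_mem_commutator (subset_closure ⟨hy0, hy0c⟩) hr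
    have h2 := mem_centralizer_iff.mp (h1 hm) y0 ⟨hy0, hy0c⟩
    rw [commutatorElement_def] at hm h2
    exact (fix_of_coprime hy0c hRp (hle hm) (by rw [h2, mul_inv_cancel_right])).symm
  have hRZ : R ≤ centralizer (Z : Set G) := by
    have hYZ : Y ≤ centralizer (Z : Set G) := (closure_le _).mpr fun x hx =>
      mem_centralizer_iff.mpr fun z hz => (mem_centralizer_iff.mp (mem_inf.mp hz).2 x hx).symm
    have h := commutator_commutator_eq_bot_of_rotate (H₁ := R) (H₂ := Y) (H₃ := Z)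
      (by rw [commutator_eq_bot_iff_le_centralizer.mpr hYZ, commutator_bot_left])
      (by
        rw [commutator_eq_bot_iff_le_centralizer]
        refine ((commutator_le.mpr fun z hz r hr => hcommF z (hZR hz) r hr).trans inf_le_right).trans ?_
        rw [hY, centralizer_closure])
    rw [hRY, commutator_eq_bot_iff_le_centralizer] at h
    exact h
  -- the section `R / Z`
  set M := normalizer (R : Set G) ⊓ normalizer (Z : Set G) with hM
  have hRM : R ≤ M := le_inf le_normalizer (hRZ.trans (centralizer_le_normalizer _))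
  have hLM : L ≤ M := le_inf hLR hLZ
  set V := Z.subgroupOf M with hV
  have : V.Normal := (normal_subgroupOf_iff_le_normalizer (hZR.trans hRM)).mpr inf_le_right
  set π := QuotientGroup.mk' V with hπ
  have hπ1 : ∀ x : M, π x = 1 ↔ (x : G) ∈ Z := fun x => by
    rw [hπ, QuotientGroup.mk'_apply, QuotientGroup.eq_one_iff, hV, mem_subgroupOf]
  set W := (R.subgroupOf M).map π with hW
  have hRn : (R.subgroupOf M).Normal := (normal_subgroupOf_iff_le_normalizer hRM).mpr inf_le_left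
  have : W.Normal := hRn.map π (QuotientGroup.mk'_surjective V)
  have hWel : IsElementaryAbelian p W := by
    refine ThompsonSubgroup.isElementaryAbelian_iff.mpr ⟨?_, ?_⟩
    · rintro _ ⟨x, hx, rfl⟩ _ ⟨y, hy, rfl⟩
      rw [← commutatorElement_eq_one_iff_mul_comm, ← map_commutatorElement, hπ1]
      exact hcommF x hx y hy
    · rintro _ ⟨x, hx, rfl⟩
      rw [← map_pow, hπ1, SubmonoidClass.coe_pow]
      exact hpow x hx
  set aM : M := ⟨a, hLM (subset_closure (Or.inl rfl))⟩ with haM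
  set bM : M := ⟨b, hLM (subset_closure (Or.inr rfl))⟩ with hbM
  have hquad : ∀ c : M, (c : G) ∈ L → ⁅⁅R, zpowers (c : G)⁆, zpowers (c : G)⁆ ≤ Q →
      Quadratic.Quad W (π c) := by
    intro c hcL hc
    show ⁅⁅W, zpowers (π c)⁆, zpowers (π c)⁆ = ⊥
    rw [hW, ← MonoidHom.map_zpowers, ← map_commutator, ← map_commutator, Subgroup.map_eq_bot_iff,
      QuotientGroup.ker_mk', hV]
    refine map_le_iff_le_comap.mp ?_
    rw [map_commutator, map_commutator, MonoidHom.map_zpowers, map_subgroupOf_eq_of_le hRM]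
    refine le_trans (le_inf ?_ hc) hQZ
    have h2 : ∀ A : Subgroup G, A ≤ R → ⁅A, zpowers (c : G)⁆ ≤ R := fun A hA => by
      rw [commutator_le]
      intro r hr x hx
      rw [commutatorElement_def, mul_assoc, mul_assoc, ← mul_assoc x]
      exact mul_mem (hA hr)
        ((mem_normalizer_iff.mp (hLR (zpowers_le.mpr hcL hx)) _).mp (inv_mem (hA hr)))
    exact h2 _ (h2 _ le_rfl)
  have hmapL : L = (closure ({aM, bM} : Set M)).map M.subtype := by
    rw [MonoidHom.map_closure, Set.image_pair, hL]; rfl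
  have hbad : Quadratic.BadPair p W (π aM) (π bM) := by
    intro hall
    obtain ⟨y, hy, hye⟩ := hmapL.le hy0
    obtain ⟨k, hk⟩ := hall (π y) (by
      have h1 := mem_map_of_mem π hy
      rwa [MonoidHom.map_closure, Set.image_pair] at h1)
    set y2 := y0 ^ p ^ k with hy2
    have hy2c : (orderOf y2).Coprime p := hy0c.coprime_dvd_left (orderOf_pow_dvd _)
    have hy2S : y2 ∈ S0 := ⟨pow_mem hy0 _, hy2c⟩
    have hy2R : y2 ∈ centralizer (R : Set G) := by
      refine mem_centralizer_iff.mpr fun r hr => ?_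
      have hd : y2 * r * y2⁻¹ * r⁻¹ ∈ Z := by
        have h1 := mem_centralizer_iff.mp hk (π ⟨r, hRM hr⟩)
          (mem_map_of_mem π (show (⟨r, hRM hr⟩ : M) ∈ R.subgroupOf M from hr))
        have h2 : π (y ^ p ^ k * ⟨r, hRM hr⟩ * (y ^ p ^ k)⁻¹ * ⟨r, hRM hr⟩⁻¹) = 1 := by
          rw [map_mul, map_mul, map_mul, map_inv, map_inv, map_pow, ← h1]; group
        rw [hπ1] at h2
        rw [hy2, ← hye]
        exact h2
      refine (fix_of_coprime hy2c hRp (hZR hd) ?_).symm
      have h3 := mem_centralizer_iff.mp (mem_inf.mp hd).2 y2 hy2S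
      rw [h3, mul_inv_cancel_right]
    obtain ⟨m, hm⟩ := exists_pow_eq_self_of_coprime (n := p ^ k) (x := y0) (hy0c.symm.pow_left k)
    exact hy0R (hm ▸ pow_mem hy2R m)
  obtain ⟨K0, hK0, θ, j, hθ, hj, hjW, hact⟩ :=
    Cfsg.Agent.Techniques.SL2.Qd.exists_natural_of_bad_pair hp2 hWel
      (le_normalizer_of_normal (mem_top _)) (le_normalizer_of_normal (mem_top _))
      (hquad aM (subset_closure (Or.inl rfl)) hqa) (hquad bM (subset_closure (Or.inr rfl)) hqb) hbad
  set L1 := (K0.comap π).map M.subtype ⊓ L with hL1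
  have hL1M : L1 ≤ M := inf_le_left.trans (map_subtype_le _)
  let g1 : L1 →* K0 := (π.comp (inclusion hL1M)).codRestrict K0 fun l => by
    obtain ⟨x, hx, he⟩ := (mem_inf.mp l.2).1
    have : inclusion hL1M l = x := Subtype.ext he.symm
    rw [MonoidHom.comp_apply, this]
    exact hx
  have hg1 : Function.Surjective g1 := by
    intro k
    have h1 : (k : ↥M ⧸ V) ∈ (closure ({aM, bM} : Set M)).map π := by
      rw [MonoidHom.map_closure, Set.image_pair]
      exact hK0 k.2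
    obtain ⟨x, hx, hxe⟩ := h1
    have hxL : (x : G) ∈ L1 := mem_inf.mpr ⟨⟨x, by rw [SetLike.mem_coe, mem_comap, hxe]; exact k.2, rfl⟩,
      hmapL.ge ⟨x, hx, rfl⟩⟩
    exact ⟨⟨x, hxL⟩, Subtype.ext hxe⟩
  set E := (j.range.comap π).map M.subtype with hE
  have hEM : E ≤ M := map_subtype_le _
  have hErange : ∀ e (he : e ∈ E), π ⟨e, hEM he⟩ ∈ j.range := by
    rintro _ ⟨x, hx, rfl⟩
    exact hx
  have hEmem : ∀ x : M, π x ∈ j.range → (x : G) ∈ E := fun x hx => ⟨x, hx, rfl⟩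
  let v : G → Fin 2 → ZMod p := fun e =>
    if h : e ∈ M then Multiplicative.toAdd (Function.invFun j (π ⟨e, h⟩)) else 0
  have hvj : ∀ e (he : e ∈ E), j (Multiplicative.ofAdd (v e)) = π ⟨e, hEM he⟩ := fun e he => by
    simp only [v, dif_pos (hEM he), ofAdd_toAdd]
    exact Function.invFun_eq (MonoidHom.mem_range.mp (hErange e he))
  have hER : E ≤ R := by
    intro e he
    obtain ⟨r, hr, hre⟩ := (hvj e he).symm ▸ hjW (Multiplicative.ofAdd (v e))
    have h1 : π (r⁻¹ * ⟨e, hEM he⟩) = 1 := by rw [map_mul, map_inv, hre, inv_mul_cancel]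
    rw [hπ1] at h1
    have h2 := mul_mem (mem_subgroupOf.mp hr) (hZR h1)
    simpa using h2
  have hconjE : ∀ l : L1, ∀ e ∈ E, (l : G) * e * (l : G)⁻¹ ∈ E ∧
      ∀ h : (l : G) * e * (l : G)⁻¹ ∈ M, π ⟨_, h⟩ =
        j (Multiplicative.ofAdd ((θ (g1 l)).1 *ᵥ v e)) := by
    intro l e he
    have h1 : π (inclusion hL1M l * ⟨e, hEM he⟩ * (inclusion hL1M l)⁻¹) =
        j (Multiplicative.ofAdd ((θ (g1 l)).1 *ᵥ v e)) := by
      rw [← hact (g1 l) (v e), hvj e he, map_mul, map_mul, map_inv]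
      rfl
    have h2 := hEmem (inclusion hL1M l * (⟨e, hEM he⟩ : M) * (inclusion hL1M l)⁻¹) ⟨_, h1.symm⟩
    exact ⟨h2, fun h => h1⟩
  refine no_natural_odd hp2 hst (Z := Z) (hRp.to_le hER) (fun l hl =>
      GlaubermanReplacement.mem_normalizer_of_conj_mem fun e he => (hconjE ⟨l, hl⟩ e he).1)
    (fun z hz => hEmem ⟨z, hRM (hZR hz)⟩ (by rw [(hπ1 _).mpr hz]; exact one_mem _))
    (fun e he z hz => (mem_centralizer_iff.mp (hRZ (hER he)) z hz).symm)
    (fun x hx hxc => mem_centralizer_iff.mpr fun z hz =>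
      (mem_centralizer_iff.mp (mem_inf.mp hz).2 x ⟨(mem_inf.mp hx).2, hxc⟩).symm)
    (fun e he => hpow e (hER he)) (θ.comp g1) (hθ.comp hg1) v ?_ ?_ ?_ ?_ ?_
  · intro e he f hf
    refine Multiplicative.ofAdd.injective (hj ?_)
    rw [hvj _ (mul_mem he hf), ofAdd_add, map_mul, hvj e he, hvj f hf, ← map_mul]
    rfl
  · refine Multiplicative.ofAdd.injective (hj ?_)
    rw [hvj _ (one_mem _), ofAdd_zero, map_one]
    exact map_one π
  · intro e he h0
    have h1 := hvj e he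
    rw [h0, ofAdd_zero, map_one] at h1
    exact (hπ1 _).mp h1.symm
  · intro w
    obtain ⟨x, hx⟩ := QuotientGroup.mk'_surjective V (j (Multiplicative.ofAdd w))
    have hxE : (x : G) ∈ E := hEmem x ⟨_, hx.symm⟩
    refine ⟨x, hxE, Multiplicative.ofAdd.injective (hj ?_)⟩
    rw [hvj _ hxE, ← hx]
  · intro l e he
    have hm := (hconjE l e he).1
    refine Multiplicative.ofAdd.injective (hj ?_)
    rw [hvj _ hm, (hconjE l e he).2 (hEM hm)]
    rfl

/-- Quotients by a normal `p`-subgroup centralized by all `p'`-elements, for odd `p`. -/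
theorem stable_quotient_central_odd (hp2 : p ≠ 2) (hst : Stable p G) (Q : Subgroup G) [Q.Normal]
    (hQp : IsPGroup p Q) (hQc : ∀ x : G, (orderOf x).Coprime p → x ∈ centralizer (Q : Set G)) :
    Stable p (G ⧸ Q) := by
  intro P hP g hg hq
  by_contra hna
  obtain ⟨h, hh, x, hx, hxc, hxC⟩ := exists_pair hg hna
  set π := QuotientGroup.mk' Q with hπ
  set P0 := P.comap π with hP0
  have hP0p : IsPGroup p P0 := hP.comap_of_ker_isPGroup π (by rw [QuotientGroup.ker_mk']; exact hQp)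
  have hmap : P0.map π = P := map_comap_eq_self_of_surjective (QuotientGroup.mk'_surjective Q) P
  obtain ⟨a, rfl⟩ := QuotientGroup.mk'_surjective Q g
  obtain ⟨h0, rfl⟩ := QuotientGroup.mk'_surjective Q h
  have hN : ∀ y : G, π y ∈ normalizer (P : Set (G ⧸ Q)) → y ∈ normalizer (P0 : Set G) := by
    intro y hy
    rw [mem_normalizer_iff] at hy ⊢
    intro z
    simp only [hP0, mem_comap, map_mul, map_inv]
    exact hy _
  have hqd : ∀ y : G, ⁅⁅P, zpowers (π y)⁆, zpowers (π y)⁆ = ⊥ → ⁅⁅P0, zpowers y⁆, zpowers y⁆ ≤ Q := by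
    intro y hy
    rw [← QuotientGroup.ker_mk' Q, ← Subgroup.map_eq_bot_iff, map_commutator, map_commutator,
      MonoidHom.map_zpowers, hmap]
    exact hy
  have hqb : ⁅⁅P, zpowers (π (h0 * a * h0⁻¹))⁆, zpowers (π (h0 * a * h0⁻¹))⁆ = ⊥ := by
    rw [map_mul, map_mul, map_inv]
    exact Quadratic.quad_conj (π h0) hh hq
  have hcl : (closure ({a, h0 * a * h0⁻¹} : Set G)).map π =
      closure ({π a, π h0 * π a * (π h0)⁻¹} : Set (G ⧸ Q)) := by
    rw [MonoidHom.map_closure, Set.image_pair, map_mul, map_mul, map_inv]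
  obtain ⟨y, hy, hye⟩ := hcl.ge hx
  obtain ⟨k, hk⟩ := exists_coprime_pow (p := p) y
  have hLN : closure ({a, h0 * a * h0⁻¹} : Set G) ≤ normalizer (P0 : Set G) :=
    (closure_le _).mpr (by
      rintro z (rfl | rfl)
      · exact hN _ hg
      · exact mul_mem (mul_mem (hN _ hh) (hN _ hg)) (inv_mem (hN _ hh)))
  have hc := no_pair_odd hp2 hst hQc _ P0 rfl hP0p hLN (hqd a hq) (hqd _ hqb) _ (pow_mem hy (p ^ k)) hk
  obtain ⟨m, hm⟩ := exists_pow_eq_self_of_coprime (n := p ^ k) (x := x) (hxc.symm.pow_left k)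
  refine hxC (hm ▸ pow_mem (mem_centralizer_iff.mpr ?_) m)
  rw [← hye, ← map_pow, ← hmap]
  rintro _ ⟨z, hz, rfl⟩
  rw [← map_mul, ← map_mul, mem_centralizer_iff.mp hc z hz]

end core

section main

open Cfsg.Agent.Techniques.Functor Cfsg.Agent.Techniques.SL2.ZJFusion

/-- In a stable group, `p` odd, the functor `ZJ` controls fusion. -/
theorem fc_zj_odd (hp2 : p ≠ 2) : ∀ n : ℕ, ∀ (G : Type u) [Group G] [Finite G],
    Nat.card G = n → Stable p G → FC p ({zj.{u}} : Set (∀ (Q : Type u) [Group Q], Subgroup Q)) G := by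
  intro n
  induction n using Nat.strong_induction_on with
  | _ n IH =>
  intro G _ _ hn hst
  have h𝓦 : ∀ V ∈ ({zj.{u}} : Set (∀ (Q : Type u) [Group Q], Subgroup Q)),
      IsCharPFunctor.{u} p V := by
    rintro V rfl
    exact isCharPFunctor_zj
  have hlt : ∀ (K : Subgroup G) [K.Normal], K ≠ ⊥ → Nat.card (G ⧸ K) < n := fun K _ hK => by
    rw [← hn, card_eq_card_quotient_mul_card_subgroup K]
    exact (Nat.lt_mul_iff_one_lt_right Nat.card_pos).mpr ((Subgroup.one_lt_card_iff_ne_bot _).mpr hK)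
  refine fc_step_of h𝓦 (fun L hL => ?_) (fun hK => ?_) (fun hQ hc => ?_) fun hc S => ?_
  · refine IH (Nat.card L) ?_ L rfl (stable_subgroup hst L)
    rw [← hn]
    exact lt_of_not_ge fun h => hL (Subgroup.eq_top_of_le_card _ h)
  · exact IH _ (hlt _ hK) _ rfl (stable_quotient_coprime hst _ Cores.coprime_card_pPrimeCore)
  · exact IH _ (hlt _ hQ) _ rfl (stable_quotient_central_odd hp2 hst _ Cores.isPGroup_pCore hc)
  · have hst' : IsNormalizerPStable p G := stable_iff.mpr hst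
    have hn' : (inducedFunctor (G := G) zj.{u} (S : Subgroup G)).Normal := by
      rw [induced_zj, MaxAbelian.centerThompsonA_eq]
      exact ZJ.core_normal hp2 hc 0 (fun V _ hV => isPStableOn_of_stable hst' V hV) S
    intro A g _ hA hc'
    refine Reach.single ?_ hc'
    rw [induced, Set.image_singleton, steps_singleton, SetLike.mem_coe, mem_inf,
      normalizer_eq_top_iff.mpr hn']
    exact ⟨mem_top g, mem_top g⟩

theorem controls_odd (hp2 : p ≠ 2) {G : Type u} [Group G] [Finite G]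
    (hst : IsNormalizerPStable p G) (P : Sylow p G) (A : Set G) (hA : A ⊆ (P : Subgroup G)) :
    ControlsStrongFusionOf (normalizer (centerThompsonAOf (P : Subgroup G) : Set G))
      (P : Subgroup G) A := by
  refine ⟨hA, fun g hg => ?_⟩
  have h1 := fc_zj_odd hp2 _ G rfl (stable_iff.mp hst) P A g (mem_top g) hA hg
  rw [induced, Set.image_singleton, steps_singleton, induced_zj] at h1
  obtain ⟨x, hx, he⟩ := Reach.exists_mem h1
  exact ⟨x, (mem_inf.mp hx).2, fun a ha => (he a ha).symm⟩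

end main

end Cfsg.Agent.CharP.StableOdd
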