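import Mathlib
import Cfsg.Agent.Lib.CharP.StronglyClosedOrder
import Cfsg.Agent.Lib.Coprime.Commutator
import Cfsg.Agent.Lib.Hall.Supersolvable
import Cfsg.Agent.Lib.Hall.MinimalNormal

/-!
A normal `q`-subgroup all whose subgroups of one fixed order are normal can be added to a
supersolvable group.
-/

set_option autoImplicit false

universe u

namespace Cfsg.Agent.CharP.SupersolvableExtension

open Subgroup

variable {G : Type u} [Group G] [Finite G] {q : ℕ} [hqf : Fact q.Prime]

/-- Minimal normal subgroups on which the acting group is abelian of exponent `q - 1` up to a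
`q`-group are cyclic. -/
theorem isCyclic_of_minimal {N : Subgroup G} [N.Normal] (hN : N ≠ ⊥)
    (hmin : ∀ M : Subgroup G, M.Normal → M ≤ N → M = ⊥ ∨ M = N)
    (he : Cfsg.IsElementaryAbelian q N) (hNq : IsPGroup q N)
    (K : Subgroup G) [K.Normal] (hcomm : ∀ a b : G, a * b * a⁻¹ * b⁻¹ ∈ K)
    (hpow : ∀ g : G, g ^ (q - 1) ∈ K)
    (hK : ∀ k ∈ K, ∃ e : ℕ, k ^ q ^ e ∈ centralizer (N : Set G)) : IsCyclic N := by
  let φ : G →* MulAut N := MulAut.conjNormal
  have hφ1 : ∀ x, x ∈ centralizer (N : Set G) → φ x = 1 := fun x hx => MulEquiv.ext fun v => by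
    apply Subtype.ext
    rw [MulAut.conjNormal_apply, ← hx v v.2, mul_inv_cancel_right]
    rfl
  have himg : IsPGroup q (K.map φ) := by
    rintro ⟨_, k, hk, rfl⟩
    obtain ⟨e, he'⟩ := hK k hk
    exact ⟨e, Subtype.ext (by rw [SubmonoidClass.coe_pow, OneMemClass.coe_one, ← map_pow, hφ1 _ he'])⟩
  have hNK : N ≤ centralizer (K : Set G) := by
    have hW : N ⊓ centralizer (K : Set G) ≠ ⊥ := by
      obtain ⟨n, hn⟩ := IsPGroup.iff_card.1 hNq
      have hd : q ∣ Nat.card N := by
        rw [hn]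
        refine dvd_pow_self q ?_
        rintro rfl
        rw [pow_zero] at hn
        exact hN (eq_bot_of_card_eq N hn)
      obtain ⟨b, hb, hb1⟩ := himg.exists_fixed_point_of_prime_dvd_card_of_fixed_point N hd
        (a := (1 : N)) (fun m => map_one (m : MulAut N))
      intro hbot
      apply hb1
      refine Subtype.ext (mem_bot.1 (hbot ▸ mem_inf.2 ⟨b.2, ?_⟩)).symm
      intro k hk
      have h1 := congrArg Subtype.val (hb ⟨φ k, mem_map_of_mem φ hk⟩)
      exact mul_inv_eq_iff_eq_mul.1 ((MulAut.conjNormal_apply k b).symm.trans h1)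
    exact inf_eq_left.1 ((hmin _ inferInstance inf_le_left).resolve_left hW)
  have hfix : ∀ k ∈ K, φ k = 1 := fun k hk => hφ1 k fun v hv => (hNK hv k hk).symm
  letI : CommGroup N :=
    { (inferInstance : Group N) with mul_comm := fun x y => he.1.is_comm.comm x y }
  have hqx : ∀ x : Additive N, q • x = 0 := fun x => by
    apply Additive.toMul.injective
    rw [toMul_nsmul, toMul_zero]
    exact Subtype.ext (he.2 _ (Additive.toMul x).2)
  letI : Module (ZMod q) (Additive N) := AddCommGroup.zmodModule (n := q) hqx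
  let T : G → Additive N →ₗ[ZMod q] Additive N := fun g =>
    AddMonoidHom.toZModLinearMap q (MonoidHom.toAdditive (φ g : MulAut N).toMonoidHom)
  have hT : ∀ g v, ((Additive.toMul (T g v) : N) : G) = g * (Additive.toMul v : N) * g⁻¹ :=
    fun g v => MulAut.conjNormal_apply g _
  have hTmul : ∀ a b v, T (a * b) v = T a (T b v) := fun a b v => by
    show Additive.ofMul (φ (a * b) (Additive.toMul v)) = _
    rw [map_mul]; rfl
  have hTK : ∀ k ∈ K, ∀ v, T k v = v := fun k hk v => by
    show Additive.ofMul (φ k (Additive.toMul v)) = v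
    rw [hfix k hk]; rfl
  have hTcomm : ∀ a b v, T a (T b v) = T b (T a v) := fun a b v => by
    rw [← hTmul, show a * b = a * b * a⁻¹ * b⁻¹ * (b * a) by group, hTmul, hTK _ (hcomm a b), hTmul]
  have : Nontrivial (Additive N) := by
    have : Nontrivial N := (nontrivial_iff_ne_bot N).2 hN
    exact inferInstanceAs (Nontrivial N)
  -- eigenvectors
  have heig : ∀ g, ∃ c : ZMod q, ∃ v, v ≠ 0 ∧ T g v = c • v := by
    intro g
    obtain ⟨x, hx⟩ := exists_ne (0 : Additive N)
    let f : ℕ → Additive N := fun k => T (g ^ k) x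
    let u : (ZMod q)ˣ → Additive N := fun c =>
      ∑ k ∈ Finset.range (q - 1), ((c⁻¹ : (ZMod q)ˣ) ^ k : ZMod q) • f k
    have hf0 : f 0 = x := by
      show T (g ^ 0) x = x
      rw [pow_zero]; exact hTK 1 (one_mem K) x
    have hfend : f (q - 1) = x := hTK _ (hpow g) x
    have hstep : ∀ k, T g (f k) = f (k + 1) := fun k => by
      show T g (T (g ^ k) x) = T (g ^ (k + 1)) x
      rw [← hTmul, ← pow_succ']
    have hu : ∀ c, T g (u c) = (c : ZMod q) • u c := by
      intro c
      let F : ℕ → Additive N := fun k => ((c⁻¹ : (ZMod q)ˣ) ^ k : ZMod q) • f k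
      have h1 : T g (u c) = (c : ZMod q) • ∑ k ∈ Finset.range (q - 1), F (k + 1) := by
        rw [Finset.smul_sum, map_sum]
        refine Finset.sum_congr rfl fun k _ => ?_
        rw [map_smul, hstep, smul_smul, pow_succ', ← mul_assoc, Units.mul_inv, one_mul]
      have h2 : F (q - 1) = F 0 := by
        show ((c⁻¹ : (ZMod q)ˣ) ^ (q - 1) : ZMod q) • f (q - 1) = _ • f 0
        rw [hfend, hf0, pow_zero, ZMod.pow_card_sub_one_eq_one (Units.ne_zero _)]
      have h3 := Finset.sum_range_succ F (q - 1)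
      rw [Finset.sum_range_succ' F (q - 1), h2] at h3
      rw [h1, add_right_cancel h3]
    have hsum : ∑ c : (ZMod q)ˣ, u c = -x := by
      rw [Finset.sum_comm, Finset.sum_eq_single 0]
      · rw [← Finset.sum_smul, hf0]
        simp only [pow_zero, Finset.sum_const, Finset.card_univ, nsmul_eq_mul, mul_one]
        rw [ZMod.card_units_eq_totient, Nat.totient_prime hqf.out, Nat.cast_sub hqf.out.one_le,
          ZMod.natCast_self, Nat.cast_one, zero_sub, neg_one_smul]
      · intro k hk hk0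
        rw [← Finset.sum_smul]
        have h1 : ∑ c : (ZMod q)ˣ, ((c⁻¹ : (ZMod q)ˣ) ^ k : ZMod q) = 0 := by
          rw [show (∑ c : (ZMod q)ˣ, ((c⁻¹ : (ZMod q)ˣ) ^ k : ZMod q)) =
            ∑ c : (ZMod q)ˣ, ((c : (ZMod q)ˣ) ^ k : ZMod q) from
            Equiv.sum_comp (Equiv.inv _) fun c : (ZMod q)ˣ => ((c : ZMod q) ^ k)]
          rw [FiniteField.sum_pow_units, Fintype.card_eq_nat_card, Nat.card_zmod, if_neg]
          intro hd
          have := Nat.le_of_dvd (by omega) hd
          have := Finset.mem_range.1 hk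
          omega
        rw [h1, zero_smul]
      · intro h
        exact absurd (Finset.mem_range.2 (by have := hqf.out.two_le; omega)) h
    by_contra hno
    push Not at hno
    apply hx
    rw [← neg_eq_zero, ← hsum]
    refine Finset.sum_eq_zero fun c _ => ?_
    by_contra h0
    exact hno _ _ h0 (hu c)
  have hscalar : ∀ g, ∃ c : ZMod q, ∀ v, T g v = c • v := by
    intro g
    obtain ⟨c, v₀, hv₀, hc⟩ := heig g
    refine ⟨c, fun v => ?_⟩
    let W : Subgroup G :=
      { carrier := {w | ∃ h : w ∈ N, T g (Additive.ofMul ⟨w, h⟩) = c • Additive.ofMul (⟨w, h⟩ : N)}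
        one_mem' := ⟨one_mem N, by
          show T g 0 = c • (0 : Additive N)
          rw [map_zero, smul_zero]⟩
        mul_mem' := by
          rintro a b ⟨ha, ha'⟩ ⟨hb, hb'⟩
          refine ⟨N.mul_mem ha hb, ?_⟩
          show T g (Additive.ofMul (⟨a, ha⟩ * ⟨b, hb⟩ : N)) = c • Additive.ofMul (⟨a, ha⟩ * ⟨b, hb⟩ : N)
          rw [ofMul_mul, map_add, ha', hb', smul_add]
        inv_mem' := by
          rintro a ⟨ha, ha'⟩
          refine ⟨N.inv_mem ha, ?_⟩
          show T g (Additive.ofMul (⟨a, ha⟩⁻¹ : N)) = c • Additive.ofMul (⟨a, ha⟩⁻¹ : N)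
          rw [ofMul_inv, map_neg, ha', smul_neg] }
    have hWn : W.Normal := ⟨fun w hw x => by
      obtain ⟨hwN, hw'⟩ := hw
      refine ⟨Normal.conj_mem inferInstance w hwN x, ?_⟩
      have e : Additive.ofMul (⟨x * w * x⁻¹, Normal.conj_mem inferInstance w hwN x⟩ : N) =
          T x (Additive.ofMul ⟨w, hwN⟩) := by
        apply Additive.toMul.injective
        exact Subtype.ext (hT x (Additive.ofMul ⟨w, hwN⟩)).symm
      rw [e, hTcomm, hw', map_smul]⟩
    rcases hmin W hWn (fun w hw => hw.1) with h | h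
    · exfalso
      apply hv₀
      have h1 : ((Additive.toMul v₀ : N) : G) ∈ W := ⟨(Additive.toMul v₀).2, hc⟩
      rw [h, mem_bot, OneMemClass.coe_eq_one] at h1
      exact Additive.toMul.injective h1
    · have h1 : ((Additive.toMul v : N) : G) ∈ W := h.symm ▸ (Additive.toMul v).2
      obtain ⟨_, h2⟩ := h1
      exact h2
  have : Nontrivial N := (nontrivial_iff_ne_bot N).2 hN
  obtain ⟨w, hw⟩ := exists_ne (1 : N)
  have hgenn : ((zpowers w).map N.subtype).Normal := by
    refine ⟨?_⟩
    rintro _ ⟨z, hz, rfl⟩ x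
    obtain ⟨c, hc⟩ := hscalar x
    refine ⟨Additive.toMul (T x (Additive.ofMul z)), ?_, hT x _⟩
    rw [hc, ← ZMod.natCast_zmod_val c, Nat.cast_smul_eq_nsmul, toMul_nsmul]
    exact pow_mem hz _
  rcases hmin _ hgenn (map_subtype_le _) with h | h
  · exact absurd (zpowers_eq_bot.1 ((map_eq_bot_iff_of_injective _ N.subtype_injective).1 h)) hw
  · refine ⟨w, fun y => ?_⟩
    obtain ⟨z, hz, he'⟩ : (y : G) ∈ (zpowers w).map N.subtype := h.symm ▸ y.2
    rwa [← N.subtype_injective he']

omit hqf in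
theorem relIndex_dvd (A : Subgroup G) [A.Normal] {x : G} {r : ℕ} (h : x ^ r ∈ A) :
    A.relIndex (A ⊔ zpowers x) ∣ r :=
  Solvable.Basics.relIndex_sup_zpowers_dvd h

/-- The intersection of the centralisers of the normal factors of order `q` below `Q`. -/
def kernel (q : ℕ) (Q : Subgroup G) : Subgroup G where
  carrier := {g | ∀ A B : Subgroup G, A.Normal → B.Normal → A ≤ B → B ≤ Q →
    A.relIndex B = q → ∀ b ∈ B, g * b * g⁻¹ * b⁻¹ ∈ A}
  one_mem' := fun A _ _ _ _ _ _ b _ => by simp
  mul_mem' := fun {g h} hg hh A B hA hB h1 h2 h3 b hb => by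
    have e := A.mul_mem (hA.conj_mem _ (hh A B hA hB h1 h2 h3 b hb) g) (hg A B hA hB h1 h2 h3 b hb)
    simpa [mul_assoc] using e
  inv_mem' := fun {g} hg A B hA hB h1 h2 h3 b hb => by
    have e := A.inv_mem (hA.conj_mem _ (hg A B hA hB h1 h2 h3 b hb) g⁻¹)
    simpa [mul_assoc] using e

instance kernel_normal (Q : Subgroup G) : (kernel q Q).Normal :=
  ⟨fun g hg x A B hA hB h1 h2 h3 b hb => by
    have hb' : x⁻¹ * b * x ∈ B := by simpa using hB.conj_mem b hb x⁻¹
    have e := hA.conj_mem _ (hg A B hA hB h1 h2 h3 _ hb') x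
    simpa [mul_assoc] using e⟩

theorem mem_kernel_aux (Q : Subgroup G) (a b : G) :
    a * b * a⁻¹ * b⁻¹ ∈ kernel q Q ∧ a ^ (q - 1) ∈ kernel q Q := by
  suffices h : ∀ A B : Subgroup G, A.Normal → B.Normal → A.relIndex B = q →
      ∀ y ∈ B, (a * b * a⁻¹ * b⁻¹) * y * (a * b * a⁻¹ * b⁻¹)⁻¹ * y⁻¹ ∈ A ∧
        a ^ (q - 1) * y * (a ^ (q - 1))⁻¹ * y⁻¹ ∈ A from
    ⟨fun A B hA hB _ _ h3 y hy => (h A B hA hB h3 y hy).1,
      fun A B hA hB _ _ h3 y hy => (h A B hA hB h3 y hy).2⟩
  intro A B hA hB h3 y hy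
  let f := QuotientGroup.mk' A
  let Bq := B.map f
  have : Bq.Normal := hB.map f (QuotientGroup.mk'_surjective A)
  have hcard : Nat.card Bq = q := by
    have h := relIndex_ker f (K := B)
    rw [QuotientGroup.ker_mk'] at h
    exact h ▸ h3
  have : IsCyclic Bq := isCyclic_of_prime_card hcard
  let ψ : G →* MulAut Bq := MulAut.conjNormal.comp f
  have hcom : ∀ σ τ : MulAut Bq, σ * τ = τ * σ := fun σ τ => by
    obtain ⟨m, hm⟩ := MonoidHom.map_cyclic σ.toMonoidHom
    obtain ⟨n, hn⟩ := MonoidHom.map_cyclic τ.toMonoidHom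
    refine MulEquiv.ext fun z => ?_
    show σ.toMonoidHom (τ.toMonoidHom z) = τ.toMonoidHom (σ.toMonoidHom z)
    rw [hm, hn, hn, hm, ← zpow_mul, ← zpow_mul, mul_comm]
  have key : ∀ g, ψ g = 1 → g * y * g⁻¹ * y⁻¹ ∈ A := fun g hg => by
    have h1 := congrArg Subtype.val (MulEquiv.ext_iff.1 hg ⟨f y, mem_map_of_mem f hy⟩)
    simp only [ψ, MonoidHom.comp_apply, MulAut.conjNormal_apply, MulAut.one_apply] at h1
    rw [← map_inv, ← map_mul, ← map_mul, ← mul_inv_eq_one, ← map_inv, ← map_mul] at h1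
    exact (QuotientGroup.eq_one_iff _).1 h1
  refine ⟨key _ ?_, key _ ?_⟩
  · rw [map_mul, map_mul, map_mul, map_inv, map_inv, hcom (ψ a) (ψ b), mul_inv_cancel_right,
      mul_inv_cancel]
  · rw [map_pow, ← show Nat.card (MulAut Bq) = q - 1 by
      rw [IsCyclic.card_mulAut, hcard, Nat.totient_prime hqf.out]]
    exact pow_card_eq_one'

/-- Climbing along chief factors. -/
theorem of_kernel (Q : Subgroup G) [Q.Normal] (hQ : IsPGroup q Q)
    (hss : Cfsg.IsSupersolvable (G ⧸ Q))
    (hK : ∀ g ∈ kernel q Q, (orderOf g).Coprime q → g ∈ centralizer (Q : Set G)) :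
    Cfsg.IsSupersolvable G := by
  suffices key : ∀ (m : ℕ) (A : Subgroup G) [A.Normal], A ≤ Q → Nat.card Q < Nat.card A + m →
      Cfsg.IsSupersolvable (G ⧸ A) by
    exact Hall.Supersolvable.of_mulEquiv (key (Nat.card Q + 1) ⊥ bot_le (by omega))
      QuotientGroup.quotientBot
  intro m
  induction m with
  | zero => intro A _ hA h; exact absurd (card_le_of_le hA) (by omega)
  | succ m ih =>
    intro A _ hA hm
    rcases hA.eq_or_lt with h | hlt
    · subst h; exact hss
    let f := QuotientGroup.mk' A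
    have hf : Function.Surjective f := QuotientGroup.mk'_surjective A
    let Qb := Q.map f
    have : Qb.Normal := Normal.map inferInstance f hf
    have hQb : Qb ≠ ⊥ := fun h => hlt.not_ge (by
      have h1 := (Subgroup.map_eq_bot_iff Q (f := f)).1 h
      rwa [QuotientGroup.ker_mk'] at h1)
    obtain ⟨N, hNn, hNQ, hN, hmin⟩ := Hall.exists_minimal_normal Qb hQb
    have hNq : IsPGroup q N := (hQ.map f).to_le hNQ
    have : Group.IsSolvable N := by
      have := hNq.isNilpotent
      infer_instance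
    obtain ⟨r, hr, hrN, hrp, he⟩ := Hall.minimal_normal_isElementaryAbelian hN hmin
    have hrq : r = q := by
      obtain ⟨n, hn⟩ := IsPGroup.iff_card.1 hNq
      exact (Nat.prime_dvd_prime_iff_eq hr hqf.out).1 (hr.dvd_of_dvd_pow (hn ▸ hrN))
    subst hrq
    let K := kernel r Q
    have hKn : (K.map f).Normal := Normal.map inferInstance f hf
    have hcyc : IsCyclic N := isCyclic_of_minimal hN hmin he hNq (K.map f)
      (fun a b => by
        obtain ⟨a, rfl⟩ := hf a; obtain ⟨b, rfl⟩ := hf b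
        rw [← map_inv, ← map_inv, ← map_mul, ← map_mul, ← map_mul]
        exact mem_map_of_mem f (mem_kernel_aux Q a b).1)
      (fun g => by
        obtain ⟨g, rfl⟩ := hf g
        rw [← map_pow]
        exact mem_map_of_mem f (mem_kernel_aux Q g g).2)
      (by
        rintro _ ⟨k, hk, rfl⟩
        obtain ⟨e, n, hn, hen⟩ := Nat.exists_eq_pow_mul_and_not_dvd (orderOf_pos k).ne' r hr.ne_one
        refine ⟨e, ?_⟩
        have hco : (orderOf (k ^ r ^ e)).Coprime r := by
          rw [orderOf_pow' k (pow_ne_zero e hr.ne_zero), hen, Nat.gcd_mul_right_left,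
            Nat.mul_div_cancel_left _ (pow_pos hr.pos e)]
          exact (hr.coprime_iff_not_dvd.2 hn).symm
        have hc := hK _ (pow_mem hk _) hco
        intro v hv
        obtain ⟨w, hw, rfl⟩ := hNQ hv
        rw [← map_pow, ← map_mul, ← map_mul, hc w hw])
    set B := N.comap f with hB
    have : B.Normal := hNn.comap f
    have hAB : A ≤ B := fun x hx => by
      show f x ∈ N
      rw [show f x = 1 from (QuotientGroup.eq_one_iff x).2 hx]; exact one_mem N
    have hBQ : B ≤ Q := by
      refine (comap_mono hNQ).trans ?_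
      rw [Subgroup.comap_map_eq, QuotientGroup.ker_mk', sup_eq_left.2 hA]
    have hlt' : A < B := lt_of_le_of_ne hAB fun h => hN (by
      rw [← map_comap_eq_self_of_surjective hf N, ← hB, ← h, QuotientGroup.map_mk'_self])
    have hc : Nat.card A < Nat.card B :=
      lt_of_not_ge fun h => hlt'.ne (eq_of_le_of_card_ge hAB h)
    refine Hall.Supersolvable.of_normal_cyclic N ?_
    refine Hall.Supersolvable.of_surjective (ih B hBQ (by omega))
      (f := QuotientGroup.lift B ((QuotientGroup.mk' N).comp f) fun x hx => by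
        rw [MonoidHom.mem_ker, MonoidHom.comp_apply, QuotientGroup.mk'_apply, QuotientGroup.eq_one_iff]
        exact hx) ?_
    intro y
    obtain ⟨z, rfl⟩ := QuotientGroup.mk'_surjective N y
    obtain ⟨x, rfl⟩ := hf z
    exact ⟨(x : G ⧸ B), rfl⟩

/-- All subgroups of one fixed order normal. -/
theorem of_normal_subgroups (Q : Subgroup G) [Q.Normal] (hQ : IsPGroup q Q)
    (hss : Cfsg.IsSupersolvable (G ⧸ Q)) {d k : ℕ} (hd : d = q ^ k) (hk : k ≠ 0)
    (hdQ : d < Nat.card Q)
    (h : ∀ F : Subgroup G, F ≤ Q → StronglyClosedOrder.Good d F → F.Normal) :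
    Cfsg.IsSupersolvable G := by
  open StronglyClosedOrder in
  have hclosed : Closed Q d := fun F hF hg g => by
    have := h F hF hg
    refine inf_le_left.trans ?_
    rintro _ ⟨x, hx, rfl⟩
    exact this.conj_mem x hx g
  refine of_kernel Q hQ hss fun g hg ho => ?_
  have hgQ : g ∈ normalizer (Q : Set G) := le_normalizer_of_normal (mem_top g)
  have hpow : ∀ y ∈ Q, ∃ a, orderOf y = q ^ a := fun y hy => by
    obtain ⟨a, ha⟩ := IsPGroup.iff_orderOf.1 hQ ⟨y, hy⟩
    exact ⟨a, by rwa [orderOf_mk] at ha⟩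
  -- one step of coprime stability
  have step : ∀ (A : Subgroup G), A.Normal → ∀ b : G, (A ⊔ zpowers b).Normal → A ⊔ zpowers b ≤ Q →
      b ^ q ∈ A → g ∈ centralizer (A : Set G) → g * b = b * g := by
    intro A hA b hB hBQ hb hgA
    rcases (Nat.dvd_prime hqf.out).1 (relIndex_dvd A hb) with h1 | h1
    · exact (hgA b (relIndex_eq_one.1 h1 (le_sup_right (a := A) (mem_zpowers b)))).symm
    · have hd' := hg A _ hA hB le_sup_left hBQ h1 b (le_sup_right (a := A) (mem_zpowers b))
      exact Coprime.OmegaDetect.eq_one_of_fix (hgA _ hd').symm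
        (Coprime.OmegaDetect.coprime_of_mem hQ ho (hBQ (le_sup_left (b := zpowers b) hd')))
  open StronglyClosedOrder in
  by_cases hall : ∀ y ∈ Q, Small d y
  · have hΦn : (phi Q).Normal := ConjAct.normal_of_characteristic_of_normal
    have hle : zpowers g ≤ normalizer (Q : Set G) := zpowers_le.2 hgQ
    refine Coprime.le_centralizer_of_frattini hle ?_ ?_ (mem_zpowers g)
    · rw [Nat.card_zpowers]
      obtain ⟨n, hn⟩ := IsPGroup.iff_card.1 (hQ.to_subgroup (frattini Q))
      rw [hn]
      exact ho.pow_right n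
    suffices hh : ∀ y ∈ Q, g * y * g⁻¹ * y⁻¹ ∈ phi Q by
      intro a ha y hy
      obtain ⟨i, rfl⟩ := (Submonoid.mem_powers_iff _ _).1 (mem_powers_iff_mem_zpowers.2 ha)
      induction i generalizing y with
      | zero => simp
      | succ i ih =>
        have h1 := ih (g * y * g⁻¹) (Normal.conj_mem inferInstance y hy g) (pow_mem (mem_zpowers g) i)
        have h2 := (phi Q).mul_mem h1 (hh y hy)
        rw [pow_succ]
        show _ ∈ phi Q
        simpa [mul_assoc] using h2
    intro y hy
    have hyq : y ^ q ∈ phi Q := ⟨⟨y, hy⟩ ^ q, Solvable.Basics.pow_mem_frattini hQ _, rfl⟩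
    rcases (Nat.dvd_prime hqf.out).1 (relIndex_dvd (phi Q) hyq) with h1 | h1
    · have hyΦ : y ∈ phi Q := relIndex_eq_one.1 h1 (le_sup_right (a := phi Q) (mem_zpowers y))
      exact mul_mem (hΦn.conj_mem y hyΦ g) (inv_mem hyΦ)
    · have hB : (phi Q ⊔ zpowers y).Normal := by
        rw [← normalizer_eq_top_iff, eq_top_iff]
        intro x _
        refine mem_normalizer_iff_map_conj_eq.2 (eq_of_le_of_card_ge ?_
          (card_map_of_injective (MulAut.conj x).injective).ge)
        rw [Subgroup.map_sup, MonoidHom.map_zpowers, sup_le_iff, zpowers_le]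
        refine ⟨?_, ?_⟩
        · rintro _ ⟨z, hz, rfl⟩
          exact le_sup_left (b := zpowers y) (hΦn.conj_mem z hz x)
        · rw [sup_comm]
          simpa using conj_mem_sup_phi hd hQ hclosed hdQ hy (hall y hy)
            (Normal.conj_mem inferInstance y hy x)
      exact hg _ _ hΦn hB le_sup_left (sup_le (phi_le Q) (zpowers_le.2 hy)) h1 y
        (le_sup_right (a := phi Q) (mem_zpowers y))
  · push Not at hall
    obtain ⟨z, hzQ, hz⟩ := hall
    obtain ⟨b, hb⟩ := hpow z hzQ
    have hkb : k < b := by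
      have h1 : ¬ orderOf z ≤ d := fun hle => hz (Or.inl hle)
      rw [hb, hd, Nat.pow_le_pow_iff_right hqf.out.one_lt] at h1
      omega
    obtain ⟨c, hcQ, hcgood, hcd⟩ : ∃ c ∈ Q, Good d (zpowers c) ∧ d ≤ orderOf c := by
      by_cases hd2 : d = 2
      · have hq2 : q = 2 := ((Nat.prime_dvd_prime_iff_eq hqf.out Nat.prime_two).1
          (hd2 ▸ hd ▸ dvd_pow_self q hk))
        have h4 : 4 ∣ orderOf z := by
          rw [hb, hq2]
          exact pow_dvd_pow 2 (by omega : 2 ≤ b)
        refine ⟨z ^ (orderOf z / 4), Q.pow_mem hzQ _, Or.inr ⟨hd2, ?_⟩, ?_⟩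
        · rw [Nat.card_zpowers, orderOf_pow_orderOf_div (orderOf_pos z).ne' h4]
        · rw [orderOf_pow_orderOf_div (orderOf_pos z).ne' h4, hd2]; norm_num
      · have hdz : d ∣ orderOf z := hb ▸ hd ▸ pow_dvd_pow q hkb.le
        refine ⟨z ^ (orderOf z / d), Q.pow_mem hzQ _, Or.inl ?_, ?_⟩
        · rw [Nat.card_zpowers, orderOf_pow_orderOf_div (orderOf_pos z).ne' hdz]
        · rw [orderOf_pow_orderOf_div (orderOf_pos z).ne' hdz]
    have hCQ : zpowers c ≤ Q := zpowers_le.2 hcQ
    have hCn : (zpowers c).Normal := h _ hCQ hcgood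
    have hWn : ∀ i : ℕ, (zpowers (c ^ i)).Normal := fun i => ⟨fun w hw x => by
      obtain ⟨t, rfl⟩ := mem_zpowers_iff.1 hw
      obtain ⟨j, hj⟩ := mem_zpowers_iff.1 (hCn.conj_mem c (mem_zpowers c) x)
      refine mem_zpowers_iff.2 ⟨j * t, ?_⟩
      rw [← conj_zpow, ← conj_pow, ← hj, zpow_mul, ← zpow_natCast, ← zpow_natCast, ← zpow_mul,
        ← zpow_mul, ← zpow_mul, ← zpow_mul]
      ring_nf⟩
    have hgc : g ∈ centralizer (zpowers c : Set G) := by
      suffices hh : ∀ e i : ℕ, (c ^ i) ^ q ^ e = 1 → g * c ^ i = c ^ i * g by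
        obtain ⟨e, he⟩ := hpow c hcQ
        have h1 : Commute g c := by
          simpa [Commute, SemiconjBy] using hh e 1 (by rw [pow_one, ← he, pow_orderOf_eq_one])
        intro w hw
        obtain ⟨t, rfl⟩ := mem_zpowers_iff.1 hw
        exact (h1.zpow_right t).eq.symm
      intro e
      induction e with
      | zero => intro i hi; rw [pow_zero, pow_one] at hi; simp [hi]
      | succ e ih =>
        intro i hi
        have hiq : (c ^ i) ^ q = c ^ (i * q) := (pow_mul _ _ _).symm
        have hfix : g ∈ centralizer (zpowers (c ^ (i * q)) : Set G) := by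
          have h1 : Commute g (c ^ (i * q)) := ih (i * q) (by rw [← hiq, ← pow_mul, ← pow_succ', hi])
          intro w hw
          obtain ⟨t, rfl⟩ := mem_zpowers_iff.1 hw
          exact (h1.zpow_right t).eq.symm
        have hsub : zpowers (c ^ (i * q)) ⊔ zpowers (c ^ i) = zpowers (c ^ i) :=
          sup_eq_right.2 (zpowers_le.2 (hiq ▸ pow_mem (mem_zpowers _) q))
        refine step _ (hWn _) (c ^ i) (hsub.symm ▸ hWn i) ?_ ?_ hfix
        · exact hsub.trans_le (zpowers_le.2 (Q.pow_mem hcQ i))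
        · rw [hiq]; exact mem_zpowers _
    have hMn : ∀ a ∈ Q, Small d a → (zpowers c ⊔ zpowers a).Normal := fun a ha has => by
      rw [← normalizer_eq_top_iff, eq_top_iff]
      intro x _
      refine mem_normalizer_iff_map_conj_eq.2 (eq_of_le_of_card_ge ?_
        (card_map_of_injective (MulAut.conj x).injective).ge)
      rw [Subgroup.map_sup, MonoidHom.map_zpowers, MonoidHom.map_zpowers, sup_le_iff, zpowers_le, zpowers_le]
      refine ⟨?_, ?_⟩
      · exact le_sup_left (b := zpowers a) (hCn.conj_mem c (mem_zpowers c) x)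
      · refine mem_of_small hd hQ hclosed (sup_le hCQ (zpowers_le.2 ha)) ?_
          (le_sup_right (a := zpowers c) (mem_zpowers a)) has
          (by simpa using (Normal.conj_mem inferInstance a ha x : x * a * x⁻¹ ∈ Q))
        refine hcd.trans ?_
        rw [← Nat.card_zpowers]
        exact card_le_of_le le_sup_left
    refine Coprime.OmegaDetect.mem_centralizer_of_fix ho hQ hgQ fun a ha hap => ?_
    have has : Small d a ∧ Small d (a ^ q) := by
      have hqd : q ≤ d := hd ▸ le_self_pow hqf.out.one_le hk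
      rcases hap with h1 | ⟨hq2, h4⟩
      · refine ⟨Or.inl ((Nat.le_of_dvd hqf.out.pos (orderOf_dvd_of_pow_eq_one h1)).trans hqd), Or.inl ?_⟩
        rw [h1, orderOf_one]
        exact hqf.out.one_le.trans hqd
      · have h1 := orderOf_dvd_of_pow_eq_one h4
        have h2 : orderOf (a ^ q) ∣ 2 := orderOf_dvd_of_pow_eq_one (by rw [hq2, ← pow_mul]; exact h4)
        refine ⟨?_, Or.inl ((Nat.le_of_dvd two_pos h2).trans (hq2 ▸ hqd))⟩
        by_cases hd2 : d = 2
        · obtain ⟨e, he, hoe⟩ := (Nat.dvd_prime_pow Nat.prime_two (m := 2)).1 h1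
          interval_cases e
          · exact Or.inl (by rw [hoe, hd2]; norm_num)
          · exact Or.inl (by rw [hoe, hd2]; norm_num)
          · exact Or.inr ⟨hd2, by rw [hoe]; norm_num⟩
        · refine Or.inl ((Nat.le_of_dvd (by norm_num) h1).trans ?_)
          rw [hd, hq2] at hd2 ⊢
          have hk1 : k ≠ 1 := fun hk1 => hd2 (by rw [hk1, pow_one])
          calc (4 : ℕ) = 2 ^ 2 := by norm_num
            _ ≤ 2 ^ k := Nat.pow_le_pow_right (by norm_num) (by omega)
    set A := zpowers c ⊔ zpowers (a ^ q)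
    have hAn : A.Normal := hMn _ (Q.pow_mem ha q) has.2
    have haq2 : (a ^ q) ^ q ∈ zpowers c := by
      rcases hap with h1 | ⟨hq2, h4⟩
      · rw [h1, one_pow]; exact one_mem _
      · rw [hq2, ← pow_mul, h4]; exact one_mem _
    have hgA : g ∈ centralizer (A : Set G) := by
      have h1 : g * a ^ q = a ^ q * g :=
        step _ hCn _ hAn (sup_le hCQ (zpowers_le.2 (Q.pow_mem ha q))) haq2 hgc
      refine zpowers_le.1 (le_centralizer_iff.1 (sup_le (le_centralizer_iff.1 (zpowers_le.2 hgc))
        (zpowers_le.2 ?_)))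
      intro w hw
      obtain ⟨t, rfl⟩ := mem_zpowers_iff.1 hw
      exact ((show Commute g (a ^ q) from h1).zpow_left t).eq
    have hAa : A ⊔ zpowers a = zpowers c ⊔ zpowers a := by
      rw [sup_assoc, sup_eq_right.2 (zpowers_le.2 (pow_mem (mem_zpowers a) q) : zpowers (a ^ q) ≤ zpowers a)]
    exact step A hAn a (hAa.symm ▸ hMn a ha has.1) (hAa ▸ sup_le hCQ (zpowers_le.2 ha))
      (le_sup_right (a := zpowers c) (mem_zpowers _)) hgA

end Cfsg.Agent.CharP.SupersolvableExtension
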