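import Cfsg.Agent.Lib.CharP.NormalFunctor
import Cfsg.Agent.Lib.Fusion.BisetTransfer
import Cfsg.Agent.Lib.Fusion.TateFocal
import Cfsg.Agent.Lib.Transfer.Fusion

/-!
A functor that controls transfer in groups of characteristic `p` controls transfer in every
saturated system.
-/

set_option autoImplicit false
set_option linter.unusedSectionVars false
set_option linter.style.haveILetI false
set_option maxHeartbeats 1000000

universe u

namespace Cfsg.Agent.CharP.TransferControl

open Cfsg Cfsg.FusionSystem Cfsg.Agent.Fusion.Basic Cfsg.Agent.Fusion.Saturation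
  Cfsg.Agent.Fusion.Normal Cfsg.Agent.Fusion.CentricExt Cfsg.Agent.Fusion.KNormalizer
  Cfsg.Agent.Fusion.Factor Cfsg.Agent.Fusion.FactorExists Cfsg.Agent.Fusion.Alperin
  Cfsg.Agent.Fusion.TateFocal
  Cfsg.Agent.CharP.LocalControl Cfsg.Agent.CharP.Climbing Cfsg.Agent.CharP.InnerControl
  Cfsg.Agent.CharP.CharInner Cfsg.Agent.CharP.NormalFunctor

open scoped commutatorElement

variable {p : ℕ} [Fact p.Prime] {W : ∀ (Q : Type u) [Group Q], Subgroup Q}
variable {Ω : Type u} [Group Ω] {S : Subgroup Ω} [Finite S]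

variable (W) in
/-- The quotients `x⁻¹ g(x)` over the maps preserving `W(S)`. -/
def gens (F : FusionSystem S) : Set Ω :=
  {y | ∃ (D : Subgroup Ω) (g : Ω → Ω) (x : Ω), IsMap F D g ∧ Wof W S ≤ D ∧
    img g (Wof W S) = Wof W S ∧ x ∈ D ∧ y = x⁻¹ * g x}

variable (W) in
/-- The focal subgroup of the maps preserving `W(S)`. -/
def Phi (F : FusionSystem S) : Subgroup Ω := Subgroup.closure (gens W F)

variable (W) in
/-- The map moves every element within its coset of `Phi`. -/
def Good (F : FusionSystem S) (P : Subgroup Ω) (f : Ω → Ω) : Prop :=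
  ∀ x ∈ P, x⁻¹ * f x ∈ Phi W F

variable {F E : FusionSystem S} {P Q : Subgroup Ω} {f g : Ω → Ω}

theorem Good.comp (hf : Good W F P f) (hg : Good W F Q g) (h : ∀ x ∈ P, f x ∈ Q) :
    Good W F P fun x => g (f x) := fun x hx => by
  rw [show x⁻¹ * g (f x) = (x⁻¹ * f x) * ((f x)⁻¹ * g (f x)) by group]
  exact Subgroup.mul_mem _ (hf x hx) (hg _ (h x hx))

theorem Good.inv (hf : Good W F P f) (hm : IsMap F P f) (hg : ∀ x ∈ P, g (f x) = x) :
    Good W F (img f P) g := fun y hy => by
  obtain ⟨x, hx, rfl⟩ := hm.mem_img.1 hy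
  rw [hg x hx, show (f x)⁻¹ * x = (x⁻¹ * f x)⁻¹ by group]
  exact Subgroup.inv_mem _ (hf x hx)

theorem Good.congr (hf : Good W F P f) (h : ∀ x ∈ P, f x = g x) : Good W F P g := fun x hx => by
  rw [← h x hx]; exact hf x hx

theorem Good.restrict (hf : Good W F P f) (h : Q ≤ P) : Good W F Q f := fun x hx => hf x (h hx)

theorem Phi_le : Phi W F ≤ S := (Subgroup.closure_le _).2 <| by
  rintro _ ⟨D, g, x, hg, -, -, hx, rfl⟩
  exact S.mul_mem (S.inv_mem (hg.le hx)) (hg.mem hx)

theorem Phi_mono (h : ∀ D k, IsMap E D k → IsMap F D k) : Phi W E ≤ Phi W F :=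
  Subgroup.closure_mono <| by
    rintro _ ⟨D, g, x, hg, h1, h2, h3, h4⟩
    exact ⟨D, g, x, h D g hg, h1, h2, h3, h4⟩

theorem commutator_le_Phi (hW : IsCharPFunctor p W) (hS : IsPGroup p S) : ⁅S, S⁆ ≤ Phi W F := by
  rw [Subgroup.commutator_le]
  intro x hx y hy
  refine Subgroup.subset_closure ⟨S, cj y, x⁻¹, isMap_cj le_rfl hy, Wof_le _,
    img_cj_eq_of_mem_normalizer (Wof_norm hW hS y hy), S.inv_mem hx, ?_⟩
  rw [cj_apply, commutatorElement_def]
  group

/-- A system over an equal group, keeping its maps. -/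
theorem exists_retype {T : Subgroup Ω} (h : T = S) (N : FusionSystem T) (hsat : N.IsSaturated p) :
    ∃ E : FusionSystem S, (∀ P f, IsMap E P f ↔ IsMap N P f) ∧ E.IsSaturated p ∧
      ∀ U, N.IsNormal U → E.IsNormal U := by
  subst h
  exact ⟨N, fun _ _ => Iff.rfl, hsat, fun _ => id⟩

variable (W p) in
/-- The statement for all systems over groups of order `n`. -/
def Holds (n : ℕ) : Prop :=
  ∀ (Ω : Type u) [Group Ω] (S : Subgroup Ω) [Finite S], IsPGroup p S → Nat.card S = n →
    ∀ F : FusionSystem S, F.IsSaturated p → ∀ P f, IsMap F P f → Good W F P f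

variable (W p) in
/-- The hypothesis on groups of characteristic `p`. -/
def Local : Prop :=
  ∀ (G : Type u) [Group G] [Finite G] (T : Sylow p G),
    Subgroup.centralizer ((pCore p G : Subgroup G) : Set G) ≤ pCore p G →
      pCore p G ⊓ commutator G ≤ pCore p G ⊓
        (commutator ↥(Subgroup.normalizer (Wof W (T : Subgroup G) : Set G))).map
          (Subgroup.normalizer (Wof W (T : Subgroup G) : Set G)).subtype

/-- An element that all maps of a system move by inner automorphisms is focal only in `[S,S]`. -/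
theorem focal_inter (hS : IsPGroup p S) {F₁ : FusionSystem S} (hF₁ : F₁.IsSaturated p)
    (hQS : Q ≤ S)
    (hinner : ∀ D k, IsMap F₁ D k → ∀ q ∈ Q, q ∈ D → ∃ s ∈ S, k q = s * q * s⁻¹) {q : Ω}
    (hq : q ∈ Q) (hqf : q ∈ F₁.focalSubgroup) : q ∈ ⁅S, S⁆ := by
  obtain ⟨t, m, hm, hker, hev⟩ :=
    Fusion.BisetTransfer.exists_transfer_focal hS hF₁ (Abelianization.of : S →* Abelianization S)
  obtain ⟨z, hz, rfl⟩ := hker hqf
  have h1 := hev z fun D k hk e he => by
    obtain ⟨s, hs, hse⟩ := hinner D k hk _ (Q.zpow_mem hq e) he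
    have e1 : (⟨k ((z : Ω) ^ e), hk.mem he⟩ : S) = ⟨s, hs⟩ * z ^ e * ⟨s, hs⟩⁻¹ :=
      Subtype.ext (by simpa using hse)
    rw [e1, map_mul, map_mul, map_inv, mul_comm (Abelianization.of _), mul_assoc, mul_inv_cancel,
      mul_one, map_zpow]
  rw [MonoidHom.mem_ker.1 hz, ← map_pow] at h1
  have hzc : z ∈ commutator S := by
    have h2 : z ^ m ∈ commutator S := by
      rw [← Abelianization.ker_of]; exact MonoidHom.mem_ker.2 h1.symm
    obtain ⟨k, hk⟩ := hS z
    have h3 : (orderOf z).Coprime m :=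
      (hm.pow_right k).symm.coprime_dvd_left (orderOf_dvd_of_pow_eq_one hk)
    obtain ⟨j, hj⟩ := exists_pow_eq_self_of_coprime h3.symm
    rw [← hj]
    exact Subgroup.pow_mem _ h2 j
  have hmap : (commutator S).map S.subtype = ⁅S, S⁆ := by
    rw [commutator_def, Subgroup.map_commutator, ← MonoidHom.range_eq_map, Subgroup.range_subtype]
  exact hmap ▸ ⟨z, hzc, rfl⟩

variable (hW : IsCharPFunctor p W)

include hW in
/-- The reduction to the quotient by a strongly closed subgroup. -/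
theorem focal_le_sup (hS : IsPGroup p S) (IH : ∀ m < Nat.card S, Holds p W m)
    (hQ0 : Q ≠ ⊥) (hQne : Q ≠ S) {F' : FusionSystem S} (hF' : F'.IsSaturated p)
    (hsub : ∀ D k, IsMap F' D k → IsMap F D k) (hsc : F'.StronglyClosed Q)
    (hrec : ∀ (U : Subgroup Ω), Q < U → U ≤ S →
      (∀ s ∈ S, s ∈ Subgroup.normalizer (U : Set Ω)) → ∀ D k', IsMap F D k' → U ≤ D →
      img k' U = U → Good W F D k') :
    F'.focalSubgroup ≤ (F'.focalSubgroup ⊓ Phi W F) ⊔ Q := by
  classical
  have hQS : Q ≤ S := hsc.1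
  have hQnorm : ∀ s ∈ S, s ∈ Subgroup.normalizer (Q : Set Ω) := fun s hs =>
    le_normalizer_of_stronglyClosed hsc hs
  haveI : (Q.subgroupOf S).Normal := Subgroup.normal_subgroupOf_of_le_normalizer hQnorm
  let θ : S →* S ⧸ Q.subgroupOf S := QuotientGroup.mk' _
  have hker : ∀ s : S, θ s = 1 ↔ (s : Ω) ∈ Q := fun s => by
    rw [QuotientGroup.mk'_apply, QuotientGroup.eq_one_iff, Subgroup.mem_subgroupOf]
  set S' : Subgroup (S ⧸ Q.subgroupOf S) := ⊤ with hS'def
  have hrange : θ.range = S' := QuotientGroup.range_mk' _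
  obtain ⟨E, hE⟩ := exists_factorSystem (F := F') hsc hker hrange
  have hq := isQuot_of_factorSystem hsc hE
  have hfinE : Finite S' := hq.finite
  have hpE := hq.isPGroup hS
  have hcard : Nat.card S' < Nat.card S := by
    rw [Subgroup.card_top,
      Subgroup.card_eq_card_quotient_mul_card_subgroup (Q.subgroupOf S)]
    refine (Nat.lt_mul_iff_one_lt_right Nat.card_pos).2 ((Subgroup.one_lt_card_iff_ne_bot _).2 ?_)
    intro h0
    rw [Subgroup.subgroupOf_eq_bot, disjoint_iff, inf_eq_left.2 hQS] at h0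
    exact hQ0 h0
  have hgood := IH _ hcard _ S' hpE rfl E (hq.saturated hS hF')
  set V := preimageAlong θ (Wof W S') with hVdef
  have hVS : V ≤ S := preimageAlong_le _
  have hfinV : Finite V := finite_of_le hVS
  have hVlt : Q < V := by
    refine SetLike.lt_iff_le_and_exists.2 ⟨hq.le_preimage _, ?_⟩
    have hS'0 : S' ≠ ⊥ := fun h0 => hQne (le_antisymm hQS fun x hx => by
      have := Subgroup.mem_top (θ ⟨x, hx⟩)
      rw [← hS'def, h0, Subgroup.mem_bot] at this
      exact (hker _).1 this)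
    obtain ⟨⟨y, hy⟩, hy1⟩ := (Wof W S').ne_bot_iff_exists_ne_one.1
      (Wof_ne_bot hW hpE le_rfl hS'0)
    obtain ⟨x, hx, rfl⟩ := exists_along_eq hrange (Subgroup.mem_top y)
    refine ⟨x, mem_preimageAlong.2 ⟨hx, hy⟩, fun hxQ => hy1 (Subtype.ext ?_)⟩
    show along θ x = 1
    rw [along_of_mem θ hx]
    exact (hker _).2 hxQ
  have hVnorm : ∀ t ∈ S, t ∈ Subgroup.normalizer (V : Set Ω) := fun t ht => by
    refine mem_normalizer_of_forall fun x hx => ?_
    obtain ⟨hxS, hxW⟩ := mem_preimageAlong.1 hx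
    refine mem_preimageAlong.2 ⟨S.mul_mem (S.mul_mem ht hxS) (S.inv_mem ht), ?_⟩
    rw [along_mul θ (S.mul_mem ht hxS) (S.inv_mem ht), along_mul θ ht hxS, along_inv θ ht]
    exact (Subgroup.mem_normalizer_iff.1 (Wof_norm hW hpE _ (Subgroup.mem_top _)) _).1 hxW
  set K := F'.focalSubgroup ⊓ Phi W F with hKdef
  have hPhi : Phi W E ≤ imageAlong θ K := by
    refine (Subgroup.closure_le _).2 ?_
    rintro _ ⟨A, m, y, hm, hWA, hmW, hy, rfl⟩
    obtain ⟨f, hf, he⟩ := hq.lift A m hm
    obtain ⟨x, hxS, rfl⟩ := exists_along_eq hrange (hm.le hy)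
    have hxA : x ∈ preimageAlong θ A := mem_preimageAlong.2 ⟨hxS, hy⟩
    have hVA : V ≤ preimageAlong θ A := fun v hv =>
      mem_preimageAlong.2 ⟨hVS hv, hWA (mem_preimageAlong.1 hv).2⟩
    have hfV : img f V = V := by
      refine eq_of_le_card (img_le fun v hv => ?_) (hf.restrict hVA).card_img.ge
      obtain ⟨hvS, hvW⟩ := mem_preimageAlong.1 hv
      refine mem_preimageAlong.2 ⟨hf.mem (hVA hv), ?_⟩
      rw [← he v (hVA hv)]
      exact hmW.le (mem_img_self m hvW)
    have hgoodf := hrec V hVlt hVS hVnorm _ f (hsub _ _ hf) hVA hfV x hxA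
    refine mem_imageAlong.2 ⟨x⁻¹ * f x, ⟨mem_focal_of_isMap hf hxA, hgoodf⟩,
      S.mul_mem (S.inv_mem hxS) (hf.mem hxA), ?_⟩
    rw [along_mul θ (S.inv_mem hxS) (hf.mem hxA), along_inv θ hxS, he x hxA]
  rw [FusionSystem.focalSubgroup, Subgroup.closure_le]
  rintro _ ⟨A, φ, x, hφ, rfl⟩
  obtain ⟨φ', hφ', hind⟩ := (hq.isSurjectiveMorphism hS hF').1.2 A φ hφ
  obtain ⟨-, hval, hmem, he⟩ := (inducedAlong_iff (f := ext φ) (f' := ext φ')
    (fun y => (ext_apply φ y).symm) fun y => (ext_apply φ' y).symm).1 hind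
  have hm := IsMap.of_hom hφ
  have hxS : (x : Ω) ∈ S := hm.le x.2
  have h1 := hgood _ _ (IsMap.of_hom hφ') (along θ (x : Ω)) (hmem x x.2)
  rw [he x x.2, ext_apply φ x] at h1
  have hφS : φ x ∈ S := ext_apply φ x ▸ hm.mem x.2
  rw [← along_inv θ hxS, ← along_mul θ (S.inv_mem hxS) hφS] at h1
  obtain ⟨a, ha, haS, hae⟩ := mem_imageAlong.1 (hPhi h1)
  rw [SetLike.mem_coe, show (x : Ω)⁻¹ * φ x = a * (a⁻¹ * ((x : Ω)⁻¹ * φ x)) by group]
  exact Subgroup.mul_mem _ (Subgroup.mem_sup_left ha) (Subgroup.mem_sup_right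
    ((along_eq_iff hq.ker_iff haS (S.mul_mem (S.inv_mem hxS) hφS)).1 hae))

variable (hloc : Local p W)

include hW hloc in
/-- The statement for a system with a nontrivial normal subgroup. -/
theorem good_of_normal (hS : IsPGroup p S)
    (IH : ∀ m < Nat.card S, Holds p W m) {Q : Subgroup Ω} (hQ0 : Q ≠ ⊥)
    {F : FusionSystem S} (hF : F.IsSaturated p)
    (hQn : F.IsNormal Q) : ∀ P f, IsMap F P f → Good W F P f := by
  classical
  induction hk : Nat.card S - Nat.card Q using Nat.strong_induction_on generalizing Q F with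
  | _ k ih =>
  set Zw := Wof W S with hZwdef
  have hZwS : Zw ≤ S := Wof_le S
  have hQS : Q ≤ S := hQn.1
  have hfinQ : Finite Q := finite_of_le hQS
  have hsc := normal_stronglyClosed hQn
  have hQnorm : ∀ s ∈ S, s ∈ Subgroup.normalizer (Q : Set Ω) := fun s hs =>
    le_normalizer_of_stronglyClosed hsc hs
  intro P f hf
  obtain ⟨g, hg, hge, hgQ⟩ := (isNormal_iff.1 hQn).2 P f hf
  suffices h : Good W F (P ⊔ Q) g from (h.restrict le_sup_left).congr hge
  -- maps preserving a larger normal subgroup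
  have recStep : ∀ (U : Subgroup Ω), Q < U → U ≤ S →
      (∀ s ∈ S, s ∈ Subgroup.normalizer (U : Set Ω)) → ∀ D k', IsMap F D k' → U ≤ D →
      img k' U = U → Good W F D k' := by
    intro U hlt hUS hUnorm D k' hk' hUD himg
    obtain ⟨N, hN⟩ := exists_normalizerSystem (F := F) hUS
    have hfinN : Finite (normalizerIn S U) := finite_of_le normalizerIn_le
    have hUn := fullyNormalized_of_top (F := F) hUS hUnorm
    obtain ⟨E, hmap, hEs, hnor⟩ := exists_retype (normalizerIn_eq_self hUnorm) N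
      (normalizerSystem_saturated hS hF hUn hN)
    have hEU : E.IsNormal U := hnor _ (normalizer_isNormal hUS hN)
    have hEF : ∀ D' k'', IsMap E D' k'' → IsMap F D' k'' := fun D' k'' hk'' => by
      obtain ⟨-, a, ha, hae, -⟩ := (isMap_normalizer_iff hN).1 ((hmap _ _).1 hk'')
      exact (ha.restrict le_sup_left).congr hae
    have hU0 : U ≠ ⊥ := fun h0 => hQ0 (le_bot_iff.1 (hlt.le.trans h0.le))
    have hfinU : Finite U := finite_of_le hUS
    have hk'E : IsMap E D k' := (hmap _ _).2 ((isMap_normalizer_iff hN).2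
      ⟨fun x hx => ⟨hk'.le hx, hUnorm x (hk'.le hx)⟩, k', by rwa [sup_eq_left.2 hUD],
        fun _ _ => rfl, himg⟩)
    intro x hx
    exact Phi_mono hEF (ih (Nat.card S - Nat.card U)
      (by have h1 := card_lt_card hlt; have h2 := card_le_card hUS; omega) hU0 hEs hEU rfl
      D k' hk'E x hx)
  have hQfn : F.IsFullyNormalized Q := fullyNormalized_of_top hQS hQnorm
  set X := Q ⊔ centralizerIn S Q with hXdef
  have hXS : X ≤ S := sup_le hQS centralizerIn_le
  have hSQ : S ≤ Subgroup.normalizer (Q : Set Ω) := fun s hs => hQnorm s hs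
  rcases eq_or_lt_of_le (le_sup_left : Q ≤ X) with hXQ | hXQ
  · -- `Q` is centric: use the model
    have hR := normalizerIn_eq_self hQnorm
    set R := normalizerIn S Q with hRdef
    obtain ⟨G, _, hfinG, ι, T, ⟨hι, hT, hchar, hQG, hmodel, hmaps⟩, -⟩ :=
      LocalModel.exists_localModel.{u, u} hS hF hQfn
    have hfinR : Finite R := finite_of_le normalizerIn_le
    have hRp : IsPGroup p R := hS.to_le normalizerIn_le
    have hZwR : Zw ≤ R := hR.symm ▸ hZwS
    let e : R ≃* ι.range := MonoidHom.ofInjective hι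
    have hWmem : ∀ s : R, (s : Ω) ∈ Zw ↔ ι s ∈ Wof W (T : Subgroup G) := by
      intro s
      rw [hT, show Zw = Wof W R by rw [hR]]
      exact mem_Wof_iff hW.2 hRp e s
    -- the focal subgroup maps into the commutator subgroup
    have hfocG : F.focalSubgroup ≤ ((commutator G).comap ι).map R.subtype := by
      rw [FusionSystem.focalSubgroup, Subgroup.closure_le]
      rintro _ ⟨A, φ, x, hφ, rfl⟩
      obtain ⟨a, ha, hae, haQ⟩ := (isNormal_iff.1 hQn).2 A _ (IsMap.of_hom hφ)
      have hAR : A ⊔ Q ≤ R := hR.symm ▸ ha.le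
      obtain ⟨g₀, hg₀⟩ := hmodel (A ⊔ Q) a ha (hXQ ▸ le_sup_right) hAR haQ (hXQ ▸ haQ)
      let s : R := ⟨x, hAR (Subgroup.mem_sup_left x.2)⟩
      obtain ⟨hk, hk'⟩ := hg₀ s (Subgroup.mem_sup_left x.2)
      refine ⟨s⁻¹ * ⟨a x, hk⟩, ?_, ?_⟩
      · show ι (s⁻¹ * ⟨a (s : Ω), hk⟩) ∈ commutator G
        rw [map_mul, map_inv, hk', show (ι s)⁻¹ * (g₀ * ι s * g₀⁻¹) = ⁅(ι s)⁻¹, g₀⁆ by
          rw [commutatorElement_def]; group, commutator_def]
        exact Subgroup.commutator_mem_commutator (Subgroup.mem_top _) (Subgroup.mem_top _)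
      · show (x : Ω)⁻¹ * a (x : Ω) = _
        rw [hae x x.2, ext_apply]
    -- the normalizer of `W(T)` realizes maps preserving `W(S)`
    set N₀ := Subgroup.normalizer (Wof W (T : Subgroup G) : Set G) with hN₀def
    have hTN : (T : Subgroup G) ≤ N₀ := fun t ht =>
      Wof_norm hW T.2 t ht
    set L := ((Phi W F).subgroupOf R).map ι with hLdef
    have hN₀ : commutator N₀ ⊓ ((T.subtype hTN : Sylow p N₀) : Subgroup N₀) ≤ L.subgroupOf N₀ := by
      refine Transfer.Fusion.focal_le_of_fusion (T.subtype hTN) fun x hx n hn => ⟨n, rfl, ?_⟩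
      have hxT : (x : G) ∈ (T : Subgroup G) := hx
      have hnT : (n : G) * x * (n : G)⁻¹ ∈ (T : Subgroup G) := hn
      rw [hT] at hxT hnT
      obtain ⟨s, hs⟩ := hxT
      let A : Subgroup G := Subgroup.zpowers (x : G) ⊔ Wof W (T : Subgroup G)
      have hA : A ≤ ι.range.comap (MulAut.conj (n : G)).toMonoidHom := by
        refine sup_le (Subgroup.zpowers_le.2 hnT) fun w hw => ?_
        show (n : G) * w * (n : G)⁻¹ ∈ ι.range
        exact hT ▸ Wof_le (W := W) (T : Subgroup G) ((Subgroup.mem_normalizer_iff.1 n.2 w).1 hw)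
      obtain ⟨f', hf', hfe'⟩ := hmaps n A fun a ha => hA ha
      have hmemA : ∀ r : R, ι r ∈ A → (r : Ω) ∈ (A.comap ι).map R.subtype := fun r hr =>
        ⟨r, hr, rfl⟩
      have hsA : ι s⁻¹ ∈ A := by
        rw [map_inv, hs]
        exact A.inv_mem (Subgroup.mem_sup_left (Subgroup.mem_zpowers _))
      have hZA : Zw ≤ (A.comap ι).map R.subtype := fun z hz =>
        hmemA ⟨z, hZwR hz⟩ (Subgroup.mem_sup_right ((hWmem _).1 hz))
      have hfZ : img f' Zw = Zw := by
        have : Finite Zw := finite_of_le hZwS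
        refine eq_of_le_card (img_le fun z hz => ?_) (hf'.restrict hZA).card_img.ge
        obtain ⟨h1, h1'⟩ := hfe' ⟨z, hZwR hz⟩ (Subgroup.mem_sup_right ((hWmem _).1 hz))
        refine (hWmem ⟨_, h1⟩).2 ?_
        rw [h1']
        exact (Subgroup.mem_normalizer_iff.1 n.2 _).1 ((hWmem ⟨z, hZwR hz⟩).1 hz)
      have hgen : ((s⁻¹ : R) : Ω)⁻¹ * f' ((s⁻¹ : R) : Ω) ∈ Phi W F :=
        Subgroup.subset_closure ⟨_, f', _, hf', hZA, hfZ, hmemA _ hsA, rfl⟩
      obtain ⟨h1, h1'⟩ := hfe' s⁻¹ hsA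
      refine ⟨(s⁻¹)⁻¹ * ⟨_, h1⟩, ?_, ?_⟩
      · show (((s⁻¹)⁻¹ * ⟨_, h1⟩ : R) : Ω) ∈ Phi W F
        exact hgen
      · rw [map_mul, map_inv, h1', map_inv, hs]
        show _ = (x : G) * n * (x : G)⁻¹ * (n : G)⁻¹
        group
    have hin : ∀ q ∈ Q, q ∈ F.focalSubgroup → q ∈ Phi W F := by
      intro q hq hqf
      obtain ⟨r, hr, rfl⟩ := hfocG hqf
      haveI := hQG
      have hcore : ι r ∈ pCore p G :=
        Cfsg.Agent.PLocal.Cores.le_pCore (p := p) (N := (Q.subgroupOf R).map ι)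
          (((hS.to_le hQS).comap_subtype (K := R)).map ι) ⟨r, hq, rfl⟩
      obtain ⟨-, n, hn, hne⟩ := hloc G T hchar ⟨hcore, hr⟩
      have hnT : (n : G) ∈ (T : Subgroup G) := by
        rw [show (n : G) = ι r from hne, hT]; exact ⟨r, rfl⟩
      obtain ⟨r', hr', hre⟩ := hN₀ ⟨hn, hnT⟩
      have e1 : r' = r := hι (hre.trans hne)
      exact e1 ▸ hr'
    have hfoc : F.focalSubgroup ≤ Phi W F := by
      by_cases hQne : Q = S
      · exact fun c hc => hin c (hQne ▸ focal_le hc) hc
      intro c hc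
      obtain ⟨a, ha, q, hq, rfl⟩ := coe_sup_of_normal hSQ (inf_le_right.trans Phi_le)
        (focal_le_sup hW hS IH hQ0 hQne hF (fun _ _ h => h) hsc recStep hc)
      refine Subgroup.mul_mem _ ha.2 (hin q hq ?_)
      have := Subgroup.mul_mem _ (Subgroup.inv_mem _ ha.1) hc
      rwa [inv_mul_cancel_left] at this
    exact fun x hx => hfoc (mem_focal_of_isMap hg hx)
  · -- split off a map fixing `Q`
    have hXnorm : ∀ s ∈ S, s ∈ Subgroup.normalizer (X : Set Ω) := fun s hs =>
      le_normalizer_of_stronglyClosed (stronglyClosed_sup_centralizerIn hS hF hsc) hs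
    have hgQ' : IsMap F Q g := hg.restrict le_sup_right
    obtain ⟨h, hh, hhe⟩ := exists_extension hS hF hgQ'
      (by rw [hgQ]; exact fullyNormalized_fullyCentralized hS hF hQfn)
    have hPn : P ⊔ Q ≤ nSub S Q g := fun t ht =>
      ⟨hg.le ht, hQnorm t (hg.le ht), g t, hg.mem ht,
        fun x hx => hg.map_conj ht (Subgroup.mem_sup_right hx)⟩
    have hXn' : X ≤ nSub S Q g := sup_le (le_nSub hgQ') centralizerIn_le_nSub
    have hh' : IsMap F ((P ⊔ Q) ⊔ X) h := hh.restrict (sup_le hPn hXn')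
    have hhQ : img h Q = Q := by rw [img_congr hhe, hgQ]
    have hhX : img h X = X := by
      have : Finite X := finite_of_le hXS
      refine eq_of_le_card ?_ (hh.restrict hXn').card_img.ge
      rw [hXdef, (hh.restrict hXn').img_sup, hhQ]
      refine sup_le le_sup_left (le_trans ?_ le_sup_right)
      have h2 := hh.img_centralizerIn_le (le_nSub hgQ') centralizerIn_le_nSub
      rwa [hhQ] at h2
    have hgoodh : Good W F (P ⊔ Q) h :=
      (recStep X hXQ hXS hXnorm _ h hh' le_sup_right hhX).restrict le_sup_left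
    have hhT : IsMap F (P ⊔ Q) h := hh'.restrict le_sup_left
    obtain ⟨i, hi, -, hih, hhi⟩ := hhT.exists_inv
    set P' := img h (P ⊔ Q) with hP'def
    have hP'S : P' ≤ S := hhT.img_le_S
    have hQP' : Q ≤ P' := hhQ.ge.trans (img_mono h le_sup_right)
    have hiT : ∀ y ∈ P', i y ∈ P ⊔ Q := fun y hy => by
      obtain ⟨x, hx, rfl⟩ := hhT.mem_img.1 hy
      rwa [hih x hx]
    have hkmap : IsMap F P' fun y => g (i y) := hg.comp hi hiT
    have hkfix : ∀ y ∈ Q, g (i y) = y := by
      intro y hy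
      obtain ⟨x, hx, rfl⟩ := (hhT.restrict le_sup_right).mem_img.1 (hhQ.ge hy)
      rw [hih x (Subgroup.mem_sup_right hx), hhe x hx]
    -- the maps inducing inner automorphisms on `Q`
    set K := autInducedBy S Q with hKdef
    have hTS : kNorm S K = S := le_antisymm kNorm_le_S fun s hs =>
      ⟨hs, conjAut S Q ⟨s, ⟨hs, hQnorm s hs⟩⟩, by rw [hKdef, ← conjAut_range]; exact ⟨_, rfl⟩,
        fun x hx => (conjAut_apply ⟨s, ⟨hs, hQnorm s hs⟩⟩ hx).symm⟩
    have hfinT : Finite (kNorm S K) := finite_of_le kNorm_le_S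
    obtain ⟨F₁, hF₁⟩ := exists_kSystem (F := F) (K := K) hQS
    have hF₁s : F₁.IsSaturated p := Fusion.KNormalizer.saturated hS hF
      ⟨fullyNormalized_fullyCentralized hS hF hQfn, by
        rw [inf_idem, inf_eq_right.2 (autInducedBy_le hQS), Subgroup.relIndex_self]
        exact (Fact.out : p.Prime).not_dvd_one⟩ rfl F₁ hF₁
    have hF₁map : ∀ D k', IsMap F₁ D k' → ∃ a, IsMap F (D ⊔ Q) a ∧ (∀ x ∈ D, a x = k' x) ∧
        ∃ s ∈ S, ∀ x ∈ Q, a x = s * x * s⁻¹ := by
      rintro D k' ⟨φ, hφ, he⟩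
      obtain ⟨-, -, a, ha, hae, c, hc, hce⟩ := (hF₁ D φ).1 hφ
      rw [hKdef, ← conjAut_range] at hc
      obtain ⟨⟨s, hs⟩, rfl⟩ := hc
      exact ⟨a, ha, fun x hx => by rw [hae x hx, ext_of_mem φ hx, he ⟨x, hx⟩], s, hs.1,
        fun x hx => by rw [hce x hx, conjAut_apply _ hx]; rfl⟩
    have hkF₁ : IsMap F₁ P' fun y => g (i y) := by
      refine ⟨hkmap.hom, (hF₁ _ _).2 ⟨hTS.symm ▸ hP'S, fun x hx => ?_, fun y => g (i y),
        by rwa [sup_eq_left.2 hQP'], fun x hx => ?_, 1, K.one_mem, fun x hx => ?_⟩,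
        fun x => hkmap.hom_apply x⟩
      · rw [ext_of_mem _ hx, hTS, hkmap.hom_apply]
        exact hkmap.mem hx
      · rw [ext_of_mem _ hx, hkmap.hom_apply]
      · rw [autFun_one]; exact hkfix x hx
    obtain ⟨E, hEmap, hEs, -⟩ := exists_retype hTS F₁ hF₁s
    have hEF : ∀ D k', IsMap E D k' → IsMap F D k' := fun D k' hk' => by
      obtain ⟨a, ha, hae, -⟩ := hF₁map D k' ((hEmap _ _).1 hk')
      exact (ha.restrict le_sup_left).congr hae
    have hinner : ∀ D k', IsMap E D k' → ∀ q ∈ Q, q ∈ D → ∃ s ∈ S, k' q = s * q * s⁻¹ :=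
      fun D k' hk' q hq hqD => by
        obtain ⟨a, -, hae, s, hs, hse⟩ := hF₁map D k' ((hEmap _ _).1 hk')
        exact ⟨s, hs, by rw [← hae q hqD, hse q hq]⟩
    have hEsc : E.StronglyClosed Q := by
      refine ⟨hQS, fun A hA φ hφ x => ?_⟩
      obtain ⟨s, hs, hse⟩ := hinner A _ (IsMap.of_hom hφ) x (hA x.2) x.2
      rw [← ext_apply φ x, hse]
      exact (Subgroup.mem_normalizer_iff.1 (hQnorm s hs) _).1 (hA x.2)
    have hQne : Q ≠ S := fun h => hXQ.not_ge (hXS.trans h.ge)
    have hgoodk : Good W F P' fun y => g (i y) := fun y hy => by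
      have hy' := mem_focal_of_isMap ((hEmap _ _).2 hkF₁) hy
      obtain ⟨a, ha, q, hq, hc⟩ := coe_sup_of_normal hSQ (inf_le_right.trans Phi_le)
        (focal_le_sup hW hS IH hQ0 hQne hEs hEF hEsc recStep hy')
      rw [← hc] at hy' ⊢
      refine Subgroup.mul_mem _ ha.2 (commutator_le_Phi hW hS (focal_inter hS hEs hQS hinner hq ?_))
      have := Subgroup.mul_mem _ (Subgroup.inv_mem _ ha.1) hy'
      rwa [inv_mul_cancel_left] at this
    refine (hgoodh.comp hgoodk fun x hx => mem_img_self h hx).congr fun x hx => ?_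
    show g (i (h x)) = g x
    rw [hih x hx]

include hW hloc in
/-- The theorem. -/
theorem good_all (hS : IsPGroup p S) {F : FusionSystem S} (hF : F.IsSaturated p) :
    ∀ P f, IsMap F P f → Good W F P f := by
  suffices ∀ n, Holds p W n from this _ Ω S hS rfl F hF
  clear! S
  intro n
  induction n using Nat.strong_induction_on with
  | _ n IH =>
  intro Ω _ S _ hS hn F hF
  set Zw := Wof W S with hZwdef
  have hZwS : Zw ≤ S := Wof_le S
  intro P f hf
  induction hm : Nat.card S - Nat.card P using Nat.strong_induction_on generalizing P f with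
  | _ m ih =>
  have hP := hf.le
  have hbig : ∀ D k, IsMap F D k → Nat.card P < Nat.card D → Good W F D k := fun D k hk hD => by
    have := card_le_card hk.le
    exact ih (Nat.card S - Nat.card D) (by omega) D k hk rfl
  -- the climb along fully normalized subgroups
  have claim : ∀ (j : ℕ) (V : Subgroup Ω), Nat.card S - Nat.card (normalizerIn S V) = j →
      F.IsFullyNormalized V → V ≠ ⊥ → Nat.card P < Nat.card (normalizerIn S V) ∨
        normalizerIn S V = S →
      ∀ D k, IsMap F D k → V ≤ D → D ≤ normalizerIn S V → img k V = V → Good W F D k := by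
    intro j
    induction j using Nat.strong_induction_on with
    | _ j ihj =>
    intro V hj hVn hV0 hPV D k hk hVD hDT hkV
    have hVS := hVn.1
    set T := normalizerIn S V with hTdef
    have hTS : T ≤ S := normalizerIn_le
    have hfinT : Finite T := finite_of_le hTS
    have hTp : IsPGroup p T := hS.to_le hTS
    have hVT : V ≤ T := le_normalizerIn hVS
    obtain ⟨N, hN⟩ := exists_normalizerSystem (F := F) hVS
    have hNs := normalizerSystem_saturated hS hF hVn hN
    have hNgood : ∀ A a, IsMap N A a → Good W N A a := by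
      rcases eq_or_lt_of_le hTS with hTeq | hlt
      · exact good_of_normal hW hloc hTp
          (fun a ha => IH a (hn ▸ hTeq ▸ ha)) hV0 hNs (normalizer_isNormal hVS hN)
      · exact IH _ (hn ▸ card_lt_card hlt) Ω T hTp rfl N hNs
    have hkN : IsMap N D k := (isMap_normalizer_iff hN).2
      ⟨hDT, k, by rwa [sup_eq_left.2 hVD], fun _ _ => rfl, hkV⟩
    have hNF : ∀ A a, IsMap N A a → IsMap F A a := fun A a ha => by
      obtain ⟨-, b, hb, hbe, -⟩ := (isMap_normalizer_iff hN).1 ha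
      exact (hb.restrict le_sup_left).congr hbe
    suffices hPhi : Phi W N ≤ Phi W F from fun x hx => hPhi (hNgood D k hkN x hx)
    refine (Subgroup.closure_le _).2 ?_
    rintro _ ⟨A, g, x, hgN, hYA, hgW, hx, rfl⟩
    have hg : IsMap F A g := hNF _ _ hgN
    rcases eq_or_lt_of_le hTS with hTeq | hlt
    · have hWeq : Wof W T = Zw := by rw [hZwdef, hTeq]
      rw [hWeq, hZwdef] at hYA hgW
      exact Subgroup.subset_closure ⟨A, g, x, hg, hYA, hgW, hx, rfl⟩
    set Y := Wof W T with hYdef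
    have hYT : Y ≤ T := Wof_le _
    have hYS : Y ≤ S := hYT.trans hTS
    have hY0 : Y ≠ ⊥ := Wof_ne_bot hW hTp le_rfl fun h0 => hV0 (le_bot_iff.1 (hVT.trans h0.le))
    have hNle : normalizerIn S T ≤ normalizerIn S Y := fun x hx =>
      ⟨hx.1, normalizer_le_Wof hW.2 hTp hx.2⟩
    have hfinNY : Finite (normalizerIn S Y) := finite_of_le normalizerIn_le
    have hfinNT : Finite (normalizerIn S T) := finite_of_le normalizerIn_le
    have hcard : Nat.card T < Nat.card (normalizerIn S Y) :=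
      lt_of_lt_of_le (card_lt_card (lt_normalizerIn hS hlt)) (card_le_card hNle)
    have hPT : Nat.card P < Nat.card T := hPV.resolve_right hlt.ne
    obtain ⟨Y', hconj, hY'n⟩ := exists_fullyNormalized (F := F) hYS
    obtain ⟨β, hβ, hβY⟩ := exists_map_to_fullyNormalized hS hF hY'n hconj
    have hβgood : Good W F (normalizerIn S Y) β := hbig _ _ hβ (hPT.trans hcard)
    have hTN : T ≤ normalizerIn S Y := (le_normalizerIn hTS).trans hNle
    have hAN : A ≤ normalizerIn S Y := hgN.le.trans hTN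
    have hgT : ∀ x ∈ A, g x ∈ normalizerIn S Y := fun x hx => hTN (hgN.mem hx)
    obtain ⟨i, hi, -, hiβ, -⟩ := hβ.exists_inv
    set D' := img β A with hD'def
    have hiD : ∀ y ∈ D', i y ∈ A := by
      intro y hy
      obtain ⟨x, hx, rfl⟩ := (hβ.restrict hAN).mem_img.1 hy
      rwa [hiβ x (hAN hx)]
    have hk' : IsMap F D' (fun y => β (g (i y))) :=
      hβ.comp (hg.comp (hi.restrict (img_mono β hAN)) hiD) fun y hy => hgT _ (hiD y hy)
    have hY'D : Y' ≤ D' := hβY ▸ img_mono β hYA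
    have hD'T : D' ≤ normalizerIn S Y' := img_le fun x hx =>
      ⟨hβ.mem (hAN hx), hβY ▸ hβ.mem_normalizer_img (le_normalizerIn hYS) (hAN hx) (hAN hx).2⟩
    have hfinNY' : Finite (normalizerIn S Y') := finite_of_le normalizerIn_le
    have hcardY' : Nat.card T < Nat.card (normalizerIn S Y') := by
      refine lt_of_lt_of_le hcard ?_
      rw [← hβ.card_img]
      exact card_le_card (img_le fun x hx =>
        ⟨hβ.mem hx, hβY ▸ hβ.mem_normalizer_img (le_normalizerIn hYS) hx hx.2⟩)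
    have hk'Y : img (fun y => β (g (i y))) Y' = Y' := by
      have : Finite Y' := finite_of_le hY'n.1
      refine eq_of_le_card (img_le fun y hy => ?_) (hk'.restrict hY'D).card_img.ge
      rw [← hβY] at hy ⊢
      obtain ⟨x, hx, rfl⟩ := (hβ.restrict (le_normalizerIn hYS)).mem_img.1 hy
      rw [hiβ x (le_normalizerIn hYS hx)]
      exact mem_img_self β (hgW.le (mem_img_self g hx))
    have hY'0 : Y' ≠ ⊥ := fun h0 => by
      have hc := isConj_card hconj
      rw [h0, Subgroup.card_bot] at hc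
      exact hY0 (Subgroup.eq_bot_of_card_eq _ hc.symm)
    have hk'good : Good W F D' (fun y => β (g (i y))) := by
      refine ihj _ ?_ Y' rfl hY'n hY'0 (Or.inl (hPT.trans hcardY')) D' _ hk' hY'D hD'T hk'Y
      have := card_le_card (normalizerIn_le : normalizerIn S Y' ≤ S)
      omega
    have h1 := hβgood x (hAN hx)
    have h2 := hk'good (β x) (mem_img_self β hx)
    have h3 := hβgood (g x) (hgT x hx)
    simp only [hiβ x (hAN hx)] at h2
    rw [SetLike.mem_coe, show x⁻¹ * g x = (x⁻¹ * β x) * ((β x)⁻¹ * β (g x)) * ((g x)⁻¹ * β (g x))⁻¹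
      by group]
    exact Subgroup.mul_mem _ (Subgroup.mul_mem _ h1 h2) (Subgroup.inv_mem _ h3)
  have haut : ∀ R : Subgroup Ω, Nat.card R = Nat.card P → F.IsFullyNormalized R →
      ∀ α ∈ F.autGroup R, Good W F R (autFun α) := by
    intro R hR hRn α hα
    have hRS := hRn.1
    have hm' := isMap_of_mem_autGroup hRS hα
    have hfinR : Finite R := finite_of_le hRS
    by_cases hR0 : R = ⊥
    · intro x hx
      have hx1 : x = 1 := Subgroup.mem_bot.1 (hR0 ▸ hx)
      subst hx1
      rw [hm'.map_one, mul_one, inv_one]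
      exact Subgroup.one_mem _
    refine claim _ R rfl hRn hR0 ?_ R _ hm' le_rfl (le_normalizerIn hRS) (autFun_img α)
    rcases eq_or_lt_of_le hRS with hReq | hlt
    · exact Or.inr (normalizerIn_eq_self fun s hs => hReq ▸ Subgroup.le_normalizer (hReq ▸ hs))
    · have : Finite (normalizerIn S R) := finite_of_le normalizerIn_le
      exact Or.inl (hR ▸ card_lt_card (lt_normalizerIn hS hlt))
  rcases eq_or_lt_of_le hP with hPS | hlt
  · have himg : img f P = P := (eq_top_of_card hP hf.isConj hPS).trans hPS.symm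
    obtain ⟨α, hα, he⟩ := hf.exists_aut himg
    have hn' : F.IsFullyNormalized P := by
      refine ⟨hP, fun R hR => ?_⟩
      rw [eq_top_of_card hP hR hPS, hPS]
    exact (haut P rfl hn' α hα).congr he
  obtain ⟨Q, hPQ, hQ⟩ := exists_fullyNormalized (F := F) hP
  have hstep : ∀ R : Subgroup Ω, F.IsConj R P →
      ∃ g, IsMap F R g ∧ Good W F R g ∧ img g R = Q := by
    intro R hR
    obtain ⟨g, hg, hgQ⟩ := exists_map_to_fullyNormalized hS hF hQ (isConj_trans hR hPQ)
    have hRS := (isConj_le hR).1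
    have hRlt : R < S := by
      refine lt_of_le_of_ne hRS fun h => hlt.ne ?_
      exact eq_top_of_card hRS hR h
    have hfin : Finite (normalizerIn S R) := finite_of_le normalizerIn_le
    have hg' : Good W F (normalizerIn S R) g :=
      hbig _ g hg (isConj_card hR ▸ card_lt_card (lt_normalizerIn hS hRlt))
    exact ⟨g, hg.restrict (le_normalizerIn hRS), hg'.restrict (le_normalizerIn hRS), hgQ⟩
  obtain ⟨g₁, hg₁, hg₁E, hg₁Q⟩ := hstep P (isConj_refl hP)
  obtain ⟨g₂, hg₂, hg₂E, hg₂Q⟩ := hstep (img f P) (isConj_symm hf.isConj)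
  subst hg₁Q
  obtain ⟨i₁, hi₁, hi₁img, hi₁g, -⟩ := hg₁.exists_inv
  obtain ⟨i₂, -, -, hi₂g, -⟩ := hg₂.exists_inv
  have hmapsto : ∀ x ∈ img g₁ P, i₁ x ∈ P := fun x hx => le_of_eq hi₁img (mem_img_self i₁ hx)
  have hin : IsMap F (img g₁ P) (fun x => f (i₁ x)) := hf.comp hi₁ hmapsto
  have hcomp : IsMap F (img g₁ P) (fun x => g₂ (f (i₁ x))) :=
    hg₂.comp hin fun x hx => mem_img_self f (hmapsto x hx)
  have himg : img (fun x => g₂ (f (i₁ x))) (img g₁ P) = img g₁ P := by
    rw [← hin.img_img g₂, ← hi₁.img_img f, hi₁img, hg₂Q]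
  obtain ⟨α, hα, he⟩ := hcomp.exists_aut himg
  have hαE := haut _ (isConj_card hPQ) hQ α hα
  have hi₂E : Good W F (img g₁ P) i₂ := hg₂Q ▸ hg₂E.inv hg₂ hi₂g
  refine ((hg₁E.comp hαE fun x hx => mem_img_self g₁ hx).comp hi₂E
    fun x hx => autFun_mem α (mem_img_self g₁ hx)).congr fun x hx => ?_
  show i₂ (autFun α (g₁ x)) = f x
  rw [he _ (mem_img_self g₁ hx), hi₁g x hx, hi₂g _ (mem_img_self f hx)]

include hW hloc in
/-- Control of transfer. -/
theorem focal_eq (hS : IsPGroup p S) {F : FusionSystem S} (hF : F.IsSaturated p)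
    {N : FusionSystem (normalizerIn S (Wof W S))} (hN : F.IsNormalizerSystem (Wof W S) N) :
    N.focalSubgroup = F.focalSubgroup := by
  have hZnorm := Wof_norm hW hS
  refine le_antisymm ?_ ?_
  · rw [FusionSystem.focalSubgroup, Subgroup.closure_le]
    rintro _ ⟨A, φ, x, hφ, rfl⟩
    obtain ⟨-, a, ha, hae, -⟩ := (isMap_normalizer_iff hN).1 (IsMap.of_hom hφ)
    have h1 := mem_focal_of_isMap ((ha.restrict le_sup_left).congr hae) x.2
    rwa [ext_apply] at h1
  · refine le_trans ?_ (show Phi W F ≤ N.focalSubgroup from ?_)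
    · rw [FusionSystem.focalSubgroup, Subgroup.closure_le]
      rintro _ ⟨A, φ, x, hφ, rfl⟩
      have h1 := good_all hW hloc hS hF _ _ (IsMap.of_hom hφ) x x.2
      rwa [ext_apply] at h1
    · refine (Subgroup.closure_le _).2 ?_
      rintro _ ⟨D, g, x, hg, hZD, hgZ, hx, rfl⟩
      have hmN : IsMap N D g := (isMap_normalizer_iff hN).2
        ⟨fun y hy => ⟨hg.le hy, hZnorm y (hg.le hy)⟩, g, by rwa [sup_eq_left.2 hZD],
          fun _ _ => rfl, hgZ⟩
      exact mem_focal_of_isMap hmN hx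

end Cfsg.Agent.CharP.TransferControl
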