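import Mathlib
import Cfsg.Agent.Lib.Coprime.Commutator
import Cfsg.Agent.Lib.Coprime.Action
import Cfsg.Agent.GenA.BaerTrick
import Cfsg.Agent.InvChar.PConstrained
import Cfsg.Agent.OddLocal.Coprime
import Cfsg.Agent.Lib.PLocal.Cores

/-!
# The core lemma of the Transitivity Theorem

In a `p`-constrained group a `p'`-subgroup normalised by an abelian `p`-group `A` containing all the
`p`-elements of its centralizer lies in `O_{p'}` (`p` odd, or `2`-subgroups of class at most two).
-/

set_option autoImplicit false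
set_option linter.unusedSectionVars false
set_option linter.style.haveILetI false

namespace Cfsg.Agent.CharP.TransitivityCore

open Subgroup
open scoped commutatorElement

universe u

variable {G : Type u} [Group G] [Finite G] {p : ℕ} [hp : Fact p.Prime]

theorem coprime_of_pgroup {V Y : Subgroup G} (hV : IsPGroup p V) (hY : (Nat.card Y).Coprime p) :
    (Nat.card Y).Coprime (Nat.card V) := by
  obtain ⟨k, hk⟩ := IsPGroup.iff_card.1 hV
  rw [hk]; exact hY.pow_right k

/-- Class at most two among the `2`-subgroups, in element form. -/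
def Class2 (G : Type u) [Group G] (p : ℕ) : Prop :=
  ∀ T : Subgroup G, IsPGroup p T → ∀ x ∈ T, ∀ y ∈ T, ∀ z ∈ T, ⁅⁅x, y⁆, z⁆ = 1

theorem centralizes_two (hcl : Class2 G p) {V A Y : Subgroup G} (hV : IsPGroup p V) (hA : IsPGroup p A)
    (hY : (Nat.card Y).Coprime p) (hAV : A ≤ normalizer (V : Set G)) (hYV : Y ≤ normalizer (V : Set G))
    (hAY : A ≤ normalizer (Y : Set G))
    (hfix : V ⊓ centralizer (A : Set G) ≤ centralizer (Y : Set G)) :
    Y ≤ centralizer (V : Set G) := by
  set T := V ⊔ A with hTdef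
  have hT : IsPGroup p T := hV.to_sup_of_normal_left' hA hAV
  have hc : ∀ a ∈ A, ∀ v ∈ V, a * v * a⁻¹ * v⁻¹ ∈ V ∧
      a * v * a⁻¹ * v⁻¹ ∈ centralizer (V : Set G) ∧
      a * v * a⁻¹ * v⁻¹ ∈ centralizer (Y : Set G) := by
    intro a ha v hv
    have hmem : a * v * a⁻¹ * v⁻¹ ∈ V :=
      mul_mem ((mem_normalizer_iff.1 (hAV ha) v).1 hv) (inv_mem hv)
    have hcom : ∀ z ∈ T, (a * v * a⁻¹ * v⁻¹) * z = z * (a * v * a⁻¹ * v⁻¹) := fun z hz =>
      commutatorElement_eq_one_iff_mul_comm.1
        (hcl T hT a (mem_sup_right ha) v (mem_sup_left hv) z hz)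
    exact ⟨hmem, mem_centralizer_iff.2 fun w hw => (hcom w (mem_sup_left hw)).symm,
      hfix ⟨hmem, mem_centralizer_iff.2 fun w hw => (hcom w (mem_sup_right hw)).symm⟩⟩
  have hsub : ⁅V, Y⁆ ≤ V ⊓ centralizer (A : Set G) := by
    rw [commutator_le]
    intro v hv y hy
    set w := y * v * y⁻¹ with hwdef
    have hw : w ∈ V := (mem_normalizer_iff.1 (hYV hy) v).1 hv
    have hu : v * w⁻¹ = ⁅v, y⁆ := by rw [hwdef, commutatorElement_def]; group
    refine ⟨hu ▸ V.mul_mem hv (V.inv_mem hw), mem_centralizer_iff.2 fun a ha => ?_⟩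
    obtain ⟨hcV, hcCV, hcY⟩ := hc a ha v hv
    obtain ⟨hwcV, hwCV, hwY⟩ := hc a ha w hw
    set c := a * v * a⁻¹ * v⁻¹ with hcdef
    set cw := a * w * a⁻¹ * w⁻¹ with hcwdef
    set d := c⁻¹ * cw with hddef
    have hdV : d ∈ V := mul_mem (inv_mem hcV) hwcV
    have hdY : d ∈ centralizer (Y : Set G) := mul_mem (inv_mem hcY) hwY
    have hy' : a * y * a⁻¹ ∈ Y := (mem_normalizer_iff.1 (hAY ha) y).1 hy
    set y' := a * y * a⁻¹ with hy'def
    set z := y⁻¹ * y' with hzdef
    have hzY : z ∈ Y := mul_mem (inv_mem hy) hy'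
    have hz : z * v * z⁻¹ = d * v := by
      have h1 : y' * (c * v) * y'⁻¹ = cw * w := by
        rw [hy'def, hcdef, hcwdef, hwdef]; group
      have h2 : y' * c * y'⁻¹ = c := by
        rw [mem_centralizer_iff.1 hcY y' hy', mul_inv_cancel_right]
      have h3 : y' * v * y'⁻¹ = d * w := by
        have h4 : y' * (c * v) * y'⁻¹ = c * (y' * v * y'⁻¹) := by
          conv_rhs => rw [← h2]
          group
        rw [hddef, mul_assoc c⁻¹ cw w, ← h1, h4]; group
      have h5 : y⁻¹ * d * y = d := by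
        rw [mul_assoc, ← mem_centralizer_iff.1 hdY y hy, inv_mul_cancel_left]
      calc z * v * z⁻¹ = y⁻¹ * (y' * v * y'⁻¹) * y := by rw [hzdef]; group
        _ = y⁻¹ * d * y * v := by rw [h3, hwdef]; group
        _ = d * v := by rw [h5]
    have hzd : z * d * z⁻¹ = d := by
      rw [mem_centralizer_iff.1 hdY z hzY, mul_inv_cancel_right]
    have hpow : ∀ k : ℕ, z ^ k * v * (z ^ k)⁻¹ = d ^ k * v := by
      intro k
      induction k with
      | zero => simp
      | succ k ih =>
        calc z ^ (k + 1) * v * (z ^ (k + 1))⁻¹ = z * (z ^ k * v * (z ^ k)⁻¹) * z⁻¹ := by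
              rw [pow_succ']; group
          _ = (z * d * z⁻¹) ^ k * (z * v * z⁻¹) := by rw [ih, conj_pow]; group
          _ = d ^ (k + 1) * v := by rw [hzd, hz, pow_succ, ← mul_assoc]
    have hd1 : d = 1 := by
      have h1 := hpow (Nat.card Y)
      have hzk : z ^ Nat.card Y = 1 :=
        congrArg Subtype.val (pow_card_eq_one' (x := (⟨z, hzY⟩ : Y)))
      rw [hzk, one_mul, inv_one, mul_one, right_eq_mul] at h1
      have h2 := pow_gcd_eq_one.2 (And.intro h1
        (show d ^ Nat.card V = 1 from congrArg Subtype.val (pow_card_eq_one' (x := (⟨d, hdV⟩ : V)))))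
      rwa [(coprime_of_pgroup hV hY).gcd_eq_one, pow_one] at h2
    have hcc : cw = c := (inv_mul_eq_one.1 hd1).symm
    rw [← hu]
    have h3 : a * (v * w⁻¹) * a⁻¹ = v * w⁻¹ := by
      calc a * (v * w⁻¹) * a⁻¹ = (c * v) * (cw * w)⁻¹ := by rw [hcdef, hcwdef]; group
        _ = c * (v * w⁻¹) * c⁻¹ := by rw [hcc]; group
        _ = v * w⁻¹ := by
          rw [← mem_centralizer_iff.1 hcCV (v * w⁻¹) (mul_mem hv (inv_mem hw)), mul_inv_cancel_right]
    exact mul_inv_eq_iff_eq_mul.1 h3
  exact Coprime.le_centralizer_of_series hYV (coprime_of_pgroup hV hY)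
    (Or.inr (Coprime.isSolvable_of_isPGroup hV))
    ((le_centralizer_iff).1 (hsub.trans hfix)) le_rfl

theorem centralizes_odd (hp2 : p ≠ 2) : ∀ (m : ℕ) (V A Y : Subgroup G), Nat.card V < m →
    IsPGroup p V → IsPGroup p A → (Nat.card Y).Coprime p → A ≤ normalizer (V : Set G) →
    Y ≤ normalizer (V : Set G) → A ≤ normalizer (Y : Set G) →
    V ⊓ centralizer (A : Set G) ≤ centralizer (Y : Set G) → Y ≤ centralizer (V : Set G) := by
  intro m
  induction m with
  | zero => intro V A Y h; omega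
  | succ m ih =>
  intro V A Y hm hV hA hY hAV hYV hAY hfix
  classical
  have hcop := coprime_of_pgroup hV hY
  have hsol : Group.IsSolvable Y ∨ Group.IsSolvable V := Or.inr (Coprime.isSolvable_of_isPGroup hV)
  have hrec : ∀ D : Subgroup G, D < V → A ≤ normalizer (D : Set G) → Y ≤ normalizer (D : Set G) →
      Y ≤ centralizer (D : Set G) := by
    intro D hD hAD hYD
    refine ih D A Y ?_ (hV.to_le hD.le) hA hY hAD hYD hAY (le_trans (inf_le_inf_right _ hD.le) hfix)
    have := Set.Finite.card_lt_card (Set.toFinite _) (SetLike.coe_ssubset_coe.mpr hD)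
    simp only [SetLike.coe_sort_coe] at this
    omega
  by_cases hVbot : V = ⊥
  · subst hVbot; intro y _; simp [mem_centralizer_iff]
  by_cases hW : ⁅V, Y⁆ < V
  · refine Coprime.le_centralizer_of_series hYV hcop hsol (hrec _ hW ?_ ?_) le_rfl
    · intro a ha
      rw [mem_normalizer_iff_map_conj_eq, map_commutator, mem_normalizer_iff_map_conj_eq.1 (hAV ha),
        mem_normalizer_iff_map_conj_eq.1 (hAY ha)]
    · intro a ha
      rw [mem_normalizer_iff_map_conj_eq, map_commutator, mem_normalizer_iff_map_conj_eq.1 (hYV ha),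
        mem_normalizer_iff_map_conj_eq.1 (le_normalizer ha)]
  have hVY : ⁅V, Y⁆ = V := ((Coprime.commutator_le_of_le_normalizer hYV).lt_or_eq).resolve_left hW
  have hD : ⁅V, V⁆ < V := by
    haveI := hV.isNilpotent
    exact Coprime.commutator_lt_of_isNilpotent le_rfl hVbot le_normalizer
  have hYD := hrec _ hD (OddLocal.Coprime.le_normalizer_commutator_self hAV)
    (OddLocal.Coprime.le_normalizer_commutator_self hYV)
  have h3 : ⁅⁅V, Y⁆, ⁅V, V⁆⁆ = ⊥ := by
    refine commutator_commutator_eq_bot_of_rotate ?_ ?_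
    · rw [commutator_eq_bot_iff_le_centralizer.2 hYD, commutator_bot_left]
    · refine commutator_eq_bot_iff_le_centralizer.2 ?_
      exact (le_trans (commutator_mono hD.le le_rfl) le_rfl).trans (le_centralizer_iff.1 hYD)
  rw [hVY, commutator_eq_bot_iff_le_centralizer] at h3
  have hcen : ∀ x y : V, ⁅x, y⁆ ∈ center V := fun x y => mem_center_iff.2 fun z => Subtype.ext <|
    (mem_centralizer_iff.1 (h3 z.2) _ (commutator_mem_commutator x.2 y.2)).symm
  have hodd : Odd (Nat.card V) := by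
    obtain ⟨k, hk⟩ := IsPGroup.iff_card.1 hV
    rw [hk]; exact (hp.out.odd_of_ne_two hp2).pow
  have hh : ∀ x y : V, ⁅x, y⁆ ^ (2 * ((Nat.card V + 1) / 2)) = ⁅x, y⁆ := fun x y => by
    rw [Nat.two_mul_div_two_of_even hodd.add_one, pow_succ, pow_card_eq_one', one_mul]
  by_contra hne
  let α : Y →* MulAut V := (normalizerMonoidHom V).comp (Subgroup.inclusion hYV)
  let β : A →* MulAut V := (normalizerMonoidHom V).comp (Subgroup.inclusion hAV)
  let γ : A → Y ≃ Y := fun b =>
    { toFun := fun a => ⟨b * a * (b : G)⁻¹, (mem_normalizer_iff.1 (hAY b.2) a).1 a.2⟩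
      invFun := fun a => ⟨(b : G)⁻¹ * a * b, (mem_normalizer_iff''.1 (hAY b.2) a).1 a.2⟩
      left_inv := fun a => Subtype.ext (by simp [mul_assoc])
      right_inv := fun a => Subtype.ext (by simp [mul_assoc]) }
  have hα : ∀ (a : Y) (g : V), (α a g : G) = a * g * (a : G)⁻¹ := fun a g => rfl
  have hβ : ∀ (a : A) (g : V), (β a g : G) = a * g * (a : G)⁻¹ := fun a g => rfl
  have hnt : ∃ a g, α a g ≠ g := by
    by_contra! h
    refine hne fun y hy => mem_centralizer_iff.2 fun v hv => ?_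
    have h1 : y * v * y⁻¹ = v := congrArg Subtype.val (h ⟨y, hy⟩ ⟨v, hv⟩)
    rw [← mul_inv_eq_iff_eq_mul.1 h1]
  obtain ⟨g, hg, a, ha⟩ := GenA.BaerTrick.exists_fixed hcen (p := p) hV hh hA hY α β γ
    (fun b a g => Subtype.ext (by simp only [hα, hβ, γ, Equiv.coe_fn_mk]; group)) hnt
  refine ha (Subtype.ext ?_)
  have h1 : (g : G) ∈ centralizer (A : Set G) := mem_centralizer_iff.2 fun b hb => by
    have h2 : b * (g : G) * b⁻¹ = g := congrArg Subtype.val (hg ⟨b, hb⟩)
    exact mul_inv_eq_iff_eq_mul.1 h2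
  rw [hα, mem_centralizer_iff.1 (hfix ⟨g.2, h1⟩) a a.2, mul_inv_cancel_right]

/-- Lemma: the core of the Transitivity Theorem. -/
theorem le_pPrimeCore (hcon : Cfsg.IsPConstrained p G) (hcl : p = 2 → Class2 G p)
    {A Y : Subgroup G} (hA : IsPGroup p A)
    (hfull : ∀ x ∈ centralizer (A : Set G), IsPGroup p (zpowers x) → x ∈ A)
    (hY : (Nat.card Y).Coprime p) (hAY : A ≤ normalizer (Y : Set G)) :
    Y ≤ Cfsg.pPrimeCore p G := by
  classical
  set N := Cfsg.pPrimeCore p G with hN
  set q := QuotientGroup.mk' N with hq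
  have hqs : Function.Surjective q := QuotientGroup.mk'_surjective N
  have hNcop : (Nat.card N).Coprime p := Cores.pPrimeCore_card_coprime p
  have hNA : (Nat.card A).Coprime (Nat.card N) := (coprime_of_pgroup hA hNcop).symm
  set V := Cfsg.pCore p (G ⧸ N) with hV
  have hVp : IsPGroup p V := Cores.pCore_isPGroup p
  have hYc : (Nat.card (Y.map q)).Coprime p := hY.coprime_dvd_left (Y.card_map_dvd q)
  -- fixed points of `A` on `V` come from `A`
  have hfix : V ⊓ centralizer ((A.map q : Subgroup (G ⧸ N)) : Set (G ⧸ N)) ≤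
      centralizer ((Y.map q : Subgroup (G ⧸ N)) : Set (G ⧸ N)) := by
    rintro x ⟨hxV, hxA⟩
    obtain ⟨g, rfl⟩ := hqs x
    obtain ⟨n, hn, hgn⟩ := Coprime.exists_fixed_in_coset (k := g)
      (show A ≤ normalizer (N : Set G) by rw [normalizer_eq_top]; exact le_top) hNA
      (Or.inl (Coprime.isSolvable_of_isPGroup hA)) (fun a ha => by
        refine (QuotientGroup.eq_one_iff _).1 ?_
        show q (g⁻¹ * (a * g * a⁻¹)) = 1
        simp only [map_mul, map_inv]
        rw [mem_centralizer_iff.1 hxA (q a) ⟨a, ha, rfl⟩]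
        group)
    set g' := g * n with hg'
    have hqg : q g' = q g := by
      rw [hg', map_mul, (show q n = 1 from (QuotientGroup.eq_one_iff n).2 hn), mul_one]
    rw [← hqg] at hxV ⊢
    -- replace `g'` by its `p`-part
    obtain ⟨k, hk⟩ : ∃ k, orderOf (q g') = p ^ k := by
      obtain ⟨k, hk⟩ := IsPGroup.iff_orderOf.1 hVp ⟨q g', hxV⟩
      exact ⟨k, by rw [← Subgroup.orderOf_mk (q g') hxV]; exact hk⟩
    have hord : orderOf g' ≠ 0 := (orderOf_pos g').ne'
    set e := (orderOf g').factorization p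
    set m := orderOf g' / p ^ e with hm
    have hpm : p ^ e * m = orderOf g' := Nat.ordProj_mul_ordCompl_eq_self _ _
    have hcopm : m.Coprime (p ^ k) := Nat.Coprime.pow_right _
      (((Nat.Prime.coprime_iff_not_dvd hp.out).2 (Nat.not_dvd_ordCompl hp.out hord)).symm)
    obtain ⟨r, hr1, hr2⟩ := Nat.chineseRemainder hcopm 0 1
    have hg'r : IsPGroup p (zpowers (g' ^ r)) := by
      have h1 : (g' ^ r) ^ p ^ e = 1 := by
        rw [← pow_mul, ← orderOf_dvd_iff_pow_eq_one, ← hpm, mul_comm r]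
        exact mul_dvd_mul_left _ (Nat.modEq_zero_iff_dvd.1 hr1)
      obtain ⟨i, -, hi⟩ := (Nat.dvd_prime_pow hp.out).1 (orderOf_dvd_of_pow_eq_one h1)
      exact IsPGroup.of_card (by rw [Nat.card_zpowers, hi])
    have hqr : q (g' ^ r) = q g' := by
      rw [map_pow]
      conv_rhs => rw [← pow_one (q g')]
      exact pow_eq_pow_iff_modEq.2 (hk ▸ hr2)
    rw [← hqr] at hxV ⊢
    have hmemA := hfull _ (pow_mem hgn r) hg'r
    refine mem_centralizer_iff.2 ?_
    rintro _ ⟨y, hy, rfl⟩
    have h2 : q (g' ^ r) * q y * (q (g' ^ r))⁻¹ * (q y)⁻¹ ∈ V ⊓ Y.map q := by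
      refine ⟨?_, ?_⟩
      · rw [show q (g' ^ r) * q y * (q (g' ^ r))⁻¹ * (q y)⁻¹ =
          q (g' ^ r) * (q y * (q (g' ^ r))⁻¹ * (q y)⁻¹) by group]
        exact mul_mem hxV ((inferInstance : V.Normal).conj_mem _ (inv_mem hxV) _)
      · exact (Y.map q).mul_mem ⟨_, (mem_normalizer_iff.1 (hAY hmemA) y).1 hy, by simp only [map_mul, map_inv]⟩
          ((Y.map q).inv_mem ⟨y, hy, rfl⟩)
    rw [PLocal.Cores.inf_eq_bot_of_isPGroup_of_coprime hVp hYc, mem_bot, mul_inv_eq_one,
      mul_inv_eq_iff_eq_mul] at h2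
    exact h2.symm
  have hAV : A.map q ≤ normalizer (V : Set (G ⧸ N)) := by rw [normalizer_eq_top]; exact le_top
  have hYV : Y.map q ≤ normalizer (V : Set (G ⧸ N)) := by rw [normalizer_eq_top]; exact le_top
  have hAYq : A.map q ≤ normalizer ((Y.map q : Subgroup (G ⧸ N)) : Set (G ⧸ N)) :=
    (map_mono hAY).trans (le_normalizer_map q)
  have hYC : Y.map q ≤ centralizer (V : Set (G ⧸ N)) := by
    by_cases hp2 : p = 2
    · refine centralizes_two ?_ hVp (hA.map q) hYc hAV hYV hAYq hfix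
      intro T hT x hx y hy z hz
      obtain ⟨S, hS⟩ := hT.exists_le_sylow
      obtain ⟨S0⟩ : Nonempty (Sylow p G) := inferInstance
      obtain ⟨c, hc⟩ := MulAction.exists_smul_eq (G ⧸ N) (S0.mapSurjective hqs) S
      obtain ⟨c0, rfl⟩ := hqs c
      have hlift : ∀ w ∈ T, ∃ s ∈ ((c0 • S0 : Sylow p G) : Subgroup G), q s = w := fun w hw => by
        have h1 := hS hw
        rw [← hc, Sylow.coe_subgroup_smul, Sylow.coe_mapSurjective, mem_pointwise_smul_iff_inv_smul_mem] at h1
        obtain ⟨s, hs, hsw⟩ := h1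
        refine ⟨c0 * s * c0⁻¹, ?_, ?_⟩
        · rw [Sylow.coe_subgroup_smul]
          exact smul_mem_pointwise_smul s (MulAut.conj c0) _ hs
        · simp only [map_mul, map_inv, hsw]
          simp [mul_assoc]
      obtain ⟨a, ha, rfl⟩ := hlift x hx
      obtain ⟨b, hb, rfl⟩ := hlift y hy
      obtain ⟨d, hd, rfl⟩ := hlift z hz
      rw [← map_commutatorElement, ← map_commutatorElement,
        hcl hp2 _ (c0 • S0).isPGroup' a ha b hb d hd, map_one]
    · exact centralizes_odd hp2 (Nat.card V + 1) V _ _ (Nat.lt_succ_self _) hVp (hA.map q) hYc hAV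
        hYV hAYq hfix
  have hbot : Y.map q = ⊥ := by
    rw [← le_bot_iff, ← PLocal.Cores.inf_eq_bot_of_isPGroup_of_coprime hVp hYc]
    exact le_inf (hYC.trans (InvChar.PConstrained.iff_char.1 hcon)) le_rfl
  rwa [Subgroup.map_eq_bot_iff, QuotientGroup.ker_mk'] at hbot

end Cfsg.Agent.CharP.TransitivityCore
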