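import Cfsg.Agent.Lib.CharP.WFunctor
import Cfsg.Agent.Lib.CharP.InnerControl
import Cfsg.Agent.Lib.Involutions.StronglyEmbedded
import Cfsg.Agent.Lib.PLocal.Cores
import Cfsg.Agent.Lib.CharP.FittingAction
import Cfsg.Prelude.Def_CaseTheorems

/-!
If every 2-local subgroup is `S₄`-free of characteristic 2, two maximal 2-local subgroups with a
nontrivial common 2-subgroup coincide.
-/

set_option autoImplicit false
set_option linter.style.haveILetI false

universe u

namespace Cfsg.Agent.CharP.UniqueMaxLocal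

open Subgroup Cfsg
open Cfsg.Agent.CharP.LocalControl (Wof Wof_le)
open Cfsg.Agent.CharP.WFunctor (wFunctor isCharPFunctor_w)

variable {G : Type u} [Group G] [Finite G]

/-- A Sylow 2-subgroup of `N`, as a subgroup of `G`. -/
structure IsMax (N T : Subgroup G) : Prop where
  le : T ≤ N
  isP : IsPGroup 2 T
  eq_of_le : ∀ U : Subgroup G, IsPGroup 2 U → U ≤ N → T ≤ U → U = T

theorem exists_isMax {N P : Subgroup G} (hP : IsPGroup 2 P) (hPN : P ≤ N) :
    ∃ T, IsMax N T ∧ P ≤ T := by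
  obtain ⟨T, ⟨⟨h1, h2⟩, h3⟩, hmax⟩ := Set.exists_max_image
    {T : Subgroup G | (T ≤ N ∧ IsPGroup 2 T) ∧ P ≤ T} (fun T => Nat.card T) (Set.toFinite _)
    ⟨P, ⟨hPN, hP⟩, le_rfl⟩
  exact ⟨T, ⟨h1, h2, fun U hU hUN hTU =>
    (eq_of_le_of_card_ge hTU (hmax U ⟨⟨hUN, hU⟩, h3.trans hTU⟩)).symm⟩, h3⟩

/-- `T`, as a Sylow 2-subgroup of the group `N`. -/
def IsMax.sylow {N T : Subgroup G} (h : IsMax N T) : Sylow 2 N where
  toSubgroup := T.subgroupOf N
  isPGroup' := h.isP.comap_subtype
  is_maximal' := fun {Q} hQ hle => by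
    have hTU : T ≤ Q.map N.subtype := fun x hx =>
      ⟨⟨x, h.le hx⟩, hle (mem_subgroupOf.2 hx), rfl⟩
    have := h.eq_of_le _ (hQ.map _) (map_subtype_le _) hTU
    rw [← this, subgroupOf, comap_map_eq_self_of_injective N.subtype_injective]

/-- `W(T)` is normalised by an `S₄`-free group of characteristic 2 with Sylow 2-subgroup `T`. -/
theorem le_normalizer_W {N T : Subgroup G} (h : IsMax N T) (hc : IsOfCharacteristicTwo ↥N)
    (hS4 : ¬ Involves (Equiv.Perm (Fin 4)) ↥N) :
    N ≤ normalizer (Wof wFunctor T : Set G) := by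
  have hn : ((Wof wFunctor (h.sylow : Subgroup N))).Normal := WFunctor.normal_induced hS4 hc h.sylow
  have he : (Wof wFunctor (h.sylow : Subgroup N)).map N.subtype = Wof wFunctor T := by
    rw [Wof, Wof, map_map,
      ← isCharPFunctor_w.2 _ _ h.sylow.isPGroup' (subgroupOfEquivOfLe h.le), map_map]
    rfl
  rw [← he]
  refine le_trans ?_ (le_normalizer_map N.subtype)
  intro x hx
  exact ⟨⟨x, hx⟩, by rw [normalizer_eq_top_iff.2 hn]; trivial, rfl⟩

theorem exists_maximal {N : Subgroup G} (hN : IsTwoLocal N) :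
    ∃ M, IsMaximalTwoLocal M ∧ N ≤ M := by
  obtain ⟨M, ⟨h1, h2⟩, hmax⟩ := Set.exists_max_image {M : Subgroup G | IsTwoLocal M ∧ N ≤ M}
    (fun M => Nat.card M) (Set.toFinite _) ⟨N, hN, le_rfl⟩
  exact ⟨M, ⟨h1, fun L hL hle => (eq_of_le_of_card_ge hle (hmax L ⟨hL, h2.trans hle⟩)).symm⟩, h2⟩

variable (G) in
/-- Every 2-local subgroup is `S₄`-free of characteristic 2. -/
def Hyp : Prop :=
  ∀ M : Subgroup G, IsTwoLocal M →
    IsOfCharacteristicTwo ↥M ∧ ¬ Involves (Equiv.Perm (Fin 4)) ↥M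

variable (hG : Hyp G)
include hG

/-- A maximal 2-local subgroup is `N(W(T))` for its Sylow 2-subgroup `T`, which is one of `G`. -/
theorem eq_normalizer_W {M T : Subgroup G} (hM : IsMaximalTwoLocal M) (h : IsMax M T)
    (hT1 : T ≠ ⊥) :
    M = normalizer (Wof wFunctor T : Set G) ∧ normalizer (T : Set G) ≤ M := by
  haveI : Fact (Nat.Prime 2) := ⟨Nat.prime_two⟩
  have heq : normalizer (Wof wFunctor T : Set G) = M :=
    hM.2 _ ⟨_, h.isP.to_le (Wof_le T),
      InnerControl.Wof_ne_bot isCharPFunctor_w h.isP le_rfl hT1, rfl⟩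
      (le_normalizer_W h (hG M hM.1).1 (hG M hM.1).2)
  exact ⟨heq.symm,
    (LocalControl.normalizer_le_Wof isCharPFunctor_w.2 h.isP).trans heq.le⟩

/-- A Sylow 2-subgroup of a maximal 2-local subgroup is one of `G`. -/
theorem isMax_top {M T : Subgroup G} (hM : IsMaximalTwoLocal M) (h : IsMax M T) (hT1 : T ≠ ⊥) :
    IsMax ⊤ T := by
  haveI : Fact (Nat.Prime 2) := ⟨Nat.prime_two⟩
  refine ⟨le_top, h.isP, fun U hU _ hTU => ?_⟩
  by_contra hne
  haveI := hU.isNilpotent
  have hlt : T.subgroupOf U < ⊤ :=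
    lt_top_iff_ne_top.2 fun h' => hne (le_antisymm (subgroupOf_eq_top.1 h') hTU)
  obtain ⟨t, ht, htT⟩ := SetLike.exists_of_lt
    (Group.normalizerCondition_of_isNilpotent _ hlt)
  have htn : (t : G) ∈ normalizer (T : Set G) := mem_normalizer_iff.2 fun y => by
    constructor
    · intro hy
      exact mem_subgroupOf.1 ((mem_normalizer_iff.1 ht ⟨y, hTU hy⟩).1 (mem_subgroupOf.2 hy))
    · intro hy
      have hyU : y ∈ U := by
        have := U.mul_mem (U.mul_mem (U.inv_mem t.2) (hTU hy)) t.2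
        simpa [mul_assoc] using this
      exact mem_subgroupOf.1 ((mem_normalizer_iff.1 ht ⟨y, hyU⟩).2 (mem_subgroupOf.2 hy))
  have hle : T ⊔ zpowers (t : G) ≤ M :=
    sup_le h.le (zpowers_le.2 ((eq_normalizer_W hG hM h hT1).2 htn))
  have := h.eq_of_le _ (hU.to_le (sup_le hTU (zpowers_le.2 t.2))) hle le_sup_left
  exact htT (mem_subgroupOf.2 (this.le (mem_sup_right (mem_zpowers (t : G)))))

theorem eq_of_common {M M' : Subgroup G} (hM : IsMaximalTwoLocal M) (hM' : IsMaximalTwoLocal M')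
    {D : Subgroup G} (hD : IsPGroup 2 D) (hD1 : D ≠ ⊥) (hDM : D ≤ M) (hDM' : D ≤ M') : M = M' := by
  haveI : Fact (Nat.Prime 2) := ⟨Nat.prime_two⟩
  induction hn : Nat.card G - Nat.card D using Nat.strong_induction_on generalizing M M' D with
  | _ n ih =>
  -- one step up inside a maximal 2-local subgroup
  have up : ∀ L : Subgroup G, IsMaximalTwoLocal L → D ≤ L → IsMax ⊤ D ∨
      ∀ L' : Subgroup G, IsMaximalTwoLocal L' → normalizer (D : Set G) ≤ L' → L = L' := by
    intro L hL hDL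
    obtain ⟨T, hT, hDT⟩ := exists_isMax hD hDL
    have hT1 : T ≠ ⊥ := fun h => hD1 (le_bot_iff.1 (hDT.trans h.le))
    rcases eq_or_ne D T with rfl | hne
    · exact Or.inl (isMax_top hG hL hT hT1)
    refine Or.inr fun L' hL' hle => ?_
    have hlt : D.subgroupOf T < ⊤ :=
      lt_top_iff_ne_top.2 fun h' => hne (le_antisymm hDT (subgroupOf_eq_top.1 h'))
    haveI := hT.isP.isNilpotent
    have hN := Group.normalizerCondition_of_isNilpotent _ hlt
    set E := (normalizer (D.subgroupOf T : Set T)).map T.subtype with hE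
    have hET : E ≤ T := map_subtype_le _
    have hEN : E ≤ normalizer (D : Set G) := by
      have h1 := le_normalizer_map T.subtype (H := D.subgroupOf T)
      rwa [subgroupOf_map_subtype, inf_eq_left.2 hDT] at h1
    have hDE : D < E := by
      have h1 := (map_lt_map_iff_of_injective T.subtype_injective).2 hN
      rwa [subgroupOf_map_subtype, inf_eq_left.2 hDT] at h1
    have hc : Nat.card D < Nat.card E := by
      by_contra! h'
      exact hDE.ne (eq_of_le_of_card_ge hDE.le h')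
    have := card_le_card_group E
    exact ih (Nat.card G - Nat.card E) (by omega) hL hL' (hT.isP.to_le hET)
      (fun h => hD1 (le_bot_iff.1 (hDE.le.trans h.le))) (hET.trans hT.le) (hEN.trans hle) rfl
  by_cases hmax : IsMax ⊤ D
  · have h1 : IsMax M D := ⟨hDM, hD, fun U hU _ hle => hmax.eq_of_le U hU le_top hle⟩
    have h2 : IsMax M' D := ⟨hDM', hD, fun U hU _ hle => hmax.eq_of_le U hU le_top hle⟩
    exact (eq_normalizer_W hG hM h1 hD1).1.trans (eq_normalizer_W hG hM' h2 hD1).1.symm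
  obtain ⟨L, hL, hle⟩ := exists_maximal ⟨D, hD, hD1, rfl⟩
  exact ((up M hM hDM).resolve_left hmax L hL hle).trans
    ((up M' hM' hDM').resolve_left hmax L hL hle).symm

/-- With trivial 2-core, every maximal 2-local subgroup is strongly embedded. -/
theorem isStronglyEmbedded (hO : pCore 2 G = ⊥) {M : Subgroup G} (hM : IsMaximalTwoLocal M) :
    IsStronglyEmbedded M := by
  haveI : Fact (Nat.Prime 2) := ⟨Nat.prime_two⟩
  obtain ⟨R, hR, hR1, hMR⟩ := hM.1
  have hRM : R ≤ M := le_normalizer.trans hMR.ge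
  have hne : M ≠ ⊤ := fun h => by
    haveI : R.Normal := normalizer_eq_top_iff.1 (hMR.symm.trans h)
    exact hR1 (le_bot_iff.1 ((PLocal.Cores.le_pCore hR).trans hO.le))
  have heven : Even (Nat.card M) := by
    obtain ⟨k, hk⟩ := (IsPGroup.iff_card.1 hR)
    have h2 : 2 ∣ Nat.card R := by
      rcases k with _ | k
      · exact absurd ((Subgroup.eq_bot_iff_card R).2 (by simpa using hk)) hR1
      · rw [hk]
        exact dvd_pow_self 2 (by omega)
    exact even_iff_two_dvd.2 (h2.trans (card_dvd_of_le hRM))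
  refine Involutions.StronglyEmbedded.of_conj hne heven fun t ht ht2 g hg => ?_
  let φ := (MulAut.conj g).toMonoidHom
  -- the conjugate of `M`
  have hmapN : ∀ (e : G ≃* G) (X : Subgroup G), IsTwoLocal X → IsTwoLocal (X.map e.toMonoidHom) := by
    rintro e _ ⟨U, hU, hU1, rfl⟩
    exact ⟨U.map e.toMonoidHom, hU.map _,
      fun h => hU1 ((map_eq_bot_iff_of_injective _ e.injective).1 h), map_equiv_normalizer_eq U e⟩
  have hM' : IsMaximalTwoLocal (M.map φ) := by
    refine ⟨hmapN _ M hM.1, fun L hL hle => ?_⟩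
    have h1 := hM.2 (L.map (MulAut.conj g).symm.toMonoidHom) (hmapN _ L hL) (by
      intro x hx
      exact ⟨φ x, hle ⟨x, hx, rfl⟩, (MulAut.conj g).symm_apply_apply x⟩)
    rw [← h1, map_map]
    ext x
    simp [φ, mul_assoc]
  have hP : IsPGroup 2 (zpowers (g * t * g⁻¹)) := by
    refine IsPGroup.of_card (n := 1) ?_
    rw [Nat.card_zpowers, Involutions.Basic.orderOf_conj, ht2, pow_one]
  have hP1 : zpowers (g * t * g⁻¹) ≠ ⊥ := by
    rw [Ne, zpowers_eq_bot, ← orderOf_eq_one_iff, Involutions.Basic.orderOf_conj, ht2]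
    decide
  have heq := eq_of_common hG hM hM' hP hP1 (zpowers_le.2 hg) (zpowers_le.2 ⟨t, ht, rfl⟩)
  -- `g` normalises `M`, hence its 2-core
  have hgn : g ∈ normalizer (M : Set G) := by
    refine mem_normalizer_iff.2 fun y => ⟨fun hy => heq ▸ ⟨y, hy, rfl⟩, fun hy => ?_⟩
    rw [heq] at hy
    obtain ⟨z, hz, hze⟩ := hy
    exact (MulAut.conj g).injective hze ▸ hz
  set Q := (pCore 2 ↥M).map M.subtype with hQ
  have hQ1 : Q ≠ ⊥ := fun h => hR1 (le_bot_iff.1
    ((PLocal.Cores.le_map_pCore_of_le_normalizer hR hRM hMR.le).trans h.le))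
  haveI : (pCore 2 ↥M).Characteristic := Subgroup.characteristic_iff_map_eq.2
    fun e => PLocal.Cores.map_pCore_equiv e
  have hQM : normalizer (Q : Set G) = M := hM.2 _
    ⟨Q, PLocal.Cores.isPGroup_pCore.map _, hQ1, rfl⟩ (PLocal.Cores.le_normalizer_map_pCore M)
  exact hQM ▸ CharP.le_normalizer_map_subtype_of_characteristic (le_refl _) (pCore 2 ↥M) hgn

end Cfsg.Agent.CharP.UniqueMaxLocal
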