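import Mathlib
import Cfsg.Prelude.Def_LocalStructure
import Cfsg.Agent.Lib.Fusion.Normal

/-! First properties of `Y`-minimal groups. -/

set_option autoImplicit false
set_option linter.style.haveILetI false
set_option linter.unusedSectionVars false

namespace Cfsg.Agent.CharP.YMinimal

open Subgroup

variable {L : Type*} [Group L] [Finite L] {L₀ Y : Subgroup L} (hL₀ : IsCoatom L₀)
include hL₀

theorem normalizer_eq (hY : Y ≤ L₀) (hmin : Cfsg.IsMinimalOver Y) : normalizer (L₀ : Set L) = L₀ := by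
  have hnn : ¬ L₀.Normal := fun hn => hL₀.1 (top_le_iff.mp (hmin.1 ▸ normalClosure_le_normal hY))
  exact (hL₀.le_iff.mp le_normalizer).resolve_left fun h => hnn (normalizer_eq_top_iff.mp h)

theorem eq_of_le (hY : Y ≤ L₀) (hmin : Cfsg.IsMinimalOver Y) {X : Subgroup L} (hX : IsCoatom X) (hYX : Y ≤ X) :
    X = L₀ := by
  obtain ⟨-, M, -, huniq⟩ := hmin
  rw [huniq X ⟨hX, hYX⟩, huniq L₀ ⟨hL₀, hY⟩]

theorem le_or_top (hY : Y ≤ L₀) (hmin : Cfsg.IsMinimalOver Y) {X : Subgroup L} (hYX : Y ≤ X) :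
    X = ⊤ ∨ X ≤ L₀ :=
  (eq_top_or_exists_le_coatom X).imp_right fun ⟨M, hM, hle⟩ => eq_of_le hL₀ hY hmin hM (hYX.trans hle) ▸ hle

theorem mem_of_conj (hY : Y ≤ L₀) (hmin : Cfsg.IsMinimalOver Y) {g : L}
    (h : Y.map (MulAut.conj g).toMonoidHom ≤ L₀) : g ∈ L₀ := by
  have hX : IsCoatom (L₀.map (MulAut.conj g⁻¹).toMonoidHom) :=
    (OrderIso.isCoatom_iff (MulEquiv.mapSubgroup (MulAut.conj g⁻¹)) L₀).mpr hL₀
  have hYX : Y ≤ L₀.map (MulAut.conj g⁻¹).toMonoidHom := fun y hy =>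
    ⟨g * y * g⁻¹, h ⟨y, hy, rfl⟩, by simp [mul_assoc]⟩
  have hg : g⁻¹ ∈ normalizer (L₀ : Set L) :=
    mem_normalizer_iff_map_conj_eq.mpr (eq_of_le hL₀ hY hmin hX hYX)
  rw [normalizer_eq hL₀ hY hmin] at hg
  exact inv_mem_iff.mp hg

theorem sup_conj_eq_top (hY : Y ≤ L₀) (hmin : Cfsg.IsMinimalOver Y) {g : L} (hg : g ∉ L₀) :
    Y ⊔ Y.map (MulAut.conj g).toMonoidHom = ⊤ :=
  (le_or_top hL₀ hY hmin le_sup_left).resolve_right fun h => hg (mem_of_conj hL₀ hY hmin (le_sup_right.trans h))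

variable {p : ℕ} [Fact p.Prime] (T : Sylow p L₀) (hYT : Y ≤ (T : Subgroup L₀).map L₀.subtype)
include hYT

theorem normalizer_le (hmin : Cfsg.IsMinimalOver Y) :
    normalizer (((T : Subgroup L₀).map L₀.subtype : Subgroup L) : Set L) ≤ L₀ := by
  intro g hg
  refine mem_of_conj hL₀ (hYT.trans (map_subtype_le _)) hmin ?_
  rintro _ ⟨y, hy, rfl⟩
  exact map_subtype_le _ ((mem_normalizer_iff.mp hg y).mp (hYT hy))

theorem exists_sylow (hmin : Cfsg.IsMinimalOver Y) :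
    ∃ P : Sylow p L, (P : Subgroup L) = (T : Subgroup L₀).map L₀.subtype := by
  obtain ⟨P, hP⟩ := (T.2.map L₀.subtype).exists_le_sylow
  refine ⟨P, le_antisymm ?_ hP⟩
  by_contra hne
  haveI : Finite (P : Subgroup L) := inferInstance
  obtain ⟨g, hg, hgT⟩ := Cfsg.Agent.Fusion.Saturation.exists_mem_normalizer_not_mem (p := p) P.2
    (lt_of_le_of_ne hP fun e => hne e.ge)
  have hgL : g ∈ L₀ := normalizer_le hL₀ T hYT hmin hg.2
  -- inside `L₀` the Sylow subgroup is maximal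
  have hp : IsPGroup p ((P : Subgroup L).subgroupOf L₀) := P.2.comap_of_injective _ L₀.subtype_injective
  have h1 : ((P : Subgroup L).subgroupOf L₀) = (T : Subgroup L₀) :=
    T.3 hp fun t ht => mem_subgroupOf.mpr (hP ⟨t, ht, rfl⟩)
  refine hgT ⟨⟨g, hgL⟩, ?_, rfl⟩
  rw [SetLike.mem_coe, ← h1]
  exact mem_subgroupOf.mpr hg.1

end Cfsg.Agent.CharP.YMinimal
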